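import Groth.Prelude.Def_TwC
import Mathlib.Topology.LocallyConstant.Basic

/-! Points of constant schemes and of constant groups are locally constant functions. -/

open CategoryTheory CategoryTheory.Limits MonoidalCategory CartesianMonoidalCategory MonObj AlgebraicGeometry

namespace Groth.SGA7.ConstPoints

universe u

variable {S : Scheme.{u}} {M : Type u}

/-- The locally constant function attached to a point of the constant scheme. -/
noncomputable def idx {T : Over S} (φ : T ⟶ TwC.const S M) (t : T.left) : M :=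
  ((sigmaMk fun _ : M => S).symm (φ.left.base t)).1

theorem idx_comp {T T' : Over S} (j : T' ⟶ T) (φ : T ⟶ TwC.const S M) (t : T'.left) :
    idx (j ≫ φ) t = idx φ (j.left.base t) := rfl

theorem isLocallyConstant_idx {T : Over S} (φ : T ⟶ TwC.const S M) : IsLocallyConstant (idx φ) := by
  have h1 : IsLocallyConstant (fun z : Σ _ : M, S => z.1) := by
    refine IsLocallyConstant.iff_isOpen_fiber.mpr fun m => ?_
    convert isOpen_range_sigmaMk (σ := fun _ : M => ↥S) (i := m)
    ext ⟨a, x⟩; simp [eq_comm]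
  exact h1.comp_continuous ((sigmaMk fun _ : M => S).symm.continuous.comp φ.left.continuous)

theorem idx_eq_iff {T : Over S} (φ : T ⟶ TwC.const S M) (t : T.left) (m : M) :
    idx φ t = m ↔ φ.left.base t ∈ Set.range (Sigma.ι (fun _ : M => S) m).base := by
  constructor
  · intro h
    subst h
    refine ⟨((sigmaMk fun _ : M => S).symm (φ.left.base t)).2, ?_⟩
    rw [← sigmaMk_mk]
    exact (sigmaMk fun _ : M => S).apply_symm_apply _
  · rintro ⟨x, hx⟩
    rw [idx, ← hx, ← sigmaMk_mk, Homeomorph.symm_apply_apply]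

theorem eq_pt {T : Over S} (φ : T ⟶ TwC.const S M) (m : M) (h : ∀ t, idx φ t = m) :
    φ = toUnit T ≫ TwC.pt S M m := by
  have hr : Set.range φ.left ⊆ Set.range (Sigma.ι (fun _ : M => S) m) := by
    rintro _ ⟨t, rfl⟩; exact (idx_eq_iff φ t m).mp (h t)
  have hl := IsOpenImmersion.lift_fac (Sigma.ι (fun _ : M => S) m) φ.left hr
  have hw : IsOpenImmersion.lift (Sigma.ι (fun _ : M => S) m) φ.left hr = T.hom := by
    have := congrArg (fun z => z ≫ (TwC.const S M).hom) hl
    simp only [Category.assoc, Over.w φ] at this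
    simpa using this
  ext
  rw [← hl, hw]
  simp [TwC.pt]

theorem idx_pt {T : Over S} (m : M) (t : T.left) : idx (toUnit T ≫ TwC.pt S M m) t = m :=
  (idx_eq_iff _ t m).mpr ⟨T.hom.base t, rfl⟩

/-- The open piece of `T` cut out by `U`. -/
noncomputable abbrev piece (T : Over S) (U : T.left.Opens) : Over S := Over.mk (U.ι ≫ T.hom)

noncomputable abbrev pieceι (T : Over S) (U : T.left.Opens) : piece T U ⟶ T := Over.homMk U.ι rfl

theorem ext {T : Over S} {φ ψ : T ⟶ TwC.const S M} (h : idx φ = idx ψ) : φ = ψ := by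
  refine Over.OverMorphism.ext ?_
  let U : T.left → T.left.Opens := fun t => ⟨idx φ ⁻¹' {idx φ t}, isLocallyConstant_idx φ _⟩
  refine (T.left.openCoverOfIsOpenCover U (.mk (top_le_iff.mp fun t _ => TopologicalSpace.Opens.mem_iSup.mpr ⟨t, rfl⟩))).hom_ext _ _ fun t => ?_
  have e : pieceι T (U t) ≫ φ = pieceι T (U t) ≫ ψ := by
    rw [eq_pt (pieceι T (U t) ≫ φ) (idx φ t) fun z => by rw [idx_comp]; exact z.2,
      eq_pt (pieceι T (U t) ≫ ψ) (idx φ t) fun z => by rw [idx_comp, ← h]; exact z.2]
  exact congrArg CommaMorphism.left e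

/-- A locally constant function gives a point of the constant scheme. -/
theorem exists_of_isLocallyConstant (T : Over S) (f : T.left → M) (hf : IsLocallyConstant f) :
    ∃ φ : T ⟶ TwC.const S M, idx φ = f := by
  let U : M → T.left.Opens := fun m => ⟨f ⁻¹' {m}, hf _⟩
  let 𝒰 := T.left.openCoverOfIsOpenCover U (.mk (top_le_iff.mp fun t _ => TopologicalSpace.Opens.mem_iSup.mpr ⟨f t, rfl⟩))
  let g : ∀ m : M, ↑(U m) ⟶ (TwC.const S M).left := fun m => (U m).ι ≫ T.hom ≫ Sigma.ι (fun _ : M => S) m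
  have hg : ∀ i j : M, pullback.fst (U i).ι (U j).ι ≫ g i = pullback.snd (U i).ι (U j).ι ≫ g j := by
    intro i j
    rcases eq_or_ne i j with rfl | hij
    · rw [show pullback.fst (U i).ι (U i).ι = pullback.snd _ _ from (cancel_mono (U i).ι).mp pullback.condition]
    · haveI : IsEmpty ↑(pullback (U i).ι (U j).ι) := ⟨fun z => hij (by
        have hi : f ((U i).ι ((pullback.fst (U i).ι (U j).ι).base z)) = i := ((pullback.fst (U i).ι (U j).ι).base z).2
        have hj : f ((U j).ι ((pullback.snd (U i).ι (U j).ι).base z)) = j := ((pullback.snd (U i).ι (U j).ι).base z).2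
        exact hi.symm.trans ((congrArg f (congrArg (fun q => q.base z) (pullback.condition (f := (U i).ι) (g := (U j).ι)))).trans hj))⟩
      exact isInitialOfIsEmpty.hom_ext _ _
  let φ : T ⟶ TwC.const S M := Over.homMk (𝒰.glueMorphisms g hg) (𝒰.hom_ext _ _ fun m => by
    refine (Category.assoc _ _ _).symm.trans ((congrArg (fun q => q ≫ (TwC.const S M).hom) (𝒰.ι_glueMorphisms g hg m)).trans ?_)
    show ((U m).ι ≫ T.hom ≫ Sigma.ι (fun _ : M => S) m) ≫ Sigma.desc (fun _ => 𝟙 S) = (U m).ι ≫ T.hom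
    simp)
  refine ⟨φ, funext fun t => (idx_eq_iff φ t (f t)).mpr ⟨T.hom.base t, ?_⟩⟩
  have := congrArg (fun q => q.base (⟨t, rfl⟩ : U (f t))) (𝒰.ι_glueMorphisms g hg (f t))
  exact this.symm

section Group

variable [Group M] {G : Over S} [GrpObj G] {e : G ≅ TwC.const S M}

/-- The locally constant `M`-valued function attached to a point of a constant group. -/
noncomputable def ix (e : G ≅ TwC.const S M) {T : Over S} (g : T ⟶ G) (t : T.left) : M := idx (g ≫ e.hom) t

omit [Group M] [GrpObj G] in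
theorem ix_comp {T T' : Over S} (j : T' ⟶ T) (g : T ⟶ G) (t : T'.left) :
    ix e (j ≫ g) t = ix e g (j.left.base t) := rfl

omit [Group M] [GrpObj G] in
theorem ix_ext {T : Over S} {g g' : T ⟶ G} (h : ix e g = ix e g') : g = g' := by
  have := ext h
  simpa using this

omit [Group M] [GrpObj G] in
theorem eq_pt' {T : Over S} (g : T ⟶ G) (m : M) (h : ∀ t, ix e g t = m) :
    g = toUnit T ≫ TwC.pt S M m ≫ e.inv := by
  rw [← Category.assoc, ← eq_pt (g ≫ e.hom) m h, Category.assoc, e.hom_inv_id, Category.comp_id]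

omit [Group M] [GrpObj G] in
theorem ix_pt {T : Over S} (m : M) (t : T.left) : ix e (toUnit T ≫ TwC.pt S M m ≫ e.inv) t = m := by
  rw [ix, Category.assoc, Category.assoc, e.inv_hom_id, Category.comp_id, idx_pt]

omit [Group M] [GrpObj G] in
theorem isLocallyConstant_ix {T : Over S} (g : T ⟶ G) : IsLocallyConstant (ix e g) :=
  isLocallyConstant_idx _

variable (he : TwC.IsConstGrp M G e)
include he

theorem ix_mul {T : Over S} (g g' : T ⟶ G) (t : T.left) : ix e (g * g') t = ix e g t * ix e g' t := by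
  let U : T.left.Opens := ⟨ix e g ⁻¹' {ix e g t} ∩ ix e g' ⁻¹' {ix e g' t},
    (isLocallyConstant_ix g _).inter (isLocallyConstant_ix g' _)⟩
  have h : pieceι T U ≫ (g * g') = toUnit _ ≫ TwC.pt S M (ix e g t * ix e g' t) ≫ e.inv := by
    rw [MonObj.comp_mul, eq_pt' (pieceι T U ≫ g) (ix e g t) fun z => by rw [ix_comp]; exact z.2.1,
      eq_pt' (pieceι T U ≫ g') (ix e g' t) fun z => by rw [ix_comp]; exact z.2.2, ← MonObj.comp_mul, he]
  have h2 := congrFun (congrArg (ix e) h) ⟨t, rfl, rfl⟩
  exact h2.trans (ix_pt _ _)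

theorem ix_one {T : Over S} (t : T.left) : ix e (1 : T ⟶ G) t = 1 := by
  have := ix_mul he (1 : T ⟶ G) 1 t
  rw [_root_.mul_one] at this
  exact left_eq_mul.mp this

theorem ix_inv {T : Over S} (g : T ⟶ G) (t : T.left) : ix e g⁻¹ t = (ix e g t)⁻¹ := by
  rw [← mul_eq_one_iff_eq_inv, ← ix_mul he, inv_mul_cancel, ix_one he]

end Group

end Groth.SGA7.ConstPoints
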