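import Groth.Prelude.Def_SGA7IX
import Groth.Agent.AlgGrp1.Points
import Groth.Agent.S5038

/-! Connected components of the special fibre of a smooth group scheme over a henselian local ring. -/

universe u

open CategoryTheory CategoryTheory.Limits MonoidalCategory CartesianMonoidalCategory MonObj AlgebraicGeometry
open TopologicalSpace

namespace Groth.SGA7.ComponentGroup

/-- A closed subset of a Noetherian space has finitely many components. -/
theorem finite_components {X : Type*} [TopologicalSpace X] [NoetherianSpace X] (S : Set X) :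
    (connectedComponentIn S '' S).Finite := by
  classical
  have : NoetherianSpace S := NoetherianSpace.set S
  have hfin := NoetherianSpace.finite_irreducibleComponents (α := S)
  let g : Set S → Set X := fun Z => if h : Z.Nonempty then connectedComponentIn S (h.some : X) else ∅
  refine (hfin.image g).subset ?_
  rintro _ ⟨z, hz, rfl⟩
  refine ⟨irreducibleComponent (⟨z, hz⟩ : S), irreducibleComponent_mem_irreducibleComponents _, ?_⟩
  have hne : (irreducibleComponent (⟨z, hz⟩ : S)).Nonempty := ⟨_, mem_irreducibleComponent⟩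
  show (if h : _ then _ else _) = _
  rw [dif_pos hne]
  refine (connectedComponentIn_eq ?_).symm
  have hc : IsPreconnected (Subtype.val '' irreducibleComponent (⟨z, hz⟩ : S) : Set X) :=
    (isIrreducible_irreducibleComponent.isPreirreducible.isPreconnected).image _ continuous_subtype_val.continuousOn
  exact hc.subset_connectedComponentIn ⟨⟨z, hz⟩, mem_irreducibleComponent, rfl⟩ (by simp [Set.image_subset_iff])
    ⟨_, hne.some_mem, rfl⟩

/-- A component of a closed subset of a Noetherian space is cut out by an open. -/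
theorem exists_isOpen_inter_subset {X : Type*} [TopologicalSpace X] [NoetherianSpace X] {S : Set X}
    (hS : IsClosed S) {z : X} (hz : z ∈ S) :
    ∃ O : Set X, IsOpen O ∧ z ∈ O ∧ O ∩ S ⊆ connectedComponentIn S z := by
  classical
  let T := {C ∈ connectedComponentIn S '' S | C ≠ connectedComponentIn S z}
  have hT : T.Finite := (finite_components S).subset (Set.sep_subset _ _)
  have hcl : IsClosed (⋃ C ∈ T, C) := hT.isClosed_biUnion fun C hC => by
    obtain ⟨⟨y, hy, rfl⟩, -⟩ := hC
    rw [connectedComponentIn_eq_image hy]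
    exact hS.isClosedEmbedding_subtypeVal.isClosedMap _ isClosed_connectedComponent
  refine ⟨(⋃ C ∈ T, C)ᶜ, hcl.isOpen_compl, ?_, ?_⟩
  · intro h
    obtain ⟨C, hC, hzC⟩ := Set.mem_iUnion₂.mp h
    obtain ⟨⟨y, hy, rfl⟩, hne⟩ := hC
    exact hne (connectedComponentIn_eq hzC)
  · rintro y ⟨hy, hyS⟩
    by_contra h
    refine hy (Set.mem_iUnion₂.mpr ⟨connectedComponentIn S y, ⟨⟨y, hyS, rfl⟩, fun e => h ?_⟩,
      mem_connectedComponentIn hyS⟩)
    rw [← e]
    exact mem_connectedComponentIn hyS

variable {R : Type u} [CommRing R]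

theorem noetherianSpace [IsNoetherianRing R] (N : Over (Spec (CommRingCat.of R))) [LocallyOfFiniteType N.hom]
    [QuasiCompact N.hom] : NoetherianSpace N.left := by
  have := LocallyOfFiniteType.isLocallyNoetherian N.hom
  have : CompactSpace N.left := QuasiCompact.compactSpace_of_compactSpace N.hom
  have : IsNoetherian N.left := ⟨⟩
  infer_instance

theorem section_mem [IsLocalRing R] (N : Over (Spec (CommRingCat.of R)))
    (x : 𝟙_ (Over (Spec (CommRingCat.of R))) ⟶ N) :
    x.left.base (IsLocalRing.closedPoint R) ∈ SGA7.specialFibreSet R N := by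
  show (x.left ≫ N.hom).base (IsLocalRing.closedPoint R) = IsLocalRing.closedPoint R
  rw [Over.w x]
  rfl

theorem exists_section [HenselianLocalRing R] [IsNoetherianRing R] [IsSepClosed (IsLocalRing.ResidueField R)]
    (N : Over (Spec (CommRingCat.of R))) [Smooth N.hom] [QuasiCompact N.hom] {z : N.left}
    (hz : z ∈ SGA7.specialFibreSet R N) :
    ∃ x : 𝟙_ (Over (Spec (CommRingCat.of R))) ⟶ N, z ∈ SGA7.secComp R N x := by
  have := noetherianSpace N
  have hS : IsClosed (SGA7.specialFibreSet R N) :=
    (IsLocalRing.isClosed_singleton_closedPoint R).preimage N.hom.continuous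
  obtain ⟨O, hO, hzO, hOS⟩ := exists_isOpen_inter_subset hS hz
  let ρ : Spec (CommRingCat.of (IsLocalRing.ResidueField R)) ⟶ Spec (CommRingCat.of R) :=
    Spec.map (CommRingCat.ofHom (IsLocalRing.residue R))
  have hρ : ∀ p, ρ.base p = IsLocalRing.closedPoint R := fun p => by
    rw [Subsingleton.elim (α := PrimeSpectrum (IsLocalRing.ResidueField R)) p (IsLocalRing.closedPoint _)]
    exact IsLocalRing.comap_closedPoint (IsLocalRing.residue R)
  let N₀ : Over (Spec (CommRingCat.of (IsLocalRing.ResidueField R))) := Over.mk (pullback.snd N.hom ρ)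
  have : Smooth N₀.hom := inferInstanceAs (Smooth (pullback.snd N.hom ρ))
  have : GeometricallyReduced N₀.hom := Groth.AlgGrp1.geometricallyReduced_of_smooth_hom N₀
  have hne : (((pullback.fst N.hom ρ) ⁻¹ᵁ ⟨O, hO⟩ : (pullback N.hom ρ).Opens) : Set ↥(pullback N.hom ρ)).Nonempty := by
    have : z ∈ Set.range (pullback.fst N.hom ρ) := by
      rw [Scheme.Pullback.range_fst]
      exact ⟨IsLocalRing.closedPoint _, (hρ _).trans hz.symm⟩
    obtain ⟨w, rfl⟩ := this
    exact ⟨w, hzO⟩
  obtain ⟨s, hs⟩ := Groth.AlgGrp1.exists_point_mem N₀ _ hne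
  let u₀ : Spec (CommRingCat.of (IsLocalRing.ResidueField R)) ⟶ N.left := s.left ≫ pullback.fst N.hom ρ
  have hu₀ : u₀ ≫ N.hom = ρ := by
    rw [Category.assoc, pullback.condition, ← Category.assoc]
    exact (congrArg (· ≫ ρ) (Over.w s)).trans (Category.id_comp _)
  obtain ⟨v, hv, hv₀⟩ := Groth.Agent.S5038.result R N.hom u₀ hu₀
  let x : 𝟙_ (Over (Spec (CommRingCat.of R))) ⟶ N := Over.homMk v hv
  refine ⟨x, ?_⟩
  have hx0 : x.left.base (IsLocalRing.closedPoint R) = u₀.base (IsLocalRing.closedPoint _) := by
    rw [← hv₀, ← hρ (IsLocalRing.closedPoint _)]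
    rfl
  have hxc : x.left.base (IsLocalRing.closedPoint R) ∈ connectedComponentIn (SGA7.specialFibreSet R N) z :=
    hOS ⟨hx0 ▸ hs, section_mem N x⟩
  show z ∈ connectedComponentIn _ _
  rw [← connectedComponentIn_eq hxc]
  exact mem_connectedComponentIn hz

theorem mul_right_apply [IsLocalRing R] (N : Over (Spec (CommRingCat.of R))) [GrpObj N]
    (a z : 𝟙_ (Over (Spec (CommRingCat.of R))) ⟶ N) : z ≫ (GrpObj.mulRight (A := N) a).hom = z * a := by
  simp [GrpObj.mulRight, comp_lift_assoc, Hom.mul_def]

theorem secComp_eq_iff [IsLocalRing R] (N : Over (Spec (CommRingCat.of R))) [GrpObj N]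
    (x y : 𝟙_ (Over (Spec (CommRingCat.of R))) ⟶ N) :
    SGA7.secComp R N x = SGA7.secComp R N y ↔ x * y⁻¹ ∈ SGA7.secUnitComp R N := by
  let α := GrpObj.mulRight (A := N) y⁻¹
  let φ : N.left ≃ₜ N.left := Scheme.homeoOfIso ((Over.forget _).mapIso α)
  have happ : ∀ z : 𝟙_ (Over (Spec (CommRingCat.of R))) ⟶ N,
      φ (z.left.base (IsLocalRing.closedPoint R)) = (z * y⁻¹).left.base (IsLocalRing.closedPoint R) := fun z => by
    rw [← mul_right_apply]
    rfl
  have hS : φ '' SGA7.specialFibreSet R N = SGA7.specialFibreSet R N := by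
    rw [Homeomorph.image_eq_preimage_symm]
    ext w
    show N.hom.base (α.inv.left.base w) ∈ ({_} : Set _) ↔ N.hom.base w ∈ ({_} : Set _)
    rw [show N.hom.base (α.inv.left.base w) = N.hom.base w from congr(($(Over.w α.inv)).base w)]
  have hone : (y * y⁻¹).left.base (IsLocalRing.closedPoint R) = η[N].left.base (IsLocalRing.closedPoint R) := by
    rw [mul_inv_cancel, Hom.one_def, toUnit_unique (toUnit _) (𝟙 _), Category.id_comp]
  show connectedComponentIn _ _ = connectedComponentIn _ _ ↔
    (x * y⁻¹).left.base (IsLocalRing.closedPoint R) ∈ connectedComponentIn _ _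
  rw [← happ x, ← hone, ← happ y]
  conv_rhs => rw [← hS]
  rw [← φ.image_connectedComponentIn (section_mem N y), φ.injective.mem_set_image]
  exact ⟨fun h => h ▸ mem_connectedComponentIn (section_mem N x), fun h => (connectedComponentIn_eq h).symm⟩

end Groth.SGA7.ComponentGroup
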