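import Mathlib.RingTheory.MvPowerSeries.Inverse
import Mathlib.RingTheory.MvPowerSeries.Derivative
import Mathlib.RingTheory.MvPowerSeries.Equiv
import Mathlib.RingTheory.MvPowerSeries.Order
import Mathlib.RingTheory.LocalRing.MaximalIdeal.Basic
import Mathlib.RingTheory.Nakayama
import Mathlib.Tactic

/-! Powers of the ideal generated by the variables in a power series ring in finitely many variables. -/

namespace Groth.SGA7.PS

open MvPowerSeries

variable {σ R : Type*} [CommRing R]

theorem coeff_add_single_eq (g : MvPowerSeries σ R) (i : σ) :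
    constantCoeff (pderiv R i g) = coeff (Finsupp.single i 1) g := by
  rw [← coeff_zero_eq_constantCoeff_apply, coeff_pderiv]
  simp

variable [Fintype σ]

theorem exists_sum_X_mul (g : MvPowerSeries σ R) (hg : constantCoeff g = 0) :
    ∃ h : σ → MvPowerSeries σ R, g = ∑ i, X i * h i ∧
      ∀ i e, coeff e (h i) = coeff (e + Finsupp.single i 1) g ∨ coeff e (h i) = 0 := by
  classical
  let pick : (σ →₀ ℕ) → Option σ := fun d => if h : d.support.Nonempty then some h.choose else none
  let h : σ → MvPowerSeries σ R := fun i e =>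
    if pick (e + Finsupp.single i 1) = some i then coeff (e + Finsupp.single i 1) g else 0
  refine ⟨h, ?_, fun i e => ?_⟩
  · ext d
    rw [map_sum]
    by_cases hd : d.support.Nonempty
    · rw [Finset.sum_eq_single hd.choose]
      · have hle : Finsupp.single hd.choose 1 ≤ d := by
          rw [Finsupp.single_le_iff]
          exact Nat.one_le_iff_ne_zero.mpr (Finsupp.mem_support_iff.mp hd.choose_spec)
        rw [X_def, coeff_monomial_mul, if_pos hle, one_mul]
        show _ = if pick (d - Finsupp.single hd.choose 1 + Finsupp.single hd.choose 1) = some hd.choose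
          then coeff (d - Finsupp.single hd.choose 1 + Finsupp.single hd.choose 1) g else 0
        rw [tsub_add_cancel_of_le hle, if_pos (dif_pos hd)]
      · intro i _ hi
        rw [X_def, coeff_monomial_mul]
        split_ifs with hle
        · rw [one_mul]
          show (if pick (d - Finsupp.single i 1 + Finsupp.single i 1) = some i then
            coeff (d - Finsupp.single i 1 + Finsupp.single i 1) g else 0) = 0
          rw [tsub_add_cancel_of_le hle, if_neg]
          simp [pick, dif_pos hd, Ne.symm hi]
        · rfl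
      · simp
    · have hd0 : d = 0 := by simpa using hd
      subst hd0
      rw [coeff_zero_eq_constantCoeff_apply, hg]
      symm
      refine Finset.sum_eq_zero fun i _ => ?_
      simp
  · show (if pick (e + Finsupp.single i 1) = some i then coeff (e + Finsupp.single i 1) g else 0) = _ ∨
      (if pick (e + Finsupp.single i 1) = some i then coeff (e + Finsupp.single i 1) g else 0) = 0
    split_ifs <;> simp

/-- The ideal generated by the variables. -/
noncomputable def varIdeal (σ R : Type*) [CommRing R] : Ideal (MvPowerSeries σ R) :=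
  Ideal.span (Set.range X)

theorem X_mem (i : σ) : (X i : MvPowerSeries σ R) ∈ varIdeal σ R :=
  Ideal.subset_span ⟨i, rfl⟩

theorem mem_varIdeal_iff (g : MvPowerSeries σ R) : g ∈ varIdeal σ R ↔ constantCoeff g = 0 := by
  constructor
  · intro hg
    have : varIdeal σ R ≤ RingHom.ker constantCoeff := Ideal.span_le.mpr (by rintro _ ⟨i, rfl⟩; simp)
    exact this hg
  · intro hg
    obtain ⟨h, hh, -⟩ := exists_sum_X_mul g hg
    rw [hh]
    exact Ideal.sum_mem _ fun i _ => Ideal.mul_mem_right _ _ (X_mem i)

theorem mem_varIdeal_pow (n : ℕ) (g : MvPowerSeries σ R)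
    (hg : ∀ d : σ →₀ ℕ, d.degree < n → coeff d g = 0) : g ∈ varIdeal σ R ^ n := by
  induction n generalizing g with
  | zero => simp
  | succ n ih =>
    obtain ⟨h, hh, hc⟩ := exists_sum_X_mul g (by
      rw [← coeff_zero_eq_constantCoeff_apply]; exact hg 0 (by simp))
    rw [hh, pow_succ']
    refine Ideal.sum_mem _ fun i _ => Ideal.mul_mem_mul (X_mem i) (ih _ fun e he => ?_)
    rcases hc i e with h1 | h1
    · rw [h1]; exact hg _ (by simp; omega)
    · exact h1

theorem mem_varIdeal_sq (g : MvPowerSeries σ R) (h0 : constantCoeff g = 0)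
    (h1 : ∀ i, coeff (Finsupp.single i 1) g = 0) : g ∈ varIdeal σ R ^ 2 := by
  refine mem_varIdeal_pow 2 g fun d hd => ?_
  by_cases hd0 : d = 0
  · rw [hd0, coeff_zero_eq_constantCoeff_apply, h0]
  · obtain ⟨i, hi⟩ : ∃ i, d i ≠ 0 := not_forall.mp fun h => hd0 (Finsupp.ext h)
    have hle : Finsupp.single i 1 ≤ d := Finsupp.single_le_iff.mpr (Nat.one_le_iff_ne_zero.mpr hi)
    obtain ⟨e, rfl⟩ := exists_add_of_le hle
    have he : e = 0 := by
      rw [← Finsupp.degree_eq_zero_iff]
      simp at hd ⊢
      omega
    simpa [he] using h1 i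

omit [Fintype σ] in
theorem maximalIdeal_eq_ker {k : Type*} [Field k] :
    IsLocalRing.maximalIdeal (MvPowerSeries σ k) = RingHom.ker constantCoeff := by
  ext g
  rw [IsLocalRing.mem_maximalIdeal, mem_nonunits_iff, isUnit_iff_constantCoeff, RingHom.mem_ker]
  simp

theorem maximalIdeal_eq {k : Type*} [Field k] :
    IsLocalRing.maximalIdeal (MvPowerSeries σ k) = varIdeal σ k := by
  ext g
  rw [maximalIdeal_eq_ker, RingHom.mem_ker, mem_varIdeal_iff]

/-- Nakayama for ideals of power series over a field. -/
theorem le_of_le_sup_mul {k : Type*} [Field k] {I J : Ideal (MvPowerSeries σ k)}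
    (h : J ≤ I ⊔ varIdeal σ k * J) : J ≤ I := by
  refine Submodule.le_of_le_smul_of_le_jacobson_bot (IsNoetherian.noetherian J) ?_ h
  rw [← maximalIdeal_eq]
  exact IsLocalRing.maximalIdeal_le_jacobson _

end Groth.SGA7.PS
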