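import Groth.Agent.GrpschAbsch.IdComp
import Groth.Agent.AlgGrp1.Geom
import Groth.Agent.PropsBasic2.LocNoeth

/-! The connected component of the unit of a group scheme locally of finite type over a field. -/

open CategoryTheory CategoryTheory.Limits MonoidalCategory CartesianMonoidalCategory MonObj AlgebraicGeometry
open TopologicalSpace

namespace Groth.SGA7.IdComponent

universe u

variable {k : Type u} [Field k]

theorem locallyConnectedSpace {X : Scheme.{u}} [IsLocallyNoetherian X] : LocallyConnectedSpace X := by
  refine Groth.PropsBasic2.locallyConnectedSpace fun x => ?_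
  obtain ⟨V, hV, hxV, -⟩ := exists_isAffineOpen_mem_and_subset (x := x) (U := ⊤) trivial
  have : IsNoetherianRing Γ(X, V) := IsLocallyNoetherian.component_noetherian ⟨V, hV⟩
  exact ⟨V, V.isOpen.mem_nhds hxV, noetherianSpace_of_isAffineOpen V hV⟩

/-- The unit point of a group scheme over a field. -/
noncomputable abbrev one (G : Over (Spec (CommRingCat.of k))) [GrpObj G] : G.left :=
  η[G].left.base (IsLocalRing.closedPoint k)

theorem isIrreducible_connectedComponent_one (G : Over (Spec (CommRingCat.of k))) [GrpObj G]
    [LocallyOfFiniteType G.hom] : IsIrreducible (connectedComponent (one G)) := by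
  have := LocallyOfFiniteType.isLocallyNoetherian G.hom
  have := locallyConnectedSpace (X := G.left)
  let C : G.left.Opens := ⟨connectedComponent (one G), isOpen_connectedComponent⟩
  have : ConnectedSpace ↥(C : Scheme.{u}) := isConnected_iff_connectedSpace.mp isConnected_connectedComponent
  have hr : Set.range η[G].left ⊆ Set.range C.ι := by
    rintro _ ⟨z, rfl⟩
    rw [Scheme.Opens.range_ι, show z = IsLocalRing.closedPoint k from Subsingleton.elim (α := ↥(Spec (CommRingCat.of k))) _ _]
    exact mem_connectedComponent
  let p : Spec (CommRingCat.of k) ⟶ C := IsOpenImmersion.lift C.ι η[G].left hr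
  have hp : p ≫ C.ι ≫ G.hom = 𝟙 _ := by
    rw [IsOpenImmersion.lift_fac_assoc]; exact Over.w η[G]
  have hcon := Groth.AlgGrp1.connectedSpace_pullback_of_isIntegral (C.ι ≫ G.hom) (K := AlgebraicClosure k) p hp
  set y := Spec.map (CommRingCat.ofHom (algebraMap k (AlgebraicClosure k)))
  let : GrpObj (Over.mk G.hom) := ‹GrpObj G›
  let : GrpObj (Over.mk (pullback.snd G.hom y)) := Over.grpObjMkPullbackSnd
  have : LocallyOfFiniteType (Over.mk (pullback.snd G.hom y)).hom :=
    inferInstanceAs (LocallyOfFiniteType (pullback.snd _ _))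
  let j : pullback (C.ι ≫ G.hom) y ⟶ pullback G.hom y :=
    pullback.map _ _ _ _ C.ι (𝟙 _) (𝟙 _) (by simp) (by simp)
  have hj : IsOpenImmersion j := inferInstance
  have h1 : _root_.IsConnected (Set.range j) := by
    rw [← Set.image_univ]; exact isConnected_univ.image _ j.continuous.continuousOn
  obtain ⟨z, hz⟩ := h1.nonempty
  have h2 : IsIrreducible (Set.range j) := by
    refine ⟨⟨z, hz⟩, ?_⟩
    have hsub := h1.subset_connectedComponent hz
    have hirr := Groth.GrpschAbsch.isIrreducible_connectedComponent (Over.mk (pullback.snd G.hom y)) z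
    intro u v hu hv hnu hnv
    obtain ⟨a, ha, haR⟩ := hnu
    obtain ⟨b, hb, hbR⟩ := hnv
    obtain ⟨c, -, ⟨hc1, hc2⟩, hc3, -⟩ := hirr.2 (u ∩ Set.range j) (v ∩ Set.range j)
      (hu.inter j.isOpenEmbedding.isOpen_range) (hv.inter j.isOpenEmbedding.isOpen_range)
      ⟨a, hsub ha, haR, ha⟩ ⟨b, hsub hb, hbR, hb⟩
    exact ⟨c, hc2, hc1, hc3⟩
  have : Surjective y := ⟨fun _ => ⟨IsLocalRing.closedPoint _, Subsingleton.elim _ _⟩⟩
  have himg : (pullback.fst G.hom y) '' Set.range j = connectedComponent (one G) := by
    refine Eq.trans ?_ C.range_ι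
    rw [← Set.range_comp, ← (pullback.fst (C.ι ≫ G.hom) y).surjective.range_comp C.ι]
    refine congrArg Set.range (funext fun w => ?_)
    simp only [Function.comp_apply, ← Scheme.Hom.comp_apply, j, pullback.map, pullback.lift_fst]
  rw [← himg]
  exact h2.image _ (pullback.fst G.hom y).continuous.continuousOn

theorem irreducibleSpace (G : Over (Spec (CommRingCat.of k))) [GrpObj G]
    [LocallyOfFiniteType G.hom] [ConnectedSpace G.left] : IrreducibleSpace G.left := by
  have h := isIrreducible_connectedComponent_one G
  rw [PreconnectedSpace.connectedComponent_eq_univ] at h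
  rw [irreducibleSpace_def]
  exact h

end Groth.SGA7.IdComponent
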