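import Groth.Agent.SGA7.Ext
import Groth.Prelude.Def_TwC
import Groth.Agent.AlgGrp1.Blanchard
import Mathlib.AlgebraicGeometry.Morphisms.LocalFlatDescent
import Mathlib.AlgebraicGeometry.Morphisms.FiniteType

/-! An fppf extension by a constant group is locally of finite type over the quotient. -/

open CategoryTheory CategoryTheory.Limits MonoidalCategory CartesianMonoidalCategory MonObj AlgebraicGeometry

namespace Groth.SGA7.Ext

universe u

variable {S : Scheme.{u}}

theorem locallyOfFiniteType_const (Z : Type u) : LocallyOfFiniteType (TwC.const S Z).hom :=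
  by
  haveI : IsZariskiLocalAtSource @LocallyOfFiniteType.{u} :=
    HasRingHomProperty.instIsZariskiLocalAtSource (Q := RingHom.FiniteType)
  exact IsZariskiLocalAtSource.sigmaDesc (P := @LocallyOfFiniteType.{u}) fun _ => inferInstance

variable {G E P : Over S} [GrpObj G] [GrpObj E] [GrpObj P] {u : G ⟶ E} {v : E ⟶ P}

/-- Properties descending along fppf covers pass from the kernel to the quotient map. -/
theorem quot_property (Q : MorphismProperty Scheme.{u}) [Q.IsStableUnderBaseChange] [IsZariskiLocalAtTarget Q]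
    [Q.DescendsAlong (@Surjective ⊓ @Flat ⊓ @LocallyOfFinitePresentation)]
    (h : NonAbH1.IsExactSeq Scheme.fppfPrecoverage u v) (hG : Q G.hom) : Q v.left := by
  obtain ⟨R, hR, hsec⟩ := h.2.2.2.2
  obtain ⟨J, X, g, rfl⟩ := Presieve.exists_eq_ofArrows R
  rw [Scheme.fppfPrecoverage, Scheme.ofArrows_mem_precoverage_iff] at hR
  obtain ⟨hcov', hP'⟩ := hR
  have hP : ∀ {S' : Scheme.{u}} {f : S' ⟶ P.left}, Presieve.ofArrows X g f → Flat f ∧ LocallyOfFinitePresentation f := by
    rintro _ _ ⟨i⟩; exact hP' i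
  have hcov : ∀ x, ∃ (S' : Scheme.{u}) (f : S' ⟶ P.left), Presieve.ofArrows X g f ∧ x ∈ Set.range f := fun x => by
    obtain ⟨i, hi⟩ := hcov' x; exact ⟨_, g i, ⟨i⟩, hi⟩
  rw [IsZariskiLocalAtTarget.iff_of_iSup_eq_top (P := Q)
    (U := fun i : Σ S' : Scheme.{u}, {f : S' ⟶ P.left // Presieve.ofArrows X g f} =>
      (⟨Set.range i.2.1, (haveI := (hP i.2.2).1; haveI := (hP i.2.2).2; i.2.1.isOpenMap.isOpen_range)⟩ : P.left.Opens))
    (top_le_iff.mp fun x _ => by
      obtain ⟨S', f, hf, hx⟩ := hcov x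
      exact TopologicalSpace.Opens.mem_iSup.mpr ⟨⟨S', f, hf⟩, hx⟩)]
  rintro ⟨S', f, hf⟩
  haveI := (hP hf).1
  haveI := (hP hf).2
  obtain ⟨σ, hσ⟩ := hsec f hf
  set U : P.left.Opens := ⟨Set.range f, _⟩
  let T : Over S := Over.mk (f ≫ P.hom)
  let σ' : T ⟶ E := Over.homMk σ (by show σ ≫ E.hom = f ≫ P.hom; rw [← Over.w v, ← Category.assoc]; exact congrArg (· ≫ P.hom) hσ)
  have hsq := (Groth.AlgGrp1.isPullback_whiskerRight σ' G).paste_vert (h.2.2.2.1.map (Over.forget S))
  have hsq' : IsPullback (fst T G).left ((σ' ▷ G).left ≫ ((E ◁ u) ≫ μ[E]).left) f v.left := by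
    rw [← show σ'.left ≫ v.left = f from hσ]; exact hsq
  have hr : Set.range f ⊆ Set.range U.ι := by rw [Scheme.Opens.range_ι]; exact subset_rfl
  let f' : S' ⟶ U := IsOpenImmersion.lift U.ι f hr
  have hf' : f' ≫ U.ι = f := IsOpenImmersion.lift_fac _ _ hr
  have hpb : IsPullback (𝟙 S') f' f U.ι := IsPullback.of_horiz_isIso_mono ⟨by rw [Category.id_comp, hf']⟩
  have hflat : Flat f' := MorphismProperty.of_isPullback (P := @Flat) hpb ‹Flat f›
  have hlfp : LocallyOfFinitePresentation f' :=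
    MorphismProperty.of_isPullback (P := @LocallyOfFinitePresentation) hpb ‹LocallyOfFinitePresentation f›
  have hsurj : Surjective f' := ⟨fun x => by
    obtain ⟨s, hs⟩ : x.1 ∈ Set.range f := x.2
    exact ⟨s, U.ι.isOpenEmbedding.injective (by rw [← Scheme.Hom.comp_apply, hf']; exact hs)⟩⟩
  have hT : Q (fst T G).left := MorphismProperty.pullback_fst (P := Q) T.hom G.hom hG
  refine MorphismProperty.of_isPullback_of_descendsAlong (P := Q)
    (Q := @Surjective ⊓ @Flat ⊓ @LocallyOfFinitePresentation) ?_ ⟨⟨hsurj, hflat⟩, hlfp⟩ hT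
    (snd := IsPullback.lift (isPullback_morphismRestrict v.left U) ((fst T G).left ≫ f')
      ((σ' ▷ G).left ≫ ((E ◁ u) ≫ μ[E]).left) (by rw [Category.assoc, hf']; exact hsq'.w))
  refine (IsPullback.of_right ?_ (IsPullback.lift_fst _ _ _ _) (isPullback_morphismRestrict v.left U).flip).flip
  rw [IsPullback.lift_snd, hf']
  exact hsq'.flip

theorem locallyOfFiniteType_quot (h : NonAbH1.IsExactSeq Scheme.fppfPrecoverage u v)
    [LocallyOfFiniteType G.hom] : LocallyOfFiniteType v.left := by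
  haveI : IsZariskiLocalAtTarget @LocallyOfFiniteType.{u} :=
    HasRingHomProperty.instIsZariskiLocalAtTarget @LocallyOfFiniteType.{u}
  haveI : MorphismProperty.DescendsAlong @LocallyOfFiniteType.{u} (@Surjective ⊓ @Flat ⊓ @QuasiCompact) :=
    HasRingHomProperty.descendsAlong_flat (P := @LocallyOfFiniteType.{u}) RingHom.FiniteType.codescendsAlong_faithfullyFlat
  haveI : MorphismProperty.DescendsAlong @LocallyOfFiniteType.{u} (@Surjective ⊓ @Flat ⊓ @LocallyOfFinitePresentation) :=
    instDescendsAlongSchemeMinMorphismPropertySurjectiveFlatLocallyOfFinitePresentationOfQuasiCompactOfIsZariskiLocalAtTarget @LocallyOfFiniteType.{u}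
  exact quot_property @LocallyOfFiniteType.{u} h ‹_›

theorem universallyOpen_quot (h : NonAbH1.IsExactSeq Scheme.fppfPrecoverage u v)
    [UniversallyOpen G.hom] : UniversallyOpen v.left := by
  haveI : MorphismProperty.DescendsAlong @UniversallyOpen.{u} (@Surjective ⊓ @Flat ⊓ @LocallyOfFinitePresentation) :=
    instDescendsAlongSchemeMinMorphismPropertySurjectiveFlatLocallyOfFinitePresentationOfQuasiCompactOfIsZariskiLocalAtTarget @UniversallyOpen.{u}
  exact quot_property @UniversallyOpen.{u} h ‹_›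

theorem surjective_quot (h : NonAbH1.IsExactSeq Scheme.fppfPrecoverage u v) : Surjective v.left := by
  obtain ⟨R, hR, hsec⟩ := h.2.2.2.2
  obtain ⟨J, X, g, rfl⟩ := Presieve.exists_eq_ofArrows R
  rw [Scheme.fppfPrecoverage, Scheme.ofArrows_mem_precoverage_iff] at hR
  refine ⟨fun x => ?_⟩
  obtain ⟨i, y, hy⟩ := hR.1 x
  obtain ⟨σ, hσ⟩ := hsec (g i) ⟨i⟩
  exact ⟨σ.base y, (congrArg (fun q => q.base y) hσ).trans hy⟩

end Groth.SGA7.Ext
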