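import Mathlib.CategoryTheory.Monoidal.Tor
import Mathlib.RingTheory.Flat.CategoryTheory
import Mathlib.Algebra.Category.ModuleCat.Monoidal.Closed
import Mathlib.Algebra.Category.ModuleCat.Projective
import Mathlib.Algebra.Category.ModuleCat.Abelian
import Mathlib.Algebra.Homology.HomologySequence
import Mathlib.Algebra.Homology.HomologicalComplexAbelian
import Mathlib.RingTheory.Flat.Basic

/-! The long exact sequence of `Tor` in the first variable, in vanishing form. -/

set_option autoImplicit false

universe u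

open CategoryTheory MonoidalCategory Limits

namespace Groth.SGA7.TorSeq

variable {R : Type u} [CommRing R]

/-- The complex `M ⊗ P` computing `Tor(M, Y)`. -/
noncomputable abbrev tc (M : ModuleCat.{u} R) {Y : ModuleCat.{u} R} (P : ProjectiveResolution Y) :
    ChainComplex (ModuleCat.{u} R) ℕ :=
  (((tensoringLeft (ModuleCat.{u} R)).obj M).mapHomologicalComplex _).obj P.complex

theorem isZero_tor_iff (M Y : ModuleCat.{u} R) (P : ProjectiveResolution Y) (i : ℕ) :
    IsZero (((Tor (ModuleCat.{u} R) i).obj M).obj Y) ↔ IsZero ((tc M P).homology i) :=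
  (P.isoLeftDerivedObj ((tensoringLeft (ModuleCat.{u} R)).obj M) i).isZero_iff

theorem isZero_tor_of_flat (M Y : ModuleCat.{u} R) [Module.Flat R M] (i : ℕ) (hi : 0 < i) :
    IsZero (((Tor (ModuleCat.{u} R) i).obj M).obj Y) := by
  obtain ⟨j, rfl⟩ := Nat.exists_eq_succ_of_ne_zero hi.ne'
  obtain ⟨P⟩ := (inferInstance : HasProjectiveResolution Y).out
  rw [isZero_tor_iff M Y P]
  refine ((HomologicalComplex.exactAt_iff_isZero_homology _ _).mp ?_)
  rw [HomologicalComplex.exactAt_iff]
  exact Module.Flat.lTensor_shortComplex_exact M (P.complex.sc (j + 1)) (P.complex_exactAt_succ j)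

variable {S : ShortComplex (ModuleCat.{u} R)}

/-- The short complex of complexes `S ⊗ P`. -/
noncomputable def tsc (S : ShortComplex (ModuleCat.{u} R)) {Y : ModuleCat.{u} R} (P : ProjectiveResolution Y) :
    ShortComplex (ChainComplex (ModuleCat.{u} R) ℕ) where
  X₁ := tc S.X₁ P
  X₂ := tc S.X₂ P
  X₃ := tc S.X₃ P
  f := (NatTrans.mapHomologicalComplex ((tensoringLeft (ModuleCat.{u} R)).map S.f) _).app P.complex
  g := (NatTrans.mapHomologicalComplex ((tensoringLeft (ModuleCat.{u} R)).map S.g) _).app P.complex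
  zero := by
    ext k : 1
    change (S.f ▷ P.complex.X k) ≫ (S.g ▷ P.complex.X k) = 0
    rw [← comp_whiskerRight, S.zero, MonoidalPreadditive.zero_whiskerRight]

theorem shortExact_tsc (hS : S.ShortExact) {Y : ModuleCat.{u} R} (P : ProjectiveResolution Y) :
    (tsc S P).ShortExact := by
  refine HomologicalComplex.shortExact_of_degreewise_shortExact _ fun k => ?_
  have : Projective (P.complex.X k) := P.projective k
  have : Module.Projective R (P.complex.X k) := ModuleCat.projective_of_module_projective _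
  have : Module.Flat R (P.complex.X k) := Module.Flat.of_projective
  have : PreservesFiniteColimits (tensorRight (P.complex.X k)) :=
    preservesFiniteColimits_of_natIso (BraidedCategory.tensorLeftIsoTensorRight (P.complex.X k))
  exact hS.map_of_exact (tensorRight (P.complex.X k))

theorem isZero_tor_X₂ (hS : S.ShortExact) (Y : ModuleCat.{u} R) (i : ℕ)
    (h₁ : IsZero (((Tor (ModuleCat.{u} R) i).obj S.X₁).obj Y))
    (h₃ : IsZero (((Tor (ModuleCat.{u} R) i).obj S.X₃).obj Y)) :
    IsZero (((Tor (ModuleCat.{u} R) i).obj S.X₂).obj Y) := by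
  obtain ⟨P⟩ := (inferInstance : HasProjectiveResolution Y).out
  rw [isZero_tor_iff _ Y P] at h₁ h₃ ⊢
  exact ((shortExact_tsc hS P).homology_exact₂ i).isZero_of_both_zeros (h₁.eq_of_src _ _) (h₃.eq_of_tgt _ _)

theorem isZero_tor_X₁ (hS : S.ShortExact) (Y : ModuleCat.{u} R) (i : ℕ)
    (h₃ : IsZero (((Tor (ModuleCat.{u} R) (i + 1)).obj S.X₃).obj Y))
    (h₂ : IsZero (((Tor (ModuleCat.{u} R) i).obj S.X₂).obj Y)) :
    IsZero (((Tor (ModuleCat.{u} R) i).obj S.X₁).obj Y) := by
  obtain ⟨P⟩ := (inferInstance : HasProjectiveResolution Y).out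
  rw [isZero_tor_iff _ Y P] at h₂ h₃ ⊢
  exact ((shortExact_tsc hS P).homology_exact₁ (i + 1) i rfl).isZero_of_both_zeros
    (h₃.eq_of_src _ _) (h₂.eq_of_tgt _ _)

end Groth.SGA7.TorSeq
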