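import Mathlib
import Groth.Agent.FlatMor2.AffineThickening

/-!
Pushout of schemes of a thickening along an affine morphism.

For `t : X ⟶ X'` a surjective closed immersion and `f : X ⟶ Y` affine, the pushout has the
space of `Y` and the structure sheaf `O_Y ×_{f_* O_X} g_* O_{X'}`.
-/

set_option linter.style.haveILetI false
set_option linter.style.longLine false
set_option linter.unusedSectionVars false

noncomputable section

universe u

open CategoryTheory AlgebraicGeometry TopologicalSpace Opposite Limits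

namespace Groth.ThickPushout

/-- Elementary form of localisation away from an element. -/
lemma away_surj {A B : Type u} [CommRing A] [CommRing B] (r : A →+* B) (g : A)
    (h : letI := r.toAlgebra; IsLocalization.Away g B) (z : B) : ∃ n a, z * r g ^ n = r a := by
  letI := r.toAlgebra
  exact IsLocalization.Away.surj g z

lemma away_zero {A B : Type u} [CommRing A] [CommRing B] (r : A →+* B) (g : A)
    (h : letI := r.toAlgebra; IsLocalization.Away g B) {a : A} (ha : r a = 0) : ∃ n : ℕ, g ^ n * a = 0 := by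
  letI := r.toAlgebra
  obtain ⟨n, hn⟩ := IsLocalization.Away.exists_of_eq (S := B) g (show algebraMap A B a = algebraMap A B 0 by rw [map_zero]; exact ha)
  exact ⟨n, by rw [hn, mul_zero]⟩

variable {X X' Y : Scheme.{u}} (t : X ⟶ X') [IsClosedImmersion t] [Surjective t] (f : X ⟶ Y)

/-- A thickening is a homeomorphism. -/
def thHomeo : X ≃ₜ X' := (t.isClosedEmbedding).isEmbedding.toHomeomorphOfSurjective t.surjective

/-- The continuous map `X' → Y`. -/
def gMap : C(X', Y) :=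
  ⟨fun x' => f.base ((thHomeo t).symm x'), f.continuous.comp (thHomeo t).symm.continuous⟩

lemma gMap_t (x : X) : gMap t f (t.base x) = f.base x := by
  change f.base ((thHomeo t).symm (thHomeo t x)) = f.base x
  rw [Homeomorph.symm_apply_apply]

/-- Preimages in `X'`. -/
def gPre (U : Y.Opens) : X'.Opens := ⟨gMap t f ⁻¹' (U : Set Y), U.2.preimage (gMap t f).continuous⟩

lemma mem_gPre {U : Y.Opens} {x' : X'} : x' ∈ gPre t f U ↔ gMap t f x' ∈ U := Iff.rfl

lemma preimage_gPre (U : Y.Opens) : t ⁻¹ᵁ gPre t f U = f ⁻¹ᵁ U := by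
  ext x
  change gMap t f (t.base x) ∈ U ↔ f.base x ∈ U
  rw [gMap_t]

lemma le_gPre (U : Y.Opens) : f ⁻¹ᵁ U ≤ t ⁻¹ᵁ gPre t f U := (preimage_gPre t f U).ge

lemma gPre_mono {U V : Y.Opens} (h : U ≤ V) : gPre t f U ≤ gPre t f V := fun _ hx => h hx

/-- `O_Y → f_* O_X`. -/
abbrev toXl (U : Y.Opens) : Γ(Y, U) ⟶ Γ(X, f ⁻¹ᵁ U) := f.app U

/-- `g_* O_{X'} → f_* O_X`. -/
abbrev toXr (U : Y.Opens) : Γ(X', gPre t f U) ⟶ Γ(X, f ⁻¹ᵁ U) := t.appLE (gPre t f U) (f ⁻¹ᵁ U) (le_gPre t f U)

/-- Sections of the pushout. -/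
abbrev sec (U : Y.Opens) : Subring (Γ(Y, U) × Γ(X', gPre t f U)) :=
  ((toXl f U).hom.comp (RingHom.fst Γ(Y, U) Γ(X', gPre t f U))).eqLocus
    ((toXr t f U).hom.comp (RingHom.snd Γ(Y, U) Γ(X', gPre t f U)))

lemma toXl_res {U V : Y.Opens} (h : V ≤ U) (a : Γ(Y, U)) :
    toXl f V (Y.presheaf.map (homOfLE h).op a) = X.presheaf.map (homOfLE (f.preimage_mono h)).op (toXl f U a) :=
  congr($(f.naturality (homOfLE h).op) a)

lemma toXr_res {U V : Y.Opens} (h : V ≤ U) (a : Γ(X', gPre t f U)) :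
    toXr t f V (X'.presheaf.map (homOfLE (gPre_mono t f h)).op a) =
      X.presheaf.map (homOfLE (f.preimage_mono h)).op (toXr t f U a) := by
  rw [← CommRingCat.comp_apply, ← CommRingCat.comp_apply, Scheme.Hom.map_appLE, Scheme.Hom.appLE_map]

/-- Restriction of sections. -/
def secRes {U V : Y.Opens} (h : V ≤ U) : sec t f U →+* sec t f V :=
  RingHom.restrict ((Y.presheaf.map (homOfLE h).op).hom.prodMap (X'.presheaf.map (homOfLE (gPre_mono t f h)).op).hom)
    (sec t f U) (sec t f V) fun r hr => by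
      change toXl f V (Y.presheaf.map (homOfLE h).op r.1) = toXr t f V (X'.presheaf.map (homOfLE (gPre_mono t f h)).op r.2)
      rw [toXl_res f h, toXr_res t f h]
      exact congrArg _ hr

@[simp] lemma secRes_fst {U V : Y.Opens} (h : V ≤ U) (r : sec t f U) :
    (secRes t f h r).1.1 = Y.presheaf.map (homOfLE h).op r.1.1 := rfl

@[simp] lemma secRes_snd {U V : Y.Opens} (h : V ≤ U) (r : sec t f U) :
    (secRes t f h r).1.2 = X'.presheaf.map (homOfLE (gPre_mono t f h)).op r.1.2 := rfl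

/-- The presheaf. -/
def presheaf : TopCat.Presheaf CommRingCat Y.toTopCat where
  obj U := CommRingCat.of (sec t f U.unop)
  map i := CommRingCat.ofHom (secRes t f i.unop.le)
  map_id U := CommRingCat.hom_ext <| RingHom.ext fun r => Subtype.ext <| Prod.ext
    congr($(Y.presheaf.map_id U) r.1.1) congr($(X'.presheaf.map_id (op (gPre t f U.unop))) r.1.2)
  map_comp {U V W} i j := CommRingCat.hom_ext <| RingHom.ext fun r => Subtype.ext <| Prod.ext
    congr($(Y.presheaf.map_comp i j) r.1.1)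
    congr($(X'.presheaf.map_comp (homOfLE (gPre_mono t f i.unop.le)).op (homOfLE (gPre_mono t f j.unop.le)).op) r.1.2)

theorem isSheaf_presheaf : (presheaf t f).IsSheaf := by
  rw [TopCat.Presheaf.isSheaf_iff_isSheafUniqueGluing]
  intro ι U sf hsf
  have h1 : TopCat.Presheaf.IsCompatible Y.presheaf U fun i => (sf i).1.1 := fun i j =>
    congrArg (fun r : sec t f (U i ⊓ U j) => r.1.1) (hsf i j)
  obtain ⟨a, ha, hau⟩ := Y.sheaf.existsUnique_gluing U (fun i => (sf i).1.1) h1
  have hcov : gPre t f (iSup U) ≤ ⨆ i, gPre t f (U i) := fun x' hx => by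
    obtain ⟨i, hi⟩ := Opens.mem_iSup.1 (show gMap t f x' ∈ iSup U from hx)
    exact Opens.mem_iSup.2 ⟨i, hi⟩
  obtain ⟨b, hb, hbu⟩ := X'.sheaf.existsUnique_gluing' (fun i => gPre t f (U i)) (gPre t f (iSup U))
    (fun i => homOfLE (gPre_mono t f (le_iSup U i))) hcov (fun i => (sf i).1.2) fun i j =>
      congrArg (fun r : sec t f (U i ⊓ U j) => r.1.2) (hsf i j)
  have hab : toXl f (iSup U) a = toXr t f (iSup U) b := by
    refine X.sheaf.eq_of_locally_eq' (fun i => f ⁻¹ᵁ U i) (f ⁻¹ᵁ iSup U)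
      (fun i => homOfLE (f.preimage_mono (le_iSup U i))) (fun x hx => ?_) _ _ fun i => ?_
    · obtain ⟨i, hi⟩ := Opens.mem_iSup.1 (show f.base x ∈ iSup U from hx)
      exact Opens.mem_iSup.2 ⟨i, hi⟩
    · refine (toXl_res f (le_iSup U i) a).symm.trans (Eq.trans ?_ (toXr_res t f (le_iSup U i) b))
      refine (congrArg (toXl f (U i)) (ha i)).trans ((sf i).2.trans (congrArg (toXr t f (U i)) (hb i).symm))
  refine ⟨⟨(a, b), hab⟩, fun i => Subtype.ext (Prod.ext (ha i) (hb i)), fun r hr => ?_⟩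
  exact Subtype.ext (Prod.ext (hau r.1.1 fun i => congrArg (fun r : sec t f (U i) => r.1.1) (hr i))
    (hbu r.1.2 fun i => congrArg (fun r : sec t f (U i) => r.1.2) (hr i)))

/-- The ringed space. -/
abbrev sheafedSpace : SheafedSpace CommRingCat where
  carrier := Y.toTopCat
  presheaf := presheaf t f
  IsSheaf := isSheaf_presheaf t f

/-- Germs, as ring maps out of `sec`. -/
def sgerm (U : Y.Opens) (y : Y) (hy : y ∈ U) : sec t f U →+* (presheaf t f).stalk y :=
  ((presheaf t f).germ U y hy).hom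

lemma sgerm_res {U V : Y.Opens} (h : V ≤ U) (y : Y) (hy : y ∈ V) (r : sec t f U) :
    sgerm t f V y hy (secRes t f h r) = sgerm t f U y (h hy) r :=
  (presheaf t f).germ_res_apply (homOfLE h) y hy r

lemma exists_sgerm_eq (y : Y) (a : (presheaf t f).stalk y) :
    ∃ (U : Y.Opens) (hy : y ∈ U) (r : sec t f U), sgerm t f U y hy r = a :=
  (presheaf t f).exists_germ_eq a

lemma exists_res_eq_of_sgerm_eq {U : Y.Opens} (y : Y) (hy : y ∈ U) (r r' : sec t f U)
    (h : sgerm t f U y hy r = sgerm t f U y hy r') :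
    ∃ (V : Y.Opens) (hV : V ≤ U), y ∈ V ∧ secRes t f hV r = secRes t f hV r' := by
  obtain ⟨V, hyV, i, j, hV⟩ := (presheaf t f).germ_eq (U := U) (V := U) y hy hy r r' h
  obtain rfl : i = j := Subsingleton.elim i j
  exact ⟨V, i.le, hyV, hV⟩

/-- The projection to `O_Y`. -/
def fstHom : presheaf t f ⟶ Y.presheaf where
  app U := CommRingCat.ofHom ((RingHom.fst Γ(Y, U.unop) Γ(X', gPre t f U.unop)).comp (sec t f U.unop).subtype)
  naturality _ _ _ := rfl

/-- The induced map on stalks. -/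
def stalkFst (y : Y) : (presheaf t f).stalk y ⟶ Y.presheaf.stalk y :=
  (TopCat.Presheaf.stalkFunctor CommRingCat y).map (fstHom t f)

lemma stalkFst_germ (U : Y.Opens) (y : Y) (hy : y ∈ U) (r : sec t f U) :
    stalkFst t f y (sgerm t f U y hy r) = Y.presheaf.germ U y hy r.1.1 :=
  TopCat.Presheaf.stalkFunctor_map_germ_apply U y hy (fstHom t f) r

/-- The basic opens of the second component. -/
lemma gPre_basicOpen {U : Y.Opens} (r : sec t f U) :
    X'.basicOpen r.1.2 = gPre t f (Y.basicOpen r.1.1) := by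
  ext x'
  obtain ⟨x, rfl⟩ := t.surjective x'
  have h : X.basicOpen (toXl f U r.1.1) = X.basicOpen (toXr t f U r.1.2) := congrArg _ r.2
  rw [toXl, toXr, Scheme.Hom.app_eq_appLE, Scheme.basicOpen_appLE, Scheme.basicOpen_appLE] at h
  have hx := SetLike.ext_iff.1 h x
  simp only [Opens.mem_inf] at hx
  have hg := gMap_t t f x
  refine ⟨fun hb => ?_, fun hb => ?_⟩
  · have hU : gMap t f (t.base x) ∈ U := X'.basicOpen_le r.1.2 hb
    have h' := (hx.2 ⟨show f.base x ∈ U from hg ▸ hU, hb⟩).2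
    exact show gMap t f (t.base x) ∈ Y.basicOpen r.1.1 from hg.symm ▸ h'
  · have hb' : f.base x ∈ Y.basicOpen r.1.1 := hg ▸ (show gMap t f (t.base x) ∈ Y.basicOpen r.1.1 from hb)
    exact (hx.1 ⟨Y.basicOpen_le r.1.1 hb', hb'⟩).2

/-- A germ is a unit iff its image in `O_Y` is. -/
lemma isUnit_of_isUnit_stalkFst (y : Y) (a : (presheaf t f).stalk y) (h : IsUnit (stalkFst t f y a)) : IsUnit a := by
  obtain ⟨U, hy, r, rfl⟩ := exists_sgerm_eq t f y a
  rw [stalkFst_germ] at h
  let W := Y.basicOpen r.1.1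
  have hWU : W ≤ U := Y.basicOpen_le _
  have hyW : y ∈ W := (Y.mem_basicOpen r.1.1 y hy).2 h
  obtain ⟨a₁, ha₁⟩ := (Y.toRingedSpace.isUnit_res_basicOpen r.1.1).exists_right_inv
  have hle : gPre t f W ≤ X'.basicOpen r.1.2 := (gPre_basicOpen t f r).ge
  have hu2 : IsUnit (X'.presheaf.map (homOfLE (gPre_mono t f hWU)).op r.1.2) := by
    have h2 := (X'.toRingedSpace.isUnit_res_basicOpen r.1.2).map (X'.presheaf.map (homOfLE hle).op).hom
    refine (congrArg IsUnit ?_).mpr h2
    exact congr($(X'.presheaf.map_comp (homOfLE (X'.basicOpen_le r.1.2)).op (homOfLE hle).op) r.1.2)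
  obtain ⟨a₂, ha₂⟩ := hu2.exists_right_inv
  have hmem : toXl f W a₁ = toXr t f W a₂ := by
    have e₁ := congrArg (toXl f W) ha₁
    have e₂ := congrArg (toXr t f W) ha₂
    replace e₁ := (map_mul (toXl f W).hom _ _).symm.trans (e₁.trans (map_one (toXl f W).hom))
    replace e₂ := (map_mul (toXr t f W).hom _ _).symm.trans (e₂.trans (map_one (toXr t f W).hom))
    refine left_inv_eq_right_inv (a := toXr t f W (X'.presheaf.map (homOfLE (gPre_mono t f hWU)).op r.1.2)) ?_ e₂
    rw [mul_comm, show toXr t f W (X'.presheaf.map (homOfLE (gPre_mono t f hWU)).op r.1.2) =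
      toXl f W (Y.presheaf.map (homOfLE hWU).op r.1.1) from (secRes t f hWU r).2.symm]
    exact e₁
  rw [← sgerm_res t f hWU y hyW r]
  refine IsUnit.map (sgerm t f W y hyW) ?_
  exact .of_mul_eq_one ⟨(a₁, a₂), hmem⟩ (Subtype.ext (Prod.ext ha₁ ha₂))

lemma isUnit_iff_stalkFst (y : Y) (a : (presheaf t f).stalk y) : IsUnit a ↔ IsUnit (stalkFst t f y a) :=
  ⟨fun h => h.map (stalkFst t f y).hom, isUnit_of_isUnit_stalkFst t f y a⟩

/-- The locally ringed space. -/
def lrs : LocallyRingedSpace where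
  toSheafedSpace := sheafedSpace t f
  isLocalRing y := by
    haveI : Nontrivial ((presheaf t f).stalk y) := (stalkFst t f y).hom.domain_nontrivial
    refine IsLocalRing.of_nonunits_add fun a b ha hb => ?_
    rw [mem_nonunits_iff, isUnit_iff_stalkFst] at ha hb ⊢
    rw [map_add]
    exact IsLocalRing.nonunits_add ha hb

/-! ### Affine charts. -/

section Affine

variable [IsAffineHom f] {U : Y.Opens} (hU : IsAffineOpen U)

include hU

lemma isAffineOpen_gPre : IsAffineOpen (gPre t f U) := by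
  haveI : IsAffine (t ⁻¹ᵁ gPre t f U).toScheme := by
    rw [preimage_gPre]; exact hU.preimage f
  haveI : IsClosedImmersion (t ∣_ gPre t f U) := inferInstance
  haveI : Surjective (t ∣_ gPre t f U) := MorphismProperty.of_isPullback (isPullback_morphismRestrict t _).flip inferInstance
  exact Groth.FlatMor2.isAffine_of_surjective_closedImmersion (t ∣_ gPre t f U)

lemma toXr_surjective : Function.Surjective (toXr t f U) := by
  intro z
  have hs := ((isClosedImmersion_iff_isAffineHom (f := t)).1 ‹_›).2 _ (isAffineOpen_gPre t f hU)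
  have hb : Function.Bijective (X.presheaf.map (homOfLE (le_gPre t f U)).op) := by
    haveI : IsIso (homOfLE (le_gPre t f U)) := ⟨⟨homOfLE (preimage_gPre t f U).le, rfl, rfl⟩⟩
    exact ConcreteCategory.bijective_of_isIso _
  obtain ⟨w, hw⟩ := (hb.2.comp hs) z
  exact ⟨w, hw⟩

lemma fst_surjective : Function.Surjective fun r : sec t f U => r.1.1 := fun a =>
  ⟨⟨(a, (toXr_surjective t f hU (toXl f U a)).choose), (toXr_surjective t f hU (toXl f U a)).choose_spec.symm⟩, rfl⟩

lemma isNilpotent_of_fst_eq_zero {r : sec t f U} (hr : r.1.1 = 0) : IsNilpotent r := by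
  have hb : X'.basicOpen r.1.2 = ⊥ := by
    rw [gPre_basicOpen, hr, Scheme.basicOpen_zero]
    ext x'
    exact Iff.rfl
  obtain ⟨n, hn⟩ := (X'.isNilpotent_iff_basicOpen_eq_bot_of_isCompact (isAffineOpen_gPre t f hU).isCompact r.1.2).2 hb
  refine ⟨n + 1, Subtype.ext (Prod.ext ?_ ?_)⟩
  · change r.1.1 ^ (n + 1) = 0
    rw [hr, zero_pow (Nat.succ_ne_zero n)]
  · change r.1.2 ^ (n + 1) = 0
    rw [pow_succ, hn, zero_mul]

variable {W : Y.Opens} (g : sec t f U) (hW : W = Y.basicOpen g.1.1)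

include hW

lemma away_fst (hWU : W ≤ U) :
    letI := (Y.presheaf.map (homOfLE hWU).op).hom.toAlgebra; IsLocalization.Away g.1.1 Γ(Y, W) :=
  hU.isLocalization_of_eq_basicOpen g.1.1 (homOfLE hWU) hW

lemma away_snd (hWU : W ≤ U) :
    letI := (X'.presheaf.map (homOfLE (gPre_mono t f hWU)).op).hom.toAlgebra
    IsLocalization.Away g.1.2 Γ(X', gPre t f W) :=
  (isAffineOpen_gPre t f hU).isLocalization_of_eq_basicOpen g.1.2 (homOfLE (gPre_mono t f hWU))
    (by rw [gPre_basicOpen, hW])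

lemma away_mid (hWU : W ≤ U) :
    letI := (X.presheaf.map (homOfLE (f.preimage_mono hWU)).op).hom.toAlgebra
    IsLocalization.Away (toXl f U g.1.1) Γ(X, f ⁻¹ᵁ W) :=
  (hU.preimage f).isLocalization_of_eq_basicOpen (toXl f U g.1.1) (homOfLE (f.preimage_mono hWU))
    (by rw [hW, Scheme.preimage_basicOpen])

/-- Restriction to a basic open is a localisation: zero. -/
lemma sec_away_zero (hWU : W ≤ U) {r : sec t f U} (hr : secRes t f hWU r = 0) : ∃ n : ℕ, g ^ n * r = 0 := by
  obtain ⟨n, hn⟩ := away_zero _ _ (away_fst t f hU g hW hWU) (congrArg (fun r : sec t f W => r.1.1) hr)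
  obtain ⟨m, hm⟩ := away_zero _ _ (away_snd t f hU g hW hWU) (congrArg (fun r : sec t f W => r.1.2) hr)
  refine ⟨n + m, Subtype.ext (Prod.ext ?_ ?_)⟩
  · change g.1.1 ^ (n + m) * r.1.1 = 0
    rw [add_comm, pow_add, mul_assoc]
    exact (congrArg _ hn).trans (mul_zero _)
  · change g.1.2 ^ (n + m) * r.1.2 = 0
    rw [pow_add, mul_assoc]
    exact (congrArg _ hm).trans (mul_zero _)

/-- Restriction to a basic open is a localisation: fractions. -/
lemma sec_away_surj (hWU : W ≤ U) (s : sec t f W) :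
    ∃ (n : ℕ) (r : sec t f U), s * secRes t f hWU g ^ n = secRes t f hWU r := by
  obtain ⟨n, a, ha⟩ := away_surj _ _ (away_fst t f hU g hW hWU) s.1.1
  obtain ⟨m, b, hb⟩ := away_surj _ _ (away_snd t f hU g hW hWU) s.1.2
  let a' := a * g.1.1 ^ m
  let b' := b * g.1.2 ^ n
  have ha' : s.1.1 * Y.presheaf.map (homOfLE hWU).op g.1.1 ^ (n + m) = Y.presheaf.map (homOfLE hWU).op a' := by
    simp only [a', map_mul, map_pow, ← ha, pow_add, mul_assoc]
  have hb' : s.1.2 * X'.presheaf.map (homOfLE (gPre_mono t f hWU)).op g.1.2 ^ (n + m) =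
      X'.presheaf.map (homOfLE (gPre_mono t f hWU)).op b' := by
    simp only [b', map_mul, map_pow, ← hb, add_comm n m, pow_add, mul_assoc]
  have hz : X.presheaf.map (homOfLE (f.preimage_mono hWU)).op (toXl f U a' - toXr t f U b') = 0 := by
    rw [map_sub, ← toXl_res f hWU, ← toXr_res t f hWU, ← ha', ← hb', map_mul, map_mul, map_pow, map_pow, sub_eq_zero]
    exact congrArg₂ (· * ·) s.2 (congrArg (· ^ (n + m)) (secRes t f hWU g).2)
  obtain ⟨e, he⟩ := away_zero _ _ (away_mid t f hU g hW hWU) hz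
  rw [mul_sub, sub_eq_zero] at he
  refine ⟨n + m + e, ⟨(g.1.1 ^ e * a', g.1.2 ^ e * b'), ?_⟩, Subtype.ext (Prod.ext ?_ ?_)⟩
  · change toXl f U (g.1.1 ^ e * a') = toXr t f U (g.1.2 ^ e * b')
    refine (map_mul (toXl f U).hom _ _).trans (Eq.trans ?_ (map_mul (toXr t f U).hom _ _).symm)
    rw [map_pow, map_pow]
    refine he.trans ?_
    exact congrArg (· ^ e * toXr t f U b') (show toXl f U g.1.1 = toXr t f U g.1.2 from g.2)
  · change s.1.1 * Y.presheaf.map (homOfLE hWU).op g.1.1 ^ (n + m + e) = Y.presheaf.map (homOfLE hWU).op (g.1.1 ^ e * a')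
    rw [map_mul, map_pow, ← ha', pow_add]; ring
  · change s.1.2 * X'.presheaf.map (homOfLE (gPre_mono t f hWU)).op g.1.2 ^ (n + m + e) =
      X'.presheaf.map (homOfLE (gPre_mono t f hWU)).op (g.1.2 ^ e * b')
    rw [map_mul, map_pow, ← hb', pow_add]; ring

omit hW

/-- Stalks are fractions of sections over an affine neighbourhood. -/
lemma stalk_surj (y : Y) (hy : y ∈ U) (a : (presheaf t f).stalk y) :
    ∃ g r : sec t f U, IsUnit (sgerm t f U y hy g) ∧ a * sgerm t f U y hy g = sgerm t f U y hy r := by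
  obtain ⟨V, hyV, s, rfl⟩ := exists_sgerm_eq t f y a
  obtain ⟨g₀, hg₀, hyg₀⟩ := hU.exists_basicOpen_le (⟨y, hyV⟩ : V) hy
  obtain ⟨g, rfl⟩ := fst_surjective t f hU g₀
  obtain ⟨W, hW⟩ : ∃ W, W = Y.basicOpen g.1.1 := ⟨_, rfl⟩
  have hWU : W ≤ U := hW ▸ Y.basicOpen_le _
  have hWV : W ≤ V := hW ▸ hg₀
  have hyW : y ∈ W := hW ▸ hyg₀
  obtain ⟨n, r, hr⟩ := sec_away_surj t f hU g hW hWU (secRes t f hWV s)
  have hgu : IsUnit (sgerm t f U y hy g) := by
    refine isUnit_of_isUnit_stalkFst t f y _ ?_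
    rw [stalkFst_germ]
    exact (Y.mem_basicOpen g.1.1 y hy).1 hyg₀
  refine ⟨g ^ n, r, ?_, ?_⟩
  · rw [map_pow]
    exact hgu.pow n
  · have h := congrArg (sgerm t f W y hyW) hr
    rw [map_mul, map_pow] at h
    rw [map_pow, ← sgerm_res t f hWU y hyW g, ← sgerm_res t f hWU y hyW r, ← sgerm_res t f hWV y hyW s]
    exact h

/-- Kernels of germs. -/
lemma stalk_zero (y : Y) (hy : y ∈ U) (r : sec t f U) (hr : sgerm t f U y hy r = 0) :
    ∃ g : sec t f U, IsUnit (sgerm t f U y hy g) ∧ g * r = 0 := by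
  obtain ⟨V, hVU, hyV, hV⟩ := exists_res_eq_of_sgerm_eq t f y hy r 0 (hr.trans (map_zero _).symm)
  obtain ⟨g₀, hg₀, hyg₀⟩ := hU.exists_basicOpen_le (⟨y, hyV⟩ : V) hy
  obtain ⟨g, rfl⟩ := fst_surjective t f hU g₀
  have hWU : Y.basicOpen g.1.1 ≤ U := Y.basicOpen_le _
  have hz : secRes t f hWU r = 0 := by
    have := congrArg (secRes t f hg₀) hV
    rw [map_zero, map_zero] at this
    rw [← this]
    exact congr($((presheaf t f).map_comp (homOfLE hVU).op (homOfLE hg₀).op) r)
  obtain ⟨n, hn⟩ := sec_away_zero t f hU g rfl hWU hz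
  refine ⟨g ^ n, ?_, hn⟩
  rw [map_pow]
  refine (isUnit_of_isUnit_stalkFst t f y _ ?_).pow n
  rw [stalkFst_germ]
  exact (Y.mem_basicOpen g.1.1 y hy).1 hyg₀

end Affine


/-! ### The scheme. -/

/-- A ring map out of `sec` with nilpotent kernel and onto: homeomorphism of spectra. -/
lemma isHomeomorph_comap_of_nil {A B : Type u} [CommRing A] [CommRing B] (φ : A →+* B) (hs : Function.Surjective φ)
    (hn : ∀ a, φ a = 0 → IsNilpotent a) : IsHomeomorph (PrimeSpectrum.comap φ) := by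
  refine isHomeomorph_iff_isEmbedding_surjective.2 ⟨(PrimeSpectrum.isClosedEmbedding_comap_of_surjective _ φ hs).isEmbedding, ?_⟩
  rw [← Set.range_eq_univ, _root_.range_comap_of_surjective _ φ hs, PrimeSpectrum.zeroLocus_eq_univ_iff]
  exact fun a ha => mem_nilradical.2 (hn a ha)

section Scheme

variable [IsAffineHom f]

lemma exists_iso_spec (y : (lrs t f).toTopCat) :
    ∃ (U : OpenNhds y) (R : CommRingCat),
      Nonempty ((lrs t f).restrict U.isOpenEmbedding ≅ Spec.toLocallyRingedSpace.obj (op R)) := by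
  obtain ⟨_, ⟨U, hU, rfl⟩, hyU, -⟩ :=
    Y.isBasis_affineOpens.exists_subset_of_mem_open (Set.mem_univ (y : Y)) isOpen_univ
  let N : OpenNhds y := ⟨U, hyU⟩
  let Z := (lrs t f).restrict N.isOpenEmbedding
  let U₀ : Y.Opens := N.isOpenEmbedding.functor.obj ⊤
  have hU₀ : IsAffineOpen U₀ := by
    have e : U₀ = U := by
      ext x
      exact ⟨fun ⟨z, _, hz⟩ => hz ▸ z.2, fun hx => ⟨⟨x, hx⟩, trivial, rfl⟩⟩
    rw [e]; exact hU
  have hmem : ∀ z : Z, (z.1 : Y) ∈ U₀ := fun z => ⟨z, trivial, rfl⟩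
  let ι : ∀ z : Z, Z.presheaf.stalk z ≅ (presheaf t f).stalk z.1 := fun z =>
    (lrs t f).restrictStalkIso N.isOpenEmbedding z
  have hι : ∀ (z : Z) (r : sec t f U₀), (ι z).hom (Z.presheaf.Γgerm z r) = sgerm t f U₀ z.1 (hmem z) r := fun z r =>
    congr($((lrs t f).toPresheafedSpace.restrictStalkIso_hom_eq_germ N.isOpenEmbedding ⊤ z trivial) r)
  have hbij : ∀ z : Z, Function.Bijective (ι z).hom := fun z => ConcreteCategory.bijective_of_isIso _
  have hunit : ∀ (z : Z) (r : sec t f U₀),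
      IsUnit (Z.presheaf.Γgerm z r) ↔ IsUnit (Y.presheaf.germ U₀ z.1 (hmem z) r.1.1) := fun z r => by
    refine Iff.trans ?_ ((isUnit_iff_stalkFst t f z.1 _).trans
      (Iff.of_eq (congrArg IsUnit (stalkFst_germ t f U₀ z.1 (hmem z) r))))
    rw [← hι]
    refine ⟨fun h => h.map (ι z).hom.hom, fun h => ?_⟩
    have := h.map (ι z).inv.hom
    rwa [show (ι z).inv.hom ((ι z).hom (Z.presheaf.Γgerm z r)) = Z.presheaf.Γgerm z r from
      congr($((ι z).hom_inv_id) _)] at this
  let π : sec t f U₀ →+* Γ(Y, U₀) := (RingHom.fst Γ(Y, U₀) Γ(X', gPre t f U₀)).comp (sec t f U₀).subtype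
  have hπ := isHomeomorph_comap_of_nil π (fst_surjective t f hU₀) fun r hr => isNilpotent_of_fst_eq_zero t f hU₀ hr
  let χ : Z → U₀.toScheme := fun z => ⟨z.1, hmem z⟩
  have hχ : IsHomeomorph χ :=
    isHomeomorph_iff_exists_homeomorph.2 ⟨Homeomorph.setCongr (by
      ext x
      exact ⟨fun hx => ⟨⟨x, hx⟩, trivial, rfl⟩, fun ⟨z, _, hz⟩ => hz ▸ z.2⟩ :
        (U : Set Y) = (U₀ : Set Y)), rfl⟩
  have hp : IsHomeomorph (hU₀.isoSpec.hom.base) := hU₀.isoSpec.hom.homeomorph.isHomeomorph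
  have hbase : (Z.toΓSpec.base : Z → PrimeSpectrum (LocallyRingedSpace.Γ.obj (op Z))) =
      PrimeSpectrum.comap π ∘ (hU₀.isoSpec.hom.base ∘ χ) := by
    funext z
    refine PrimeSpectrum.ext (Ideal.ext fun r => ?_)
    change ¬ IsUnit (Z.presheaf.Γgerm z r) ↔ π r ∈ (hU₀.primeIdealOf ⟨z.1, hmem z⟩).asIdeal
    rw [hU₀.primeIdealOf_eq_map_closedPoint]
    exact (not_congr (hunit z r)).trans Iff.rfl
  have hhomeo : IsHomeomorph Z.toΓSpec.base := by
    rw [hbase]
    exact hπ.comp (hp.comp hχ)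
  haveI : ∀ z : Z, IsIso (Z.toΓSpec.stalkMap z) := fun z => by
    refine (ConcreteCategory.isIso_iff_bijective _).2 ?_
    let p : PrimeSpectrum (LocallyRingedSpace.Γ.obj (op Z)) := Z.toΓSpecFun z
    let T := (Spec.structureSheaf (LocallyRingedSpace.Γ.obj (op Z))).presheaf.stalk p
    have hts : ∀ r, Z.toΓSpec.stalkMap z (StructureSheaf.toStalk _ p r) = Z.presheaf.Γgerm z r := fun r =>
      congr($(LocallyRingedSpace.toStalk_stalkMap_toΓSpec Z z) r)
    have hsu : ∀ r : LocallyRingedSpace.Γ.obj (op Z), r ∉ p.asIdeal → IsUnit (StructureSheaf.toStalk _ p r) :=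
      fun r hr => IsLocalization.map_units T (⟨r, hr⟩ : p.asIdeal.primeCompl)
    let σ : T →+* Z.presheaf.stalk z := (Z.toΓSpec.stalkMap z).hom
    let J : Z.presheaf.stalk z →+* (presheaf t f).stalk z.1 := (ι z).hom.hom
    have hσ : ∀ r : sec t f U₀, J (σ (StructureSheaf.toStalk _ p r)) = sgerm t f U₀ z.1 (hmem z) r := fun r =>
      (congrArg J (hts r)).trans (hι z r)
    have hJ : Function.Bijective J := hbij z
    suffices hb : Function.Bijective σ from hb
    refine ⟨(injective_iff_map_eq_zero σ).2 fun a ha => ?_, fun a => ?_⟩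
    · obtain ⟨⟨r, s⟩, hrs⟩ := IsLocalization.surj (S := T) p.asIdeal.primeCompl a
      have hr0 : J (σ (StructureSheaf.toStalk _ p r)) = 0 := by
        refine (congrArg (fun w => J (σ w)) hrs.symm).trans ?_
        dsimp only
        rw [map_mul σ, ha, zero_mul, map_zero]
      obtain ⟨g, hg, hgr⟩ := stalk_zero t f hU₀ z.1 (hmem z) r ((hσ r).symm.trans hr0)
      have hgp : (g : LocallyRingedSpace.Γ.obj (op Z)) ∉ p.asIdeal := by
        refine (LocallyRingedSpace.notMem_prime_iff_unit_in_stalk Z g z).2 ((hunit z g).2 ?_)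
        exact (congrArg IsUnit (stalkFst_germ t f U₀ z.1 (hmem z) g)).mp (hg.map (stalkFst t f z.1).hom)
      have hr : (algebraMap _ T) r = 0 :=
        (IsLocalization.map_eq_zero_iff p.asIdeal.primeCompl T r).2 ⟨⟨g, hgp⟩, hgr⟩
      exact (IsLocalization.map_units T s).mul_left_eq_zero.1 (hrs.trans hr)
    · obtain ⟨g, r, hg, hgr⟩ := stalk_surj t f hU₀ z.1 (hmem z) (J a)
      have hgp : (g : LocallyRingedSpace.Γ.obj (op Z)) ∉ p.asIdeal := by
        refine (LocallyRingedSpace.notMem_prime_iff_unit_in_stalk Z g z).2 ((hunit z g).2 ?_)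
        exact (congrArg IsUnit (stalkFst_germ t f U₀ z.1 (hmem z) g)).mp (hg.map (stalkFst t f z.1).hom)
      let gT : T := StructureSheaf.toStalk _ p g
      let rT : T := StructureSheaf.toStalk _ p r
      obtain ⟨v, hv⟩ : ∃ v : T, gT * v = 1 := (hsu _ hgp).exists_right_inv
      refine ⟨rT * v, hJ.1 ?_⟩
      have h1 : J (σ gT) * J (σ v) = 1 := by rw [← map_mul J, ← map_mul σ, hv, map_one, map_one]
      rw [map_mul σ, map_mul J, show J (σ rT) = sgerm t f U₀ z.1 (hmem z) r from hσ r, ← hgr,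
        show sgerm t f U₀ z.1 (hmem z) g = J (σ gT) from (hσ g).symm, mul_assoc, h1, mul_one]
  haveI : LocallyRingedSpace.IsOpenImmersion Z.toΓSpec :=
    LocallyRingedSpace.IsOpenImmersion.of_stalk_iso _ hhomeo.isOpenEmbedding
  haveI : Epi Z.toΓSpec.base := (TopCat.epi_iff_surjective _).2 hhomeo.surjective
  have hiso : IsIso Z.toΓSpec := LocallyRingedSpace.IsOpenImmersion.to_iso _
  exact ⟨N, LocallyRingedSpace.Γ.obj (op Z), ⟨@asIso _ _ _ _ Z.toΓSpec hiso⟩⟩

/-- The pushout scheme. -/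
def scheme : Scheme.{u} where
  toLocallyRingedSpace := lrs t f
  local_affine := exists_iso_spec t f

/-- Build a morphism into or out of the pushout from a morphism of presheafed spaces. -/
def inlPS : Y.toPresheafedSpace ⟶ (scheme t f).toPresheafedSpace where
  base := 𝟙 _
  c := { app := fun U => CommRingCat.ofHom ((RingHom.fst Γ(Y, U.unop) Γ(X', gPre t f U.unop)).comp (sec t f U.unop).subtype)
         naturality := fun _ _ _ => rfl }

lemma inlPS_stalkMap (y : Y) (U : Y.Opens) (hy : y ∈ U) (r : sec t f U) :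
    (inlPS t f).stalkMap y (sgerm t f U y hy r) = Y.presheaf.germ U y hy r.1.1 :=
  congr($(PresheafedSpace.stalkMap_germ (inlPS t f) U y hy) r)

/-- `Y ⟶ Y'`. -/
def inl : Y ⟶ scheme t f :=
  ⟨⟨inlPS t f, fun y => ⟨fun a ha => by
    obtain ⟨U, hy, r, rfl⟩ := exists_sgerm_eq t f y a
    refine isUnit_of_isUnit_stalkFst t f y _ ?_
    rw [stalkFst_germ, ← inlPS_stalkMap t f y U hy r]
    exact ha⟩⟩⟩

lemma inl_app_apply (U : Y.Opens) (r : sec t f U) : (inl t f).app U r = r.1.1 := rfl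

/-- `X' ⟶ Y'` as presheafed spaces. -/
def inrPS : X'.toPresheafedSpace ⟶ (scheme t f).toPresheafedSpace where
  base := TopCat.ofHom (gMap t f)
  c := { app := fun U => CommRingCat.ofHom ((RingHom.snd Γ(Y, U.unop) Γ(X', gPre t f U.unop)).comp (sec t f U.unop).subtype)
         naturality := fun _ _ _ => rfl }

lemma inrPS_stalkMap (x' : X') (U : Y.Opens) (hy : gMap t f x' ∈ U) (r : sec t f U) :
    (inrPS t f).stalkMap x' (sgerm t f U (gMap t f x') hy r) = X'.presheaf.germ (gPre t f U) x' hy r.1.2 :=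
  congr($(PresheafedSpace.stalkMap_germ (inrPS t f) U x' hy) r)

/-- `X' ⟶ Y'`. -/
def inr : X' ⟶ scheme t f :=
  ⟨⟨inrPS t f, fun x' => ⟨fun a ha => by
    obtain ⟨U, hy, r, hra⟩ := exists_sgerm_eq t f (gMap t f x') a
    subst hra
    refine isUnit_of_isUnit_stalkFst t f _ _ ?_
    rw [stalkFst_germ]
    have h : x' ∈ X'.basicOpen r.1.2 := by
      refine (X'.mem_basicOpen r.1.2 x' hy).2 ?_
      rw [← inrPS_stalkMap t f x' U hy r]
      exact ha
    rw [gPre_basicOpen] at h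
    exact (Y.mem_basicOpen r.1.1 _ hy).1 h⟩⟩⟩

lemma inr_app_apply (U : Y.Opens) (r : sec t f U) : (inr t f).app U r = r.1.2 := rfl

lemma congr_appLE {A B : Scheme.{u}} {h h' : A ⟶ B} (e : h = h') (U : B.Opens) (V : A.Opens)
    (hV : V ≤ h ⁻¹ᵁ U) : h.appLE U V hV = h'.appLE U V (e ▸ hV) := by
  subst e; rfl

theorem comp_inr : t ≫ inr t f = f ≫ inl t f := by
  have hb : (t ≫ inr t f).base = (f ≫ inl t f).base := by
    ext x
    exact gMap_t t f x
  refine Scheme.Hom.ext hb fun U => CommRingCat.hom_ext (RingHom.ext fun r => ?_)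
  change X.presheaf.map _ (t.app (gPre t f U) r.1.2) = f.app U r.1.1
  exact (show toXl f U r.1.1 = toXr t f U r.1.2 from r.2).symm

section Desc

variable {T : Scheme.{u}} (a : X' ⟶ T) (c : Y ⟶ T) (w : t ≫ a = f ≫ c)

include w in
lemma gPre_le (U : T.Opens) : gPre t f (c ⁻¹ᵁ U) ≤ a ⁻¹ᵁ U := by
  intro x' hx'
  obtain ⟨x, rfl⟩ := t.surjective x'
  have e : a.base (t.base x) = c.base (f.base x) := congr($(congrArg (fun h : X ⟶ T => h.base) w) x)
  change a.base (t.base x) ∈ U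
  rw [e]
  exact (gMap_t t f x) ▸ hx'

/-- The components of the map out of the pushout. -/
def descApp (U : T.Opens) : Γ(T, U) →+* sec t f (c ⁻¹ᵁ U) :=
  RingHom.codRestrict ((c.app U).hom.prod (a.appLE U (gPre t f (c ⁻¹ᵁ U)) (gPre_le t f a c w U)).hom) _ fun r => by
    change toXl f (c ⁻¹ᵁ U) (c.app U r) = toXr t f (c ⁻¹ᵁ U) (a.appLE U _ _ r)
    rw [toXl, toXr, ← CommRingCat.comp_apply, ← CommRingCat.comp_apply, Scheme.Hom.appLE_comp_appLE,
      Scheme.Hom.app_eq_appLE, Scheme.Hom.app_eq_appLE, Scheme.Hom.appLE_comp_appLE, congr_appLE w.symm]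

/-- Map of presheafed spaces out of the pushout. -/
def descPS : (scheme t f).toPresheafedSpace ⟶ T.toPresheafedSpace where
  base := c.base
  c :=
    { app := fun U => CommRingCat.ofHom (descApp t f a c w U.unop)
      naturality := fun U V i => by
        refine CommRingCat.hom_ext (RingHom.ext fun r => Subtype.ext (Prod.ext ?_ ?_))
        · exact congr($(c.naturality i) r)
        · change a.appLE V.unop _ _ (T.presheaf.map i r) =
            X'.presheaf.map (homOfLE (gPre_mono t f (c.preimage_mono i.unop.le))).op (a.appLE U.unop _ _ r)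
          rw [← CommRingCat.comp_apply, ← CommRingCat.comp_apply, Scheme.Hom.map_appLE, Scheme.Hom.appLE_map] }

lemma descPS_stalkMap (y : Y) (U : T.Opens) (hy : c.base y ∈ U) (r : Γ(T, U)) :
    (descPS t f a c w).stalkMap y (T.presheaf.germ U (c.base y) hy r) =
      sgerm t f (c ⁻¹ᵁ U) y hy (descApp t f a c w U r) :=
  congr($(PresheafedSpace.stalkMap_germ (descPS t f a c w) U y hy) r)

lemma desc_local (y : Y) (s : T.presheaf.stalk (c.base y))
    (hs : IsUnit ((descPS t f a c w).stalkMap y s)) : IsUnit s := by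
  obtain ⟨U, hy, r, rfl⟩ := T.presheaf.exists_germ_eq (x := c.base y) s
  have h1 : IsUnit (stalkFst t f y (sgerm t f (c ⁻¹ᵁ U) y hy (descApp t f a c w U r))) :=
    ((congrArg IsUnit (descPS_stalkMap t f a c w y U hy r)).mp hs).map (stalkFst t f y).hom
  replace h1 := (congrArg IsUnit (stalkFst_germ t f (c ⁻¹ᵁ U) y hy (descApp t f a c w U r))).mp h1
  have h2 : IsUnit (c.stalkMap y (T.presheaf.germ U (c.base y) hy r)) :=
    (congrArg IsUnit (Scheme.Hom.germ_stalkMap_apply c U y hy r)).mpr h1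
  exact (isUnit_map_iff (c.stalkMap y).hom _).1 h2

/-- The map out of the pushout. -/
def desc : scheme t f ⟶ T :=
  ⟨⟨descPS t f a c w, fun y => ⟨fun s hs => desc_local t f a c w y s hs⟩⟩⟩

lemma inl_desc : inl t f ≫ desc t f a c w = c := by
  refine Scheme.Hom.ext rfl fun U => CommRingCat.hom_ext (RingHom.ext fun r => ?_)
  exact congr($(Y.presheaf.map_id (op (c ⁻¹ᵁ U))) (c.app U r))

lemma inr_desc : inr t f ≫ desc t f a c w = a := by
  have hb : (inr t f ≫ desc t f a c w).base = a.base := by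
    ext x'
    obtain ⟨x, rfl⟩ := t.surjective x'
    have e : a.base (t.base x) = c.base (f.base x) := congr($(congrArg (fun h : X ⟶ T => h.base) w) x)
    change c.base (gMap t f (t.base x)) = a.base (t.base x)
    rw [gMap_t, e]
  refine Scheme.Hom.ext hb fun U => CommRingCat.hom_ext (RingHom.ext fun r => ?_)
  refine (congr($(Scheme.Hom.appLE_map a (gPre_le t f a c w U) _) r)).trans ?_
  rw [Scheme.Hom.app_eq_appLE]

end Desc

/-- Morphisms out of the pushout are determined by the two composites. -/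
theorem hom_ext' {T : Scheme.{u}} {h k : scheme t f ⟶ T} (e₁ : inl t f ≫ h = inl t f ≫ k)
    (e₂ : inr t f ≫ h = inr t f ≫ k) : h = k := by
  have hb : h.base = k.base := by
    ext y
    exact congr($(congrArg (fun m : Y ⟶ T => m.base) e₁) y)
  have hU : ∀ U, k ⁻¹ᵁ U ≤ h ⁻¹ᵁ U := fun U y hy => by
    change h.base y ∈ U
    rw [hb]; exact hy
  refine Scheme.Hom.ext hb fun U => CommRingCat.hom_ext (RingHom.ext fun s => Subtype.ext (Prod.ext ?_ ?_))
  · exact ((congr($(Scheme.Hom.comp_appLE (inl t f) h U (k ⁻¹ᵁ U) (hU U)) s)).symm.trans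
      ((congr($(congr_appLE e₁ U (k ⁻¹ᵁ U) (hU U)) s)).trans
        (congr($(Scheme.Hom.comp_appLE (inl t f) k U (k ⁻¹ᵁ U) le_rfl) s)))).trans
      congr($(Y.presheaf.map_id (op (k ⁻¹ᵁ U))) _)
  · have hle : gPre t f (k ⁻¹ᵁ U) ≤ (inr t f ≫ h) ⁻¹ᵁ U := gPre_mono t f (hU U)
    exact ((congr($(Scheme.Hom.comp_appLE (inr t f) h U (gPre t f (k ⁻¹ᵁ U)) hle) s)).symm.trans
      ((congr($(congr_appLE e₂ U (gPre t f (k ⁻¹ᵁ U)) hle) s)).trans
        (congr($(Scheme.Hom.comp_appLE (inr t f) k U (gPre t f (k ⁻¹ᵁ U)) le_rfl) s)))).trans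
      congr($(X'.presheaf.map_id (op (gPre t f (k ⁻¹ᵁ U)))) _)

/-- The pushout square. -/
theorem isPushout : IsPushout t f (inr t f) (inl t f) :=
  ⟨⟨comp_inr t f⟩, ⟨PushoutCocone.IsColimit.mk _ (fun s => desc t f s.inl s.inr s.condition)
    (fun s => inr_desc t f _ _ _) (fun s => inl_desc t f _ _ _)
    fun s m h₁ h₂ => hom_ext' t f (h₂.trans (inl_desc t f _ _ _).symm) (h₁.trans (inr_desc t f _ _ _).symm)⟩⟩

instance isClosedImmersion_inl : IsClosedImmersion (inl t f) where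
  isClosedEmbedding := Topology.IsClosedEmbedding.id
  stalkMap_surjective y s := by
    obtain ⟨U, hy, a, rfl⟩ := Y.presheaf.exists_germ_eq (x := y) s
    obtain ⟨_, ⟨V, hV, rfl⟩, hyV, hVU⟩ := Y.isBasis_affineOpens.exists_subset_of_mem_open hy U.2
    obtain ⟨r, hr⟩ := fst_surjective t f hV (Y.presheaf.map (homOfLE (show V ≤ U from hVU)).op a)
    refine ⟨sgerm t f V y hyV r, (inlPS_stalkMap t f y V hyV r).trans ?_⟩
    rw [show r.1.1 = Y.presheaf.map (homOfLE (show V ≤ U from hVU)).op a from hr]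
    exact Y.presheaf.germ_res_apply (homOfLE (show V ≤ U from hVU)) y hyV a

theorem surjective_inl : Function.Surjective (inl t f) := fun y => ⟨y, rfl⟩

lemma sec_pullback {P : Scheme.{u}} (p₁ : P ⟶ X') (p₂ : P ⟶ Y) (hp : p₁ ≫ inr t f = p₂ ≫ inl t f)
    {V : Y.Opens} (b : Γ(X', gPre t f V)) (hb : toXr t f V b = 0) : p₁.app (gPre t f V) b = 0 := by
  have hmem : toXl f V (0 : Γ(Y, V)) = toXr t f V b := by rw [hb]; exact map_zero _
  let σ : sec t f V := ⟨(0, b), hmem⟩
  have hle : p₁ ⁻¹ᵁ gPre t f V ≤ (p₂ ≫ inl t f) ⁻¹ᵁ V := hp ▸ le_rfl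
  have e := (congr($(Scheme.Hom.comp_appLE p₁ (inr t f) V (p₁ ⁻¹ᵁ gPre t f V) le_rfl) σ)).symm.trans
    ((congr($(congr_appLE hp V (p₁ ⁻¹ᵁ gPre t f V) le_rfl) σ)).trans
      (congr($(Scheme.Hom.comp_appLE p₂ (inl t f) V (p₁ ⁻¹ᵁ gPre t f V) hle) σ)))
  rw [Scheme.Hom.app_eq_appLE]
  exact e.trans (map_zero (p₂.appLE V (p₁ ⁻¹ᵁ gPre t f V) hle).hom)

/-- Sections killed by `t` are killed by any `p₁` compatible with the square. -/
lemma ker_app_le {P : Scheme.{u}} (p₁ : P ⟶ X') (p₂ : P ⟶ Y) (hp : p₁ ≫ inr t f = p₂ ≫ inl t f)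
    {U : X'.Opens} (hU : IsAffineOpen U) {r : Γ(X', U)} (hr : t.app U r = 0) : p₁.app U r = 0 := by
  have loc : ∀ p : (p₁ ⁻¹ᵁ U : P.Opens), ∃ (O : P.Opens) (i : O ⟶ p₁ ⁻¹ᵁ U), p.1 ∈ O ∧
      P.presheaf.map i.op (p₁.app U r) = 0 := by
    intro p
    obtain ⟨_, ⟨V, hV, rfl⟩, hxV, -⟩ :=
      Y.isBasis_affineOpens.exists_subset_of_mem_open (Set.mem_univ (gMap t f (p₁.base p.1))) isOpen_univ
    have hG := isAffineOpen_gPre t f hV
    obtain ⟨h, hle, hph⟩ := hG.exists_basicOpen_le (⟨p₁.base p.1, p.2⟩ : U) hxV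
    let G := gPre t f V
    let D := X'.basicOpen h
    have hDG : D ≤ G := X'.basicOpen_le h
    let r' : Γ(X', D) := X'.presheaf.map (homOfLE hle).op r
    obtain ⟨n, b, hb⟩ := away_surj _ _ (hG.isLocalization_of_eq_basicOpen h (homOfLE hDG) rfl) r'
    have htr : t.app D r' = 0 := by
      refine (congr($(t.naturality (homOfLE hle).op) r)).trans ?_
      exact (congrArg _ hr).trans (map_zero (X.presheaf.map ((Opens.map t.base).map (homOfLE hle).op.unop).op).hom)
    have eD : X.basicOpen (toXr t f V h) = f ⁻¹ᵁ V ⊓ t ⁻¹ᵁ D := Scheme.basicOpen_appLE t _ _ _ _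
    have le₁ : f ⁻¹ᵁ V ⊓ t ⁻¹ᵁ D ≤ f ⁻¹ᵁ V := inf_le_left
    have hz : X.presheaf.map (homOfLE le₁).op (toXr t f V b) = 0 := by
      have hnat : ∀ z : Γ(X', G), X.presheaf.map (homOfLE le₁).op (toXr t f V z) =
          X.presheaf.map (homOfLE (inf_le_right : f ⁻¹ᵁ V ⊓ t ⁻¹ᵁ D ≤ t ⁻¹ᵁ D)).op
            (t.app D (X'.presheaf.map (homOfLE hDG).op z)) := by
        intro z
        rw [toXr, ← CommRingCat.comp_apply, ← CommRingCat.comp_apply, ← CommRingCat.comp_apply,
          Scheme.Hom.app_eq_appLE, Scheme.Hom.appLE_map, Scheme.Hom.appLE_map, Scheme.Hom.map_appLE]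
      rw [hnat]
      refine (congrArg _ (congrArg (t.app D) hb.symm)).trans ?_
      refine (congrArg _ ((map_mul (t.app D).hom _ _).trans ?_)).trans (map_zero _)
      exact (congrArg (· * _) htr).trans (zero_mul _)
    obtain ⟨e, he⟩ := away_zero _ _ ((hV.preimage f).isLocalization_of_eq_basicOpen (toXr t f V h) (homOfLE le₁) eD.symm) hz
    have hb0 := sec_pullback t f p₁ p₂ hp (h ^ e * b) (by rw [map_mul, map_pow]; exact he)
    refine ⟨p₁ ⁻¹ᵁ D, homOfLE (p₁.preimage_mono hle), hph, ?_⟩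
    refine (congr($(p₁.naturality (homOfLE hle).op) r)).symm.trans ?_
    change p₁.app D r' = 0
    have hu : IsUnit (X'.presheaf.map (homOfLE hDG).op h) := X'.toRingedSpace.isUnit_res_basicOpen h
    have h0 : p₁.app D (X'.presheaf.map (homOfLE hDG).op (h ^ e * b)) = 0 :=
      (congr($(p₁.naturality (homOfLE hDG).op) (h ^ e * b))).trans ((congrArg _ hb0).trans (map_zero (P.presheaf.map ((Opens.map p₁.base).map (homOfLE hDG).op.unop).op).hom))
    rw [map_mul, map_pow] at h0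
    rw [← show r' * (X'.presheaf.map (homOfLE hDG).op h) ^ n = X'.presheaf.map (homOfLE hDG).op b from hb,
      map_mul, map_mul, map_pow, map_pow] at h0
    exact ((hu.map (p₁.app D).hom).pow n).mul_left_eq_zero.1 (((hu.map (p₁.app D).hom).pow e).mul_right_eq_zero.1 h0)
  choose O i hpO hO using loc
  refine P.sheaf.eq_of_locally_eq' O (p₁ ⁻¹ᵁ U) i (fun p hp' => Opens.mem_iSup.2 ⟨⟨p, hp'⟩, hpO ⟨p, hp'⟩⟩) _ _ fun p => ?_
  exact (hO p).trans (map_zero _).symm

/-- The square is also cartesian. -/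
theorem isPullback : IsPullback t f (inr t f) (inl t f) := by
  refine ⟨⟨comp_inr t f⟩, ⟨PullbackCone.IsLimit.mk _ (fun s => ?_) (fun s => ?_) (fun s => ?_) fun s m h₁ h₂ => ?_⟩⟩
  · refine IsClosedImmersion.lift t s.fst (Scheme.IdealSheafData.le_ofIdeals_iff.2 fun U r hr => ?_)
    exact ker_app_le t f s.fst s.snd s.condition U.2 (t.ideal_ker_le U hr)
  · exact IsClosedImmersion.lift_fac _ _ _
  · exact (cancel_mono (inl t f)).1 ((Category.assoc _ _ _).trans ((congrArg _ (comp_inr t f).symm).trans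
      ((Category.assoc _ _ _).symm.trans ((congrArg (· ≫ inr t f) (IsClosedImmersion.lift_fac _ _ _)).trans s.condition))))
  · rw [← cancel_mono t]
    exact h₁.trans (IsClosedImmersion.lift_fac _ _ _).symm

end Scheme

end Groth.ThickPushout
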