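import Groth.Prelude.Def_NonAbH2

/-! Points of fppf-exact sequences of group schemes and descent of morphisms along the quotient map. -/

open CategoryTheory CategoryTheory.Limits MonoidalCategory CartesianMonoidalCategory MonObj AlgebraicGeometry Opposite

namespace Groth.SGA7.Ext

universe u

variable {S : Scheme.{u}}

/-- The sieve of morphisms to the target which lift through `q`. -/
def liftSieve {W Q : Over S} (q : W ⟶ Q) : Sieve Q.left where
  arrows Y g := ∃ t : Y ⟶ W.left, t ≫ q.left = g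
  downward_closed := by
    rintro Y Z g ⟨t, rfl⟩ h
    exact ⟨h ≫ t, Category.assoc _ _ _⟩

/-- `q` has local sections for the fppf topology. -/
def LocSurj {W Q : Over S} (q : W ⟶ Q) : Prop := liftSieve q ∈ Scheme.fppfTopology Q.left

theorem LocSurj.of_isLocallyTrivialFor {W Q : Over S} (q : W ⟶ Q)
    (h : NonAbH1.IsLocallyTrivialFor Scheme.fppfPrecoverage (Over.mk q.left : Over Q.left)) : LocSurj q := by
  obtain ⟨R, hR, hR'⟩ := h
  refine GrothendieckTopology.superset_covering _ ?_ (Precoverage.generate_mem_toGrothendieck hR)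
  rintro Y g ⟨Z, a, b, hb, rfl⟩
  obtain ⟨s, hs⟩ := hR' b hb
  exact ⟨a ≫ s, by rw [Category.assoc]; exact congrArg (a ≫ ·) hs⟩

theorem eq_of_liftSieve {W Q : Over S} {q : W ⟶ Q} (h : LocSurj q) {Z : Scheme.{u}} {a b : Q.left ⟶ Z}
    (hab : ∀ ⦃Y⦄ (g : Y ⟶ Q.left), liftSieve q g → g ≫ a = g ≫ b) : a = b :=
  ((GrothendieckTopology.Subcanonical.isSheaf_of_isRepresentable (yoneda.obj Z)) (liftSieve q) h).isSeparatedFor.ext
    fun _ g hg => hab g hg

theorem LocSurj.cancel {W Q Z : Over S} {q : W ⟶ Q} (h : LocSurj q) {a b : Q ⟶ Z}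
    (hab : q ≫ a = q ≫ b) : a = b := by
  refine Over.OverMorphism.ext (eq_of_liftSieve h ?_)
  rintro Y g ⟨t, rfl⟩
  rw [Category.assoc, Category.assoc]
  exact congrArg (fun z => t ≫ z) (congrArg CommaMorphism.left hab)

/-- A morphism constant on the fibres of a locally surjective morphism descends. -/
theorem LocSurj.desc {W Q Z : Over S} {q : W ⟶ Q} (h : LocSurj q) (a : W ⟶ Z)
    (ha : ∀ (T : Over S) (x y : T ⟶ W), x ≫ q = y ≫ q → x ≫ a = y ≫ a) : ∃ c : Q ⟶ Z, q ≫ c = a := by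
  have ha' : ∀ (Y : Scheme.{u}) (t t' : Y ⟶ W.left), t ≫ q.left = t' ≫ q.left → t ≫ a.left = t' ≫ a.left := by
    intro Y t t' htt
    have hW : ∀ s : Y ⟶ W.left, s ≫ W.hom = (s ≫ q.left) ≫ Q.hom := fun s => by rw [Category.assoc, Over.w q]
    let T : Over S := Over.mk ((t ≫ q.left) ≫ Q.hom)
    let x : T ⟶ W := Over.homMk t (hW t)
    let y : T ⟶ W := Over.homMk t' (by rw [hW t', ← htt]; rfl)
    exact congrArg CommaMorphism.left (ha T x y (Over.OverMorphism.ext htt))
  have hsh := (GrothendieckTopology.Subcanonical.isSheaf_of_isRepresentable (yoneda.obj Z.left)) (liftSieve q) h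
  let x : Presieve.FamilyOfElements (yoneda.obj Z.left) (liftSieve q).arrows := fun Y g hg => hg.choose ≫ a.left
  have hx : x.Compatible := by
    rw [Presieve.compatible_iff_sieveCompatible]
    intro Y Y' g g' hg
    show _ ≫ a.left = g' ≫ (_ ≫ a.left)
    rw [← Category.assoc]
    apply ha'
    rw [Category.assoc]
    exact ((liftSieve q).downward_closed hg g').choose_spec.trans (congrArg (g' ≫ ·) hg.choose_spec).symm
  have key : ∀ ⦃Y⦄ (t : Y ⟶ W.left), (t ≫ q.left) ≫ hsh.amalgamate x hx = t ≫ a.left := by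
    intro Y t
    have hg : liftSieve q (t ≫ q.left) := ⟨t, rfl⟩
    refine (hsh.valid_glue hx (t ≫ q.left) hg).trans ?_
    exact ha' _ _ _ hg.choose_spec
  refine ⟨Over.homMk (hsh.amalgamate x hx) (eq_of_liftSieve h ?_), ?_⟩
  · rintro Y g ⟨t, rfl⟩
    rw [← Category.assoc]
    refine (congrArg (fun z => z ≫ Z.hom) (key t)).trans ?_
    rw [Category.assoc, Over.w a, Category.assoc, Over.w q]
  · exact Over.OverMorphism.ext (by simpa using key (𝟙 W.left))

theorem LocSurj.tensor {W W' Q Q' : Over S} {q : W ⟶ Q} {q' : W' ⟶ Q'} (h : LocSurj q) (h' : LocSurj q') :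
    LocSurj (q ⊗ₘ q') := by
  refine GrothendieckTopology.superset_covering _ ?_
    (GrothendieckTopology.intersection_covering _ (Scheme.fppfTopology.pullback_stable (fst Q Q').left h)
      (Scheme.fppfTopology.pullback_stable (snd Q Q').left h'))
  rintro Y g ⟨⟨t, ht⟩, ⟨t', ht'⟩⟩
  let T : Over S := Over.mk (g ≫ (Q ⊗ Q').hom)
  let γ : T ⟶ Q ⊗ Q' := Over.homMk g rfl
  have hx : t ≫ W.hom = g ≫ (Q ⊗ Q').hom := by rw [← Over.w q, ← Category.assoc, ht, Category.assoc, Over.w]
  have hy : t' ≫ W'.hom = g ≫ (Q ⊗ Q').hom := by rw [← Over.w q', ← Category.assoc, ht', Category.assoc, Over.w]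
  let x : T ⟶ W := Over.homMk t hx
  let y : T ⟶ W' := Over.homMk t' hy
  have hxq : x ≫ q = γ ≫ fst Q Q' := Over.OverMorphism.ext ht
  have hyq : y ≫ q' = γ ≫ snd Q Q' := Over.OverMorphism.ext ht'
  have : lift x y ≫ (q ⊗ₘ q') = γ := by
    ext1
    · rw [Category.assoc, tensorHom_fst, lift_fst_assoc, hxq]
    · rw [Category.assoc, tensorHom_snd, lift_snd_assoc, hyq]
  exact ⟨(lift x y).left, congrArg CommaMorphism.left this⟩

theorem LocSurj.id (Q : Over S) : LocSurj (𝟙 Q) := by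
  have : liftSieve (𝟙 Q) = ⊤ := Sieve.ext fun Y g => ⟨fun _ => trivial, fun _ => ⟨g, Category.comp_id g⟩⟩
  rw [LocSurj, this]
  exact Scheme.fppfTopology.top_mem _

variable {G E P : Over S} [GrpObj G] [GrpObj E] [GrpObj P] {u : G ⟶ E} {v : E ⟶ P}

section

variable (h : NonAbH1.IsExactSeq Scheme.fppfPrecoverage u v)
include h

theorem locSurj : LocSurj v := LocSurj.of_isLocallyTrivialFor v h.2.2.2.2

theorem comp_eq_one {T : Over S} (g : T ⟶ G) : (g ≫ u) ≫ v = 1 := by
  rw [Category.assoc, h.2.2.1, MonObj.comp_one]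

theorem exists_translate {T : Over S} (x y : T ⟶ E) (hxy : x ≫ v = y ≫ v) :
    ∃ g : T ⟶ G, y = x * (g ≫ u) := by
  obtain ⟨w, hw1, hw2⟩ := h.2.2.2.1.exists_lift x y hxy
  refine ⟨w ≫ snd E G, ?_⟩
  rw [← hw2, ← hw1, Hom.mul_def]
  rw [← Category.assoc]
  congr 1
  ext1
  · rw [Category.assoc, lift_fst, whiskerLeft_fst]
  · rw [Category.assoc, lift_snd, whiskerLeft_snd, Category.assoc]

theorem exists_kernel {T : Over S} (x : T ⟶ E) (hx : x ≫ v = 1) : ∃ g : T ⟶ G, x = g ≫ u := by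
  have := h.2.1
  obtain ⟨g, hg⟩ := exists_translate h 1 x (by rw [MonObj.one_comp, hx])
  exact ⟨g, by rw [hg, _root_.one_mul]⟩

theorem u_injective {T : Over S} {g g' : T ⟶ G} (hg : g ≫ u = g' ≫ u) : g = g' := by
  have key : lift (1 : T ⟶ E) g = lift (1 : T ⟶ E) g' := by
    refine h.2.2.2.1.hom_ext ?_ ?_
    · rw [lift_fst, lift_fst]
    · rw [← Category.assoc, ← Category.assoc, lift_whiskerLeft, lift_whiskerLeft, hg]
  simpa using congrArg (fun z => z ≫ snd E G) key

/-- Left translations are right translations. -/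
theorem exists_conj {T : Over S} (g : T ⟶ G) (x : T ⟶ E) :
    ∃ g' : T ⟶ G, (g ≫ u) * x = x * (g' ≫ u) := by
  have := h.2.1
  exact exists_translate h x _ (by rw [MonObj.mul_comp, comp_eq_one h, _root_.one_mul])

end

end Groth.SGA7.Ext
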