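import Groth.Prelude.Def_LefPen
import Mathlib.RingTheory.MvPolynomial.Homogeneous
import Mathlib.RingTheory.MvPolynomial.Basic
import Mathlib.Data.Finsupp.Multiset
import Mathlib.Data.Sym.Card
import Mathlib.Algebra.MvPolynomial.Funext

/-! The space of forms of degree `d`: dimension, and polynomial functions. -/

namespace Groth.SGA7.Forms

universe u

open MvPolynomial

variable (r : ℕ) (k : Type u) [Field k] (d : ℕ)

/-- The monomial basis. -/
noncomputable def monBasis : Module.Basis {e : Fin (r + 1) →₀ ℕ | e.degree = d} k (LefPen.Form r k d) :=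
  (basisRestrictSupport k _).map (LinearEquiv.ofEq _ _ (homogeneousSubmodule_eq_finsupp_supported _ _ d).symm)

theorem natCard_exps : Nat.card {e : Fin (r + 1) →₀ ℕ | e.degree = d} = (r + d).choose d := by
  classical
  have e : Sym (Fin (r + 1)) d ≃ {e : Fin (r + 1) →₀ ℕ | e.degree = d} :=
    (Sym.equivNatSum _ d).trans (Equiv.subtypeEquivRight fun P => by
      simp [Finsupp.sum, Finsupp.degree_apply])
  rw [← Nat.card_congr e, Nat.card_eq_fintype_card, Sym.card_sym_eq_choose, Fintype.card_fin]
  congr 1
  omega

instance finite_exps : Finite {e : Fin (r + 1) →₀ ℕ | e.degree = d} :=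
  Nat.finite_of_card_ne_zero (by rw [natCard_exps]; exact (Nat.choose_pos (by omega)).ne')

instance : FiniteDimensional k (LefPen.Form r k d) := Module.Finite.of_basis (monBasis r k d)

theorem finrank_form : Module.finrank k (LefPen.Form r k d) = (r + d).choose d := by
  rw [Module.finrank_eq_nat_card_basis (monBasis r k d), natCard_exps]

variable {r k}
variable {V : Type u} [AddCommGroup V] [Module k V]

theorem isPolyFun_linear (l : V →ₗ[k] k) : LefPen.IsPolyFun k (fun v => l v) :=
  Algebra.subset_adjoin ⟨l, rfl⟩

theorem isPolyFun_aeval {σ : Type*} (p : MvPolynomial σ k) {g : σ → V → k} (hg : ∀ i, LefPen.IsPolyFun k (g i)) :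
    LefPen.IsPolyFun k (fun v => aeval (fun i => g i v) p) := by
  have h : (fun v => aeval (fun i => g i v) p) = aeval g p := by
    funext v
    exact DFunLike.congr_fun (MvPolynomial.comp_aeval g (Pi.evalAlgHom k (fun _ : V => k) v)) p |>.symm
  unfold LefPen.IsPolyFun
  rw [h]
  exact (Algebra.adjoin_le (by rintro _ ⟨i, rfl⟩; exact hg i) :
    Algebra.adjoin k (Set.range g) ≤ Algebra.adjoin k (Set.range fun l : Module.Dual k V => (l : V → k)))
      (by rw [← aeval_range g]; exact AlgHom.mem_range_self _ p)

theorem isPolyFun_det {ι : Type*} [Fintype ι] [DecidableEq ι] (M : V → Matrix ι ι k)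
    (hM : ∀ i j, LefPen.IsPolyFun k (fun v => M v i j)) : LefPen.IsPolyFun k (fun v => (M v).det) := by
  have h := isPolyFun_aeval (V := V) (Matrix.mvPolynomialX ι ι k).det (g := fun p v => M v p.1 p.2) fun p => hM p.1 p.2
  convert h using 2 with v
  rw [AlgHom.map_det, Matrix.mvPolynomialX_mapMatrix_aeval]

end Groth.SGA7.Forms
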