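import Groth.Agent.SGA7.Deform
import Groth.Prelude.Def_ArtFun3
import Mathlib.RingTheory.Polynomial.Basic
import Mathlib.Algebra.MvPolynomial.Eval
import Mathlib.Tactic

/-! Versal small prolongations (the construction step of Schlessinger's criterion). -/

namespace Groth.SGA7.Deform

open CategoryTheory ArtFun ArtFun.Art

universe u v

variable {Λ k : Type u} [CommRing Λ] [Field k] [Algebra Λ k]

local notation "𝔪" => IsLocalRing.maximalIdeal

theorem isSmallExt_dual : IsSmallExt (toBase (dual Λ k)) := by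
  let e : (dual Λ k).carrier := (TrivSqZeroExt.inr (1 : k) : DualNumber k)
  have hker : RingHom.ker (toBase (dual Λ k)).toAlgHom = Ideal.span {e} := by
    refine le_antisymm (fun x hx => ?_) ?_
    · refine Ideal.mem_span_singleton'.mpr ⟨(TrivSqZeroExt.inl (TrivSqZeroExt.snd (x : DualNumber k)) : DualNumber k), ?_⟩
      have h0 : TrivSqZeroExt.fst (x : DualNumber k) = 0 := hx
      show @HMul.hMul (DualNumber k) (DualNumber k) (DualNumber k) _ _ _ = (x : DualNumber k)
      refine TrivSqZeroExt.ext ?_ ?_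
      · rw [TrivSqZeroExt.fst_mul, TrivSqZeroExt.fst_inl, TrivSqZeroExt.fst_inr, mul_zero, h0]
      · rw [TrivSqZeroExt.snd_mul, TrivSqZeroExt.fst_inl, TrivSqZeroExt.fst_inr, TrivSqZeroExt.snd_inl,
          TrivSqZeroExt.snd_inr]
        simp
    · refine Ideal.span_le.mpr ?_
      rw [Set.singleton_subset_iff]
      exact (TrivSqZeroExt.fst_inr k (1 : k) : TrivSqZeroExt.fst (TrivSqZeroExt.inr (1 : k) : DualNumber k) = 0)
  refine ⟨fun c => ⟨TrivSqZeroExt.inl c, rfl⟩, ?_, ⟨⟨_, hker⟩⟩, ?_⟩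
  · intro h
    have h1 : e ∈ RingHom.ker (toBase (dual Λ k)).toAlgHom := by
      rw [hker]; exact Ideal.subset_span rfl
    rw [h] at h1
    have h2 : (TrivSqZeroExt.inr (1 : k) : DualNumber k) = 0 := Ideal.mem_bot.mp h1
    exact one_ne_zero (congrArg TrivSqZeroExt.snd h2)
  · rw [eq_bot_iff, Ideal.mul_le]
    intro m hm x hx
    have h1 : TrivSqZeroExt.fst (m : DualNumber k) = 0 := ((dual Λ k).mem_maximalIdeal_iff m).mp hm
    have h2 : TrivSqZeroExt.fst (x : DualNumber k) = 0 := hx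
    rw [Ideal.mem_bot]
    have key : ∀ m x : DualNumber k, TrivSqZeroExt.fst m = 0 → TrivSqZeroExt.fst x = 0 → m * x = 0 := by
      intro m x h1 h2
      ext <;> simp [h1, h2]
    exact key m x h1 h2

variable [Module.Finite Λ k]

/-- A lift of a small extension can be corrected to send `a'` to `a₁`. -/
theorem versal_lift (F : Art Λ k ⥤ Type v) (hF : S1 F ∧ Heps F) {R R₁ R' : Art Λ k} (π₁ : R₁ ⟶ R)
    (hπ : IsSmallExt π₁) (g : R' ⟶ R) (a : F.obj R) (a₁ : F.obj R₁) (a' : F.obj R') (h₁ : F.map π₁ a₁ = a)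
    (h' : F.map g a' = a)
    (hvers : ∀ (R₀ : Art Λ k), IsSmallExt (toBase R₀) → ∀ b : F.obj R₀, ∃ φ : R ⟶ R₀, F.map φ a = b)
    (hex : ∃ f : R' ⟶ R₁, f ≫ π₁ = g) : ∃ f : R' ⟶ R₁, f ≫ π₁ = g ∧ F.map f a' = a₁ := by
  obtain ⟨f, hf⟩ := hex
  obtain ⟨D, p₁, p₂, hD⟩ := Groth.ArtfunDeform.exists_isFibreProd π₁ π₁ hπ.1
  obtain ⟨t, q, -, -, hq, -, -⟩ := exists_diff hD hπ
  obtain ⟨η, hη⟩ := hF.1 p₁ p₂ π₁ π₁ hD hπ.1 ⟨(F.map f a', a₁), by
    show F.map π₁ (F.map f a') = F.map π₁ a₁
    rw [← Functor.map_comp_apply, hf, h', h₁]⟩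
  have hη1 : F.map p₁ η = F.map f a' := congrArg (fun z => z.1.1) hη
  have hη2 : F.map p₂ η = a₁ := congrArg (fun z => z.1.2) hη
  obtain ⟨φ, hφ⟩ := hvers (dual Λ k) isSmallExt_dual (F.map q η)
  let m : R' ⟶ D := Groth.ArtfunDeform.fpLift hq f (g ≫ φ) (by rw [eq_toBase (f ≫ _), eq_toBase ((g ≫ φ) ≫ _)])
  have hm1 : m ≫ p₁ = f := Groth.ArtfunDeform.fpLift_fst _ _ _ _
  have hm2 : m ≫ q = g ≫ φ := Groth.ArtfunDeform.fpLift_snd _ _ _ _
  refine ⟨m ≫ p₂, ?_, ?_⟩
  · rw [Category.assoc, ← hD.w, ← Category.assoc, hm1, hf]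
  · have : F.map m a' = η := (hF.2 p₁ q hq).1 (Subtype.ext (Prod.ext (by
      show F.map p₁ (F.map m a') = F.map p₁ η
      rw [← Functor.map_comp_apply, hm1, hη1]) (by
      show F.map q (F.map m a') = F.map q η
      rw [← Functor.map_comp_apply, hm2, Functor.map_comp_apply, h', hφ])))
    rw [Functor.map_comp_apply, this, hη2]

/-- The relative cotangent ideal `m² + m_Λ A`. -/
noncomputable def cot [IsLocalRing Λ] (A : Art Λ k) : Ideal A :=
  (𝔪 A) ^ 2 ⊔ (𝔪 Λ).map (algebraMap Λ A)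

variable [IsLocalRing Λ] [IsNoetherianRing Λ]

omit [Module.Finite Λ k] [IsNoetherianRing Λ] in
theorem exists_algHom_surjective (hk : Function.Surjective (algebraMap Λ k)) {T : Type u} [CommRing T] [Algebra Λ T]
    {R : Art Λ k} (π : T →ₐ[Λ] R) (h : ∀ x ∈ 𝔪 R, ∃ s, x - π s ∈ (𝔪 R) ^ 2) : Function.Surjective π := by
  have hpow : ∀ j, ∀ x ∈ (𝔪 R) ^ j, ∃ s, x - π s ∈ (𝔪 R) ^ (j + 1) := by
    intro j
    induction j with
    | zero =>
      intro x _
      obtain ⟨l, hl⟩ := hk (R.res x)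
      refine ⟨algebraMap Λ T l, ?_⟩
      rw [AlgHom.commutes, zero_add, pow_one, R.mem_maximalIdeal_iff, map_sub, AlgHom.commutes, hl, sub_self]
    | succ j ih =>
      intro x hx
      rw [pow_succ] at hx
      induction hx using Submodule.mul_induction_on' with
      | mem_mul_mem a ha b hb =>
        obtain ⟨s, hs⟩ := ih a ha
        obtain ⟨s', hs'⟩ := h b hb
        refine ⟨s * s', ?_⟩
        have hsm : π s ∈ (𝔪 R) ^ j := by
          have := ((𝔪 R) ^ j).sub_mem ha (Ideal.pow_le_pow_right (Nat.le_succ j) hs)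
          simpa using this
        have h1 : (a - π s) * b ∈ (𝔪 R) ^ (j + 1 + 1) := by
          rw [pow_succ _ (j + 1)]; exact Ideal.mul_mem_mul hs hb
        have h2 : π s * (b - π s') ∈ (𝔪 R) ^ (j + 1 + 1) := by
          rw [show j + 1 + 1 = j + 2 from rfl, pow_add]; exact Ideal.mul_mem_mul hsm hs'
        convert ((𝔪 R) ^ (j + 1 + 1)).add_mem h1 h2 using 1
        rw [map_mul]; ring
      | add y _ z _ hy hz =>
        obtain ⟨s, hs⟩ := hy
        obtain ⟨s', hs'⟩ := hz
        exact ⟨s + s', by convert ((𝔪 R) ^ (j + 1 + 1)).add_mem hs hs' using 1; rw [map_add]; ring⟩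
  have hall : ∀ j, ∀ x : R, ∃ s, x - π s ∈ (𝔪 R) ^ j := by
    intro j
    induction j with
    | zero => exact fun x => ⟨0, by simp⟩
    | succ j ih =>
      intro x
      obtain ⟨s, hs⟩ := ih x
      obtain ⟨s', hs'⟩ := hpow j _ hs
      exact ⟨s + s', by rw [map_add, ← sub_sub]; exact hs'⟩
  intro x
  obtain ⟨N, hN⟩ := Groth.ArtfunDeform.exists_pow_maximalIdeal_eq_bot R
  obtain ⟨s, hs⟩ := hall (N + 1) x
  rw [hN, Ideal.mem_bot, sub_eq_zero] at hs
  exact ⟨s, hs.symm⟩

omit [Module.Finite Λ k] [IsNoetherianRing Λ] in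
theorem map_ker_eq (hk : Function.Surjective (algebraMap Λ k)) (c : Λ) :
    algebraMap Λ k c = 0 ↔ c ∈ 𝔪 Λ := by
  have hmax : (RingHom.ker (algebraMap Λ k)).IsMaximal := RingHom.ker_isMaximal_of_surjective (algebraMap Λ k) hk
  rw [← IsLocalRing.eq_maximalIdeal hmax, RingHom.mem_ker]

omit [Module.Finite Λ k] in
/-- A universal semismall cover with the same relative cotangent space. -/
theorem exists_cover (hk : Function.Surjective (algebraMap Λ k)) (R : Art Λ k) :
    ∃ (E : Art Λ k) (q : E ⟶ R), IsSemismallExt q ∧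
      (∀ x : E, x ∈ 𝔪 E → q x ∈ cot R → x ∈ cot E) ∧
      ∀ (R₁ : Art Λ k) (π₁ : R₁ ⟶ R), IsSemismallExt π₁ → ∃ f : E ⟶ R₁, f ≫ π₁ = q := by
  classical
  have hfg : (𝔪 R).FG := IsNoetherian.noetherian _
  have hex : ∃ n, ∃ r : Fin n → R, (∀ i, r i ∈ 𝔪 R) ∧ 𝔪 R ≤ Ideal.span (Set.range r) ⊔ cot R := by
    obtain ⟨n, r, hr⟩ := Submodule.fg_iff_exists_fin_generating_family.mp hfg
    exact ⟨n, r, fun i => hr ▸ Submodule.subset_span ⟨i, rfl⟩, le_sup_of_le_left (le_of_eq hr.symm)⟩
  obtain ⟨⟨r, hrm, hrgen⟩, hmin⟩ := And.intro (Nat.find_spec hex) (fun m (hm : m < Nat.find hex) => Nat.find_min hex hm)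
  generalize Nat.find hex = n at r hrm hrgen hmin
  let T := MvPolynomial (Fin n) Λ
  let π : T →ₐ[Λ] R := MvPolynomial.aeval r
  have hsurj : Function.Surjective π := by
    refine exists_algHom_surjective hk π fun x hx => ?_
    obtain ⟨y, hy, z, hz, rfl⟩ := Submodule.mem_sup.mp (hrgen hx)
    obtain ⟨y', hy'⟩ : ∃ s, y - π s ∈ (𝔪 R) ^ 2 := by
      obtain ⟨c, hc⟩ := (Submodule.mem_span_range_iff_exists_fun _).mp hy
      choose l hl using fun i => hk (R.res (c i))
      refine ⟨∑ i, MvPolynomial.C (l i) * MvPolynomial.X i, ?_⟩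
      rw [← hc, map_sum, ← Finset.sum_sub_distrib]
      refine Ideal.sum_mem _ fun i _ => ?_
      rw [map_mul, MvPolynomial.aeval_X, MvPolynomial.aeval_C, smul_eq_mul, ← sub_mul, pow_two]
      exact Ideal.mul_mem_mul ((R.mem_maximalIdeal_iff _).mpr (by rw [map_sub, AlgHom.commutes, hl, sub_self])) (hrm i)
    obtain ⟨z', hz'⟩ : ∃ s, z - π s ∈ (𝔪 R) ^ 2 := by
      obtain ⟨z₁, hz₁, z₂, hz₂, rfl⟩ := Submodule.mem_sup.mp hz
      obtain ⟨s, hs⟩ : ∃ s, z₂ - π s ∈ (𝔪 R) ^ 2 := by
        clear hz hx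
        induction hz₂ using Submodule.span_induction with
        | mem w hw =>
          obtain ⟨l, -, rfl⟩ := hw
          exact ⟨algebraMap Λ T l, by simp [π]⟩
        | zero => exact ⟨0, by simp⟩
        | add w w' _ _ hw hw' =>
          obtain ⟨s, hs⟩ := hw
          obtain ⟨s', hs'⟩ := hw'
          exact ⟨s + s', by convert ((𝔪 R) ^ 2).add_mem hs hs' using 1; rw [map_add]; ring⟩
        | smul c w hw hw' =>
          obtain ⟨s, hs⟩ := hw'
          obtain ⟨l, hl⟩ := hk (R.res c)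
          refine ⟨algebraMap Λ T l * s, ?_⟩
          have hwm : w ∈ 𝔪 R := by
            have hle : (𝔪 Λ).map (algebraMap Λ R) ≤ 𝔪 R := Ideal.map_le_iff_le_comap.mpr fun c hc => by
              rw [Ideal.mem_comap, R.mem_maximalIdeal_iff, AlgHom.commutes]
              exact (map_ker_eq hk c).mpr hc
            exact hle hw
          have h1 : (c - algebraMap Λ R l) * w ∈ (𝔪 R) ^ 2 := by
            rw [pow_two]
            exact Ideal.mul_mem_mul ((R.mem_maximalIdeal_iff _).mpr (by rw [map_sub, AlgHom.commutes, hl, sub_self])) hwm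
          convert ((𝔪 R) ^ 2).add_mem h1 (Ideal.mul_mem_left _ (algebraMap Λ R l) hs) using 1
          rw [map_mul, AlgHom.commutes, smul_eq_mul]; ring
      exact ⟨s, by convert ((𝔪 R) ^ 2).add_mem hz₁ hs using 1; ring⟩
    exact ⟨y' + z', by convert ((𝔪 R) ^ 2).add_mem hy' hz' using 1; rw [map_add]; ring⟩
  let M : Ideal T := RingHom.ker (R.res.comp π)
  have hMmax : M.IsMaximal :=
    RingHom.ker_isMaximal_of_surjective (R.res.comp π : T →+* k) (R.res_surjective.comp hsurj)
  have hπM : ∀ t ∈ M, π t ∈ 𝔪 R := fun t ht => (R.mem_maximalIdeal_iff _).mpr ht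
  let I : Ideal T := RingHom.ker π
  have hIM : I ≤ M := fun t ht => by
    show R.res (π t) = 0
    rw [show π t = 0 from ht, map_zero]
  let Q : Ideal T := M * I
  have hQM : Q ≤ M := Ideal.mul_le_left
  obtain ⟨N, hN⟩ := Groth.ArtfunDeform.exists_pow_maximalIdeal_eq_bot R
  have hMN : M ^ (N + 1 + 1) ≤ Q := by
    rw [pow_succ']
    refine Ideal.mul_mono_right fun t ht => ?_
    have hm1 : Ideal.map π M ≤ 𝔪 R := Ideal.map_le_iff_le_comap.mpr hπM
    have hm2 := Ideal.mem_map_of_mem π ht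
    rw [Ideal.map_pow] at hm2
    have hm3 := Ideal.pow_right_mono hm1 (N + 1) hm2
    rw [hN] at hm3
    exact hm3
  have hNN : (M.map (Ideal.Quotient.mk Q)) ^ (N + 1 + 1) = ⊥ := by
    rw [← Ideal.map_pow]
    exact eq_bot_iff.mpr ((Ideal.map_mono hMN).trans_eq (Ideal.map_quotient_self Q))
  haveI : Nontrivial (T ⧸ Q) := Ideal.Quotient.nontrivial_iff.mpr fun h => hMmax.ne_top (top_unique (h ▸ hQM))
  have hMmax' : (M.map (Ideal.Quotient.mk Q)).IsMaximal := by
    refine hMmax.map_of_surjective_of_ker_le Ideal.Quotient.mk_surjective ?_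
    rw [Ideal.mk_ker]; exact hQM
  have huniq : ∀ P : Ideal (T ⧸ Q), P.IsMaximal → P = M.map (Ideal.Quotient.mk Q) := fun P hP => by
    refine (hMmax'.eq_of_le hP.ne_top ?_).symm
    exact (hP.isPrime).le_of_pow_le (n := N + 1 + 1) (by rw [hNN]; exact bot_le)
  haveI : IsLocalRing (T ⧸ Q) := IsLocalRing.of_unique_max_ideal ⟨_, hMmax', huniq⟩
  haveI : IsArtinianRing (T ⧸ Q) := by
    rw [isArtinianRing_iff_isNoetherianRing_krullDimLE_zero]
    refine ⟨inferInstance, Ring.krullDimLE_zero_iff.mpr fun P hP => ?_⟩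
    have : P = M.map (Ideal.Quotient.mk Q) :=
      (hMmax'.eq_of_le hP.ne_top (hP.le_of_pow_le (n := N + 1 + 1) (by rw [hNN]; exact bot_le))).symm
    exact this ▸ hMmax'
  let πq : T ⧸ Q →ₐ[Λ] R := Ideal.Quotient.liftₐ Q π fun t ht => (Ideal.mul_le_right ht : t ∈ I)
  let E : Art Λ k := Art.of (T ⧸ Q) (R.res.comp πq) (fun c => by
    obtain ⟨y, hy⟩ := R.res_surjective c
    obtain ⟨t, rfl⟩ := hsurj y
    exact ⟨Ideal.Quotient.mk Q t, hy⟩)
  let q : E ⟶ R := homMk πq rfl
  have hqmk : ∀ t : T, q (Ideal.Quotient.mk Q t) = π t := fun t => rfl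
  have hEm : ∀ t : T, (Ideal.Quotient.mk Q t : E) ∈ 𝔪 E ↔ t ∈ M := fun t => by
    exact E.mem_maximalIdeal_iff (Ideal.Quotient.mk Q t)
  refine ⟨E, q, ⟨fun y => ?_, ?_⟩, ?_, ?_⟩
  · obtain ⟨t, rfl⟩ := hsurj y
    exact ⟨Ideal.Quotient.mk Q t, rfl⟩
  · rw [eq_bot_iff, Ideal.mul_le]
    intro x hx y hy
    obtain ⟨s, rfl⟩ := Ideal.Quotient.mk_surjective x
    obtain ⟨t, rfl⟩ := Ideal.Quotient.mk_surjective y
    rw [Ideal.mem_bot]
    show Ideal.Quotient.mk Q s * Ideal.Quotient.mk Q t = 0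
    rw [← map_mul, Ideal.Quotient.eq_zero_iff_mem]
    exact Ideal.mul_mem_mul ((hEm s).mp hx) hy
  · intro x hx hqx
    obtain ⟨t, rfl⟩ := Ideal.Quotient.mk_surjective x
    -- the linear part of `t`
    let c : Fin n → Λ := fun i => MvPolynomial.coeff (Finsupp.single i 1) t
    have hdec : ∀ t : T, t - MvPolynomial.C (MvPolynomial.constantCoeff t)
        - ∑ i, MvPolynomial.C (MvPolynomial.coeff (Finsupp.single i 1) t) * MvPolynomial.X i ∈
          (Ideal.span (Set.range (MvPolynomial.X : Fin n → T))) ^ 2 := by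
      intro t
      induction t using MvPolynomial.induction_on' with
      | monomial d a =>
        rcases Nat.lt_or_ge d.degree 2 with hd | hd
        · by_cases hd0 : d = 0
          · subst hd0
            simp [MvPolynomial.monomial_zero']
            simp [MvPolynomial.coeff_C, eq_comm (a := (0 : Fin n →₀ ℕ))]
          · obtain ⟨i, hi⟩ : ∃ i, d i ≠ 0 := not_forall.mp fun h => hd0 (Finsupp.ext h)
            obtain ⟨e, rfl⟩ := exists_add_of_le (Finsupp.single_le_iff.mpr (Nat.one_le_iff_ne_zero.mpr hi))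
            have he : e = 0 := by
              rw [← Finsupp.degree_eq_zero_iff]; simp at hd ⊢; omega
            subst he
            rw [add_zero]
            rw [Finset.sum_eq_single i (fun j _ hji => by
              rw [MvPolynomial.coeff_monomial, if_neg (by simp [Finsupp.single_left_inj, Ne.symm hji]), map_zero, zero_mul])
              (by simp)]
            rw [MvPolynomial.constantCoeff_monomial, if_neg (by simp), map_zero, sub_zero, MvPolynomial.coeff_monomial,
              if_pos rfl, MvPolynomial.C_mul_X_eq_monomial, sub_self]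
            exact zero_mem _
        · rw [Finset.sum_eq_zero fun j _ => by
            rw [MvPolynomial.coeff_monomial, if_neg (fun h => by subst h; simp at hd), map_zero, zero_mul]]
          rw [MvPolynomial.constantCoeff_monomial, if_neg (fun h => by subst h; simp at hd), map_zero, sub_zero, sub_zero]
          obtain ⟨i, hi⟩ : ∃ i, d i ≠ 0 := not_forall.mp fun h => by
            have : d = 0 := Finsupp.ext h
            subst this; simp at hd
          obtain ⟨e, rfl⟩ := exists_add_of_le (Finsupp.single_le_iff.mpr (Nat.one_le_iff_ne_zero.mpr hi))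
          obtain ⟨j, hj⟩ : ∃ j, e j ≠ 0 := not_forall.mp fun h => by
            have : e = 0 := Finsupp.ext h
            subst this; simp at hd
          obtain ⟨e', rfl⟩ := exists_add_of_le (Finsupp.single_le_iff.mpr (Nat.one_le_iff_ne_zero.mpr hj))
          rw [MvPolynomial.monomial_single_add, MvPolynomial.monomial_single_add, pow_one, pow_one, ← mul_assoc, pow_two]
          exact Ideal.mul_mem_right _ _ (Ideal.mul_mem_mul (Ideal.subset_span ⟨i, rfl⟩) (Ideal.subset_span ⟨j, rfl⟩))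
      | add p p' hp hp' =>
        convert Ideal.add_mem _ hp hp' using 1
        simp only [map_add, MvPolynomial.coeff_add, add_mul, Finset.sum_add_distrib]
        ring
    have htM : t ∈ M := (hEm t).mp hx
    have hXM : ∀ i, (MvPolynomial.X i : T) ∈ M := fun i => by
      show R.res (π (MvPolynomial.X i)) = 0
      rw [MvPolynomial.aeval_X, ← R.mem_maximalIdeal_iff]; exact hrm i
    have hX2 : (Ideal.span (Set.range (MvPolynomial.X : Fin n → T))) ^ 2 ≤ M ^ 2 :=
      Ideal.pow_right_mono (Ideal.span_le.mpr (by rintro _ ⟨i, rfl⟩; exact hXM i)) 2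
    have hc0 : MvPolynomial.constantCoeff t ∈ 𝔪 Λ := by
      rw [← map_ker_eq hk]
      have h1 : R.res (π (t - MvPolynomial.C (MvPolynomial.constantCoeff t)
          - ∑ i, MvPolynomial.C (c i) * MvPolynomial.X i)) = 0 := Ideal.pow_le_self two_ne_zero (hX2 (hdec t))
      rw [map_sub, map_sub, map_sub, map_sub, show R.res (π t) = 0 from htM, MvPolynomial.aeval_C, AlgHom.commutes,
        map_sum, map_sum, Finset.sum_eq_zero fun i _ => by
          rw [map_mul, map_mul, show R.res (π (MvPolynomial.X i)) = 0 from hXM i, mul_zero]] at h1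
      simpa using h1
    have hlin : (∑ i, algebraMap Λ R (c i) * r i) ∈ cot R := by
      have h1 : π (t - MvPolynomial.C (MvPolynomial.constantCoeff t) - ∑ i, MvPolynomial.C (c i) * MvPolynomial.X i)
          ∈ cot R := by
        refine Ideal.mem_sup_left ?_
        have := Ideal.mem_map_of_mem π (hX2 (hdec t))
        rw [Ideal.map_pow] at this
        exact Ideal.pow_right_mono (Ideal.map_le_iff_le_comap.mpr hπM) 2 this
      rw [map_sub, map_sub, MvPolynomial.aeval_C, map_sum] at h1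
      have hπC : ∀ i, π (MvPolynomial.C (c i) * MvPolynomial.X i) = algebraMap Λ R (c i) * r i := fun i => by
        rw [map_mul, MvPolynomial.aeval_C, MvPolynomial.aeval_X]
      rw [Finset.sum_congr rfl fun i _ => hπC i] at h1
      have h2 : algebraMap Λ R (MvPolynomial.constantCoeff t) ∈ cot R :=
        Ideal.mem_sup_right (Ideal.mem_map_of_mem _ hc0)
      have := (cot R).sub_mem ((cot R).sub_mem hqx h2) h1
      simpa [hqmk, π] using this
    have hcm : ∀ i, c i ∈ 𝔪 Λ := by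
      intro j
      by_contra hj
      obtain ⟨m, rfl⟩ : ∃ m, n = m + 1 := ⟨n - 1, by have := j.2; omega⟩
      refine hmin m (Nat.lt_succ_self m) ⟨r ∘ j.succAbove, fun i => hrm _, hrgen.trans (sup_le ?_ le_sup_right)⟩
      rw [Ideal.span_le]
      rintro _ ⟨i, rfl⟩
      by_cases hij : i = j
      · subst hij
        obtain ⟨u, hu⟩ := (IsLocalRing.notMem_maximalIdeal.mp hj).map (algebraMap Λ R)
        have h1 : algebraMap Λ R (c i) * r i + ∑ l : Fin m, algebraMap Λ R (c (i.succAbove l)) * r (i.succAbove l) ∈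
            Ideal.span (Set.range (r ∘ i.succAbove)) ⊔ cot R := by
          rw [← Fin.sum_univ_succAbove (fun l => algebraMap Λ R (c l) * r l) i]
          exact Ideal.mem_sup_right hlin
        have h2 : (∑ l : Fin m, algebraMap Λ R (c (i.succAbove l)) * r (i.succAbove l)) ∈
            Ideal.span (Set.range (r ∘ i.succAbove)) ⊔ cot R :=
          Ideal.mem_sup_left (Ideal.sum_mem _ fun l _ => Ideal.mul_mem_left _ _
            (Ideal.subset_span (s := Set.range (r ∘ i.succAbove)) (Set.mem_range_self l)))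
        replace h1 := Ideal.sub_mem _ h1 h2
        rw [add_sub_cancel_right, ← hu] at h1
        have := Ideal.mul_mem_left _ (↑u⁻¹ : R.carrier) h1
        simpa using this
      · obtain ⟨l, rfl⟩ := Fin.exists_succAbove_eq hij
        exact Ideal.mem_sup_left (Ideal.subset_span ⟨l, rfl⟩)
    have hsplit : Ideal.Quotient.mk Q t = Ideal.Quotient.mk Q (t - MvPolynomial.C (MvPolynomial.constantCoeff t)
          - ∑ i, MvPolynomial.C (c i) * MvPolynomial.X i)
        + (algebraMap Λ (T ⧸ Q) (MvPolynomial.constantCoeff t) + ∑ i, algebraMap Λ (T ⧸ Q) (c i) * Ideal.Quotient.mk Q (MvPolynomial.X i)) := by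
      have hq : ∀ l : Λ, algebraMap Λ (T ⧸ Q) l = Ideal.Quotient.mk Q (MvPolynomial.C l) := fun _ => rfl
      simp only [map_sub, map_sum, map_mul, hq]
      ring
    rw [hsplit]
    refine Ideal.add_mem _ (Ideal.mem_sup_left ?_) (Ideal.mem_sup_right (Ideal.add_mem _ (Ideal.mem_map_of_mem _ hc0)
      (Ideal.sum_mem _ fun i _ => Ideal.mul_mem_right _ _ (Ideal.mem_map_of_mem _ (hcm i)))))
    have h1 := Ideal.mem_map_of_mem (Ideal.Quotient.mk Q) (hX2 (hdec t))
    rw [Ideal.map_pow] at h1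
    refine Ideal.pow_right_mono (Ideal.map_le_iff_le_comap.mpr fun s hs => ?_) 2 h1
    exact (hEm s).mpr hs
  · rintro R₁ π₁ ⟨hs, hm⟩
    choose s hs' using fun i => hs (r i)
    let f₀ : T →ₐ[Λ] R₁ := MvPolynomial.aeval s
    have hf₀ : π₁.toAlgHom.comp f₀ = π := MvPolynomial.algHom_ext fun i => by
      simp only [AlgHom.comp_apply, f₀, π, MvPolynomial.aeval_X]
      exact hs' i
    have hQ0 : ∀ x ∈ Q, f₀ x = 0 := by
      intro x hx
      induction hx using Submodule.mul_induction_on' with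
      | mem_mul_mem a ha b hb =>
        have h1 : f₀ a ∈ 𝔪 R₁ := by
          rw [R₁.mem_maximalIdeal_iff, ← res_app π₁]
          exact (congrArg R.res (DFunLike.congr_fun hf₀ a)).trans ha
        have h2 : f₀ b ∈ RingHom.ker π₁.toAlgHom := (DFunLike.congr_fun hf₀ b).trans hb
        have := Ideal.mul_mem_mul h1 h2
        rw [hm, Ideal.mem_bot] at this
        rw [map_mul, this]
      | add y _ z _ hy hz => rw [map_add, hy, hz, add_zero]
    refine ⟨homMk (Ideal.Quotient.liftₐ Q f₀ hQ0) ?_, ?_⟩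
    · refine AlgHom.ext fun x => ?_
      obtain ⟨t, rfl⟩ := Ideal.Quotient.mk_surjective x
      show R₁.res (f₀ t) = R.res (π t)
      rw [← res_app π₁, ← hf₀]; rfl
    · refine Groth.ArtfunDeform.hom_ext_apply fun x => ?_
      obtain ⟨t, rfl⟩ := Ideal.Quotient.mk_surjective x
      exact DFunLike.congr_fun hf₀ t

theorem exists_versal_prolongation (hk : Function.Surjective (algebraMap Λ k))
    (F : Art Λ k ⥤ Type v) (hF : S1 F ∧ Heps F) (R : Art Λ k) (a : F.obj R)
    (hvers : ∀ (R₀ : Art Λ k), IsSmallExt (toBase R₀) → ∀ b : F.obj R₀, ∃ φ : R ⟶ R₀, F.map φ a = b) :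
    ∃ (R' : Art Λ k) (q : R' ⟶ R) (a' : F.obj R'), F.map q a' = a ∧ IsSemismallExt q ∧
      (∀ x' : R', x' ∈ 𝔪 R' → q x' ∈ cot R → x' ∈ cot R') ∧
      ∀ (R₁ : Art Λ k) (π₁ : R₁ ⟶ R), IsSmallExt π₁ →
        ∀ a₁ : F.obj R₁, F.map π₁ a₁ = a → ∃ f : R' ⟶ R₁, f ≫ π₁ = q ∧ F.map f a' = a₁ := by
  classical
  obtain ⟨E, q, ⟨hqs, hqm⟩, hcot, hlift⟩ := exists_cover hk R
  set I := RingHom.ker q.toAlgHom with hI
  have hIm : I ≤ 𝔪 E := Groth.ArtfunDeform.ker_le_maximalIdeal q
  let P : Ideal E → Prop := fun K => ∃ (h : K ≤ I) (b : F.obj (Art.quot E K (h.trans hIm))),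
    F.map (quotFactor (h.trans hIm) q h) b = a
  have hPI : P I := by
    have hb : Function.Bijective (quotFactor hIm q le_rfl) :=
      ⟨Groth.ArtfunDeform.quotFactor_injective _ _ _ le_rfl, Groth.ArtfunDeform.quotFactor_surjective _ _ _ hqs⟩
    have := Groth.ArtfunDeform.isIso_of_bijective _ hb
    refine ⟨le_rfl, F.map (inv (quotFactor hIm q le_rfl)) a, ?_⟩
    rw [← Functor.map_comp_apply, IsIso.inv_hom_id]; simp
  obtain ⟨K₀, hK₀, hmin⟩ := (wellFounded_lt : WellFounded ((· < ·) : Ideal E → Ideal E → Prop)).has_min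
    {K | P K} ⟨I, hPI⟩
  have hmono : ∀ K K' : Ideal E, P K → K ≤ K' → K' ≤ I → P K' := by
    rintro K K' ⟨hK, b, hb⟩ hKK' hK'
    refine ⟨hK', F.map (Groth.ArtfunDeform.quotLE (hK.trans hIm) (hK'.trans hIm) hKK') b, ?_⟩
    rw [← Functor.map_comp_apply]
    convert hb using 3
    refine Groth.ArtfunDeform.hom_ext_apply fun x => ?_
    obtain ⟨t, rfl⟩ := Ideal.Quotient.mk_surjective x
    rfl
  have hinter : ∀ K K' : Ideal E, P K → P K' → P (K ⊓ K') := by
    intro K K' hK hK'
    have hKI : K ≤ I := hK.1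
    obtain ⟨L, ⟨hL1, hL2, hL3⟩, hLmax⟩ := set_has_maximal_iff_noetherian.mpr (inferInstanceAs (IsNoetherian E E))
      {L : Ideal E | K' ≤ L ∧ L ≤ I ∧ K ⊓ L ≤ K ⊓ K'} ⟨K', le_rfl, hK'.1, le_rfl⟩
    have hsup : I ≤ K ⊔ L := by
      intro x hx
      by_contra hxn
      refine hLmax (L ⊔ Ideal.span {x}) ⟨le_sup_of_le_left hL1, sup_le hL2 (by
        rw [Ideal.span_le]; exact Set.singleton_subset_iff.mpr hx), fun y hy => hL3 ?_⟩
        (lt_of_le_of_ne le_sup_left fun e => hxn (Submodule.mem_sup_right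
          (e ▸ Ideal.mem_sup_right (Ideal.subset_span rfl))))
      obtain ⟨hyK, hyL⟩ := Submodule.mem_inf.mp hy
      obtain ⟨z, hz, w, hw, rfl⟩ := Submodule.mem_sup.mp hyL
      obtain ⟨c, rfl⟩ := Ideal.mem_span_singleton'.mp hw
      by_cases hc : c ∈ 𝔪 E
      · have : c * x = 0 := by
          have := Ideal.mul_mem_mul hc hx
          rw [hI, hqm] at this
          exact this
        rw [this, add_zero] at hyK ⊢
        exact ⟨hyK, hz⟩
      · exfalso
        apply hxn
        obtain ⟨u, rfl⟩ := IsLocalRing.notMem_maximalIdeal.mp hc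
        have : x = (↑u⁻¹ : E.carrier) * (z + ↑u * x) - (↑u⁻¹ : E.carrier) * z := by
          rw [← mul_sub, add_sub_cancel_left, ← mul_assoc, Units.inv_mul, one_mul]
        rw [this]
        exact Ideal.sub_mem _ (Ideal.mem_sup_left (Ideal.mul_mem_left _ _ hyK))
          (Ideal.mem_sup_right (Ideal.mul_mem_left _ _ hz))
    obtain ⟨hK1, b, hb⟩ := hK
    obtain ⟨hL', b', hb'⟩ := hmono K' L hK' hL1 hL2
    have hle : K ⊓ L ≤ I := inf_le_left.trans hKI
    have hsq : IsFibreProd (Groth.ArtfunDeform.quotLE (hle.trans hIm) (hK1.trans hIm) inf_le_left)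
        (Groth.ArtfunDeform.quotLE (hle.trans hIm) (hL'.trans hIm) inf_le_right)
        (quotFactor (hK1.trans hIm) q hK1) (quotFactor (hL'.trans hIm) q hL') := by
      refine ⟨?_, ?_, ?_⟩
      · refine Groth.ArtfunDeform.hom_ext_apply fun x => ?_
        obtain ⟨t, rfl⟩ := Ideal.Quotient.mk_surjective x
        rfl
      · intro x y hx hy
        obtain ⟨s, rfl⟩ := Ideal.Quotient.mk_surjective x
        obtain ⟨t, rfl⟩ := Ideal.Quotient.mk_surjective y
        exact Ideal.Quotient.eq.mpr ⟨Ideal.Quotient.eq.mp hx, Ideal.Quotient.eq.mp hy⟩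
      · intro x y hxy
        obtain ⟨s, rfl⟩ := Ideal.Quotient.mk_surjective x
        obtain ⟨t, rfl⟩ := Ideal.Quotient.mk_surjective y
        have hst : s - t ∈ I := by
          show q.toAlgHom (s - t) = 0
          rw [map_sub, sub_eq_zero]
          exact hxy
        obtain ⟨u, hu, w, hw, huw⟩ := Submodule.mem_sup.mp (hsup hst)
        refine ⟨Ideal.Quotient.mk _ (s - u), Ideal.Quotient.eq.mpr ?_, Ideal.Quotient.eq.mpr ?_⟩
        · rw [sub_sub_cancel_left]; exact K.neg_mem hu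
        · have : s - u - t = w := by linear_combination -huw
          rw [this]; exact hw
    obtain ⟨η, hη⟩ := hF.1 _ _ _ _ hsq (Groth.ArtfunDeform.quotFactor_surjective _ _ _ hqs)
      ⟨(b, b'), by rw [hb, hb']⟩
    refine hmono (K ⊓ L) _ ⟨hle, η, ?_⟩ hL3 (inf_le_left.trans hKI)
    have h1 : F.map (Groth.ArtfunDeform.quotLE (hle.trans hIm) (hK1.trans hIm) inf_le_left) η = b :=
      congrArg (fun z => z.1.1) hη
    rw [← h1, ← Functor.map_comp_apply] at hb
    convert hb using 3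
    refine Groth.ArtfunDeform.hom_ext_apply fun x => ?_
    obtain ⟨t, rfl⟩ := Ideal.Quotient.mk_surjective x
    rfl
  have hleast : ∀ K, P K → K₀ ≤ K := fun K hK => by
    by_contra h
    exact hmin _ (hinter _ _ hK₀ hK) (inf_lt_left.mpr h)
  obtain ⟨hK₀I, a', ha'⟩ := hK₀
  let p := quotFactor (hK₀I.trans hIm) q hK₀I
  refine ⟨_, p, a', ha', ⟨Groth.ArtfunDeform.quotFactor_surjective _ _ _ hqs, ?_⟩, ?_, ?_⟩
  · rw [eq_bot_iff, Ideal.mul_le]
    intro x hx y hy
    obtain ⟨s, rfl⟩ := Ideal.Quotient.mk_surjective x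
    obtain ⟨t, rfl⟩ := Ideal.Quotient.mk_surjective y
    have hs : s ∈ 𝔪 E := (E.mem_maximalIdeal_iff s).mpr (((Art.quot E K₀ _).mem_maximalIdeal_iff _).mp hx)
    have h0 : s * t = 0 := by
      have := Ideal.mul_mem_mul hs (show t ∈ I from hy)
      rw [hI, hqm] at this
      exact this
    rw [Ideal.mem_bot]
    show Ideal.Quotient.mk K₀ s * Ideal.Quotient.mk K₀ t = 0
    rw [← map_mul, h0, map_zero]
  · intro x hx hqx
    obtain ⟨s, rfl⟩ := Ideal.Quotient.mk_surjective x
    have hs : s ∈ 𝔪 E := (E.mem_maximalIdeal_iff s).mpr (((Art.quot E K₀ _).mem_maximalIdeal_iff _).mp hx)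
    obtain ⟨u, hu, w, hw, huw⟩ := Submodule.mem_sup.mp (hcot s hs hqx)
    rw [← huw, map_add]
    refine Submodule.add_mem_sup ?_ ?_
    · have := Ideal.mem_map_of_mem (quotMk E K₀ (hK₀I.trans hIm)).toAlgHom hu
      rw [Ideal.map_pow] at this
      exact Ideal.pow_right_mono (Groth.ArtfunDeform.map_maximalIdeal_le _) 2 this
    · have := Ideal.mem_map_of_mem (quotMk E K₀ (hK₀I.trans hIm)).toAlgHom hw
      refine ((Ideal.map_le_iff_le_comap.mpr ?_ :
        Ideal.map (quotMk E K₀ (hK₀I.trans hIm)).toAlgHom ((𝔪 Λ).map (algebraMap Λ E)) ≤ _) this)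
      refine Ideal.map_le_iff_le_comap.mpr fun l hl => ?_
      rw [Ideal.mem_comap, Ideal.mem_comap, AlgHom.commutes]
      exact Ideal.mem_map_of_mem _ hl
  · intro R₁ π₁ hπ a₁ ha₁
    obtain ⟨f, hf⟩ := hlift R₁ π₁ hπ.isSemismallExt
    have hfq : ∀ x, π₁ (f x) = q x := fun x => congrArg (fun g : E ⟶ R => g x) hf
    have hK₀f : K₀ ≤ RingHom.ker f.toAlgHom := by
      by_cases hsub : I ≤ RingHom.ker f.toAlgHom
      · exact hK₀I.trans hsub
      obtain ⟨x₀, hx₀I, hx₀⟩ := SetLike.not_le_iff_exists.mp hsub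
      obtain ⟨hs, -, ⟨⟨t, ht⟩⟩, hm⟩ := hπ
      have hmem : ∀ y, π₁ y = 0 → ∃ c, c * t = y := fun y hy => by
        have : y ∈ RingHom.ker π₁.toAlgHom := hy
        rw [ht] at this
        exact Ideal.mem_span_singleton'.mp this
      have htm : ∀ m ∈ 𝔪 R₁, m * t = 0 := fun m hm' => by
        have : m * t ∈ 𝔪 R₁ * RingHom.ker π₁.toAlgHom :=
          Ideal.mul_mem_mul hm' (ht ▸ Ideal.mem_span_singleton_self t)
        rwa [hm, Ideal.mem_bot] at this
      obtain ⟨c, hc⟩ := hmem (f x₀) ((hfq x₀).trans hx₀I)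
      have hcu : IsUnit c := (IsLocalRing.notMem_maximalIdeal).mp fun hcm => hx₀ (show f x₀ = 0 by
        rw [← hc, htm c hcm])
      obtain ⟨u, rfl⟩ := hcu
      have hfs : Function.Surjective f := fun y => by
        obtain ⟨x, hx⟩ := hqs (π₁ y)
        obtain ⟨d, hd⟩ := hmem (y - f x) (by rw [map_sub, hfq, hx, sub_self])
        obtain ⟨β, hβ⟩ := E.res_surjective (R₁.res (d * ↑u⁻¹))
        refine ⟨x + β * x₀, ?_⟩
        have h1 : (f β - d * ↑u⁻¹) * t = 0 := htm _ ((R₁.mem_maximalIdeal_iff _).mpr (by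
          rw [map_sub, res_app, hβ, sub_self]))
        rw [map_add, map_mul, ← hc]
        have h2 : (↑u⁻¹ : R₁.carrier) * ↑u = 1 := Units.inv_mul u
        linear_combination (↑u : R₁.carrier) * h1 + hd + d * t * h2
      have hJI : RingHom.ker f.toAlgHom ≤ I := fun x hx => by
        show q x = 0
        rw [← hfq, show f x = 0 from hx, map_zero]
      refine hleast _ ⟨hJI, ?_⟩
      let φ := quotFactor (hJI.trans hIm) f le_rfl
      have hb : Function.Bijective φ :=
        ⟨Groth.ArtfunDeform.quotFactor_injective _ _ _ le_rfl, Groth.ArtfunDeform.quotFactor_surjective _ _ _ hfs⟩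
      have := Groth.ArtfunDeform.isIso_of_bijective _ hb
      refine ⟨F.map (inv φ) a₁, ?_⟩
      have e : quotFactor (hJI.trans hIm) q hJI = φ ≫ π₁ := by
        refine Groth.ArtfunDeform.hom_ext_apply fun x => ?_
        obtain ⟨t, rfl⟩ := Ideal.Quotient.mk_surjective x
        exact (hfq t).symm
      rw [e, ← Functor.map_comp_apply, IsIso.inv_hom_id_assoc, ha₁]
    refine versal_lift F hF π₁ hπ p a a₁ a' ha₁ ha' hvers ⟨quotFactor _ f hK₀f, ?_⟩
    refine Groth.ArtfunDeform.hom_ext_apply fun x => ?_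
    obtain ⟨t, rfl⟩ := Ideal.Quotient.mk_surjective x
    exact hfq t

end Groth.SGA7.Deform
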