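import Groth.Agent.SGA7.UnitProduct
import Groth.Agent.GrpschAbsch.GaGm
import Groth.Agent.AlgGrp1.Points
import Mathlib.AlgebraicGeometry.Geometrically.Connected

/-! A unit on a product of geometrically connected schemes which is trivial on the axes is trivial. -/

open CategoryTheory CategoryTheory.Limits MonoidalCategory CartesianMonoidalCategory MonObj AlgebraicGeometry
open Topology TensorProduct Groth.AlgGrp1

namespace Groth.SGA7.UnitOnProduct

universe u

variable {k : Type u} [Field k] {K : Type u} [Field K] [Algebra k K]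

/-- A function on a Noetherian connected scheme which is invariant under specialization is constant. -/
theorem const_of_specializes {W : Scheme.{u}} [TopologicalSpace.NoetherianSpace W] [ConnectedSpace W] {α : Type*} (v : W → α)
    (hv : ∀ x y : W, x ⤳ y → v x = v y) (x y : W) : v x = v y := by
  classical
  have key : ∀ s : Set α, IsClosed (v ⁻¹' s) := fun s => by
    have hfin : {Z ∈ irreducibleComponents W | Z ⊆ v ⁻¹' s}.Finite :=
      TopologicalSpace.NoetherianSpace.finite_irreducibleComponents.subset (Set.sep_subset _ _)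
    have e : v ⁻¹' s = ⋃ Z ∈ {Z ∈ irreducibleComponents W | Z ⊆ v ⁻¹' s}, Z := by
      refine Set.Subset.antisymm (fun z hz => ?_) (Set.iUnion₂_subset fun Z hZ => hZ.2)
      have hg := (isIrreducible_irreducibleComponent (x := z)).isGenericPoint_genericPoint
        isClosed_irreducibleComponent
      refine Set.mem_biUnion ⟨irreducibleComponent_mem_irreducibleComponents z, fun t ht => ?_⟩ mem_irreducibleComponent
      show v t ∈ s
      rw [← hv _ _ (hg.specializes ht), hv _ _ (hg.specializes mem_irreducibleComponent)]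
      exact hz
    rw [e]
    exact hfin.isClosed_biUnion fun Z hZ => isClosed_of_mem_irreducibleComponents Z hZ.1
  have ho : IsClopen (v ⁻¹' {v x}) := ⟨key _, by simpa [Set.preimage_compl] using (key {v x}ᶜ).isOpen_compl⟩
  have hu := ho.eq_univ ⟨x, rfl⟩
  exact ((Set.eq_univ_iff_forall.mp hu) y).symm

/-- The structure map of `Spec K` over `k`. -/
noncomputable abbrev sK (k K : Type u) [Field k] [Field K] [Algebra k K] :
    Spec (CommRingCat.of K) ⟶ Spec (CommRingCat.of k) :=
  Spec.map (CommRingCat.ofHom (algebraMap k K))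

/-- `Spec` of a `K`-algebra over `k`. -/
noncomputable def specR (k K : Type u) [Field k] [Field K] [Algebra k K] (R : Type u) [CommRing R] [Algebra K R] :
    Over (Spec (CommRingCat.of k)) :=
  Over.mk (Spec.map (CommRingCat.ofHom (algebraMap K R)) ≫ sK k K)

/-- The point of `specR` given by a `K`-algebra map. -/
noncomputable def pt {R : Type u} [CommRing R] [Algebra K R] (φ : R →ₐ[K] K) : specAlg k K ⟶ specR k K R :=
  Over.homMk (Spec.map (CommRingCat.ofHom φ.toRingHom)) (by
    show Spec.map _ ≫ Spec.map _ ≫ sK k K = sK k K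
    have e : CommRingCat.ofHom (algebraMap K R) ≫ CommRingCat.ofHom φ.toRingHom = 𝟙 (CommRingCat.of K) := by
      ext c; exact φ.commutes c
    rw [← Spec.map_comp_assoc, e, Spec.map_id, Category.id_comp])

/-- Functoriality of `specR`. -/
noncomputable def mapR {R R' : Type u} [CommRing R] [Algebra K R] [CommRing R'] [Algebra K R'] (f : R →ₐ[K] R') :
    specR k K R' ⟶ specR k K R :=
  Over.homMk (Spec.map (CommRingCat.ofHom f.toRingHom)) (by
    show Spec.map _ ≫ Spec.map _ ≫ sK k K = Spec.map _ ≫ sK k K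
    have e : CommRingCat.ofHom (algebraMap K R) ≫ CommRingCat.ofHom f.toRingHom =
        CommRingCat.ofHom (algebraMap K R') := by
      ext c; exact f.commutes c
    rw [← Spec.map_comp_assoc, e])

theorem pt_mapR {R R' : Type u} [CommRing R] [Algebra K R] [CommRing R'] [Algebra K R'] (f : R →ₐ[K] R')
    (φ : R' →ₐ[K] K) : pt (k := k) φ ≫ mapR f = pt (φ.comp f) := by
  apply Over.OverMorphism.ext
  show Spec.map _ ≫ Spec.map _ = Spec.map _
  rw [← Spec.map_comp]
  rfl

variable [IsAlgClosed K]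

/-- A function on `K`-points of a geometrically connected scheme that is constant on integral affine pieces
is constant. -/
theorem const_of_pieces (X : Over (Spec (CommRingCat.of k))) [LocallyOfFiniteType X.hom] [QuasiCompact X.hom]
    [hX : GeometricallyConnected X.hom] {α : Type*} (r : (specAlg k K ⟶ X) → α)
    (h : ∀ (R : Type u) [CommRing R] [IsDomain R] [Algebra K R] (p : specR k K R ⟶ X) (φ φ' : R →ₐ[K] K),
      r (pt φ ≫ p) = r (pt φ' ≫ p))
    (a a' : specAlg k K ⟶ X) : r a = r a' := by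
  classical
  let W := pullback X.hom (sK k K)
  let g : W ⟶ Spec (CommRingCat.of K) := pullback.snd _ _
  have : LocallyOfFiniteType g := MorphismProperty.pullback_snd _ _ inferInstance
  have : QuasiCompact g := MorphismProperty.pullback_snd _ _ inferInstance
  have : IsLocallyNoetherian W := LocallyOfFiniteType.isLocallyNoetherian g
  have : CompactSpace W := QuasiCompact.compactSpace_of_compactSpace g
  have : IsNoetherian W := ⟨⟩
  have : JacobsonSpace W := LocallyOfFiniteType.jacobsonSpace g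
  have : ConnectedSpace W := hX.geometrically_connectedSpace (sK k K) _ _ (IsPullback.of_hasPullback _ _)
  let toPt : {σ : Spec (CommRingCat.of K) ⟶ W // σ ≫ g = 𝟙 _} → (specAlg k K ⟶ X) := fun σ =>
    Over.homMk (σ.1 ≫ pullback.fst X.hom (sK k K)) (by
      show (σ.1 ≫ pullback.fst _ _) ≫ X.hom = sK k K
      rw [Category.assoc, pullback.condition, ← Category.assoc]
      exact (congrArg (· ≫ sK k K) σ.2).trans (Category.id_comp _))
  let rc : closedPoints W → α := fun z => r (toPt ((pointEquivClosedPoint g).symm z))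
  have hab : ∀ b : specAlg k K ⟶ X, ∃ z, rc z = r b := fun b => by
    have hw : b.left ≫ X.hom = 𝟙 _ ≫ sK k K := (Over.w b).trans (Category.id_comp _).symm
    refine ⟨pointEquivClosedPoint g ⟨pullback.lift b.left (𝟙 _) hw, pullback.lift_snd _ _ _⟩, ?_⟩
    show r (toPt _) = r b
    rw [Equiv.symm_apply_apply]
    exact congrArg r (Over.OverMorphism.ext (pullback.lift_fst _ _ _))
  have hV : ∀ (V : W.Opens) (_ : IsAffineOpen V) (w : W) (z z' : closedPoints W),
      z.1 ∈ V → z'.1 ∈ V → w ⤳ z.1 → w ⤳ z'.1 → rc z = rc z' := by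
    intro V hV w z z' hz hz' hwz hwz'
    have hwV : w ∈ V := hwz.mem_open V.2 hz
    let q := hV.primeIdealOf ⟨w, hwV⟩
    let A := Γ(W, V)
    let R : Type u := A ⧸ q.asIdeal
    let π : CommRingCat.of A ⟶ CommRingCat.of R := CommRingCat.ofHom (Ideal.Quotient.mk q.asIdeal)
    let p : Spec (CommRingCat.of R) ⟶ W := Spec.map π ≫ hV.fromSpec
    let hK : CommRingCat.of K ⟶ CommRingCat.of R := Spec.preimage (p ≫ g)
    let : Algebra K R := hK.hom.toAlgebra
    have hp : Spec.map (CommRingCat.ofHom (algebraMap K R)) = p ≫ g := by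
      rw [show CommRingCat.ofHom (algebraMap K R) = hK from rfl, Spec.map_preimage]
    let pX : specR k K R ⟶ X := Over.homMk (p ≫ pullback.fst X.hom (sK k K)) (by
      show (p ≫ pullback.fst _ _) ≫ X.hom = Spec.map _ ≫ sK k K
      rw [hp]
      simp only [p, g, Category.assoc, pullback.condition])
    have hinj : Function.Injective p.base := by
      intro s t hst
      have h1 : (Spec.map π).base s = (Spec.map π).base t := hV.fromSpec.injective hst
      exact PrimeSpectrum.comap_injective_of_surjective _ Ideal.Quotient.mk_surjective h1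
    have key : ∀ y : closedPoints W, y.1 ∈ V → w ⤳ y.1 → ∃ φ : R →ₐ[K] K, rc y = r (pt φ ≫ pX) := by
      intro y hy hwy
      let qy := hV.primeIdealOf ⟨y.1, hy⟩
      have hq : q ⤳ qy := by
        refine (hV.fromSpec.isOpenEmbedding.isInducing.specializes_iff (x := q) (y := qy)).mp ?_
        show hV.fromSpec q ⤳ hV.fromSpec qy
        rw [hV.fromSpec_primeIdealOf, hV.fromSpec_primeIdealOf]
        exact hwy
      have hmem : qy ∈ Set.range (Spec.map π).base := by
        have := range_comap_of_surjective _ _ (Ideal.Quotient.mk_surjective (I := q.asIdeal))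
        rw [Ideal.mk_ker] at this
        exact this.symm ▸ (PrimeSpectrum.le_iff_specializes _ _).mpr hq
      obtain ⟨s, hs⟩ := hmem
      have hps : p.base s = y.1 := by
        show hV.fromSpec.base ((Spec.map π).base s) = y.1
        rw [hs]
        exact hV.fromSpec_primeIdealOf _
      have hsc : IsClosed ({s} : Set (Spec (CommRingCat.of R))) := by
        have : ({s} : Set (Spec (CommRingCat.of R))) = p.base ⁻¹' {y.1} := by
          ext t
          exact ⟨fun ht => by rw [ht]; exact hps, fun ht => hinj (Eq.trans ht hps.symm)⟩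
        rw [this]
        exact IsClosed.preimage p.continuous y.2
      have : LocallyOfFiniteType (p ≫ g) := inferInstance
      let σ := pointOfClosedPoint (p ≫ g) s hsc
      have hσ : σ ≫ p ≫ g = 𝟙 _ := pointOfClosedPoint_comp (p ≫ g) s hsc
      let φ0 : CommRingCat.of R ⟶ CommRingCat.of K := Spec.preimage σ
      have hφ : CommRingCat.ofHom (algebraMap K R) ≫ φ0 = 𝟙 _ := by
        apply Spec.map_injective
        rw [Spec.map_comp, Spec.map_id, hp, Spec.map_preimage]
        exact hσ
      let φ : R →ₐ[K] K :=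
        { φ0.hom with commutes' := fun c => congr($hφ c) }
      refine ⟨φ, congrArg r (Over.OverMorphism.ext ?_)⟩
      show _ ≫ pullback.fst _ _ = Spec.map φ0 ≫ p ≫ pullback.fst _ _
      rw [Spec.map_preimage, ← Category.assoc σ]
      congr 1
      refine ext_of_apply_closedPoint_eq g ((pointEquivClosedPoint g).symm y).2
        (by rw [Category.assoc]; exact hσ) ?_
      show ((pointEquivClosedPoint g) ((pointEquivClosedPoint g).symm y)).1 = p.base (σ.base _)
      rw [Equiv.apply_symm_apply, pointOfClosedPoint_apply, hps]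
    obtain ⟨φ, hφ⟩ := key z hz hwz
    obtain ⟨φ', hφ'⟩ := key z' hz' hwz'
    rw [hφ, hφ']
    exact h R pX φ φ'
  have hW : ∀ (w : W) (z z' : closedPoints W), w ⤳ z.1 → w ⤳ z'.1 → rc z = rc z' := by
    intro w z z' hz hz'
    obtain ⟨V, hVa, hzV, -⟩ := exists_isAffineOpen_mem_and_subset (U := ⊤) (TopologicalSpace.Opens.mem_top z.1)
    obtain ⟨V', hVa', hzV', -⟩ := exists_isAffineOpen_mem_and_subset (U := ⊤) (TopologicalSpace.Opens.mem_top z'.1)
    obtain ⟨y, ⟨⟨hyV, hyV'⟩, hyw⟩, hyc⟩ := nonempty_inter_closedPoints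
      (Z := ((V : Set W) ∩ V') ∩ closure {w})
      ⟨w, ⟨hz.mem_open V.2 hzV, hz'.mem_open V'.2 hzV'⟩, subset_closure rfl⟩
      ((V.2.inter V'.2).isLocallyClosed.inter isClosed_closure.isLocallyClosed)
    have hwy : w ⤳ y := specializes_iff_mem_closure.mpr hyw
    exact (hV V hVa w z ⟨y, hyc⟩ hzV hyV hz hwy).trans (hV V' hVa' w ⟨y, hyc⟩ z' hyV' hzV' hwy hz')
  have hex : ∀ w : W, ∃ z : closedPoints W, w ⤳ z.1 := fun w => by
    obtain ⟨y, hyw, hyc⟩ := nonempty_inter_closedPoints (Z := closure {w})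
      ⟨w, subset_closure rfl⟩ isClosed_closure.isLocallyClosed
    exact ⟨⟨y, hyc⟩, specializes_iff_mem_closure.mpr hyw⟩
  choose z hz using hex
  have hconst : ∀ y y' : closedPoints W, rc y = rc y' := fun y y' => by
    rw [hW y.1 y (z y.1) specializes_rfl (hz _), hW y'.1 y' (z y'.1) specializes_rfl (hz _)]
    exact const_of_specializes (fun w => rc (z w))
      (fun w w' hww' => hW w _ _ (hz w) (hww'.trans (hz w'))) y.1 y'.1
  obtain ⟨y, hy⟩ := hab a
  obtain ⟨y', hy'⟩ := hab a'
  rw [← hy, ← hy']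
  exact hconst y y'

/-- The value of a point of the multiplicative group over a `K`-algebra. -/
noncomputable def val {R : Type u} [CommRing R] [Algebra K R] (x : specR k K R ⟶ Red.Gm (Spec (CommRingCat.of k))) : R :=
  (Scheme.ΓSpecIso (CommRingCat.of R)).hom (Red.gmFn x)

/-- The value at a pair of points. -/
noncomputable def pairVal {X Y : Over (Spec (CommRingCat.of k))} (u : X ⊗ Y ⟶ Red.Gm (Spec (CommRingCat.of k)))
    (a : specAlg k K ⟶ X) (b : specAlg k K ⟶ Y) : K :=
  (Scheme.ΓSpecIso (CommRingCat.of K)).hom (Red.gmFn (lift a b ≫ u))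

theorem pairVal_pieces {X Y : Over (Spec (CommRingCat.of k))} (u : X ⊗ Y ⟶ Red.Gm (Spec (CommRingCat.of k)))
    {R A : Type u} [CommRing R] [IsDomain R] [Algebra K R] [CommRing A] [IsDomain A] [Algebra K A]
    (p : specR k K R ⟶ X) (p' : specR k K A ⟶ Y) (φ φ' : R →ₐ[K] K) (ψ ψ' : A →ₐ[K] K) :
    pairVal u (pt φ ≫ p) (pt ψ ≫ p') * pairVal u (pt φ' ≫ p) (pt ψ' ≫ p') =
      pairVal u (pt φ ≫ p) (pt ψ' ≫ p') * pairVal u (pt φ' ≫ p) (pt ψ ≫ p') := by
  let q : specR k K (R ⊗[K] A) ⟶ X ⊗ Y :=
    lift (mapR Algebra.TensorProduct.includeLeft ≫ p) (mapR Algebra.TensorProduct.includeRight ≫ p')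
  have hu : IsUnit (val (q ≫ u)) :=
    IsUnit.map (Scheme.ΓSpecIso (CommRingCat.of (R ⊗[K] A))).hom.hom (Groth.GrpschAbsch.isUnit_gmFn (q ≫ u))
  have key : ∀ (φ : R →ₐ[K] K) (ψ : A →ₐ[K] K), pairVal u (pt φ ≫ p) (pt ψ ≫ p') =
      Algebra.TensorProduct.productMap φ ψ (val (q ≫ u)) := fun φ ψ => by
    have e : lift (pt (k := k) φ ≫ p) (pt ψ ≫ p') = pt (Algebra.TensorProduct.productMap φ ψ) ≫ q := by
      rw [comp_lift, ← Category.assoc, ← Category.assoc, pt_mapR, pt_mapR,
        Algebra.TensorProduct.productMap_left, Algebra.TensorProduct.productMap_right]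
    rw [pairVal, e, Category.assoc, Groth.GrpschAbsch.gmFn_comp]
    exact congr($(Scheme.ΓSpecIso_naturality
      (CommRingCat.ofHom (Algebra.TensorProduct.productMap φ ψ).toRingHom)) (Red.gmFn (q ≫ u)))
  obtain ⟨w, hw⟩ := hu
  rw [key, key, key, key, ← hw]
  exact UnitProduct.cross_relation w φ φ' ψ ψ'

theorem unit_eq_one (X Y : Over (Spec (CommRingCat.of k)))
    [LocallyOfFiniteType X.hom] [QuasiCompact X.hom] [GeometricallyReduced X.hom] [GeometricallyConnected X.hom]
    [LocallyOfFiniteType Y.hom] [QuasiCompact Y.hom] [GeometricallyReduced Y.hom] [GeometricallyConnected Y.hom]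
    (eX : 𝟙_ (Over (Spec (CommRingCat.of k))) ⟶ X) (eY : 𝟙_ (Over (Spec (CommRingCat.of k))) ⟶ Y)
    (u : X ⊗ Y ⟶ Red.Gm (Spec (CommRingCat.of k)))
    (huX : lift (𝟙 X) (toUnit X ≫ eY) ≫ u = 1) (huY : lift (toUnit Y ≫ eX) (𝟙 Y) ≫ u = 1) :
    u = 1 := by
  let K := AlgebraicClosure k
  let a₀ : specAlg k K ⟶ X := toUnit _ ≫ eX
  let b₀ : specAlg k K ⟶ Y := toUnit _ ≫ eY
  have hne : ∀ a b, pairVal u a b ≠ (0 : K) := fun a b =>
    ((Groth.GrpschAbsch.isUnit_gmFn (lift a b ≫ u)).map (Scheme.ΓSpecIso (CommRingCat.of K)).hom.hom).ne_zero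
  have h0 : ∀ a, pairVal u a b₀ = (1 : K) := fun a => by
    have : lift a b₀ = a ≫ lift (𝟙 X) (toUnit X ≫ eY) := by
      rw [comp_lift, Category.comp_id, ← Category.assoc, toUnit_unique (a ≫ toUnit X) (toUnit _)]
    rw [pairVal, this, Category.assoc, huX, Groth.GrpschAbsch.gmFn_comp, Groth.GrpschAbsch.gmFn_one, map_one, map_one]
  have h0' : ∀ b, pairVal u a₀ b = (1 : K) := fun b => by
    have : lift a₀ b = b ≫ lift (toUnit Y ≫ eX) (𝟙 Y) := by
      rw [comp_lift, Category.comp_id, ← Category.assoc, toUnit_unique (b ≫ toUnit Y) (toUnit _)]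
    rw [pairVal, this, Category.assoc, huY, Groth.GrpschAbsch.gmFn_comp, Groth.GrpschAbsch.gmFn_one, map_one, map_one]
  have hone : ∀ a b, pairVal u a b = (1 : K) := fun a b => by
    rw [← h0 a]
    refine const_of_pieces (K := K) Y (fun b => pairVal u a b) (fun A _ _ _ p' ψ ψ' => ?_) b b₀
    have := const_of_pieces (K := K) X (fun a => pairVal u a (pt ψ ≫ p') / pairVal u a (pt ψ' ≫ p'))
      (fun R _ _ _ p φ φ' => (div_eq_div_iff (hne _ _) (hne _ _)).mpr (by
        rw [pairVal_pieces u p p' φ φ' ψ ψ', mul_comm])) a a₀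
    rw [h0', h0', div_one] at this
    exact (div_eq_one_iff_eq (hne _ _)).mp this
  have : IsReduced Y.left := Groth.AlgGrp1.isReduced_left Y
  have : IsReduced (X ⊗ Y).left := Groth.AlgGrp1.isReduced_tensorObj X Y
  have : LocallyOfFiniteType (X ⊗ Y).hom :=
    inferInstanceAs (LocallyOfFiniteType (pullback.fst X.hom Y.hom ≫ X.hom))
  have : JacobsonSpace (X ⊗ Y).left := LocallyOfFiniteType.jacobsonSpace (X ⊗ Y).hom
  refine Groth.GrpschAbsch.gmFn_injective ?_
  rw [Groth.GrpschAbsch.gmFn_one, ← sub_eq_zero]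
  refine eq_zero_of_basicOpen_eq_bot _ (TopologicalSpace.Opens.ext (Set.eq_empty_iff_forall_notMem.mpr fun x hx => ?_))
  obtain ⟨z, hz, hzc⟩ := nonempty_inter_closedPoints ⟨x, hx⟩
    ((X ⊗ Y).left.basicOpen (Red.gmFn u - 1)).2.isLocallyClosed
  obtain ⟨t, ht⟩ := Groth.AlgGrp1.exists_point_over_closed K (X ⊗ Y) z hzc
  have hmem : IsLocalRing.closedPoint K ∈ t.left ⁻¹ᵁ (X ⊗ Y).left.basicOpen (Red.gmFn u - 1) := by
    show t.left.base (IsLocalRing.closedPoint K) ∈ (X ⊗ Y).left.basicOpen (Red.gmFn u - 1)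
    rw [ht]
    exact hz
  have e : t.left.appTop (Red.gmFn u) = 1 := by
    apply (ConcreteCategory.bijective_of_isIso (Scheme.ΓSpecIso (CommRingCat.of K)).hom).1
    rw [map_one, ← Groth.GrpschAbsch.gmFn_comp]
    have := hone (t ≫ fst X Y) (t ≫ snd X Y)
    rwa [pairVal, ← comp_lift, lift_fst_snd, Category.comp_id] at this
  rw [Scheme.preimage_basicOpen_top, map_sub, e, map_one, sub_self, Scheme.basicOpen_zero] at hmem
  exact hmem

end Groth.SGA7.UnitOnProduct
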