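import Mathlib.FieldTheory.IsSepClosed
import Mathlib.FieldTheory.Separable
import Mathlib.LinearAlgebra.Dimension.Constructions
import Mathlib.LinearAlgebra.FiniteDimensional.Lemmas
import Mathlib.RingTheory.Artinian.Module
import Mathlib.LinearAlgebra.Quotient.Basic
import Mathlib.Tactic

/-! `q`-semilinear endomorphisms of finite dimensional vector spaces over separably closed fields. -/

namespace Groth.SGA7.QLin

open Polynomial

universe u v

variable {k : Type u} [Field k] {V : Type v} [AddCommGroup V] [Module k V]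

/-- `φ` is `q`-semilinear. -/
def IsQLin (q : ℕ) (φ : V →+ V) : Prop := ∀ (c : k) (v : V), φ (c • v) = c ^ q • φ v

variable {q : ℕ} {φ : V →+ V}

theorem map_sum_smul (hφ : IsQLin (k := k) q φ) {ι : Type*} (s : Finset ι) (c : ι → k) (b : ι → V) :
    φ (∑ i ∈ s, c i • b i) = ∑ i ∈ s, c i ^ q • φ (b i) := by
  rw [map_sum]
  exact Finset.sum_congr rfl fun i _ => hφ _ _

theorem iterate_smul (hφ : IsQLin (k := k) q φ) (n : ℕ) (c : k) (v : V) :
    φ^[n] (c • v) = c ^ q ^ n • φ^[n] v := by
  induction n with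
  | zero => simp
  | succ n ih => rw [Function.iterate_succ_apply', Function.iterate_succ_apply', ih, hφ, ← pow_mul, pow_succ]

theorem map_span (hφ : IsQLin (k := k) q φ) (S : Set V) {v : V} (hv : v ∈ Submodule.span k S) :
    φ v ∈ Submodule.span k (φ '' S) := by
  induction hv using Submodule.span_induction with
  | mem x hx => exact Submodule.subset_span ⟨x, hx, rfl⟩
  | zero => simp
  | add x y _ _ hx hy => rw [map_add]; exact add_mem hx hy
  | smul c x _ hx => rw [hφ]; exact Submodule.smul_mem _ _ hx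

theorem injective_of_span (hφ : IsQLin (k := k) q φ) [FiniteDimensional k V]
    (hss : Submodule.span k (Set.range φ) = ⊤) : Function.Injective φ := by
  rw [injective_iff_map_eq_zero]
  intro u hu
  by_contra hu0
  obtain ⟨W, hW⟩ := exists_isCompl (k ∙ u)
  let b := Module.finBasis k ↥W
  have hle : (⊤ : Submodule k V) ≤ Submodule.span k (Set.range fun i => φ (b i : V)) := by
    rw [← hss, Submodule.span_le]
    rintro _ ⟨v, rfl⟩
    obtain ⟨x, hx, w, hw, rfl⟩ : ∃ x ∈ k ∙ u, ∃ w ∈ W, x + w = v :=
      Submodule.mem_sup.mp (hW.sup_eq_top ▸ Submodule.mem_top)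
    obtain ⟨c, rfl⟩ := Submodule.mem_span_singleton.mp hx
    have hw' : (∑ i, b.repr ⟨w, hw⟩ i • (b i : V)) = w := by
      have := congrArg Subtype.val (b.sum_repr ⟨w, hw⟩)
      rw [Submodule.coe_sum] at this
      exact this
    rw [map_add, hφ, hu, smul_zero, zero_add, ← hw', map_sum_smul hφ]
    exact Submodule.sum_mem _ fun i _ => Submodule.smul_mem _ _ (Submodule.subset_span ⟨i, rfl⟩)
  have h1 : Module.finrank k V ≤ Module.finrank k ↥W := by
    rw [← finrank_top k V]
    refine (Submodule.finrank_mono hle).trans ((finrank_range_le_card (R := k) fun i => φ (b i : V)).trans ?_)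
    simp
  have h2 := Submodule.finrank_add_eq_of_isCompl hW
  rw [finrank_span_singleton hu0] at h2
  omega

variable [IsSepClosed k] (hq1 : 1 < q) (hqk : (q : k) = 0)

include hq1 hqk in
theorem exists_pow_sub_eq (c : k) : ∃ x : k, x ^ q - x = c := by
  have hd : (X ^ q - X - C c : k[X]).natDegree = q := by
    rw [natDegree_sub_C, natDegree_sub_eq_left_of_natDegree_lt] <;> simp [hq1]
  obtain ⟨x, hx⟩ := IsSepClosed.exists_root (X ^ q - X - C c : k[X]) (by
      intro h
      have := natDegree_eq_of_degree_eq_some (n := 0) h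
      omega) (by
    rw [separable_def]
    refine ⟨0, -1, ?_⟩
    rw [derivative_sub, derivative_sub, derivative_X_pow, derivative_X, derivative_C, hqk, C_0]
    ring)
  exact ⟨x, by simpa [sub_eq_zero] using hx⟩

include hq1 hqk in
theorem exists_fixed_ne_zero (hφ : IsQLin (k := k) q φ) [FiniteDimensional k V]
    (hinj : Function.Injective φ) {v : V} (hv : v ≠ 0) : ∃ w : V, w ≠ 0 ∧ φ w = w := by
  classical
  let e : ℕ → V := fun i => φ^[i] v
  have hex : ∃ n, ¬ LinearIndependent k (fun i : Fin (n + 1) => e i) := by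
    refine ⟨Module.finrank k V, fun h => ?_⟩
    have := h.fintype_card_le_finrank
    simp at this
  obtain ⟨hdep, hmin⟩ := And.intro (Nat.find_spec hex) (fun m (hm : m < Nat.find hex) => Nat.find_min hex hm)
  generalize Nat.find hex = n at hdep hmin
  obtain ⟨m, rfl⟩ : ∃ m, n = m + 1 := by
    refine ⟨n - 1, ?_⟩
    by_contra h
    have hn : n = 0 := by omega
    subst hn
    exact hdep (by
      rw [Fintype.linearIndependent_iff]
      intro g hg i
      rw [Fin.sum_univ_one] at hg
      have hg0 : g 0 = 0 := by simpa [e, hv] using hg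
      fin_cases i
      exact hg0)
  have hli : LinearIndependent k (fun i : Fin (m + 1) => e i) := not_not.mp (hmin m (by omega))
  have hmem : e (m + 1) ∈ Submodule.span k (Set.range fun i : Fin (m + 1) => e i) := by
    by_contra h
    apply hdep
    rw [linearIndependent_finSucc']
    exact ⟨hli, h⟩
  obtain ⟨a, ha⟩ := (Submodule.mem_span_range_iff_exists_fun k).mp hmem
  let a' : ℕ → k := fun i => if h : i < m + 1 then a ⟨i, h⟩ else 0
  have ha' : ∑ i ∈ Finset.range (m + 1), a' i • e i = e (m + 1) := by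
    rw [← ha, Finset.sum_range]
    refine Finset.sum_congr rfl fun i _ => ?_
    simp only [a', dif_pos i.isLt, Fin.eta]
  let P : ℕ → k[X] := fun i => Nat.rec (C (a' 0) * X) (fun j Pj => Pj ^ q + C (a' (j + 1)) * X) i
  have hPd : ∀ i, derivative (P i) = C (a' i) := by
    intro i
    cases i with
    | zero => simp [P]
    | succ j =>
      show derivative (P j ^ q + C (a' (j + 1)) * X) = _
      rw [derivative_add, derivative_pow, hqk]
      simp
  have hP0 : ∀ i, (P i).eval 0 = 0 := by
    intro i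
    induction i with
    | zero => simp [P]
    | succ j ih =>
      show (P j ^ q + C (a' (j + 1)) * X).eval 0 = 0
      simp [ih, zero_pow (by omega : q ≠ 0)]
  have hPne : ∀ i, (∃ j ≤ i, a' j ≠ 0) → P i ≠ 0 := by
    intro i
    induction i with
    | zero =>
      rintro ⟨j, hj, hne⟩ h
      obtain rfl : j = 0 := by omega
      have := hPd 0
      rw [h, map_zero] at this
      exact hne (C_eq_zero.mp this.symm)
    | succ i ih =>
      rintro ⟨j, hj, hne⟩ h
      have hlast : a' (i + 1) = 0 := by
        have := hPd (i + 1)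
        rw [h, map_zero] at this
        exact C_eq_zero.mp this.symm
      change P i ^ q + C (a' (i + 1)) * X = 0 at h
      rw [hlast, map_zero, zero_mul, add_zero] at h
      exact ih ⟨j, by rcases Nat.lt_or_eq_of_le hj with h' | h' <;> [omega; exact absurd hlast (h' ▸ hne)], hne⟩
        (pow_eq_zero_iff (by omega : q ≠ 0) |>.mp h)
  have hne : P m ≠ 0 := by
    refine hPne m ?_
    by_contra hall
    have : e (m + 1) = 0 := by
      rw [← ha']
      refine Finset.sum_eq_zero fun i hi => ?_
      rw [not_not.mp fun h => hall ⟨i, by simp at hi; omega, h⟩, zero_smul]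
    exact hv ((hinj.iterate (m + 1)) (this.trans (iterate_map_zero φ _).symm))
  set Q : k[X] := P m ^ q - X with hQ
  obtain ⟨Q1, hQ1⟩ : X ∣ Q := X_dvd_iff.mpr (by
    rw [coeff_zero_eq_eval_zero, hQ]
    simp [hP0, zero_pow (by omega : q ≠ 0)])
  have hQd : derivative Q = -1 := by
    rw [hQ, derivative_sub, derivative_pow, hqk]; simp
  have hQ10 : Q1.eval 0 = -1 := by
    have := congrArg (eval (0 : k)) hQd
    rw [hQ1, derivative_mul] at this
    simpa using this
  have hQ1deg : Q1.degree ≠ 0 := by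
    intro h
    have h1 : (P m ^ q).natDegree ≥ q := by
      rw [natDegree_pow]
      refine Nat.le_mul_of_pos_right q (Nat.pos_of_ne_zero fun h0 => hne ?_)
      rw [eq_C_of_natDegree_eq_zero h0, coeff_zero_eq_eval_zero, hP0, map_zero]
    have h2 : Q.natDegree = (P m ^ q).natDegree :=
      natDegree_sub_eq_left_of_natDegree_lt (by rw [natDegree_X]; omega)
    have h3 : Q1 ≠ 0 := fun h0 => by simp [h0] at h
    rw [hQ1, natDegree_mul X_ne_zero h3, natDegree_X, natDegree_eq_of_degree_eq_some (n := 0) h] at h2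
    omega
  have hQ1sep : Q1.Separable := (hQ1 ▸ (show Q.Separable from ⟨0, -1, by rw [hQd]; ring⟩)).of_mul_right
  obtain ⟨y, hy⟩ := IsSepClosed.exists_root Q1 hQ1deg hQ1sep
  have hy0 : y ≠ 0 := fun h => by
    rw [h, IsRoot.def, hQ10] at hy
    simp at hy
  have hyQ : (P m).eval y ^ q = y := by
    have := congrArg (eval y) hQ1
    rw [eval_mul, hy.eq_zero, mul_zero, hQ] at this
    simpa [sub_eq_zero] using this
  let x : ℕ → k := fun i => (P i).eval y
  refine ⟨∑ i ∈ Finset.range (m + 1), x i • e i, fun h0 => ?_, ?_⟩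
  · have := (Fintype.linearIndependent_iff.mp hli) (fun i => x i) (by
      rw [← h0, Finset.sum_range (fun i => x i • e i)]) ⟨m, by omega⟩
    change (P m).eval y = 0 at this
    rw [this, zero_pow (by omega : q ≠ 0)] at hyQ
    exact hy0 hyQ.symm
  · rw [map_sum_smul hφ, Finset.sum_range_succ, show φ (e m) = e (m + 1) from (Function.iterate_succ_apply' φ m v).symm,
      show x m ^ q = y from hyQ, ← ha', Finset.smul_sum, Finset.sum_range_succ' (fun i => y • a' i • e i),
      Finset.sum_range_succ' (fun i => x i • e i), ← add_assoc, ← Finset.sum_add_distrib]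
    congr 1
    · refine Finset.sum_congr rfl fun i _ => ?_
      rw [show φ (e i) = e (i + 1) from (Function.iterate_succ_apply' φ i v).symm, smul_smul, ← add_smul]
      congr 1
      show _ = eval y (P i ^ q + C (a' (i + 1)) * X)
      rw [eval_add, eval_pow, eval_mul, eval_C, eval_X]
      show eval y (P i) ^ q + _ = _
      ring
    · rw [smul_smul]; congr 1
      show y * a' 0 = eval y (C (a' 0) * X)
      rw [eval_mul, eval_C, eval_X, mul_comm]

include hq1 hqk in
theorem span_fixed_eq_top (hφ : IsQLin (k := k) q φ) [FiniteDimensional k V]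
    (hss : Submodule.span k (Set.range φ) = ⊤) : Submodule.span k {v | φ v = v} = ⊤ := by
  set F := Submodule.span k {v | φ v = v} with hF
  have hFφ : ∀ v ∈ F, φ v ∈ F := fun v hv => by
    have := map_span hφ _ hv
    rwa [show φ '' {v | φ v = v} = {v | φ v = v} by
      ext x; exact ⟨fun ⟨y, hy, h⟩ => by rw [← h]; exact congrArg φ hy, fun hx => ⟨x, hx, hx⟩⟩] at this
  have hsolve' : ∀ f ∈ F, ∀ c : k, ∃ g ∈ F, φ g - g = c • f := by
    intro f hf
    induction hf using Submodule.span_induction with
    | mem x hx =>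
      intro c
      obtain ⟨d, hd⟩ := exists_pow_sub_eq hq1 hqk c
      refine ⟨d • x, Submodule.smul_mem _ _ (Submodule.subset_span hx), ?_⟩
      rw [hφ, show φ x = x from hx, ← sub_smul, hd]
    | zero => exact fun c => ⟨0, zero_mem _, by simp⟩
    | add x y _ _ hx hy =>
      intro c
      obtain ⟨g, hg, hg'⟩ := hx c
      obtain ⟨g', hg'', hg'''⟩ := hy c
      exact ⟨g + g', add_mem hg hg'', by rw [map_add, smul_add, ← hg', ← hg''']; abel⟩
    | smul d x _ hx => intro c; rw [smul_smul]; exact hx (c * d)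
  have hsolve : ∀ f ∈ F, ∃ g ∈ F, φ g - g = f := fun f hf => by simpa using hsolve' f hf 1
  let φb : (V ⧸ F) →+ (V ⧸ F) := QuotientAddGroup.map F.toAddSubgroup F.toAddSubgroup φ hFφ
  have hb : ∀ v, φb (F.mkQ v) = F.mkQ (φ v) := fun v => rfl
  have hφb : IsQLin (k := k) q φb := fun c z => by
    obtain ⟨v, rfl⟩ := F.mkQ_surjective z
    rw [← map_smul, hb, hb, hφ, map_smul]
  have hssb : Submodule.span k (Set.range φb) = ⊤ := by
    refine top_unique ?_
    rw [← F.range_mkQ, LinearMap.range_eq_map, ← hss, Submodule.map_span]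
    refine Submodule.span_mono ?_
    rintro _ ⟨_, ⟨v, rfl⟩, rfl⟩
    exact ⟨F.mkQ v, hb v⟩
  by_contra htop
  obtain ⟨v, hv⟩ : ∃ v, v ∉ F := by
    by_contra h
    exact htop (top_unique fun v _ => not_not.mp fun hv => h ⟨v, hv⟩)
  obtain ⟨z, hz0, hz⟩ := exists_fixed_ne_zero hq1 hqk hφb (injective_of_span hφb hssb)
    (v := F.mkQ v) (by simpa using hv)
  obtain ⟨w, rfl⟩ := F.mkQ_surjective z
  rw [hb] at hz
  have hwF : φ w - w ∈ F := by
    rw [← Submodule.ker_mkQ F, LinearMap.mem_ker, map_sub, hz, sub_self]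
  obtain ⟨g, hg, hg'⟩ := hsolve _ hwF
  have : w - g ∈ F := Submodule.subset_span (show φ (w - g) = w - g by
    rw [map_sub, ← sub_eq_zero]
    have : φ w - φ g - (w - g) = (φ w - w) - (φ g - g) := by abel
    rw [this, hg', sub_self])
  apply hz0
  rw [← LinearMap.mem_ker, Submodule.ker_mkQ]
  have := add_mem this hg
  simpa using this

include hq1 hqk in
theorem exists_basis_fixed (hφ : IsQLin (k := k) q φ) [FiniteDimensional k V]
    (hss : Submodule.span k (Set.range φ) = ⊤) :
    ∃ b : Module.Basis (Fin (Module.finrank k V)) k V, ∀ i, φ (b i) = b i := by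
  obtain ⟨s, hs, hspan, hli⟩ := exists_linearIndependent k {v | φ v = v}
  let b := Module.Basis.mk hli (by rw [Subtype.range_coe, hspan, span_fixed_eq_top hq1 hqk hφ hss])
  have := FiniteDimensional.fintypeBasisIndex b
  refine ⟨b.reindex (Fintype.equivFinOfCardEq (Module.finrank_eq_card_basis b).symm), fun i => ?_⟩
  simp only [Module.Basis.reindex_apply, b, Module.Basis.mk_apply]
  exact hs (Subtype.prop _)

omit [IsSepClosed k] in
theorem repr_pow_eq (hφ : IsQLin (k := k) q φ) {ι : Type*} [Fintype ι] (b : Module.Basis ι k V)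
    (hb : ∀ i, φ (b i) = b i) (v : V) (i : ι) : b.repr (φ v) i = b.repr v i ^ q := by
  conv_lhs => rw [← b.sum_repr v, map_sum_smul hφ]
  simp only [hb]
  rw [b.repr_sum_self]

omit [IsSepClosed k] in
theorem repr_iterate_eq (hφ : IsQLin (k := k) q φ) {ι : Type*} [Fintype ι] (b : Module.Basis ι k V)
    (hb : ∀ i, φ (b i) = b i) (n : ℕ) (v : V) (i : ι) : b.repr (φ^[n] v) i = b.repr v i ^ q ^ n := by
  induction n with
  | zero => simp
  | succ n ih => rw [Function.iterate_succ_apply', repr_pow_eq hφ b hb, ih, ← pow_mul, pow_succ]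

omit [IsSepClosed k] in
theorem span_range_iterate_succ (hφ : IsQLin (k := k) q φ) (n : ℕ) :
    Submodule.span k (Set.range φ^[n + 1]) =
      Submodule.span k (φ '' (Submodule.span k (Set.range φ^[n]) : Set V)) := by
  refine le_antisymm (Submodule.span_mono ?_) (Submodule.span_le.mpr ?_)
  · rintro _ ⟨v, rfl⟩
    exact ⟨φ^[n] v, Submodule.subset_span ⟨v, rfl⟩, (Function.iterate_succ_apply' φ n v).symm⟩
  · rintro _ ⟨w, hw, rfl⟩
    have := map_span hφ _ hw
    rwa [← Set.range_comp, show (φ ∘ φ^[n]) = φ^[n + 1] from (Function.iterate_succ' φ n).symm] at this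

omit [IsSepClosed k] in
/-- The semisimple part: a stable subspace `W` on which `φ` is semisimple, containing every large iterate. -/
theorem exists_ss (hφ : IsQLin (k := k) q φ) [FiniteDimensional k V] :
    ∃ N : ℕ, (⨅ n : ℕ, Submodule.span k (Set.range (φ^[n + 1]))) = Submodule.span k (Set.range φ^[N]) ∧
      Submodule.span k (Set.range φ^[N + 1]) = Submodule.span k (Set.range φ^[N]) := by
  have hanti : Antitone fun n => Submodule.span k (Set.range φ^[n]) := antitone_nat_of_succ_le fun n => by
    refine Submodule.span_mono ?_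
    rw [Function.iterate_succ]
    exact Set.range_comp_subset_range _ _
  obtain ⟨N, hN⟩ := IsArtinian.monotone_stabilizes
    (⟨fun n => OrderDual.toDual (Submodule.span k (Set.range φ^[n])), fun a b h => hanti h⟩ : ℕ →o (Submodule k V)ᵒᵈ)
  refine ⟨N, le_antisymm ?_ (le_iInf fun n => ?_), (OrderDual.toDual_inj.mp (hN (N + 1) (by omega))).symm⟩
  · exact (iInf_le _ N).trans (hanti (Nat.le_succ N))
  · rcases le_total N (n + 1) with h | h
    · exact (OrderDual.toDual_inj.mp (hN _ h)).le
    · exact hanti h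

/-- Restriction of `φ` to a stable subspace. -/
def restrict (W : Submodule k V) (φ : V →+ V) (hW : ∀ v ∈ W, φ v ∈ W) : ↥W →+ ↥W :=
  (φ.comp W.subtype.toAddMonoidHom).codRestrict W fun w => hW _ w.2

omit [IsSepClosed k] in
theorem exists_ss_restrict (hφ : IsQLin (k := k) q φ) [FiniteDimensional k V] :
    ∃ (W : Submodule k V) (N : ℕ) (hW : ∀ v ∈ W, φ v ∈ W),
      (⨅ n : ℕ, Submodule.span k (Set.range (φ^[n + 1]))) = W ∧ (∀ v, φ^[N] v ∈ W) ∧
      IsQLin (k := k) q (restrict W φ hW) ∧ Submodule.span k (Set.range (restrict W φ hW)) = ⊤ := by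
  obtain ⟨N, hN, hN'⟩ := exists_ss (k := k) hφ
  set W := Submodule.span k (Set.range φ^[N]) with hWdef
  have hW : ∀ v ∈ W, φ v ∈ W := fun v hv => by
    rw [← hN', span_range_iterate_succ hφ]
    exact Submodule.subset_span ⟨v, hv, rfl⟩
  refine ⟨W, N, hW, hN, fun v => Submodule.subset_span ⟨v, rfl⟩, fun c w => Subtype.ext (hφ c w), ?_⟩
  refine Submodule.map_injective_of_injective W.injective_subtype ?_
  rw [Submodule.map_span, Submodule.map_top, Submodule.range_subtype]
  conv_rhs => rw [← hN', span_range_iterate_succ hφ]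
  congr 1
  ext x
  constructor
  · rintro ⟨_, ⟨w, rfl⟩, rfl⟩; exact ⟨w, w.2, rfl⟩
  · rintro ⟨w, hw, rfl⟩; exact ⟨_, ⟨⟨w, hw⟩, rfl⟩, rfl⟩

include hq1 hqk in
theorem sub_surjective (hφ : IsQLin (k := k) q φ) [FiniteDimensional k V] :
    Function.Surjective fun v : V => v - φ v := by
  intro w
  obtain ⟨W, N, hW, -, hNW, hlin, hss⟩ := exists_ss_restrict (k := k) hφ
  obtain ⟨b, hb⟩ := exists_basis_fixed hq1 hqk hlin hss
  choose x hx using fun i => exists_pow_sub_eq hq1 hqk (-(b.repr ⟨φ^[N] w, hNW w⟩ i))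
  let z : ↥W := ∑ i, x i • b i
  have hz : φ (z : V) - z = - φ^[N] w := by
    have : restrict W φ hW z - z = - ⟨φ^[N] w, hNW w⟩ := by
      conv_rhs => rw [← b.sum_repr ⟨φ^[N] w, hNW w⟩, ← Finset.sum_neg_distrib]
      rw [map_sum_smul hlin, ← Finset.sum_sub_distrib]
      refine Finset.sum_congr rfl fun i _ => ?_
      rw [hb, ← sub_smul, hx, neg_smul]
    exact congrArg (fun t : ↥W => (t : V)) this
  refine ⟨(∑ i ∈ Finset.range N, φ^[i] w) + (z : V), ?_⟩
  have key : (∑ i ∈ Finset.range N, φ^[i] w) - φ (∑ i ∈ Finset.range N, φ^[i] w) = w - φ^[N] w := by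
    rw [map_sum, ← Finset.sum_sub_distrib]
    simp only [← Function.iterate_succ_apply' φ]
    exact Finset.sum_range_sub' (fun i => φ^[i] w) N
  show _ - φ _ = w
  rw [map_add, add_sub_add_comm, key, ← neg_sub (φ (z : V)), hz, neg_neg, sub_add_cancel]

end Groth.SGA7.QLin
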