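import Groth.Agent.SGA7.RigidAut

/-!
Deformations have no non-trivial automorphisms iff there is no non-zero derivation.
-/

set_option linter.style.haveILetI false
set_option linter.style.longLine false
set_option linter.unusedSectionVars false

noncomputable section

universe u

open CategoryTheory AlgebraicGeometry Limits TopologicalSpace Opposite

namespace Groth.SGA7Def

open ArtFun Groth.ArtfunDeform

local notation "𝔪" => IsLocalRing.maximalIdeal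

variable {k : Type u} [Field k] {X : Scheme.{u}} {x : X ⟶ Art.specPt k} {A B : Art k k}

lemma liftOpen_preimage (ξ : DefSch X x A) (U : ξ.total.Opens) : liftOpen ξ (ξ.i ⁻¹ᵁ U) = U :=
  le_antisymm (opens_le_of_preimage_le ξ (preimage_liftOpen ξ _).le) (opens_le_of_preimage_le ξ (preimage_liftOpen ξ _).ge)

/-- Every deformation has trivial automorphism group if derivations vanish. -/
theorem eq_id_of_ders_eq_zero
    (h0 : ∀ (D : OmegaSh.Der x (Coh.structureModule X)) (W : X.Opens) (a : Γ(X, W)), D.app W a = 0)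
    (A : Art k k) : ∀ (ξ : DefSch X x A) (e : ξ.Iso ξ), e.iso.hom = 𝟙 ξ.total := by
  have base : ∀ (ξ : DefSch X x (Art.base k k)) (e : ξ.Iso ξ), e.iso.hom = 𝟙 ξ.total := fun ξ e => by
    haveI : IsIso ξ.i := ξ.isPullback.isIso_fst_of_isIso
    rw [← cancel_epi ξ.i, e.i_hom, Category.comp_id]
  refine surj_induction (Λ := k) (k := k)
    (P := fun A B _ => (∀ (ξ : DefSch X x A) (e : ξ.Iso ξ), e.iso.hom = 𝟙 ξ.total) →
      ∀ (ξ : DefSch X x B) (e : ξ.Iso ξ), e.iso.hom = 𝟙 ξ.total) ?_ ?_ ?_ (Art.toBase A) A.res_surjective base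
  · intro A B p hp IH ξ e
    haveI : IsIso (Art.specMap p) := by
      refine ⟨Art.specMap (inv p), ?_, ?_⟩ <;> rw [← Art.specMap_comp] <;> simp [Art.specMap_id]
    have h := DefSch.pullMap_fst e.iso.hom e.hom_f p
    rw [show DefSch.pullMap e.iso.hom e.hom_f p = 𝟙 _ from IH _ (e.baseChange p), Category.id_comp] at h
    rw [← cancel_epi (pullback.fst ξ.f (Art.specMap p)), ← h, Category.comp_id]
  · rintro A B p ⟨hsurj, hne, ⟨t, ht⟩, hm⟩ IH ξ e
    have htk : t ∈ RingHom.ker p.toAlgHom := ht ▸ Ideal.mem_span_singleton_self t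
    have ht0 : t ≠ 0 := fun h => hne (by rw [ht, h, Submodule.span_zero_singleton])
    have htm : ∀ m ∈ 𝔪 B, m * t = 0 := fun m hm' => by
      have := Ideal.mul_mem_mul hm' htk
      rwa [hm, Ideal.mem_bot] at this
    have hfix : (SHom.fst p ξ).hom ≫ e.iso.hom = (SHom.fst p ξ).hom := by
      have h := DefSch.pullMap_fst e.iso.hom e.hom_f p
      rw [show DefSch.pullMap e.iso.hom e.hom_f p = 𝟙 _ from IH _ (e.baseChange p), Category.id_comp] at h
      exact h.symm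
    obtain ⟨D, hD⟩ := exists_der_of_aut e hfix ht htm hsurj ht0
    refine ξ.total.directedAffineCover.hom_ext _ _ fun U => ?_
    change U.1.ι ≫ e.iso.hom = U.1.ι ≫ 𝟙 _
    obtain ⟨U, hU⟩ := U
    obtain ⟨W, hW, rfl⟩ : ∃ W : X.Opens, IsAffineOpen W ∧ U = liftOpen ξ W :=
      ⟨_, IsAffineOpen.preimage hU ξ.i, (liftOpen_preimage ξ U).symm⟩
    have hU := isAffineOpen_liftOpen ξ hW
    have hact : ∀ z, act e (liftOpen ξ W) z = z := fun z => by
      obtain ⟨d, hd⟩ := exists_act_sub e hfix ht hsurj hU z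
      have h1 := hD W hW z d hd
      rw [h0, map_zero] at h1
      rw [str_mul_eq_zero htm hU (preimage_liftOpen ξ W) h1.symm, sub_eq_zero] at hd
      exact hd
    have key : act e (liftOpen ξ W) = 𝟙 _ := by
      ext z
      exact hact z
    have h2 := IsAffineOpen.SpecMap_appLE_fromSpec e.iso.hom hU hU (preimage_hom_self e _).ge
    rw [show e.iso.hom.appLE (liftOpen ξ W) (liftOpen ξ W) (preimage_hom_self e _).ge = 𝟙 _ from key,
      Spec.map_id, Category.id_comp] at h2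
    rw [Category.comp_id, ← IsAffineOpen.toSpecΓ_fromSpec hU, Category.assoc, ← h2]
  · intro A B C p q hp hq hA
    exact hp (hq hA)

section Converse

variable {hx : Flat x} {ξ : DefSch X x A} (φ₀ : SHom (Art.ofBase A) (DefSch.self X x hx) ξ)

/-- The projection to `X`. -/
abbrev projX : ξ.total ⟶ X := φ₀.hom

lemma i_projX : ξ.i ≫ projX φ₀ = 𝟙 X := φ₀.i_hom

lemma projX_comp : projX φ₀ ≫ x = ξ.f ≫ Art.specMap (Art.ofBase A) := φ₀.hom_f

lemma le_preimage_projX {U : ξ.total.Opens} {W : X.Opens} (hW : ξ.i ⁻¹ᵁ U = W) : U ≤ projX φ₀ ⁻¹ᵁ W := by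
  refine opens_le_of_preimage_le ξ ?_
  rw [← Scheme.Hom.comp_preimage, i_projX, hW]
  exact le_rfl

variable (ε : A) (D : OmegaSh.Der x (Coh.structureModule X))

/-- `a ↦ a + ε · D a`. -/
def twistFun (U : ξ.total.Opens) (a : Γ(X, ξ.i ⁻¹ᵁ U)) : Γ(ξ.total, U) :=
  (projX φ₀).appLE (ξ.i ⁻¹ᵁ U) U (le_preimage_projX φ₀ rfl) a +
    strU ξ U ε * (projX φ₀).appLE (ξ.i ⁻¹ᵁ U) U (le_preimage_projX φ₀ rfl) (OmegaSh.fnSect X _ (D.app (ξ.i ⁻¹ᵁ U) a))

lemma der_one' (W : X.Opens) : OmegaSh.fnSect X W (D.app W 1) = 0 := by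
  have h : OmegaSh.fnSect X W (D.app W (1 * 1)) = (1 * OmegaSh.fnSect X W (D.app W 1) + 1 * OmegaSh.fnSect X W (D.app W 1) : Γ(X, W)) :=
    congrArg (OmegaSh.fnSect X W) (Groth.OmegaSheaf.der_mul D W 1 1)
  rw [mul_one, one_mul] at h
  exact left_eq_add.1 h

/-- The twisted comorphism. -/
def twistHom (hε : ε * ε = 0) (U : ξ.total.Opens) : Γ(X, ξ.i ⁻¹ᵁ U) ⟶ Γ(ξ.total, U) :=
  CommRingCat.ofHom
    { toFun := twistFun φ₀ ε D U
      map_one' := by rw [twistFun, der_one', map_one, map_zero, mul_zero, add_zero]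
      map_zero' := by simp [twistFun]
      map_add' := fun a b => by simp only [twistFun, map_add]; ring
      map_mul' := fun a b => by
        have h : OmegaSh.fnSect X _ (D.app (ξ.i ⁻¹ᵁ U) (a * b)) =
            (a * OmegaSh.fnSect X _ (D.app (ξ.i ⁻¹ᵁ U) b) + b * OmegaSh.fnSect X _ (D.app (ξ.i ⁻¹ᵁ U) a) : Γ(X, ξ.i ⁻¹ᵁ U)) :=
          congrArg (OmegaSh.fnSect X _) (Groth.OmegaSheaf.der_mul D _ a b)
        have he : strU ξ U ε * strU ξ U ε = 0 := by rw [← map_mul, hε, map_zero]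
        simp only [twistFun, h, map_mul, map_add]
        linear_combination (-((projX φ₀).appLE (ξ.i ⁻¹ᵁ U) U (le_preimage_projX φ₀ rfl) (OmegaSh.fnSect X _ (D.app (ξ.i ⁻¹ᵁ U) a)) *
          (projX φ₀).appLE (ξ.i ⁻¹ᵁ U) U (le_preimage_projX φ₀ rfl) (OmegaSh.fnSect X _ (D.app (ξ.i ⁻¹ᵁ U) b)))) * he }

lemma twistHom_apply (hε : ε * ε = 0) (U : ξ.total.Opens) (a) : twistHom φ₀ ε D hε U a = twistFun φ₀ ε D U a := rfl

variable (hε : ε * ε = 0)

lemma twistHom_res {U U' : ξ.total.Opens} (h : U' ≤ U) :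
    twistHom φ₀ ε D hε U ≫ ξ.total.presheaf.map (homOfLE h).op =
      X.presheaf.map (homOfLE (ξ.i.preimage_mono h)).op ≫ twistHom φ₀ ε D hε U' := by
  ext a
  have e1 : ∀ b, rs ξ.total h ((projX φ₀).appLE (ξ.i ⁻¹ᵁ U) U (le_preimage_projX φ₀ rfl) b) =
      (projX φ₀).appLE (ξ.i ⁻¹ᵁ U') U' (le_preimage_projX φ₀ rfl) (rs X (ξ.i.preimage_mono h) b) := fun b => by
    change ((projX φ₀).appLE _ U _ ≫ ξ.total.presheaf.map (homOfLE h).op) b = (X.presheaf.map _ ≫ (projX φ₀).appLE _ U' _) b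
    rw [Scheme.Hom.appLE_map, Scheme.Hom.map_appLE]
  have e2 : rs ξ.total h (strU ξ U ε) = strU ξ U' ε := by
    change (strOf ξ.f U ≫ ξ.total.presheaf.map (homOfLE h).op) ε = _
    rw [strOf, Category.assoc, Scheme.Hom.appLE_map]
    rfl
  have e3 : OmegaSh.fnSect X _ (D.app (ξ.i ⁻¹ᵁ U') (rs X (ξ.i.preimage_mono h) a)) =
      rs X (ξ.i.preimage_mono h) (OmegaSh.fnSect X _ (D.app (ξ.i ⁻¹ᵁ U) a)) :=
    D.d_map (homOfLE (ξ.i.preimage_mono h)).op a
  change rs ξ.total h (twistFun φ₀ ε D U a) = twistFun φ₀ ε D U' (rs X (ξ.i.preimage_mono h) a)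
  rw [twistFun, twistFun, map_add, map_mul, e1, e1, e2, e3]

lemma twistHom_str (U : ξ.total.Opens) :
    strOf x (ξ.i ⁻¹ᵁ U) ≫ twistHom φ₀ ε D hε U = CommRingCat.ofHom (Art.ofBase A).toAlgHom.toRingHom ≫ strU ξ U := by
  have e1 : strOf x (ξ.i ⁻¹ᵁ U) ≫ (projX φ₀).appLE (ξ.i ⁻¹ᵁ U) U (le_preimage_projX φ₀ rfl) =
      CommRingCat.ofHom (Art.ofBase A).toAlgHom.toRingHom ≫ strU ξ U := by
    rw [strOf_comp x (projX φ₀) (ξ.i ⁻¹ᵁ U) U (le_preimage_projX φ₀ rfl), projX_comp]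
    exact strOf_specMap _ _ _
  ext c
  have hd : OmegaSh.fnSect X _ (D.app (ξ.i ⁻¹ᵁ U) (strOf x (ξ.i ⁻¹ᵁ U) c)) = 0 :=
    congrArg (OmegaSh.fnSect X _) (Groth.OmegaSheaf.der_appLE D le_top _) |>.trans (map_zero _)
  change twistFun φ₀ ε D U (strOf x (ξ.i ⁻¹ᵁ U) c) = _
  rw [twistFun, hd, map_zero, mul_zero, add_zero]
  exact congr($e1 c)

variable (hεk : A.res ε = 0)

include hεk in
lemma twistHom_i (U : ξ.total.Opens) : twistHom φ₀ ε D hε U ≫ ξ.i.app U = 𝟙 _ := by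
  have e1 : (projX φ₀).appLE (ξ.i ⁻¹ᵁ U) U (le_preimage_projX φ₀ rfl) ≫ ξ.i.app U = 𝟙 _ := by
    rw [Scheme.Hom.app_eq_appLE, Scheme.Hom.appLE_comp_appLE, appLE_congr_hom (i_projX φ₀)]
    exact (Category.id_comp _).trans (X.presheaf.map_id _)
  have e2 : ξ.i.app U (strU ξ U ε) = 0 := by
    have h := strOf_comp ξ.f ξ.i U (ξ.i ⁻¹ᵁ U) le_rfl
    rw [ξ.i_f, strOf_specMap, ← Scheme.Hom.app_eq_appLE] at h
    exact congr($h ε).trans ((congrArg (strOf x (ξ.i ⁻¹ᵁ U)) hεk).trans (map_zero _))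
  ext a
  change ξ.i.app U (twistFun φ₀ ε D U a) = a
  rw [twistFun, map_add, map_mul, e2, zero_mul, add_zero]
  exact congr($e1 a)

/-- The twisted projection on an affine open. -/
def twistLoc (U : ξ.total.affineOpens) : U.1.toScheme ⟶ X :=
  U.1.toSpecΓ ≫ Spec.map (twistHom φ₀ ε D hε U.1) ≫ (U.2.preimage ξ.i).fromSpec

lemma twistLoc_compat {i j : ξ.total.directedAffineCover.I₀} (hij : i ⟶ j) :
    Scheme.Cover.trans ξ.total.directedAffineCover hij ≫ twistLoc φ₀ ε D hε j = twistLoc φ₀ ε D hε i := by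
  obtain ⟨i, hi⟩ := i
  obtain ⟨j, hj⟩ := j
  have h : i ≤ j := leOfHom (X := ξ.total.affineOpens) hij
  change ξ.total.homOfLE h ≫ twistLoc φ₀ ε D hε ⟨j, hj⟩ = twistLoc φ₀ ε D hε ⟨i, hi⟩
  rw [twistLoc, twistLoc, ← Scheme.Opens.toSpecΓ_SpecMap_presheaf_map_assoc i j h, ← Spec.map_comp_assoc,
    twistHom_res φ₀ ε D hε h, Spec.map_comp_assoc, IsAffineOpen.map_fromSpec]

/-- The twisted projection. -/
def twist : ξ.total ⟶ X :=
  ξ.total.directedAffineCover.glueMorphismsOfLocallyDirected (twistLoc φ₀ ε D hε) (twistLoc_compat φ₀ ε D hε)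

lemma ι_twist (U : ξ.total.affineOpens) : U.1.ι ≫ twist φ₀ ε D hε = twistLoc φ₀ ε D hε U := by
  unfold twist
  exact Scheme.OpenCover.map_glueMorphismsOfLocallyDirected (𝒰 := ξ.total.directedAffineCover) (twistLoc φ₀ ε D hε) (twistLoc_compat φ₀ ε D hε) U

lemma fromSpec_comp_eq {R : CommRingCat.{u}} {P : Scheme.{u}} (f : P ⟶ Spec R) {U : P.Opens} (hU : IsAffineOpen U) :
    hU.fromSpec ≫ f = Spec.map (strOf f U) := by
  have h := IsAffineOpen.SpecMap_appLE_fromSpec f (isAffineOpen_top (Spec R)) hU le_top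
  rw [IsAffineOpen.fromSpec_top, Scheme.isoSpec_Spec_inv] at h
  rw [← h, strOf, Spec.map_comp]

lemma twist_comp : twist φ₀ ε D hε ≫ x = ξ.f ≫ Art.specMap (Art.ofBase A) := by
  refine ξ.total.directedAffineCover.hom_ext _ _ fun U => ?_
  obtain ⟨U, hU⟩ := U
  change U.ι ≫ _ = U.ι ≫ _
  rw [← Category.assoc, ι_twist φ₀ ε D hε ⟨U, hU⟩, twistLoc, Category.assoc, Category.assoc, fromSpec_comp_eq, ← Spec.map_comp,
    twistHom_str]
  refine (congrArg (U.toSpecΓ ≫ ·) (Spec.map_comp _ (strU ξ U))).trans ?_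
  rw [← IsAffineOpen.toSpecΓ_fromSpec hU, Category.assoc]
  exact congrArg (U.toSpecΓ ≫ ·) (((Category.assoc _ _ _).symm.trans (congrArg (· ≫ Art.specMap (Art.ofBase A)) (fromSpec_comp_eq ξ.f hU))).symm)

include hεk in
lemma i_twist : ξ.i ≫ twist φ₀ ε D hε = 𝟙 X := by
  refine X.directedAffineCover.hom_ext _ _ fun W => ?_
  obtain ⟨W, hW⟩ := W
  obtain ⟨U, hU, rfl⟩ : ∃ U : ξ.total.Opens, IsAffineOpen U ∧ W = ξ.i ⁻¹ᵁ U :=
    ⟨_, isAffineOpen_liftOpen ξ hW, (preimage_liftOpen ξ W).symm⟩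
  change (ξ.i ⁻¹ᵁ U).ι ≫ _ = (ξ.i ⁻¹ᵁ U).ι ≫ _
  rw [← Category.assoc, ← Scheme.Hom.resLE_comp_ι ξ.i (le_rfl : ξ.i ⁻¹ᵁ U ≤ ξ.i ⁻¹ᵁ U), Category.assoc,
    ι_twist φ₀ ε D hε ⟨U, hU⟩, twistLoc]
  change ξ.i.resLE U (ξ.i ⁻¹ᵁ U) le_rfl ≫ U.toSpecΓ ≫ _ = _
  rw [← Scheme.Opens.toSpecΓ_SpecMap_appLE_assoc, ← Spec.map_comp_assoc, ← Scheme.Hom.app_eq_appLE,
    twistHom_i φ₀ ε D hε hεk, Spec.map_id, Category.id_comp, IsAffineOpen.toSpecΓ_fromSpec, Category.comp_id]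

include φ₀ hε hεk in
/-- Rigidity forces derivations to vanish on affine opens. -/
theorem der_eq_zero_of_rigid (hε0 : ε ≠ 0) (hεm : ∀ m ∈ 𝔪 A, m * ε = 0)
    (hrig : ∀ e : ξ.Iso ξ, e.iso.hom = 𝟙 ξ.total) {W : X.Opens} (hW : IsAffineOpen W) (a : Γ(X, W)) :
    OmegaSh.fnSect X W (D.app W a) = 0 := by
  have hp := φ₀.isPullback
  let ψ : SHom (𝟙 A) ξ ξ :=
    { hom := hp.lift (twist φ₀ ε D hε) ξ.f (twist_comp φ₀ ε D hε)
      hom_f := by rw [Art.specMap_id, Category.comp_id]; exact hp.lift_snd _ _ _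
      i_hom := by
        refine hp.hom_ext ?_ ?_
        · rw [Category.assoc]
          exact (congrArg (ξ.i ≫ ·) (hp.lift_fst _ _ _)).trans ((i_twist φ₀ ε D hε hεk).trans (i_projX φ₀).symm)
        · rw [Category.assoc, hp.lift_snd] }
  have hψ : ψ.hom = 𝟙 _ := hrig ψ.toIso
  have htw : twist φ₀ ε D hε = projX φ₀ := by
    refine (hp.lift_fst (twist φ₀ ε D hε) ξ.f (twist_comp φ₀ ε D hε)).symm.trans ?_
    exact (congrArg (· ≫ φ₀.hom) hψ).trans (Category.id_comp _)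
  obtain ⟨U, hU, rfl⟩ : ∃ U : ξ.total.Opens, IsAffineOpen U ∧ W = ξ.i ⁻¹ᵁ U :=
    ⟨_, isAffineOpen_liftOpen ξ hW, (preimage_liftOpen ξ W).symm⟩
  have h := ι_twist φ₀ ε D hε ⟨U, hU⟩
  rw [htw, twistLoc] at h
  change U.ι ≫ projX φ₀ = U.toSpecΓ ≫ _ at h
  rw [← IsAffineOpen.toSpecΓ_fromSpec hU, Category.assoc,
    ← IsAffineOpen.SpecMap_appLE_fromSpec (projX φ₀) hW hU (le_preimage_projX φ₀ rfl), ← hU.isoSpec_hom, cancel_epi,
    cancel_mono] at h
  have h1 := congr($(Spec.map_injective h) a)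
  rw [twistHom_apply, twistFun, left_eq_add] at h1
  have h2 := π_eq_zero hεm hU (rfl : ξ.i ⁻¹ᵁ U = ξ.i ⁻¹ᵁ U) hε0 h1
  have e1 : (projX φ₀).appLE (ξ.i ⁻¹ᵁ U) U (le_preimage_projX φ₀ rfl) ≫ ξ.i.appLE U (ξ.i ⁻¹ᵁ U) le_rfl = 𝟙 _ := by
    rw [Scheme.Hom.appLE_comp_appLE, appLE_congr_hom (i_projX φ₀)]
    exact (Category.id_comp _).trans (X.presheaf.map_id _)
  exact congr($e1 _).symm.trans h2

end Converse

/-- No non-zero vector field iff every deformation is rigid. -/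
theorem subsingleton_hom_omega_iff [IsSeparated x] :
    Subsingleton (Omega.sheaf x ⟶ Coh.structureModule X) ↔
      ∀ (A : Art k k) (ξ : DefSch X x A) (e : ξ.Iso ξ), e.iso.hom = 𝟙 ξ.total := by
  constructor
  · intro hS
    refine eq_id_of_ders_eq_zero fun D W a => ?_
    obtain ⟨α, hα⟩ := Groth.OmegaSheaf.exists_hom_of_isUniversal (Groth.OmegaSheaf.isUniversal_dOmega x) D
    rw [← hα W a, Subsingleton.elim α 0]
    rfl
  · intro hrig
    have h0 : ∀ (D : OmegaSh.Der x (Coh.structureModule X)) (W : X.Opens) (a : Γ(X, W)), D.app W a = 0 := by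
      intro D W a
      refine eq_of_affine_rs (X := X) (OmegaSh.fnSect X W (D.app W a)) (0 : Γ(X, W)) fun W' hW' hle => ?_
      rw [map_zero]
      refine (D.d_map (homOfLE hle).op a).symm.trans ?_
      refine der_eq_zero_of_rigid (SHom.fst (Art.ofBase (Art.dual k k)) (DefSch.self X x (flat_of_field x)))
        (DualNumber.eps : DualNumber k) D DualNumber.eps_mul_eps DualNumber.fst_eps
        (fun h => one_ne_zero (α := k) (congrArg TrivSqZeroExt.snd h)) (fun m hm => ?_) (hrig _ _) hW' _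
      have h0 : TrivSqZeroExt.fst m = 0 := ((Art.dual k k).mem_maximalIdeal_iff m).1 hm
      change (HMul.hMul (α := DualNumber k) m DualNumber.eps) = 0
      refine TrivSqZeroExt.ext ?_ ?_
      · rw [TrivSqZeroExt.fst_mul, h0, zero_mul, TrivSqZeroExt.fst_zero]
      · rw [TrivSqZeroExt.snd_mul, h0, DualNumber.fst_eps]; simp
    refine ⟨fun α β => ?_⟩
    refine Groth.OmegaSheaf.hom_ext_of_isUniversal (Groth.OmegaSheaf.isUniversal_dOmega x) fun U s => ?_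
    have hα : α.app U ((OmegaSh.dOmega x).app U s) = 0 := h0 ((OmegaSh.dOmega x).postcomp α.val) U s
    have hβ : β.app U ((OmegaSh.dOmega x).app U s) = 0 := h0 ((OmegaSh.dOmega x).postcomp β.val) U s
    rw [hα, hβ]

end Groth.SGA7Def
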