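import Groth.Agent.SGA7.DefGlue
import Groth.Agent.SGA7.ThickPushout

/-!
Deformations of an arbitrary `k`-scheme: morphisms, gluing over fibre products of Artin rings.
-/

set_option linter.style.haveILetI false
set_option linter.style.longLine false
set_option linter.unusedSectionVars false

noncomputable section

universe u

open CategoryTheory AlgebraicGeometry Limits TopologicalSpace Opposite

namespace Groth.SGA7Def

open ArtFun Groth.ArtfunDeform

local notation "𝔪" => IsLocalRing.maximalIdeal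

variable {Λ k : Type u} [CommRing Λ] [Field k] [Algebra Λ k]
variable {X : Scheme.{u}} {x : X ⟶ Art.specPt k}
variable {A A' A'' B : Art Λ k}

/-- Any morphism to the spectrum of a field is flat. -/
theorem flat_of_field (y : X ⟶ Art.specPt k) : Flat y := by
  rw [HasRingHomProperty.iff_exists_appLE (P := @Flat)
    (RingHom.Flat.stableUnderComposition.stableUnderCompositionWithLocalizationAway
      RingHom.Flat.holdsForLocalizationAway).left]
  intro z
  obtain ⟨_, ⟨V, hV, rfl⟩, hzV, -⟩ := X.isBasis_affineOpens.exists_subset_of_mem_open (Set.mem_univ z) isOpen_univ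
  refine ⟨⟨⊤, isAffineOpen_top _⟩, ⟨V, hV⟩, hzV, le_top, ?_⟩
  let e := (Scheme.ΓSpecIso (CommRingCat.of k)).commRingCatIsoToRingEquiv
  let φ : k →+* Γ(X, V) := (y.appLE ⊤ V le_top).hom.comp e.symm.toRingHom
  have hφ : φ.Flat := by
    letI := φ.toAlgebra
    exact RingHom.flat_algebraMap_iff.2 (inferInstance : Module.Flat k Γ(X, V))
  have h := RingHom.Flat.stableUnderComposition e.toRingHom φ (RingHom.Flat.of_bijective e.bijective) hφ
  convert h using 1
  ext a
  exact (congrArg (y.appLE ⊤ V le_top).hom (e.symm_apply_apply a)).symm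

/-- A morphism of deformations over `g : A ⟶ A'` (pointing from `A'` to `A`). -/
structure SHom (g : A ⟶ A') (ξ : DefSch X x A) (ξ' : DefSch X x A') : Type u where
  /-- The map of total spaces. -/
  hom : ξ'.total ⟶ ξ.total
  hom_f : hom ≫ ξ.f = ξ'.f ≫ Art.specMap g
  i_hom : ξ'.i ≫ hom = ξ.i

namespace SHom

/-- Composite. -/
def comp {g : A ⟶ A'} {g' : A' ⟶ A''} {ξ : DefSch X x A} {ξ' : DefSch X x A'} {ξ'' : DefSch X x A''}
    (φ : SHom g ξ ξ') (ψ : SHom g' ξ' ξ'') : SHom (g ≫ g') ξ ξ'' where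
  hom := ψ.hom ≫ φ.hom
  hom_f := by rw [Category.assoc, φ.hom_f, ← Category.assoc, ψ.hom_f, Category.assoc, Art.specMap_comp]
  i_hom := by rw [← Category.assoc, ψ.i_hom, φ.i_hom]

/-- Transport along an equality of morphisms. -/
def cast {g g' : A ⟶ A'} (h : g = g') {ξ : DefSch X x A} {ξ' : DefSch X x A'} (φ : SHom g ξ ξ') : SHom g' ξ ξ' :=
  ⟨φ.hom, h ▸ φ.hom_f, φ.i_hom⟩

/-- The map from the base change. -/
def fst (g : A ⟶ A') (ξ : DefSch X x A) : SHom g ξ (ξ.baseChange g) :=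
  ⟨pullback.fst _ _, pullback.condition, DefSch.baseChange_i_fst _ _⟩

/-- An isomorphism gives a morphism over the identity. -/
def ofIso {ξ ξ' : DefSch X x A} (e : ξ'.Iso ξ) : SHom (𝟙 A) ξ ξ' :=
  ⟨e.iso.hom, by rw [e.hom_f, Art.specMap_id, Category.comp_id], e.i_hom⟩

/-- The comparison with the base change. -/
def lift {g : A ⟶ A'} {ξ : DefSch X x A} {ξ' : DefSch X x A'} (φ : SHom g ξ ξ') : SHom (𝟙 A') (ξ.baseChange g) ξ' where
  hom := pullback.lift φ.hom ξ'.f φ.hom_f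
  hom_f := by rw [Art.specMap_id, Category.comp_id]; exact pullback.lift_snd _ _ _
  i_hom := by
    apply pullback.hom_ext
    · rw [Category.assoc, pullback.lift_fst, φ.i_hom, DefSch.baseChange_i_fst]
    · rw [Category.assoc, pullback.lift_snd]
      exact (ξ'.i_f).trans (DefSch.baseChange_i_f _ g).symm

end SHom

instance isClosedImmersion_i (ξ : DefSch X x A) : IsClosedImmersion ξ.i :=
  MorphismProperty.of_isPullback ξ.isPullback.flip inferInstance

instance surjective_i (ξ : DefSch X x A) : Surjective ξ.i :=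
  MorphismProperty.of_isPullback ξ.isPullback.flip inferInstance

lemma isAffineOpen_of_thickening {P Q : Scheme.{u}} (j : P ⟶ Q) [IsClosedImmersion j] [Surjective j] (U : Q.Opens)
    (h : IsAffineOpen (j ⁻¹ᵁ U)) : IsAffineOpen U := by
  haveI : IsAffine (j ⁻¹ᵁ U).toScheme := h
  haveI : Surjective (j ∣_ U) := MorphismProperty.of_isPullback (isPullback_morphismRestrict j U).flip inferInstance
  exact Groth.FlatMor2.isAffine_of_surjective_closedImmersion (j ∣_ U)

lemma isAffineOpen_of_preimage (ξ : DefSch X x A) (U : ξ.total.Opens) (h : IsAffineOpen (ξ.i ⁻¹ᵁ U)) :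
    IsAffineOpen U := by
  haveI : IsAffine (ξ.i ⁻¹ᵁ U).toScheme := h
  haveI : Surjective (ξ.i ∣_ U) := MorphismProperty.of_isPullback (isPullback_morphismRestrict ξ.i U).flip inferInstance
  exact Groth.FlatMor2.isAffine_of_surjective_closedImmersion (ξ.i ∣_ U)

/-! ### Deformations of affine pieces. -/

/-- `k → Γ(X, W)`. -/
@[reducible] def algW (x : X ⟶ Art.specPt k) (W : X.Opens) : Algebra k Γ(X, W) :=
  ((Scheme.ΓSpecIso (CommRingCat.of k)).inv ≫ x.appLE ⊤ W le_top).hom.toAlgebra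

/-- `A → Γ(P, U)` for `P ⟶ Spec A`. -/
def strOf {R : CommRingCat.{u}} {P : Scheme.{u}} (f : P ⟶ Spec R) (U : P.Opens) : R ⟶ Γ(P, U) :=
  (Scheme.ΓSpecIso R).inv ≫ f.appLE ⊤ U le_top

lemma appLE_congr_hom' {P Q : Scheme.{u}} {h h' : P ⟶ Q} (e : h = h') (U : Q.Opens) (V : P.Opens)
    (hV : V ≤ h ⁻¹ᵁ U) (hV' : V ≤ h' ⁻¹ᵁ U) : h.appLE U V hV = h'.appLE U V hV' := by subst e; rfl

lemma strOf_comp {R : CommRingCat.{u}} {P Q : Scheme.{u}} (f : Q ⟶ Spec R) (g : P ⟶ Q) (U : Q.Opens) (U' : P.Opens)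
    (hle : U' ≤ g ⁻¹ᵁ U) : strOf f U ≫ g.appLE U U' hle = strOf (g ≫ f) U' := by
  rw [strOf, Category.assoc]
  exact congrArg ((Scheme.ΓSpecIso R).inv ≫ ·) (Scheme.Hom.appLE_comp_appLE g f ⊤ U U' le_top hle)

lemma strOf_specMap {R S : CommRingCat.{u}} {P : Scheme.{u}} (f : P ⟶ Spec S) (φ : R ⟶ S) (U : P.Opens) :
    strOf (f ≫ Spec.map φ) U = φ ≫ strOf f U := by
  have e : (f ≫ Spec.map φ).appLE ⊤ U le_top = (Spec.map φ).appTop ≫ f.appLE ⊤ U le_top :=
    Scheme.Hom.comp_appLE f (Spec.map φ) ⊤ U le_top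
  rw [strOf, strOf, e, ← Category.assoc, ← Scheme.ΓSpecIso_inv_naturality, Category.assoc]

/-- `A → Γ(total, U)`. -/
abbrev strU (ξ : DefSch X x A) (U : ξ.total.Opens) : CommRingCat.of A ⟶ Γ(ξ.total, U) := strOf ξ.f U

lemma appLE_congr_hom {P Q : Scheme.{u}} {h h' : P ⟶ Q} (e : h = h') (U : Q.Opens) (V : P.Opens)
    (hV : V ≤ h ⁻¹ᵁ U) : h.appLE U V hV = h'.appLE U V (e ▸ hV) := Groth.ThickPushout.congr_appLE e U V hV

lemma isPushout_strU (ξ : DefSch X x A) {U : ξ.total.Opens} (hU : IsAffineOpen U) :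
    letI := algW x (ξ.i ⁻¹ᵁ U)
    IsPushout (strU ξ U) (CommRingCat.ofHom A.res.toRingHom) (ξ.i.app U)
      (CommRingCat.ofHom (algebraMap k Γ(X, ξ.i ⁻¹ᵁ U))) := by
  have h := Groth.FlatMor2.isPushout_app ξ.isPullback (isAffineOpen_top (Art.spec A)) hU le_top
  refine h.of_iso (Scheme.ΓSpecIso (CommRingCat.of A)) (Iso.refl _) (Scheme.ΓSpecIso (CommRingCat.of k)) (Iso.refl _) ?_ ?_ ?_ ?_
  · simp [strU, strOf]
  · exact Scheme.ΓSpecIso_naturality _
  · simp
  · simp only [Iso.refl_hom, Category.comp_id]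
    exact (Iso.hom_inv_id_assoc _ _).symm

/-- The algebraic deformation of an affine piece. -/
@[reducible] def secAlg (ξ : DefSch X x A) {U : ξ.total.Opens} (hU : IsAffineOpen U) {W : X.Opens}
    (hW : ξ.i ⁻¹ᵁ U = W) : letI := algW x W; DefAlg Γ(X, W) A :=
  letI := algW x W
  { carrier := Γ(ξ.total, U)
    algebra := (strU ξ U).hom.toAlgebra
    flat := by
      have h := HasRingHomProperty.appLE (P := @Flat) ξ.f ξ.flat ⟨⊤, isAffineOpen_top _⟩ ⟨U, hU⟩ le_top
      letI := (strU ξ U).hom.toAlgebra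
      exact RingHom.flat_algebraMap_iff.1 (RingHom.Flat.stableUnderComposition _ _
        (RingHom.Flat.of_bijective (Scheme.ΓSpecIso (CommRingCat.of A)).commRingCatIsoToRingEquiv.symm.bijective) h)
    π := (ξ.i.appLE U W hW.ge).hom
    π_surjective := by
      subst hW
      rw [← Scheme.Hom.app_eq_appLE]
      exact Groth.FlatMor2.surjective_of_isPushout (isPushout_strU ξ hU) A.res_surjective
    ker_π := by
      subst hW
      rw [← Scheme.Hom.app_eq_appLE, Groth.FlatMor2.ker_eq_map_of_isPushout (isPushout_strU ξ hU) A.res_surjective]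
      exact congrArg (Ideal.map (strU ξ U).hom) (ker_res A)
    π_algebraMap := fun a => by
      subst hW
      rw [← Scheme.Hom.app_eq_appLE]
      exact congr($((isPushout_strU ξ hU).w) a) }

/-- Morphisms of deformations act on affine pieces. -/
def SHom.secMap {g : A ⟶ A'} {ξ : DefSch X x A} {ξ' : DefSch X x A'} (φ : SHom g ξ ξ')
    {U : ξ.total.Opens} (hU : IsAffineOpen U) {U' : ξ'.total.Opens} (hU' : IsAffineOpen U')
    (hle : U' ≤ φ.hom ⁻¹ᵁ U) {W : X.Opens} (hW : ξ.i ⁻¹ᵁ U = W) (hW' : ξ'.i ⁻¹ᵁ U' = W) :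
    letI := algW x W
    DefAlg.Map g (secAlg ξ hU hW) (secAlg ξ' hU' hW') :=
  letI := algW x W
  { hom := (φ.hom.appLE U U' hle).hom
    hom_algebraMap := fun a => by
      have e1 : strU ξ U ≫ φ.hom.appLE U U' hle = CommRingCat.ofHom g.toAlgHom.toRingHom ≫ strU ξ' U' := by
        rw [strU, strOf_comp, φ.hom_f]
        exact strOf_specMap _ _ _
      exact congr($e1 a)
    π_hom := fun b => by
      have e2 : φ.hom.appLE U U' hle ≫ ξ'.i.appLE U' W hW'.ge = ξ.i.appLE U W hW.ge := by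
        rw [Scheme.Hom.appLE_comp_appLE, appLE_congr_hom φ.i_hom]
      exact congr($e2 b) }

namespace SHom

variable {g : A ⟶ A'} {ξ : DefSch X x A} {ξ' : DefSch X x A'} (φ : SHom g ξ ξ')

lemma preimage_i (U : ξ.total.Opens) : ξ'.i ⁻¹ᵁ (φ.hom ⁻¹ᵁ U) = ξ.i ⁻¹ᵁ U := by
  rw [← Scheme.Hom.comp_preimage, φ.i_hom]

lemma isAffineOpen_preimage {U : ξ.total.Opens} (hU : IsAffineOpen U) : IsAffineOpen (φ.hom ⁻¹ᵁ U) :=
  isAffineOpen_of_preimage ξ' _ (by rw [φ.preimage_i]; exact hU.preimage ξ.i)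

lemma isAffineHom : IsAffineHom φ.hom := ⟨fun _ hU => φ.isAffineOpen_preimage hU⟩

lemma surjective : Surjective φ.hom :=
  haveI : Surjective (ξ'.i ≫ φ.hom) := by rw [φ.i_hom]; infer_instance
  Surjective.of_comp ξ'.i φ.hom

lemma isClosedImmersion (hg : Function.Surjective g) : IsClosedImmersion φ.hom := by
  refine isClosedImmersion_iff_isAffineHom.2 ⟨φ.isAffineHom, fun U hU => ?_⟩
  rw [Scheme.Hom.app_eq_appLE]
  letI := algW x (ξ.i ⁻¹ᵁ U)
  exact (φ.secMap hU (φ.isAffineOpen_preimage hU) le_rfl rfl (φ.preimage_i U)).surjective hg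

end SHom

/-- A morphism over the identity is an isomorphism. -/
theorem SHom.isIso {ξ ξ' : DefSch X x A} (φ : SHom (𝟙 A) ξ ξ') : IsIso φ.hom := by
  haveI := φ.isClosedImmersion Function.surjective_id
  have hker : φ.hom.ker ≤ (𝟙 ξ.total : ξ.total ⟶ ξ.total).ker := by
    refine Scheme.IdealSheafData.le_ofIdeals_iff.2 fun U r hr => ?_
    have h0 : φ.hom.app U.1 r = 0 := φ.hom.ideal_ker_le U hr
    rw [Scheme.Hom.app_eq_appLE] at h0
    letI := algW x (ξ.i ⁻¹ᵁ U.1)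
    have h1 : r = 0 := (φ.secMap U.2 (φ.isAffineOpen_preimage U.2) le_rfl rfl (φ.preimage_i U.1)).bijective.1
      (h0.trans (map_zero (φ.hom.appLE U.1 (φ.hom ⁻¹ᵁ U.1) le_rfl).hom).symm)
    rw [h1]
    exact zero_mem _
  refine ⟨⟨IsClosedImmersion.lift φ.hom (𝟙 _) hker, ?_, IsClosedImmersion.lift_fac _ _ _⟩⟩
  rw [← cancel_mono φ.hom, Category.assoc, IsClosedImmersion.lift_fac, Category.comp_id, Category.id_comp]

/-- A morphism over the identity as an isomorphism of deformations. -/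
def SHom.toIso {ξ ξ' : DefSch X x A} (φ : SHom (𝟙 A) ξ ξ') : ξ'.Iso ξ :=
  haveI := φ.isIso
  ⟨asIso φ.hom, by rw [asIso_hom, φ.hom_f, Art.specMap_id, Category.comp_id], φ.i_hom⟩

theorem SHom.isPullback {g : A ⟶ A'} {ξ : DefSch X x A} {ξ' : DefSch X x A'} (φ : SHom g ξ ξ') :
    IsPullback φ.hom ξ'.f ξ.f (Art.specMap g) := by
  haveI : IsIso (pullback.lift φ.hom ξ'.f φ.hom_f) := φ.lift.isIso
  exact IsPullback.of_iso_pullback ⟨φ.hom_f⟩ (asIso (pullback.lift φ.hom ξ'.f φ.hom_f))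
    (pullback.lift_fst _ _ _) (pullback.lift_snd _ _ _)

/-- Classes are related by base change iff there is a morphism. -/
theorem map_cl_eq_iff' {g : A ⟶ A'} {ξ : DefSch X x A} {ξ' : DefSch X x A'} :
    (defFunctor (Λ := Λ) X x).map g ξ.cl = ξ'.cl ↔ Nonempty (SHom g ξ ξ') := by
  rw [defFunctor_map_cl]
  refine ⟨fun h => ?_, fun ⟨φ⟩ => (Quotient.sound ⟨φ.lift.toIso⟩ : ξ'.cl = (ξ.baseChange g).cl).symm⟩
  obtain ⟨e⟩ := (Quotient.exact h.symm : Nonempty (ξ'.Iso (ξ.baseChange g)))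
  exact ⟨((SHom.fst g ξ).comp (SHom.ofIso e)).cast (Category.comp_id g)⟩

lemma exists_cl' (q : (defFunctor (Λ := Λ) X x).obj A) : ∃ ξ : DefSch X x A, ξ.cl = q :=
  Quotient.inductionOn q fun ξ => ⟨ξ, rfl⟩

theorem cl_eq_iff' {ξ ξ' : DefSch X x A} : ξ.cl = ξ'.cl ↔ Nonempty (SHom (𝟙 A) ξ ξ') :=
  ⟨fun h => let ⟨e⟩ := Quotient.exact h.symm; ⟨SHom.ofIso e⟩, fun ⟨φ⟩ => (Quotient.sound ⟨φ.toIso⟩ : ξ'.cl = ξ.cl).symm⟩

/-- `X` over the residue field maps to every deformation. -/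
def toSelfSch (hx : Flat x) (ξ : DefSch X x A) : SHom (Art.toBase A) ξ (DefSch.self (Λ := Λ) X x hx) where
  hom := ξ.i
  hom_f := ξ.i_f
  i_hom := Category.id_comp _

/-! ### Gluing. -/

section Glue

variable {p' : B ⟶ A'} {p'' : B ⟶ A''} {f' : A' ⟶ A} {f'' : A'' ⟶ A}
variable (h : Art.IsFibreProd p' p'' f' f'') (hf : Function.Surjective f'')
variable {ξ : DefSch X x A} {ξ' : DefSch X x A'} {ξ'' : DefSch X x A''}
variable (φ' : SHom f' ξ' ξ) (φ'' : SHom f'' ξ'' ξ)

include h in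
lemma glue_w : φ''.hom ≫ ξ''.f ≫ Art.specMap p'' = φ'.hom ≫ ξ'.f ≫ Art.specMap p' := by
  rw [← Category.assoc, φ''.hom_f, ← Category.assoc, φ'.hom_f, Category.assoc, Category.assoc,
    ← Art.specMap_comp, ← Art.specMap_comp, h.w]

variable [IsClosedImmersion φ''.hom] [Surjective φ''.hom] [IsAffineHom φ'.hom]

open Groth.ThickPushout

/-- Total space of the glued deformation. -/
abbrev glueTot : Scheme.{u} := scheme φ''.hom φ'.hom

/-- Structure map of the glued deformation. -/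
def glueF : glueTot φ' φ'' ⟶ Art.spec B :=
  desc φ''.hom φ'.hom (ξ''.f ≫ Art.specMap p'') (ξ'.f ≫ Art.specMap p') (glue_w h φ' φ'')

/-- Inclusion of the closed fibre. -/
def glueI : X ⟶ glueTot φ' φ'' := ξ'.i ≫ inl φ''.hom φ'.hom

lemma glueI_eq : glueI φ' φ'' = ξ''.i ≫ inr φ''.hom φ'.hom := by
  rw [glueI, ← φ'.i_hom, Category.assoc, ← comp_inr, ← Category.assoc, φ''.i_hom]

lemma glueI_f : glueI φ' φ'' ≫ glueF h φ' φ'' = x ≫ Art.specRes B := by
  rw [glueI, Category.assoc, glueF, inl_desc, ← Category.assoc, ξ'.i_f, Category.assoc, Art.specRes_comp]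

instance : IsClosedImmersion (glueI φ' φ'') := by rw [glueI]; infer_instance

variable {V : ξ'.total.Opens} (hV : IsAffineOpen V)

/-- `B → sec V`. -/
def glueStr : CommRingCat.of B ⟶ Γ(glueTot φ' φ'', V) :=
  strOf (glueF h φ' φ'') V

lemma inl_glueF : inl φ''.hom φ'.hom ≫ glueF h φ' φ'' = ξ'.f ≫ Art.specMap p' := inl_desc _ _ _ _ _

lemma inr_glueF : inr φ''.hom φ'.hom ≫ glueF h φ' φ'' = ξ''.f ≫ Art.specMap p'' := inr_desc _ _ _ _ _

lemma glueStr_fst (b : B) :
    (show sec φ''.hom φ'.hom V from glueStr h φ' φ'' b).1.1 = strU ξ' V (p' b) := by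
  have e1 : glueStr h φ' φ'' (V := V) ≫ (inl φ''.hom φ'.hom).appLE V V le_rfl =
      CommRingCat.ofHom p'.toAlgHom.toRingHom ≫ strU ξ' V := by
    exact (strOf_comp (glueF h φ' φ'') (inl φ''.hom φ'.hom) V V le_rfl).trans
      ((congrArg (strOf · V) (inl_glueF h φ' φ'')).trans (strOf_specMap _ _ _))
  have e2 := congr($e1 b)
  exact congr($(ξ'.total.presheaf.map_id (op V)) _).symm.trans e2

lemma glueStr_snd (b : B) :
    (show sec φ''.hom φ'.hom V from glueStr h φ' φ'' b).1.2 = strU ξ'' (gPre φ''.hom φ'.hom V) (p'' b) := by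
  have e1 : glueStr h φ' φ'' (V := V) ≫ (inr φ''.hom φ'.hom).appLE V (gPre φ''.hom φ'.hom V) le_rfl =
      CommRingCat.ofHom p''.toAlgHom.toRingHom ≫ strU ξ'' (gPre φ''.hom φ'.hom V) := by
    exact (strOf_comp (glueF h φ' φ'') (inr φ''.hom φ'.hom) V (gPre φ''.hom φ'.hom V) le_rfl).trans
      ((congrArg (strOf · (gPre φ''.hom φ'.hom V)) (inr_glueF h φ' φ'')).trans (strOf_specMap _ _ _))
  have e2 := congr($e1 b)
  exact congr($(ξ''.total.presheaf.map_id (op (gPre φ''.hom φ'.hom V))) _).symm.trans e2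

set_option maxHeartbeats 1000000 in
include h hf hV in
lemma exists_secGlue :
    letI := algW x (ξ'.i ⁻¹ᵁ V)
    ∃ (D : DefAlg Γ(X, ξ'.i ⁻¹ᵁ V) B) (e : D.carrier ≃+* sec φ''.hom φ'.hom V),
      (∀ b, e (algebraMap B D.carrier b) = glueStr h φ' φ'' b) ∧ ∀ d, D.π d = ξ'.i.app V (e d).1.1 := by
  let W := ξ'.i ⁻¹ᵁ V
  letI := algW x W
  have hG : IsAffineOpen (gPre φ''.hom φ'.hom V) := isAffineOpen_gPre φ''.hom φ'.hom hV
  have hW₀ : ξ.i ⁻¹ᵁ (φ'.hom ⁻¹ᵁ V) = W := φ'.preimage_i V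
  have hW'' : ξ''.i ⁻¹ᵁ gPre φ''.hom φ'.hom V = W := by
    rw [← φ''.preimage_i, preimage_gPre, hW₀]
  let m' := φ'.secMap hV (φ'.isAffineOpen_preimage hV) le_rfl (rfl : ξ'.i ⁻¹ᵁ V = W) hW₀
  let m'' := φ''.secMap hG (φ'.isAffineOpen_preimage hV) (le_gPre φ''.hom φ'.hom V) hW'' hW₀
  have he : glueRing m' m'' = sec φ''.hom φ'.hom V := by
    ext r
    change φ'.hom.appLE V (φ'.hom ⁻¹ᵁ V) le_rfl r.1 = _ ↔ φ'.hom.app V r.1 = _
    rw [Scheme.Hom.app_eq_appLE]
    rfl
  refine ⟨glue h m' m'' hf, RingEquiv.subringCongr he, fun b => Subtype.ext (Prod.ext ?_ ?_), fun d => ?_⟩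
  · exact (glueStr_fst h φ' φ'' b).symm
  · exact (glueStr_snd h φ' φ'' b).symm
  · change ξ'.i.appLE V W le_rfl d.1.1 = ξ'.i.app V d.1.1
    rw [Scheme.Hom.app_eq_appLE]

include hV in
lemma isAffineOpen_glueTot : IsAffineOpen (X := glueTot φ' φ'') V :=
  haveI : Surjective (inl φ''.hom φ'.hom) := ⟨surjective_inl _ _⟩
  isAffineOpen_of_thickening (inl φ''.hom φ'.hom) (show (glueTot φ' φ'').Opens from V) hV

include h hf in
theorem flat_glueF : Flat (glueF h φ' φ'') := by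
  rw [HasRingHomProperty.iff_exists_appLE (P := @Flat)
    (RingHom.Flat.stableUnderComposition.stableUnderCompositionWithLocalizationAway
      RingHom.Flat.holdsForLocalizationAway).left]
  intro z
  obtain ⟨_, ⟨V, hV, rfl⟩, hzV, -⟩ :=
    ξ'.total.isBasis_affineOpens.exists_subset_of_mem_open (Set.mem_univ (z : ξ'.total)) isOpen_univ
  refine ⟨⟨⊤, isAffineOpen_top _⟩, ⟨V, isAffineOpen_glueTot φ' φ'' hV⟩, hzV, le_top, ?_⟩
  letI := algW x (ξ'.i ⁻¹ᵁ V)
  obtain ⟨D, e, he, -⟩ := exists_secGlue h hf φ' φ'' hV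
  let σ := (Scheme.ΓSpecIso (CommRingCat.of B)).commRingCatIsoToRingEquiv
  have h2 := RingHom.Flat.stableUnderComposition σ.toRingHom (e.toRingHom.comp (algebraMap B D.carrier))
    (RingHom.Flat.of_bijective σ.bijective)
    (RingHom.Flat.stableUnderComposition _ e.toRingHom (RingHom.flat_algebraMap_iff.2 D.flat) (RingHom.Flat.of_bijective e.bijective))
  refine (congrArg (fun φ : _ →+* sec φ''.hom φ'.hom V => φ.Flat) ?_).mpr h2
  refine RingHom.ext fun a => ?_
  refine Eq.trans ?_ (he (σ a)).symm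
  exact (congrArg ((glueF h φ' φ'').appLE ⊤ V le_top).hom (σ.symm_apply_apply a)).symm

set_option maxHeartbeats 1000000 in
include h hf in
theorem isPullback_glue : IsPullback (glueI φ' φ'') x (glueF h φ' φ'') (Art.specRes B) := by
  haveI : Mono (Art.specRes B) := inferInstance
  refine ⟨⟨glueI_f h φ' φ''⟩, ⟨PullbackCone.IsLimit.mk _
    (fun s => IsClosedImmersion.lift (glueI φ' φ'') s.fst ?_) (fun s => IsClosedImmersion.lift_fac _ _ _) (fun s => ?_)
    fun s m h₁ h₂ => ?_⟩⟩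
  · refine Scheme.IdealSheafData.le_ofIdeals_iff.2 fun U r hr => ?_
    have hV : IsAffineOpen (inl φ''.hom φ'.hom ⁻¹ᵁ U.1) := U.2.preimage _
    let V : ξ'.total.Opens := U.1
    letI := algW x (ξ'.i ⁻¹ᵁ V)
    obtain ⟨D, e, he, hπ⟩ := exists_secGlue h hf φ' φ'' (V := V) hV
    let r' : sec φ''.hom φ'.hom V := r
    have h0 : D.π (e.symm r') = 0 := by
      rw [hπ, e.apply_symm_apply]
      have h1 : (glueI φ' φ'').app U.1 r = 0 := (glueI φ' φ'').ideal_ker_le U hr
      exact h1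
    have hmem : e.symm r' ∈ (𝔪 B).map (algebraMap B D.carrier) := D.ker_π.le h0
    have hle : (𝔪 B).map (algebraMap B D.carrier) ≤
        RingHom.ker ((s.fst.app U.1).hom.comp e.toRingHom) := by
      refine Ideal.map_le_iff_le_comap.2 fun b hb => ?_
      change (s.fst.app U.1).hom (e (algebraMap B D.carrier b)) = 0
      rw [he]
      have hc : glueStr h φ' φ'' (V := V) ≫ s.fst.app U.1 =
          CommRingCat.ofHom B.res.toRingHom ≫ (Scheme.ΓSpecIso (CommRingCat.of k)).inv ≫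
            s.snd.appLE ⊤ (s.fst ⁻¹ᵁ U.1) le_top := by
        rw [glueStr, Scheme.Hom.app_eq_appLE, strOf_comp, s.condition]
        exact strOf_specMap _ _ _
      have hb' := congr($hc b)
      refine hb'.trans ?_
      change ((Scheme.ΓSpecIso (CommRingCat.of k)).inv ≫ s.snd.appLE ⊤ (s.fst ⁻¹ᵁ U.1) le_top).hom (B.res b) = 0
      rw [(B.mem_maximalIdeal_iff b).1 hb, map_zero]
    have h3 := hle hmem
    change (s.fst.app U.1).hom (e (e.symm r')) = 0 at h3
    rw [e.apply_symm_apply] at h3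
    exact h3
  · exact (cancel_mono (Art.specRes B)).1 ((Category.assoc _ _ _).trans ((congrArg (_ ≫ ·) (glueI_f h φ' φ'').symm).trans
      ((Category.assoc _ _ _).symm.trans ((congrArg (· ≫ glueF h φ' φ'') (IsClosedImmersion.lift_fac _ _ _)).trans s.condition))))
  · rw [← cancel_mono (glueI φ' φ'')]
    exact h₁.trans (IsClosedImmersion.lift_fac _ _ _).symm

/-- The glued deformation. -/
@[reducible] def glueSch : DefSch X x B where
  total := glueTot φ' φ''
  f := glueF h φ' φ''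
  flat := flat_glueF h hf φ' φ''
  i := glueI φ' φ''
  isPullback := isPullback_glue h hf φ' φ''

/-- First component. -/
def glueInl : SHom p' (glueSch h hf φ' φ'') ξ' :=
  ⟨inl φ''.hom φ'.hom, inl_desc φ''.hom φ'.hom _ _ _, rfl⟩

/-- Second component. -/
def glueInr : SHom p'' (glueSch h hf φ' φ'') ξ'' :=
  ⟨inr φ''.hom φ'.hom, inr_desc φ''.hom φ'.hom _ _ _, (glueI_eq φ' φ'').symm⟩

/-- Universal property. -/
def fromGlue {E : DefSch X x B} (α : SHom p' E ξ') (β : SHom p'' E ξ'')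
    (w : φ''.hom ≫ β.hom = φ'.hom ≫ α.hom) : SHom (𝟙 B) E (glueSch h hf φ' φ'') where
  hom := desc φ''.hom φ'.hom β.hom α.hom w
  hom_f := by
    rw [Art.specMap_id, Category.comp_id]
    apply hom_ext' φ''.hom φ'.hom
    · rw [← Category.assoc, inl_desc, α.hom_f, inl_glueF]
    · rw [← Category.assoc, inr_desc, β.hom_f, inr_glueF]
  i_hom := by
    change (ξ'.i ≫ inl φ''.hom φ'.hom) ≫ _ = _
    rw [Category.assoc, inl_desc, α.i_hom]

end Glue

end Groth.SGA7Def
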