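import Mathlib.Algebra.Homology.DerivedCategory.Ext.ExactSequences
import Mathlib.Algebra.Homology.DerivedCategory.TStructure
import Mathlib.Algebra.Homology.DerivedCategory.FullyFaithful
import Mathlib.CategoryTheory.Triangulated.TStructure.TruncLTGE

/-! Every class in `Ext¹` is the class of a short exact sequence. -/

set_option autoImplicit false

universe w v u

open CategoryTheory Category Limits Pretriangulated DerivedCategory CategoryTheory.Abelian

namespace Groth.SGA7.Ext1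

variable {C : Type u} [Category.{v} C] [Abelian C] [HasExt.{w} C]

theorem exists_shortExact_extClass_eq {P Q : C} (e : Ext.{w} Q P 1) :
    ∃ (X : C) (i : P ⟶ X) (p : X ⟶ Q) (wX : i ≫ p = 0) (hX : (ShortComplex.mk i p wX).ShortExact),
      hX.extClass = e := by
  let := HasDerivedCategory.standard C
  let S := singleFunctor C 0
  let h : S.obj Q ⟶ (S.obj P)⟦(1 : ℤ)⟧ := e.hom
  obtain ⟨Y, f, g, hT⟩ := distinguished_cocone_triangle₂ h
  have : Y.IsLE 0 := TStructure.t.isLE₂ _ hT 0 (inferInstanceAs ((S.obj P).IsLE 0)) (inferInstanceAs ((S.obj Q).IsLE 0))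
  have : Y.IsGE 0 := TStructure.t.isGE₂ _ hT 0 (inferInstanceAs ((S.obj P).IsGE 0)) (inferInstanceAs ((S.obj Q).IsGE 0))
  obtain ⟨X, ⟨eX⟩⟩ := exists_iso_singleFunctor_obj_of_isGE_of_isLE Y 0
  obtain ⟨i, hi⟩ := S.map_surjective (f ≫ eX.hom)
  obtain ⟨p, hp⟩ := S.map_surjective (eX.inv ≫ g)
  have hT' : Triangle.mk (S.map i) (S.map p) h ∈ distTriang (DerivedCategory C) :=
    isomorphic_distinguished _ hT _ (Triangle.isoMk _ _ (Iso.refl _) eX.symm (Iso.refl _)
      (by
        change S.map i ≫ eX.inv = 𝟙 (S.obj P) ≫ f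
        rw [hi, id_comp, assoc, Iso.hom_inv_id, comp_id])
      (by
        change S.map p ≫ 𝟙 (S.obj Q) = eX.inv ≫ g
        rw [hp, comp_id])
      (by
        change h ≫ (shiftFunctor (DerivedCategory C) (1 : ℤ)).map (𝟙 (S.obj P)) = 𝟙 (S.obj Q) ≫ h
        rw [CategoryTheory.Functor.map_id, comp_id, id_comp]))
  have wX : i ≫ p = 0 := S.map_injective (by
    rw [S.map_comp, S.map_zero]; exact comp_distTriang_mor_zero₁₂ _ hT')
  have : Mono i := by
    refine Preadditive.mono_of_cancel_zero _ fun {W} t ht => S.map_injective ?_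
    rw [S.map_zero]
    obtain ⟨u, hu⟩ := Triangle.coyoneda_exact₂ _ (inv_rot_of_distTriang _ hT') (S.map t)
      (by change S.map t ≫ S.map i = 0; rw [← S.map_comp, ht, S.map_zero])
    have hu0 : u = 0 := by
      have : ((S.obj Q)⟦(-1 : ℤ)⟧).IsGE 1 := TStructure.t.isGE_shift (S.obj Q) 0 (-1) 1
      exact TStructure.t.zero (X := S.obj W) (Y := (S.obj Q)⟦(-1 : ℤ)⟧) u 0 1
    rw [hu, hu0]
    exact zero_comp
  have : Epi p := by
    refine Preadditive.epi_of_cancel_zero _ fun {W} t ht => S.map_injective ?_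
    rw [S.map_zero]
    obtain ⟨u, hu⟩ := Triangle.yoneda_exact₂ _ (rot_of_distTriang _ hT') (S.map t)
      (by change S.map p ≫ S.map t = 0; rw [← S.map_comp, ht, S.map_zero])
    have hu0 : u = 0 := by
      have : ((S.obj P)⟦(1 : ℤ)⟧).IsLE (-1) := TStructure.t.isLE_shift (S.obj P) 0 1 (-1)
      exact TStructure.t.zero (X := (S.obj P)⟦(1 : ℤ)⟧) (Y := S.obj W) u (-1) 0
    rw [hu, hu0]
    exact comp_zero
  have hex : (ShortComplex.mk i p wX).Exact := by
    refine ShortComplex.exact_of_f_is_kernel _ (KernelFork.IsLimit.ofι' _ _ fun {W} t ht => ?_)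
    have hh := Triangle.coyoneda_exact₂ _ hT' (S.map t) (by change S.map t ≫ S.map p = 0; rw [← S.map_comp, ht, S.map_zero])
    refine ⟨S.preimage hh.choose, S.map_injective ?_⟩
    rw [S.map_comp, S.map_preimage]
    exact hh.choose_spec.symm
  have hX : (ShortComplex.mk i p wX).ShortExact := ShortComplex.ShortExact.mk hex
  refine ⟨X, i, p, wX, hX, ?_⟩
  ext
  rw [ShortComplex.ShortExact.extClass_hom]
  obtain ⟨c, hc₁, hc₂⟩ := complete_distinguished_triangle_morphism _ _ hX.singleTriangle_distinguished hT'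
    (𝟙 (S.obj P)) (𝟙 (S.obj X)) (by
      change S.map i ≫ 𝟙 (S.obj X) = 𝟙 (S.obj P) ≫ S.map i
      rw [id_comp, comp_id])
  obtain ⟨θ, hθ⟩ := S.map_surjective c
  have hθ1 : θ = 𝟙 Q := by
    rw [← cancel_epi p, comp_id]
    apply S.map_injective
    rw [S.map_comp, hθ]
    exact hc₁.trans (id_comp _)
  rw [← hθ, hθ1, S.map_id] at hc₂
  change hX.singleδ ≫ (shiftFunctor (DerivedCategory C) (1 : ℤ)).map (𝟙 (S.obj P)) = 𝟙 (S.obj Q) ≫ h at hc₂
  rw [CategoryTheory.Functor.map_id, comp_id, id_comp] at hc₂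
  exact hc₂

end Groth.SGA7.Ext1
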