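import Mathlib.AlgebraicGeometry.Properties
import Mathlib.AlgebraicGeometry.Limits
import Mathlib.Topology.Sheaves.SheafCondition.UniqueGluing

/-! The idempotent function of a clopen subset of a scheme. -/

open CategoryTheory AlgebraicGeometry TopologicalSpace Opposite

namespace Groth.SGA7.ClopenSection

universe u

variable {X : Scheme.{u}}

/-- `e` is `1` on `A` and `0` off `A`. -/
def IsInd (A : Opens X) (e : Γ(X, ⊤)) : Prop :=
  (∀ W : Opens X, W ≤ A → X.presheaf.map (homOfLE (le_top : W ≤ ⊤)).op e = 1) ∧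
  ∀ W : Opens X, Disjoint (W : Set X) A → X.presheaf.map (homOfLE (le_top : W ≤ ⊤)).op e = 0

theorem res_res {W V : Opens X} (h : W ≤ V) (s : Γ(X, ⊤)) :
    X.presheaf.map (homOfLE h).op (X.presheaf.map (homOfLE (le_top : V ≤ ⊤)).op s) =
      X.presheaf.map (homOfLE (le_top : W ≤ ⊤)).op s := by
  rw [← ConcreteCategory.comp_apply, ← Functor.map_comp]; rfl

theorem exists_isInd (A B : Opens X) (hcov : A ⊔ B = ⊤) (hdisj : Disjoint (A : Set X) B) :
    ∃ e, IsInd A e := by
  let U : Bool → Opens X := fun b => if b then A else B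
  let sf : ∀ b, ToType (X.sheaf.1.obj (op (U b))) := fun b => if b then (1 : Γ(X, U b)) else (0 : Γ(X, U b))
  have hbot : A ⊓ B = ⊥ := Opens.ext (Set.disjoint_iff_inter_eq_empty.mp hdisj)
  obtain ⟨e, he, -⟩ := X.sheaf.existsUnique_gluing' U ⊤ (fun b => homOfLE le_top)
    (by rw [← hcov]; exact sup_le (le_iSup U true) (le_iSup U false)) sf (by
      rintro (_ | _) (_ | _)
      · rfl
      · haveI : Subsingleton Γ(X, U false ⊓ U true) := by
          rw [show U false ⊓ U true = ⊥ from (inf_comm _ _).trans hbot]; infer_instance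
        exact Subsingleton.elim (α := Γ(X, U false ⊓ U true)) _ _
      · haveI : Subsingleton Γ(X, U true ⊓ U false) := by
          rw [show U true ⊓ U false = ⊥ from hbot]; infer_instance
        exact Subsingleton.elim (α := Γ(X, U true ⊓ U false)) _ _
      · rfl)
  change Γ(X, ⊤) at e
  refine ⟨e, fun W hW => ?_, fun W hW => ?_⟩
  · rw [← res_res hW, show X.presheaf.map (homOfLE (le_top : A ≤ ⊤)).op e = 1 from he true, map_one]
  · have hWB : W ≤ B := fun x hx => by
      rcases (show x ∈ A ∨ x ∈ B from (SetLike.ext_iff.mp hcov x).mpr trivial) with h | h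
      · exact absurd h (Set.disjoint_left.mp hW hx)
      · exact h
    rw [← res_res hWB, show X.presheaf.map (homOfLE (le_top : B ≤ ⊤)).op e = 0 from he false, map_zero]

theorem IsInd.ext {A : Opens X} (hA : IsClosed (A : Set X)) {e e' : Γ(X, ⊤)} (he : IsInd A e)
    (he' : IsInd A e') : e = e' := by
  let B : Opens X := ⟨(A : Set X)ᶜ, hA.isOpen_compl⟩
  refine X.sheaf.eq_of_locally_eq' (fun b : Bool => if b then A else B) ⊤ (fun b => homOfLE le_top) ?_ e e' ?_
  · intro x _
    refine Opens.mem_iSup.mpr ?_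
    by_cases hx : x ∈ A
    · exact ⟨true, hx⟩
    · exact ⟨false, hx⟩
  · rintro (_ | _)
    · exact (he.2 B disjoint_compl_left).trans (he'.2 B disjoint_compl_left).symm
    · exact (he.1 A le_rfl).trans (he'.1 A le_rfl).symm

theorem IsInd.sq {A : Opens X} {e : Γ(X, ⊤)} (hA : IsClosed (A : Set X)) (he : IsInd A e) : e * e = e :=
  IsInd.ext hA ⟨fun W hW => by rw [map_mul, he.1 W hW, one_mul], fun W hW => by rw [map_mul, he.2 W hW, zero_mul]⟩ he

theorem IsInd.comap {Y : Scheme.{u}} (f : Y ⟶ X) {A : Opens X} {e : Γ(X, ⊤)} (he : IsInd A e)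
    (hA : IsClosed (A : Set X)) : IsInd (f ⁻¹ᵁ A) (f.appTop e) := by
  let B : Opens X := ⟨(A : Set X)ᶜ, hA.isOpen_compl⟩
  have key : ∀ (V : Opens X) (W : Opens Y) (h : W ≤ f ⁻¹ᵁ V),
      Y.presheaf.map (homOfLE (le_top : W ≤ ⊤)).op (f.appTop e) =
        Y.presheaf.map (homOfLE h).op (f.app V (X.presheaf.map (homOfLE (le_top : V ≤ ⊤)).op e)) := by
    intro V W h
    rw [← ConcreteCategory.comp_apply, ← ConcreteCategory.comp_apply, ← ConcreteCategory.comp_apply,
      Scheme.Hom.appTop, Scheme.Hom.naturality_assoc, ← Functor.map_comp]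
    rfl
  refine ⟨fun W hW => ?_, fun W hW => ?_⟩
  · rw [key A W hW, he.1 A le_rfl, map_one, map_one]
  · have hWB : W ≤ f ⁻¹ᵁ B := fun y hy => Set.disjoint_left.mp hW hy
    rw [key B W hWB, he.2 B disjoint_compl_left, map_zero, map_zero]

theorem IsInd.eq_bot_of_eq_zero {A : Opens X} {e : Γ(X, ⊤)} (he : IsInd A e) (h : e = 0) : A = ⊥ := by
  refine Opens.ext (Set.eq_empty_iff_forall_notMem.mpr fun x hx => ?_)
  have h1 := he.1 A le_rfl
  rw [h, map_zero] at h1
  have h2 := congrArg (X.presheaf.germ A x hx) h1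
  rw [map_zero, map_one] at h2
  exact zero_ne_one h2

theorem IsInd.eq_top_of_eq_one {A : Opens X} {e : Γ(X, ⊤)} (he : IsInd A e) (hA : IsClosed (A : Set X))
    (h : e = 1) : A = ⊤ := by
  refine Opens.ext (Set.eq_univ_iff_forall.mpr fun x => ?_)
  by_contra hx
  let B : Opens X := ⟨(A : Set X)ᶜ, hA.isOpen_compl⟩
  have h1 := he.2 B disjoint_compl_left
  rw [h, map_one] at h1
  have h2 := congrArg (X.presheaf.germ B x hx) h1
  rw [map_zero, map_one] at h2
  exact one_ne_zero h2

theorem isInd_zero : IsInd (⊥ : Opens X) 0 :=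
  ⟨fun W hW => by
    haveI : Subsingleton Γ(X, W) := by rw [le_bot_iff.mp hW]; infer_instance
    exact Subsingleton.elim _ _, fun W _ => map_zero _⟩

theorem eq_zero_or_one [ConnectedSpace X] {e : Γ(X, ⊤)} (h : e * e = e) : e = 0 ∨ e = 1 := by
  have h0 : e * (1 - e) = 0 := by rw [mul_sub, mul_one, h, sub_self]
  have hdisj : X.basicOpen e ⊓ X.basicOpen (1 - e) = ⊥ := by
    rw [← Scheme.basicOpen_mul, h0, Scheme.basicOpen_zero]
  have hcov : ∀ x : X, x ∈ X.basicOpen e ∨ x ∈ X.basicOpen (1 - e) := fun x => by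
    rw [Scheme.mem_basicOpen X e x (show x ∈ (⊤ : Opens X) from trivial), Scheme.mem_basicOpen X (1 - e) x (show x ∈ (⊤ : Opens X) from trivial), map_sub, map_one]
    exact IsLocalRing.isUnit_or_isUnit_one_sub_self _
  have hcl : IsClopen (X.basicOpen e : Set X) := ⟨by
    have : (X.basicOpen e : Set X) = (X.basicOpen (1 - e) : Set X)ᶜ := Set.ext fun x =>
      ⟨fun hx hx' => (SetLike.ext_iff.mp hdisj x).mp ⟨hx, hx'⟩, fun hx => (hcov x).resolve_right hx⟩
    rw [this]; exact (X.basicOpen _).isOpen.isClosed_compl, (X.basicOpen e).isOpen⟩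
  have unit_of : ∀ a : Γ(X, ⊤), (X.basicOpen a : Set X) = Set.univ → IsUnit a := fun a ha =>
    RingedSpace.isUnit_of_isUnit_germ X.toLocallyRingedSpace.toRingedSpace ⊤ a fun x hx =>
      (Scheme.mem_basicOpen X a x hx).mp (show x ∈ (X.basicOpen a : Set X) from ha ▸ Set.mem_univ x)
  rcases isClopen_iff.mp hcl with he | he
  · refine Or.inl ?_
    have := unit_of (1 - e) (Set.eq_univ_iff_forall.mpr fun x => (hcov x).resolve_left fun hx =>
      (he ▸ hx : x ∈ (∅ : Set X)))
    exact this.mul_left_eq_zero.mp h0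
  · exact Or.inr (sub_eq_zero.mp ((unit_of e he).mul_right_eq_zero.mp h0)).symm

end Groth.SGA7.ClopenSection
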