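import Groth.Prelude.Def_QuadSing
import Groth.Agent.EtaleDeep.PowerSeriesInverse
import Mathlib.RingTheory.MvPowerSeries.Derivative
import Mathlib.LinearAlgebra.Matrix.NonsingularInverse
import Mathlib.Tactic

/-! The formal Morse lemma over a commutative ring. -/

set_option autoImplicit false

namespace Groth.SGA7.Morse

open MvPowerSeries Groth.EtaleDeep.PSInverse

universe u

section Quad

variable {S : Type*} [CommRing S] {n : ℕ}

theorem quadEval_add (a : Fin n → Fin n → S) (x h : Fin n → S) :
    VanCyc.quadEval a (fun i => x i + h i) =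
      VanCyc.quadEval a x + VanCyc.quadEval a h + ∑ i, (∑ j, VanCyc.polarMatrix a i j * x j) * h i := by
  have hP : ∀ i j, VanCyc.polarMatrix a i j = (if i ≤ j then a i j else 0) + (if j ≤ i then a j i else 0) := by
    intro i j
    unfold VanCyc.polarMatrix
    rcases lt_trichotomy i j with h | h | h
    · rw [if_neg h.ne, if_pos h, if_pos h.le, if_neg h.not_ge, add_zero]
    · subst h; simp [two_mul]
    · rw [if_neg h.ne', if_neg h.not_gt, if_neg h.not_ge, if_pos h.le, zero_add]
  simp only [hP, VanCyc.quadEval, Finset.sum_mul, add_mul, Finset.sum_add_distrib]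
  rw [Finset.sum_comm (f := fun i j => (if j ≤ i then a j i else 0) * x j * h i)]
  simp only [← Finset.sum_add_distrib]
  refine Finset.sum_congr rfl fun i _ => Finset.sum_congr rfl fun j _ => ?_
  split_ifs <;> ring

end Quad

variable {R : Type u} [CommRing R] {n : ℕ}

local notation "PS" => MvPowerSeries (Fin n) R

/-- The value of the quadratic form at a tuple of series. -/
noncomputable def quadSer (a : Fin n → Fin n → R) (v : Fin n → PS) : PS :=
  VanCyc.quadEval (fun i j => (C (a i j) : PS)) v

theorem subst_quadPoly (a : Fin n → Fin n → R) (g : Fin n → PS) :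
    subst (R := R) g ((VanCyc.quadPoly a : MvPolynomial (Fin n) R) : PS) = quadSer a g := by
  rw [subst_coe]
  simp [VanCyc.quadPoly, quadSer, VanCyc.quadEval, apply_ite (MvPolynomial.aeval g), MvPowerSeries.algebraMap_apply]

theorem coe_quadPoly (a : Fin n → Fin n → R) :
    ((VanCyc.quadPoly a : MvPolynomial (Fin n) R) : PS) = quadSer a X := by
  rw [← subst_quadPoly a X, subst_self]; rfl

theorem le_order_sum {ι : Type*} (s : Finset ι) {f : ι → PS} {k : ℕ∞} (h : ∀ i ∈ s, k ≤ (f i).order) :
    k ≤ (∑ i ∈ s, f i).order := by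
  classical
  induction s using Finset.induction_on with
  | empty => simp
  | insert a t ha ih =>
    rw [Finset.sum_insert ha]
    exact le_order_add' (h a (Finset.mem_insert_self a t)) (ih fun i hi => h i (Finset.mem_insert_of_mem hi))

theorem le_order_sub' {f g : PS} {k : ℕ∞} (hf : k ≤ f.order) (hg : k ≤ g.order) : k ≤ (f - g).order := by
  rw [sub_eq_add_neg]
  exact le_order_add' hf (le_order_neg' hg)

theorem le_order_quadSer_sub (a : Fin n → Fin n → R) {g g' : Fin n → PS} {k l : ℕ}
    (hg : ∀ i, (l : ℕ∞) ≤ (g i).order) (hg' : ∀ i, (l : ℕ∞) ≤ (g' i).order)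
    (h : ∀ i, (k : ℕ∞) ≤ (g i - g' i).order) :
    ((k + l : ℕ) : ℕ∞) ≤ (quadSer a g - quadSer a g').order := by
  unfold quadSer VanCyc.quadEval
  simp only [← Finset.sum_sub_distrib]
  refine le_order_sum _ fun i _ => le_order_sum _ fun j _ => ?_
  by_cases hij : i ≤ j
  · rw [if_pos hij, if_pos hij,
      show (C (a i j) : PS) * g i * g j - C (a i j) * g' i * g' j =
        C (a i j) * ((g i - g' i) * g j + g' i * (g j - g' j)) by ring]
    refine (le_order_add' (le_order_mul' (h i) (hg j)) ?_).trans (le_trans le_add_self le_order_mul)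
    rw [add_comm k l]
    exact le_order_mul' (hg' i) (h j)
  · rw [if_neg hij, if_neg hij, sub_self, order_zero]
    exact le_top

theorem le_order_quadSer (a : Fin n → Fin n → R) {g : Fin n → PS} {l : ℕ} (hg : ∀ i, (l : ℕ∞) ≤ (g i).order) :
    ((l + l : ℕ) : ℕ∞) ≤ (quadSer a g).order := by
  have h0 : quadSer a (0 : Fin n → PS) = 0 := by simp [quadSer, VanCyc.quadEval]
  have := le_order_quadSer_sub a (g' := 0) (k := l) hg (fun i => by simp) fun i => by simpa using hg i
  simpa [h0] using this

/-- Substituting congruent tuples into a series of order at least `M` gains `M - 1` orders. -/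
theorem le_order_subst_sub_of_order (g g' : Fin n → PS) (hgs : HasSubst g) (hgs' : HasSubst g') (k M : ℕ)
    (hg : ∀ i, constantCoeff (g i) = 0) (hg' : ∀ i, constantCoeff (g' i) = 0)
    (h : ∀ i, (k : ℕ∞) ≤ (g i - g' i).order) (r : PS) (hr : (M : ℕ∞) ≤ r.order) :
    ((k + M - 1 : ℕ) : ℕ∞) ≤ (subst g r - subst g' r).order := by
  refine nat_le_order fun e he => ?_
  rw [map_sub, coeff_subst hgs, coeff_subst hgs', sub_eq_zero]
  refine finsum_congr fun d => ?_
  by_cases hd : d.degree < M
  · rw [coeff_of_lt_order (f := r) (lt_of_lt_of_le (by exact_mod_cast hd) hr), zero_smul, zero_smul]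
  · have := (le_order_prod_sub g g' k hg hg' h d.toMultiset).1
    rw [card_toMultiset_eq_degree, ← finsupp_prod_eq_multiset, ← finsupp_prod_eq_multiset] at this
    have h0 := coeff_of_lt_order (d := e) (lt_of_lt_of_le
      (show ((e.degree : ℕ) : ℕ∞) < ((k + d.degree - 1 : ℕ) : ℕ∞) by exact_mod_cast (by omega)) this)
    rw [map_sub, sub_eq_zero] at h0
    rw [h0]

theorem le_order_subst_of_order (g : Fin n → PS) (hgs : HasSubst g) (M : ℕ) (hg : ∀ i, constantCoeff (g i) = 0)
    (r : PS) (hr : (M : ℕ∞) ≤ r.order) : (M : ℕ∞) ≤ (subst g r).order := by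
  refine nat_le_order fun e he => ?_
  rw [coeff_subst hgs]
  refine finsum_eq_zero_of_forall_eq_zero fun d => ?_
  by_cases hd : d.degree < M
  · rw [coeff_of_lt_order (f := r) (lt_of_lt_of_le (by exact_mod_cast hd) hr), zero_smul]
  · have := (le_order_prod_sub g g 0 hg hg (fun i => by simp) d.toMultiset).2
    rw [card_toMultiset_eq_degree, ← finsupp_prod_eq_multiset] at this
    rw [coeff_of_lt_order (lt_of_lt_of_le (by exact_mod_cast (by omega)) this), smul_zero]

open Classical in
/-- A chosen variable occurring in an exponent. -/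
noncomputable def pick (d : Fin n →₀ ℕ) : Option (Fin n) :=
  if h : d.support.Nonempty then some h.choose else none

/-- A linear choice of `f = Σ X_i (decomp f i)` for `f` without constant term. -/
noncomputable def decomp (f : PS) (i : Fin n) : PS := fun e =>
  if pick (e + Finsupp.single i 1) = some i then coeff (e + Finsupp.single i 1) f else 0

theorem coeff_decomp (f : PS) (i : Fin n) (e : Fin n →₀ ℕ) :
    coeff e (decomp f i) = if pick (e + Finsupp.single i 1) = some i then coeff (e + Finsupp.single i 1) f else 0 := rfl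

theorem sum_X_mul_decomp (f : PS) (hf : constantCoeff f = 0) : ∑ i, X i * decomp f i = f := by
  classical
  ext d
  rw [map_sum]
  by_cases hd : d.support.Nonempty
  · rw [Finset.sum_eq_single hd.choose]
    · have hle : Finsupp.single hd.choose 1 ≤ d := by
        rw [Finsupp.single_le_iff]
        exact Nat.one_le_iff_ne_zero.mpr (Finsupp.mem_support_iff.mp hd.choose_spec)
      rw [X_def, coeff_monomial_mul, if_pos hle, one_mul, coeff_decomp, tsub_add_cancel_of_le hle,
        if_pos (by simp [pick, hd])]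
    · intro i _ hi
      rw [X_def, coeff_monomial_mul]
      split_ifs with hle
      · rw [one_mul, coeff_decomp, tsub_add_cancel_of_le hle, if_neg]
        simp [pick, dif_pos hd, Ne.symm hi]
      · rfl
    · simp
  · have hd0 : d = 0 := by simpa using hd
    subst hd0
    rw [coeff_zero_eq_constantCoeff_apply, hf]
    exact Finset.sum_eq_zero fun i _ => by simp

theorem le_order_decomp {f : PS} {k : ℕ} (hf : ((k + 1 : ℕ) : ℕ∞) ≤ f.order) (i : Fin n) :
    (k : ℕ∞) ≤ (decomp f i).order := by
  refine nat_le_order fun e he => ?_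
  rw [coeff_decomp]
  split_ifs
  · exact coeff_of_lt_order (lt_of_lt_of_le (by simp; exact_mod_cast he) hf)
  · rfl

theorem decomp_sub (f g : PS) (i : Fin n) : decomp (f - g) i = decomp f i - decomp g i := by
  ext e
  simp only [map_sub, coeff_decomp]
  split_ifs <;> simp

/-- The fixed point of a map which increases agreement. -/
theorem exists_fixed (m : ℕ) (Φ : (Fin n → PS) → Fin n → PS)
    (h0 : ∀ h, (∀ i, (m : ℕ∞) ≤ (h i).order) → ∀ i, (m : ℕ∞) ≤ (Φ h i).order)
    (hc : ∀ h h' (k : ℕ), (∀ i, (m : ℕ∞) ≤ (h i).order) → (∀ i, (m : ℕ∞) ≤ (h' i).order) →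
      (∀ i, (k : ℕ∞) ≤ (h i - h' i).order) → ∀ i, ((k + 1 : ℕ) : ℕ∞) ≤ (Φ h i - Φ h' i).order) :
    ∃ h : Fin n → PS, (∀ i, (m : ℕ∞) ≤ (h i).order) ∧ Φ h = h := by
  let s : ℕ → Fin n → PS := fun j => Φ^[j] 0
  have hs : ∀ j i, (m : ℕ∞) ≤ (s j i).order := by
    intro j
    induction j with
    | zero => intro i; simp [s]
    | succ j ih => rw [show s (j + 1) = Φ (s j) from Function.iterate_succ_apply' Φ j 0]; exact h0 _ ih
  have hstep : ∀ (j : ℕ) i, (j : ℕ∞) ≤ (s (j + 1) i - s j i).order := by
    intro j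
    induction j with
    | zero => intro i; simp
    | succ j ih =>
      rw [show s (j + 1 + 1) = Φ (s (j + 1)) from Function.iterate_succ_apply' Φ (j + 1) 0,
        show s (j + 1) = Φ (s j) from Function.iterate_succ_apply' Φ j 0] at *
      exact hc _ _ j (h0 _ (hs j)) (hs j) ih
  let h : Fin n → PS := fun i e => coeff e (s (e.degree + 1) i)
  have hh : ∀ i e, coeff e (h i) = coeff e (s (e.degree + 1) i) := fun i e => rfl
  have hlim : ∀ (k : ℕ) i, (k : ℕ∞) ≤ (h i - s k i).order := by
    intro k i
    refine nat_le_order fun e he => ?_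
    rw [map_sub, hh, sub_eq_zero]
    obtain ⟨j, rfl⟩ : ∃ j, k = e.degree + 1 + j := ⟨k - e.degree - 1, by omega⟩
    induction j with
    | zero => rfl
    | succ j ih =>
      rw [ih (by omega), eq_comm, ← sub_eq_zero, ← map_sub]
      exact coeff_of_lt_order (lt_of_lt_of_le (by exact_mod_cast (by omega)) (hstep (e.degree + 1 + j) i))
  have hm : ∀ i, (m : ℕ∞) ≤ (h i).order := fun i => nat_le_order fun e he => by
    rw [hh]
    exact coeff_of_lt_order (lt_of_lt_of_le (by exact_mod_cast he) (hs _ i))
  refine ⟨h, hm, funext fun i => ?_⟩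
  ext e
  rw [hh]
  show _ = coeff e (s (e.degree + 1) i)
  rw [show s (e.degree + 1) = Φ (s e.degree) from Function.iterate_succ_apply' Φ _ 0, ← sub_eq_zero, ← map_sub]
  exact coeff_of_lt_order (lt_of_lt_of_le (b := ((e.degree + 1 : ℕ) : ℕ∞)) (by exact_mod_cast Nat.lt_succ_self e.degree)
    (hc _ _ e.degree hm (hs _) (fun i => hlim _ i) i))

theorem solve_linear (q : Fin n → Fin n → R) (hq : VanCyc.QuadNondeg q) (h : Fin n → PS) (g : PS)
    (hg : constantCoeff g = 0) (hh : ∀ i, h i = -∑ l, C ((VanCyc.polarMatrix q)⁻¹ l i) * decomp g l) :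
    ∑ i, (∑ j, C (VanCyc.polarMatrix q i j) * X j) * h i = - g := by
  classical
  set M := (VanCyc.polarMatrix q).map (C : R →+* PS)
  set N := (VanCyc.polarMatrix q)⁻¹.map (C : R →+* PS)
  have hNM : N * M = 1 := by
    rw [← Matrix.map_mul, Matrix.nonsing_inv_mul _ hq, Matrix.map_one _ (map_zero C) (map_one C)]
  have hh' : h = -Matrix.vecMul (decomp g) N := funext fun i => by
    rw [hh i, Pi.neg_apply]
    simp only [Matrix.vecMul, dotProduct, N, Matrix.map_apply]
    exact congrArg Neg.neg (Finset.sum_congr rfl fun l _ => mul_comm _ _)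
  have hL : ∑ i, (∑ j, C (VanCyc.polarMatrix q i j) * X j) * h i = dotProduct (Matrix.mulVec M X) h := by
    simp only [dotProduct, Matrix.mulVec, M, Matrix.map_apply]
  rw [hL]
  rw [hh', dotProduct_neg, dotProduct_comm, ← Matrix.dotProduct_mulVec, Matrix.mulVec_mulVec, hNM, Matrix.one_mulVec]
  conv_rhs => rw [← sum_X_mul_decomp g hg]
  simp only [dotProduct]
  exact congrArg Neg.neg (Finset.sum_congr rfl fun l _ => mul_comm _ _)

/-- The Morse lemma: a series agreeing with `Q + a` up to degree `m ≥ 2` is equivalent to it. -/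
theorem exists_subst_eq (m : ℕ) (hm : 2 ≤ m) (q : Fin n → Fin n → R) (hq : VanCyc.QuadNondeg q) (a : R) (F : PS)
    (hF : ∀ e : Fin n →₀ ℕ, e.degree ≤ m → coeff e F =
      coeff e ((VanCyc.quadPoly q + MvPolynomial.C a : MvPolynomial (Fin n) R) : PS)) :
    ∃ h : Fin n → PS, (∀ i, (m : ℕ∞) ≤ (h i).order) ∧ HasSubst (fun i => X i + h i) ∧
      subst (fun i => X i + h i) F = ((VanCyc.quadPoly q + MvPolynomial.C a : MvPolynomial (Fin n) R) : PS) := by
  classical
  set Qa : PS := ((VanCyc.quadPoly q + MvPolynomial.C a : MvPolynomial (Fin n) R) : PS) with hQa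
  have hQa' : Qa = quadSer q X + C a := by
    rw [hQa, MvPolynomial.coe_add, coe_quadPoly, MvPolynomial.coe_C]
  set Rm := F - Qa with hRm
  have hRo : ((m + 1 : ℕ) : ℕ∞) ≤ Rm.order := nat_le_order fun e he => by
    rw [hRm, map_sub, hF e (by omega), sub_self]
  set N : Matrix (Fin n) (Fin n) R := (VanCyc.polarMatrix q)⁻¹ with hN
  let E : (Fin n → PS) → PS := fun h => quadSer q h + subst (fun i => X i + h i) Rm
  let Φ : (Fin n → PS) → Fin n → PS := fun h i => -∑ j, C (N j i) * decomp (E h) j
  have hsub : ∀ h : Fin n → PS, (∀ i, (m : ℕ∞) ≤ (h i).order) → ∀ i, constantCoeff (X i + h i) = 0 := by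
    intro h hh i
    rw [map_add, constantCoeff_X, zero_add]
    exact constantCoeff_eq_zero_of_two_le (le_trans (by exact_mod_cast hm) (hh i))
  have hE : ∀ h : Fin n → PS, (∀ i, (m : ℕ∞) ≤ (h i).order) → ((m + 1 : ℕ) : ℕ∞) ≤ (E h).order := by
    intro h hh
    refine le_order_add' (le_trans (by exact_mod_cast (by omega)) (le_order_quadSer q hh)) ?_
    exact le_order_subst_of_order _ (hasSubst_of_constantCoeff_zero (hsub h hh)) _ (hsub h hh) _ hRo
  obtain ⟨h, hh, hfix⟩ := exists_fixed m Φ (fun h hh i => le_order_neg' (le_order_sum _ fun j _ =>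
      le_trans (le_trans (le_order_decomp (hE h hh) j) le_add_self) le_order_mul))
    (fun h h' k hh hh' hk i => by
      have key : ((k + 1 + 1 : ℕ) : ℕ∞) ≤ (E h - E h').order := by
        have e : E h - E h' = (quadSer q h - quadSer q h') +
            (subst (fun i => X i + h i) Rm - subst (fun i => X i + h' i) Rm) := by simp only [E]; ring
        rw [e]
        refine le_order_add' (le_trans (by exact_mod_cast (by omega)) (le_order_quadSer_sub q hh hh' hk)) ?_
        refine le_trans ?_ (le_order_subst_sub_of_order _ _ (hasSubst_of_constantCoeff_zero (hsub h hh))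
          (hasSubst_of_constantCoeff_zero (hsub h' hh')) k (m + 1) (hsub h hh) (hsub h' hh')
          (fun i => by simpa using hk i) Rm hRo)
        exact_mod_cast (by omega)
      have e : Φ h i - Φ h' i = -∑ j, C (N j i) * decomp (E h - E h') j := by
        simp only [Φ, decomp_sub, mul_sub, Finset.sum_sub_distrib]; ring
      rw [e]
      exact le_order_neg' (le_order_sum _ fun j _ => le_trans (le_trans (le_order_decomp key j) le_add_self) le_order_mul))
  have hs : HasSubst (fun i => X i + h i) := hasSubst_of_constantCoeff_zero (hsub h hh)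
  refine ⟨h, hh, hs, ?_⟩
  have hlin : ∑ i, (∑ j, C (VanCyc.polarMatrix q i j) * X j) * h i = - E h :=
    solve_linear q hq h (E h) (constantCoeff_eq_zero_of_two_le (le_trans (by exact_mod_cast (by omega)) (hE h hh)))
      fun i => (congrFun hfix i).symm
  have hFd : F = Qa + Rm := by rw [hRm, add_sub_cancel]
  have hpol : ∀ i j, VanCyc.polarMatrix (fun i j => (C (q i j) : PS)) i j = C (VanCyc.polarMatrix q i j) := by
    intro i j; unfold VanCyc.polarMatrix; split_ifs <;> simp [map_ofNat]
  have hQe : quadSer q (fun i => X i + h i) =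
      quadSer q X + quadSer q h + ∑ i, (∑ j, C (VanCyc.polarMatrix q i j) * X j) * h i := by
    unfold quadSer
    rw [quadEval_add]
    simp only [hpol]
  conv_lhs => rw [hFd, subst_add hs]
  conv_lhs => enter [1]; rw [hQa, MvPolynomial.coe_add, subst_add hs, MvPolynomial.coe_C, subst_C, subst_quadPoly, hQe, hlin]
  rw [hQa']
  simp only [E]
  ring

end Groth.SGA7.Morse
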