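import Groth.Agent.SGA7.HypersurfacePoint

/-! The completion of the local ring of a hypersurface at a rational point. -/

open MvPolynomial Groth.SGA7.PS

namespace Groth.SGA7.Hypersurface

universe u

variable {k : Type u} [Field k] {N : ℕ}

local notation "R" => MvPolynomial (Fin N) k
local notation "m₀" => idealOfVars (Fin N) k

theorem jetIdeal_le (g : R) {m n : ℕ} (h : m ≤ n) : jetIdeal g n ≤ jetIdeal g m :=
  sup_le_sup_left (Ideal.pow_le_pow_right h) _

/-- Translation of the variables. -/
noncomputable def shift (c : Fin N → k) : R →ₐ[k] R := aeval fun i => X i + C (c i)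

theorem shift_shift_neg (c : Fin N → k) (p : R) : shift c (shift (-c) p) = p := by
  have : (shift c).comp (shift (-c)) = AlgHom.id k R :=
    MvPolynomial.algHom_ext fun i => by simp [shift, add_assoc]
  exact AlgHom.congr_fun this p

theorem shift_neg_shift (c : Fin N → k) (p : R) : shift (-c) (shift c p) = p := by
  have := shift_shift_neg (-c) p
  rwa [neg_neg] at this

theorem pderiv_shift (c : Fin N → k) (j : Fin N) (p : R) : pderiv j (shift c p) = shift c (pderiv j p) := by
  classical
  rw [shift, pderiv_aeval]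
  simp [pderiv_X, Pi.single_apply, -aeval_eq_bind₁]

theorem constantCoeff_shift (c : Fin N → k) (p : R) : constantCoeff (shift c p) = eval c p := by
  induction p using MvPolynomial.induction_on with
  | C a => simp [shift]
  | add p q hp hq => simp only [map_add, hp, hq]
  | mul_X p n hp =>
    simp [map_mul, shift, -aeval_eq_bind₁] at hp ⊢

variable {g : MvPolynomial (Fin N) k} {B : Type u} [CommRing B] [Algebra k B] {P : Ideal B} [P.IsMaximal]
  (π : ∀ n, B →ₐ[k] (MvPolynomial (Fin N) k ⧸ jetIdeal g n)) (hπ : ∀ n, Function.Surjective (π n))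
  (hker : ∀ n, RingHom.ker (π n) = P ^ n)

/-- `O/m^n` is the `n`-th jet algebra. -/
noncomputable def jetEquiv (n : ℕ) : (Localization.AtPrime P ⧸ IsLocalRing.maximalIdeal (Localization.AtPrime P) ^ n) ≃ₐ[k]
    (R ⧸ jetIdeal g n) :=
  ((IsLocalization.AtPrime.equivQuotMaximalIdealPow P (Localization.AtPrime P) n).restrictScalars k).symm.trans
    ((Ideal.quotientEquivAlgOfEq k (hker n).symm).trans (Ideal.quotientKerAlgEquivOfSurjective (hπ n)))

theorem jetEquiv_mk (n : ℕ) (b : B) :
    jetEquiv π hπ hker n (Ideal.Quotient.mk _ (algebraMap B (Localization.AtPrime P) b)) = π n b := by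
  have h : (IsLocalization.AtPrime.equivQuotMaximalIdealPow P (Localization.AtPrime P) n).symm
      (Ideal.Quotient.mk _ (algebraMap B (Localization.AtPrime P) b)) = Ideal.Quotient.mk (P ^ n) b := by
    rw [AlgEquiv.symm_apply_eq]
    exact ((IsLocalization.AtPrime.equivQuotMaximalIdealPow P (Localization.AtPrime P) n).commutes b).symm
  simp only [jetEquiv, AlgEquiv.trans_apply]
  erw [h]
  rfl

variable (hcompat : ∀ {m n : ℕ} (h : m ≤ n) (b : B), Ideal.Quotient.factor (jetIdeal_le g h) (π n b) = π m b)
include hcompat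

theorem jetEquiv_compat {m n : ℕ} (h : m ≤ n) (y : Localization.AtPrime P ⧸ IsLocalRing.maximalIdeal (Localization.AtPrime P) ^ n) :
    Ideal.Quotient.factor (jetIdeal_le g h) (jetEquiv π hπ hker n y) =
      jetEquiv π hπ hker m (Ideal.Quotient.factor (Ideal.pow_le_pow_right h) y) := by
  obtain ⟨y', rfl⟩ := (IsLocalization.AtPrime.equivQuotMaximalIdealPow P (Localization.AtPrime P) n).surjective y
  obtain ⟨b, rfl⟩ := Ideal.Quotient.mk_surjective y'
  have e : (IsLocalization.AtPrime.equivQuotMaximalIdealPow P (Localization.AtPrime P) n) (Ideal.Quotient.mk _ b) =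
      Ideal.Quotient.mk _ (algebraMap B (Localization.AtPrime P) b) :=
    (IsLocalization.AtPrime.equivQuotMaximalIdealPow P (Localization.AtPrime P) n).commutes b
  rw [e, jetEquiv_mk, Ideal.Quotient.factor_mk, jetEquiv_mk, hcompat h]

include hπ hker in
/-- The completion is the power series hypersurface. -/
theorem nonempty_completion_equiv :
    Nonempty (AdicCompletion (IsLocalRing.maximalIdeal (Localization.AtPrime P)) (Localization.AtPrime P) ≃ₐ[k]
      (MvPowerSeries (Fin N) k ⧸ Ideal.span {(g : MvPowerSeries (Fin N) k)})) := by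
  classical
  set M := IsLocalRing.maximalIdeal (Localization.AtPrime P)
  let tr : ∀ n, MvPowerSeries (Fin N) k →ₐ[k] (R ⧸ jetIdeal g n) := fun n =>
    (Ideal.Quotient.factorₐ k (show m₀ ^ n ≤ jetIdeal g n from le_sup_right)).comp
      ((MvPowerSeries.truncTotalAlgHom (Fin N) k n).restrictScalars k)
  have htr : ∀ n s, tr n s = Ideal.Quotient.mk _ (MvPowerSeries.truncTotal n s) := fun _ _ => rfl
  let Ψ : MvPowerSeries (Fin N) k →ₐ[k] AdicCompletion M (Localization.AtPrime P) :=
    AdicCompletion.liftAlgHom M (fun n => (jetEquiv π hπ hker n).symm.toAlgHom.comp (tr n)) (fun {m n} h => AlgHom.ext fun s => by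
      apply (jetEquiv π hπ hker m).injective
      show jetEquiv π hπ hker m (Ideal.Quotient.factor (Ideal.pow_le_pow_right h) ((jetEquiv π hπ hker n).symm (tr n s))) =
        jetEquiv π hπ hker m ((jetEquiv π hπ hker m).symm (tr m s))
      rw [← jetEquiv_compat π hπ hker hcompat h, AlgEquiv.apply_symm_apply, AlgEquiv.apply_symm_apply, htr, htr,
        Ideal.Quotient.factor_mk, Ideal.Quotient.eq]
      exact Ideal.mem_sup_right (MvPowerSeries.truncTotal_sub_truncTotal_mem_pow_idealOfVars h le_rfl s))
  have hev : ∀ n s, jetEquiv π hπ hker n (AdicCompletion.evalₐ M n (Ψ s)) = Ideal.Quotient.mk _ (MvPowerSeries.truncTotal n s) := by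
    intro n s
    rw [AdicCompletion.evalₐ_liftAlgHom]
    exact (jetEquiv π hπ hker n).apply_symm_apply _
  have hsurj : Function.Surjective Ψ := by
    intro y
    let z : ∀ n, R ⧸ jetIdeal g n := fun n => jetEquiv π hπ hker n (AdicCompletion.evalₐ M n y)
    have hz : ∀ n, Ideal.Quotient.factor (jetIdeal_le g (Nat.le_succ n)) (z (n + 1)) = z n := fun n => by
      show Ideal.Quotient.factor _ (jetEquiv π hπ hker (n + 1) _) = _
      rw [jetEquiv_compat π hπ hker hcompat (Nat.le_succ n)]
      congr 1
      obtain ⟨cs, rfl⟩ := AdicCompletion.mk_surjective M _ y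
      rw [AdicCompletion.evalₐ_mk, AdicCompletion.evalₐ_mk, Ideal.Quotient.factor_mk, Ideal.Quotient.eq]
      have := SModEq.sub_mem.mp (cs.2 (Nat.le_succ n))
      rw [smul_eq_mul, Ideal.mul_top] at this
      simpa using neg_mem this
    have step : ∀ n (p : R), Ideal.Quotient.mk _ p = z n →
        ∃ p', Ideal.Quotient.mk _ p' = z (n + 1) ∧ p' - p ∈ m₀ ^ n := by
      intro n p hp
      obtain ⟨q, hq⟩ := Ideal.Quotient.mk_surjective (z (n + 1))
      have h1 : q - p ∈ jetIdeal g n := by
        rw [← Ideal.Quotient.eq, hp, ← hz n, ← hq, Ideal.Quotient.factor_mk]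
      obtain ⟨a, w, hw, e⟩ := jetIdeal_mem g h1
      refine ⟨q - a * g, ?_, ?_⟩
      · rw [← hq, Ideal.Quotient.eq]
        refine Ideal.mem_sup_left (Ideal.mem_span_singleton'.mpr ⟨-a, by ring⟩)
      · convert hw using 1
        linear_combination e
    have hbase : ∃ p : R, Ideal.Quotient.mk _ p = z 0 := Ideal.Quotient.mk_surjective _
    let s : ∀ n, {p : R // Ideal.Quotient.mk _ p = z n} := fun n =>
      Nat.rec ⟨hbase.choose, hbase.choose_spec⟩ (fun n p => ⟨(step n p.1 p.2).choose, (step n p.1 p.2).choose_spec.1⟩) n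
    have hs : ∀ n, (s (n + 1)).1 - (s n).1 ∈ m₀ ^ n := fun n => (step n (s n).1 (s n).2).choose_spec.2
    have hstable : ∀ (d : Fin N →₀ ℕ) (n : ℕ), d.degree < n → (s n).1.coeff d = (s (d.degree + 1)).1.coeff d := by
      intro d n hn
      induction n, Nat.succ_le_of_lt hn using Nat.le_induction with
      | base => rfl
      | succ n hn' ih =>
        rw [← ih (by omega)]
        have := (mem_pow_idealOfVars_iff' n _).mp (hs n) d (by omega)
        rwa [coeff_sub, sub_eq_zero] at this
    let T : MvPowerSeries (Fin N) k := fun d => (s (d.degree + 1)).1.coeff d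
    refine ⟨T, AdicCompletion.ext_evalₐ fun n => (jetEquiv π hπ hker n).injective ?_⟩
    rw [hev]
    show _ = z n
    rw [← (s n).2, Ideal.Quotient.eq]
    refine Ideal.mem_sup_right ((mem_pow_idealOfVars_iff' n _).mpr fun d hd => ?_)
    rw [coeff_sub, MvPowerSeries.coeff_truncTotal _ hd, hstable d n hd, MvPowerSeries.coeff_apply, sub_self]
  have hker' : RingHom.ker Ψ = Ideal.span {(g : MvPowerSeries (Fin N) k)} := by
    refine le_antisymm (fun T hT => ?_) ?_
    · rw [RingHom.mem_ker] at hT
      set I : Ideal (MvPowerSeries (Fin N) k) := Ideal.span {(g : MvPowerSeries (Fin N) k)}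
      have hn : ∀ n, T ∈ I ⊔ varIdeal (Fin N) k ^ n := by
        intro n
        have h1 := hev n T
        rw [hT, map_zero, map_zero, eq_comm, Ideal.Quotient.eq_zero_iff_mem] at h1
        obtain ⟨a, w, hw, e⟩ := jetIdeal_mem g h1
        have h2 : T - (MvPowerSeries.truncTotal n T : R) ∈ varIdeal (Fin N) k ^ n :=
          mem_varIdeal_pow n _ fun d hd => by
            rw [map_sub, MvPolynomial.coeff_coe, MvPowerSeries.coeff_truncTotal _ hd, sub_self]
        have h3 : (w : MvPowerSeries (Fin N) k) ∈ varIdeal (Fin N) k ^ n :=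
          mem_varIdeal_pow n _ fun d hd => by
            rw [MvPolynomial.coeff_coe]; exact (mem_pow_idealOfVars_iff' n w).mp hw d hd
        have h4 : T = (a : MvPowerSeries (Fin N) k) * g + ((T - (MvPowerSeries.truncTotal n T : R)) + w) := by
          rw [e, MvPolynomial.coe_add, MvPolynomial.coe_mul]; ring
        rw [h4]
        exact Submodule.add_mem_sup (Ideal.mul_mem_left _ _ (Ideal.subset_span rfl)) (Ideal.add_mem _ h2 h3)
      have h5 := Ideal.iInf_pow_smul_eq_bot_of_le_jacobson (M := MvPowerSeries (Fin N) k ⧸ I)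
        (varIdeal (Fin N) k) (by rw [← maximalIdeal_eq]; exact IsLocalRing.maximalIdeal_le_jacobson _)
      have h6 : Ideal.Quotient.mk I T ∈ (⨅ i : ℕ, varIdeal (Fin N) k ^ i • ⊤ : Submodule (MvPowerSeries (Fin N) k) _) := by
        refine Submodule.mem_iInf _ |>.mpr fun n => ?_
        obtain ⟨x, hx, y, hy, e⟩ := Submodule.mem_sup.mp (hn n)
        rw [← e, map_add, Ideal.Quotient.eq_zero_iff_mem.mpr hx, zero_add, ← mul_one y, map_mul]
        exact Submodule.smul_mem_smul hy (Submodule.mem_top (x := (1 : MvPowerSeries (Fin N) k ⧸ I)))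
      rw [h5, Submodule.mem_bot] at h6
      exact Ideal.Quotient.eq_zero_iff_mem.mp h6
    · rw [Ideal.span_le, Set.singleton_subset_iff, SetLike.mem_coe, RingHom.mem_ker]
      refine AdicCompletion.ext_evalₐ fun n => (jetEquiv π hπ hker n).injective ?_
      rw [hev, map_zero, map_zero, Ideal.Quotient.eq_zero_iff_mem]
      have : MvPowerSeries.truncTotal n (g : MvPowerSeries (Fin N) k) - g ∈ m₀ ^ n :=
        (mem_pow_idealOfVars_iff' n _).mpr fun d hd => by
          rw [coeff_sub, MvPowerSeries.coeff_truncTotal _ hd, MvPolynomial.coeff_coe, sub_self]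
      have := Ideal.add_mem _ (Ideal.mem_sup_right (S := Ideal.span {g}) this)
        (Ideal.mem_sup_left (T := m₀ ^ n) (Ideal.subset_span (Set.mem_singleton g)))
      rwa [sub_add_cancel] at this
  exact ⟨((Ideal.quotientEquivAlgOfEq k hker'.symm).trans (Ideal.quotientKerAlgEquivOfSurjective hsurj)).symm⟩

omit hcompat in
include hπ hker in
/-- A presentation of the completion gives one of the jets. -/
theorem exists_jet_hom (n : ℕ) {T : Type u} [CommRing T] [Algebra k T]
    (θ : T →ₐ[k] AdicCompletion (IsLocalRing.maximalIdeal (Localization.AtPrime P)) (Localization.AtPrime P))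
    (hθ : Function.Surjective θ) :
    ∃ Φ : T →ₐ[k] (R ⧸ jetIdeal g n), Function.Surjective Φ ∧ ∀ x, θ x = 0 → Φ x = 0 := by
  let Ev : AdicCompletion (IsLocalRing.maximalIdeal (Localization.AtPrime P)) (Localization.AtPrime P) →ₐ[k]
      (Localization.AtPrime P ⧸ IsLocalRing.maximalIdeal (Localization.AtPrime P) ^ n) :=
    (AdicCompletion.evalₐ _ n).restrictScalars k
  have hEv : Function.Surjective Ev := AdicCompletion.surjective_evalₐ _ n
  refine ⟨((jetEquiv π hπ hker n).toAlgHom.comp Ev).comp θ,
    ((jetEquiv π hπ hker n).surjective.comp hEv).comp hθ, fun x hx => ?_⟩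
  simp only [AlgHom.comp_apply, hx, map_zero]

end Groth.SGA7.Hypersurface
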