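import Groth.Agent.SGA7.Morse
import Groth.Agent.SGA7.PowerSeries
import Mathlib.RingTheory.MvPowerSeries.Evaluation
import Mathlib.RingTheory.MvPowerSeries.LinearTopology
import Mathlib.RingTheory.AdicCompletion.Topology
import Mathlib.RingTheory.LocalRing.MaximalIdeal.Basic

/-! Translations `x ↦ x + c` of power series over an adically complete ring, and removal of the
linear term of a series with non-degenerate quadratic part. -/

set_option autoImplicit false

namespace Groth.SGA7.Translation

open MvPowerSeries MvPowerSeries.WithPiTopology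

universe u

section Quad

variable {R : Type u} [CommRing R] {n : ℕ}

local notation "PS" => MvPowerSeries (Fin n) R

theorem coeff_quadPoly (a : Fin n → Fin n → R) (e : Fin n →₀ ℕ) :
    MvPolynomial.coeff e (VanCyc.quadPoly a) =
      ∑ i, ∑ j, if i ≤ j ∧ Finsupp.single i 1 + Finsupp.single j 1 = e then a i j else 0 := by
  simp only [VanCyc.quadPoly, MvPolynomial.coeff_sum]
  refine Finset.sum_congr rfl fun i _ => Finset.sum_congr rfl fun j _ => ?_
  by_cases hij : i ≤ j
  · rw [if_pos hij, MvPolynomial.C_mul_X_eq_monomial, MvPolynomial.X, MvPolynomial.monomial_mul, mul_one,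
      MvPolynomial.coeff_monomial]
    simp [hij]
  · simp [hij]

theorem pair_unique {i j i' j' : Fin n} (h : i ≤ j) (h' : i' ≤ j')
    (he : Finsupp.single i' 1 + Finsupp.single j' 1 = (Finsupp.single i 1 + Finsupp.single j 1 : Fin n →₀ ℕ)) :
    i' = i ∧ j' = j := by
  have e1 := congrArg (fun d : Fin n →₀ ℕ => d i') he
  have e2 := congrArg (fun d : Fin n →₀ ℕ => d j') he
  simp [Finsupp.single_apply] at e1 e2
  constructor <;> (split_ifs at e1 e2 <;> subst_vars <;> first | rfl | omega)

theorem coeff_quadPoly_pair (a : Fin n → Fin n → R) {i j : Fin n} (h : i ≤ j) :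
    MvPolynomial.coeff (Finsupp.single i 1 + Finsupp.single j 1) (VanCyc.quadPoly a) = a i j := by
  rw [coeff_quadPoly, Finset.sum_eq_single i (fun i' _ hi' => Finset.sum_eq_zero fun j' _ => if_neg fun hh =>
    hi' (pair_unique h hh.1 hh.2).1) (by simp), Finset.sum_eq_single j (fun j' _ hj' => if_neg fun hh =>
    hj' (pair_unique h hh.1 hh.2).2) (by simp), if_pos ⟨h, rfl⟩]

theorem coeff_quadPoly_of_ne (a : Fin n → Fin n → R) {e : Fin n →₀ ℕ} (he : e.degree ≠ 2) :
    MvPolynomial.coeff e (VanCyc.quadPoly a) = 0 := by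
  rw [coeff_quadPoly]
  refine Finset.sum_eq_zero fun i _ => Finset.sum_eq_zero fun j _ => if_neg fun h => he ?_
  rw [← h.2]; simp

theorem quadPart_apply_of_le (f : PS) {i j : Fin n} (h : i ≤ j) :
    VanCyc.quadPart f i j = coeff (Finsupp.single i 1 + Finsupp.single j 1) f := by
  unfold VanCyc.quadPart
  rcases h.lt_or_eq with h | h
  · rw [if_neg h.ne, if_pos h]
  · subst h; rw [if_pos rfl, ← Finsupp.single_add]

theorem exists_pair_of_degree (e : Fin n →₀ ℕ) (he : e.degree = 2) :
    ∃ i j, i ≤ j ∧ Finsupp.single i 1 + Finsupp.single j 1 = e := by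
  obtain ⟨i, hi⟩ : ∃ i, e i ≠ 0 := not_forall.mp fun h => by
    have : e = 0 := Finsupp.ext h
    subst this; simp at he
  obtain ⟨e', rfl⟩ := exists_add_of_le (Finsupp.single_le_iff.mpr (Nat.one_le_iff_ne_zero.mpr hi))
  obtain ⟨j, hj⟩ : ∃ j, e' j ≠ 0 := not_forall.mp fun h => by
    have : e' = 0 := Finsupp.ext h
    subst this; simp at he
  obtain ⟨e'', rfl⟩ := exists_add_of_le (Finsupp.single_le_iff.mpr (Nat.one_le_iff_ne_zero.mpr hj))
  have : e'' = 0 := by rw [← Finsupp.degree_eq_zero_iff]; simp at he ⊢; omega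
  subst this
  rcases le_total i j with h | h
  · exact ⟨i, j, h, by rw [add_zero]⟩
  · exact ⟨j, i, h, by rw [add_zero, add_comm]⟩

/-- A series without linear terms agrees with its quadratic part plus its constant term up to degree 2. -/
theorem coeff_eq_quadPart (f : PS) (h1 : ∀ i, coeff (Finsupp.single i 1) f = 0) (e : Fin n →₀ ℕ)
    (he : e.degree ≤ 2) :
    coeff e f = coeff e ((VanCyc.quadPoly (VanCyc.quadPart f) + MvPolynomial.C (constantCoeff f) :
      MvPolynomial (Fin n) R) : PS) := by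
  rw [MvPolynomial.coeff_coe, MvPolynomial.coeff_add]
  by_cases h2 : e.degree = 2
  · obtain ⟨i, j, hij, rfl⟩ := exists_pair_of_degree e h2
    rw [coeff_quadPoly_pair _ hij, quadPart_apply_of_le f hij, MvPolynomial.coeff_C, if_neg, add_zero]
    intro h; rw [← h] at h2; simp at h2
  · rw [coeff_quadPoly_of_ne _ h2, zero_add, MvPolynomial.coeff_C]
    split_ifs with h
    · subst h; exact coeff_zero_eq_constantCoeff_apply f
    · obtain ⟨i, hi⟩ : ∃ i, e i ≠ 0 := not_forall.mp fun h' => h (Finsupp.ext fun i => (h' i).symm)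
      obtain ⟨e', rfl⟩ := exists_add_of_le (Finsupp.single_le_iff.mpr (Nat.one_le_iff_ne_zero.mpr hi))
      have : e' = 0 := by rw [← Finsupp.degree_eq_zero_iff]; simp at he h2 ⊢; omega
      subst this
      simp [h1]

/-- The linear part of a partial derivative is a row of the Gram matrix of the quadratic part. -/
theorem coeff_single_pderiv (f : PS) (i j : Fin n) :
    coeff (Finsupp.single j 1) (pderiv R i f) = VanCyc.polarMatrix (VanCyc.quadPart f) i j := by
  rw [coeff_pderiv]
  unfold VanCyc.polarMatrix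
  simp only [VanCyc.quadPart]
  rcases lt_trichotomy i j with h | h | h
  · simp [h.ne, h, Finsupp.single_eq_of_ne h.ne, add_comm (Finsupp.single j 1)]
  · subst h
    simp [← Finsupp.single_add, one_add_one_eq_two, mul_comm]
  · simp [h.ne', h.not_gt, h, h.ne, Finsupp.single_eq_of_ne h.ne']

theorem map_polarMatrix_congr {S : Type*} [CommRing S] (π : R →+* S) (a b : Fin n → Fin n → R)
    (h : ∀ i j, i ≤ j → π (a i j) = π (b i j)) :
    (VanCyc.polarMatrix a).map π = (VanCyc.polarMatrix b).map π := by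
  ext i j
  simp only [Matrix.map_apply, VanCyc.polarMatrix]
  rcases lt_trichotomy i j with h' | h' | h'
  · simp [h'.ne, h', h i j h'.le]
  · subst h'; simp [h i i le_rfl, map_mul]
  · simp [h'.ne', h'.not_gt, h j i h'.le]

end Quad

section Transl

variable {A : Type u} [CommRing A] [WithIdeal A] {n : ℕ}

local notation "PS" => MvPowerSeries (Fin n) A
local notation "𝔪" => (WithIdeal.i : Ideal A)

theorem hasEval {c : Fin n → A} (hc : ∀ i, c i ∈ 𝔪) :
    HasEval (fun i => (X i : PS) + C (c i)) where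
  hpow i := LinearTopology.isTopologicallyNilpotent_of_constantCoeff (by
    simpa using WithIdeal.isTopologicallyNilpotent_of_mem (hc i))
  tendsto_zero := by rw [Filter.cofinite_eq_bot]; exact Filter.tendsto_bot

variable [CompleteSpace A] [T2Space A]

/-- Substitution of `x + c` for `x`. -/
noncomputable def transl (c : Fin n → A) (hc : ∀ i, c i ∈ 𝔪) : PS →ₐ[A] PS :=
  MvPowerSeries.aeval (hasEval hc)

theorem continuous_transl (c : Fin n → A) (hc : ∀ i, c i ∈ 𝔪) : Continuous (transl c hc) :=
  continuous_aeval _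

theorem transl_coe (c : Fin n → A) (hc : ∀ i, c i ∈ 𝔪) (p : MvPolynomial (Fin n) A) :
    transl c hc (p : PS) = MvPolynomial.aeval (fun i => (X i : PS) + C (c i)) p :=
  aeval_coe _ p

theorem transl_X (c : Fin n → A) (hc : ∀ i, c i ∈ 𝔪) (i : Fin n) :
    transl c hc (X i) = X i + C (c i) := by
  rw [← MvPolynomial.coe_X, transl_coe, MvPolynomial.aeval_X, MvPolynomial.coe_X]

theorem transl_C (c : Fin n → A) (hc : ∀ i, c i ∈ 𝔪) (r : A) : transl c hc (C r) = C r := by
  rw [← MvPolynomial.coe_C, transl_coe, MvPolynomial.aeval_C, MvPolynomial.coe_C]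
  rfl

theorem algHom_ext {φ ψ : PS →ₐ[A] PS} (hφ : Continuous φ) (hψ : Continuous ψ)
    (h : ∀ i, φ (X i) = ψ (X i)) : φ = ψ := by
  rw [← aeval_unique hφ, ← aeval_unique hψ]
  congr 1
  exact funext h

theorem transl_comp (c d e : Fin n → A) (hc : ∀ i, c i ∈ 𝔪) (hd : ∀ i, d i ∈ 𝔪) (he : ∀ i, e i ∈ 𝔪)
    (h : ∀ i, e i = d i + c i) : (transl d hd).comp (transl c hc) = transl e he := by
  refine algHom_ext ((continuous_transl d hd).comp (continuous_transl c hc)) (continuous_transl e he) fun i => ?_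
  simp [transl_X, transl_C, h, add_assoc]

theorem transl_transl (c d e : Fin n → A) (hc : ∀ i, c i ∈ 𝔪) (hd : ∀ i, d i ∈ 𝔪) (he : ∀ i, e i ∈ 𝔪)
    (h : ∀ i, e i = d i + c i) (f : PS) : transl d hd (transl c hc f) = transl e he f :=
  DFunLike.congr_fun (transl_comp c d e hc hd he h) f

theorem transl_zero (hc : ∀ i : Fin n, (0 : Fin n → A) i ∈ 𝔪) : transl (0 : Fin n → A) hc = AlgHom.id A PS :=
  algHom_ext (continuous_transl _ hc) continuous_id fun i => by simp [transl_X]

/-- Translation as an automorphism. -/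
noncomputable def translEquiv (c : Fin n → A) (hc : ∀ i, c i ∈ 𝔪) : PS ≃ₐ[A] PS :=
  AlgEquiv.ofAlgHom (transl c hc) (transl (-c) fun i => neg_mem (hc i))
    (by rw [transl_comp _ _ 0 _ _ (fun i => zero_mem _) (fun i => by simp), transl_zero])
    (by rw [transl_comp _ _ 0 _ _ (fun i => zero_mem _) (fun i => by simp), transl_zero])

theorem isClosed_pow (k : ℕ) : IsClosed ((𝔪 ^ k : Ideal A) : Set A) :=
  AddSubgroup.isClosed_of_isOpen (𝔪 ^ k).toAddSubgroup
    ((isAdic_iff.mp (show IsAdic 𝔪 from rfl)).1 k)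

theorem continuous_pderiv (i : Fin n) : Continuous fun f : PS => pderiv A i f := by
  refine continuous_pi fun e => ?_
  show Continuous fun f : PS => coeff e (pderiv A i f)
  simp only [coeff_pderiv]
  exact (continuous_coeff A _).mul continuous_const

/-- First order Taylor formula for translations. -/
theorem transl_congr (d : Fin n → A) (hd : ∀ i, d i ∈ 𝔪) (J : Ideal A) (hJ : IsClosed (J : Set A))
    (hdd : ∀ i j, d i * d j ∈ J) (f : PS) (e : Fin n →₀ ℕ) :
    coeff e (transl d hd f - f - ∑ i, C (d i) * pderiv A i f) ∈ J := by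
  suffices h : ∀ g : PS, transl d hd g - g - ∑ i, C (d i) * pderiv A i g ∈
      RingHom.ker (MvPowerSeries.map (σ := Fin n) (Ideal.Quotient.mk J)) by
    have := congrArg (coeff e) (RingHom.mem_ker.mp (h f))
    rwa [coeff_map, map_zero, Ideal.Quotient.eq_zero_iff_mem] at this
  intro g
  refine DenseRange.induction_on (denseRange_toMvPowerSeries (R := A)) g ?_ fun p => ?_
  · have hcl : IsClosed {f : PS | ∀ e, coeff e f ∈ J} := by
      simp only [Set.setOf_forall]
      exact isClosed_iInter fun e => hJ.preimage (continuous_coeff A e)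
    have hker : {f : PS | ∀ e, coeff e f ∈ J} =
        (RingHom.ker (MvPowerSeries.map (σ := Fin n) (Ideal.Quotient.mk J)) : Set PS) := by
      ext f
      simp [RingHom.mem_ker, MvPowerSeries.ext_iff, Ideal.Quotient.eq_zero_iff_mem]
    rw [hker] at hcl
    exact hcl.preimage (((continuous_transl d hd).sub continuous_id).sub
      (continuous_finsetSum _ fun i _ => continuous_const.mul (continuous_pderiv i)))
  · set K := RingHom.ker (MvPowerSeries.map (σ := Fin n) (Ideal.Quotient.mk J))
    have hCC : ∀ i j, (C (d i) : PS) * C (d j) ∈ K := fun i j => by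
      rw [RingHom.mem_ker, ← map_mul, map_C, Ideal.Quotient.eq_zero_iff_mem.mpr (hdd i j), map_zero]
    induction p using MvPolynomial.induction_on with
    | C a => simp [transl_C]
    | add p q hp hq =>
      convert add_mem hp hq using 1
      simp only [MvPolynomial.coe_add, map_add, mul_add, Finset.sum_add_distrib]
      ring
    | mul_X p j hp =>
      have hmem : (transl d hd (p : PS) - (p : PS) - ∑ i, C (d i) * pderiv A i (p : PS)) * (X j + C (d j)) +
          ∑ i, C (d i) * C (d j) * pderiv A i (p : PS) ∈ K :=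
        add_mem (Ideal.mul_mem_right _ _ hp) (Ideal.sum_mem _ fun i _ => Ideal.mul_mem_right _ _ (hCC i j))
      convert hmem using 1
      have hD : ∑ i, C (d i) * pderiv A i ((p : PS) * X j) =
          (∑ i, C (d i) * pderiv A i (p : PS)) * X j + C (d j) * (p : PS) := by
        simp only [Derivation.leibniz, smul_eq_mul, mul_add, Finset.sum_add_distrib, Finset.sum_mul, pderiv_X,
          Pi.single_apply]
        rw [add_comm]
        simp [mul_assoc, mul_comm, mul_left_comm]
      simp only [MvPolynomial.coe_mul, MvPolynomial.coe_X, map_mul, transl_X]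
      rw [hD, show ∑ i, C (d i) * C (d j) * pderiv A i (p : PS) = C (d j) * ∑ i, C (d i) * pderiv A i (p : PS) by
        rw [Finset.mul_sum]; exact Finset.sum_congr rfl fun i _ => by ring]
      ring

theorem transl_congr_self (c : Fin n → A) (hc : ∀ i, c i ∈ 𝔪) (f : PS) (e : Fin n →₀ ℕ) :
    coeff e (transl c hc f) - coeff e f ∈ 𝔪 := by
  have h := transl_congr c hc (𝔪 ^ 1) (isClosed_pow 1) (fun i j => by
    rw [pow_one]; exact Ideal.mul_mem_right _ _ (hc i)) f e
  rw [pow_one, map_sub, map_sub] at h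
  have h2 : coeff e (∑ i, C (c i) * pderiv A i f) ∈ 𝔪 := by
    rw [map_sum]
    refine Ideal.sum_mem _ fun i _ => ?_
    rw [coeff_C_mul]
    exact Ideal.mul_mem_right _ _ (hc i)
  simpa using add_mem h h2

end Transl

section Newton

variable {A : Type u} [CommRing A] [IsLocalRing A] [WithIdeal A] [CompleteSpace A] [T2Space A] {n : ℕ}

local notation "PS" => MvPowerSeries (Fin n) A
local notation "𝔪" => (WithIdeal.i : Ideal A)

/-- Some translation kills the linear term. -/
theorem exists_transl_linear_eq_zero (hI : 𝔪 = IsLocalRing.maximalIdeal A) [IsPrecomplete 𝔪 A] [IsHausdorff 𝔪 A]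
    (F : PS) (hdet : VanCyc.QuadNondeg (VanCyc.quadPart F))
    (hlin : ∀ i, coeff (Finsupp.single i 1) F ∈ 𝔪) :
    ∃ (c : Fin n → A) (hc : ∀ i, c i ∈ 𝔪),
      (∀ i, coeff (Finsupp.single i 1) (transl c hc F) = 0) ∧
      constantCoeff (transl c hc F) - constantCoeff F ∈ 𝔪 ∧
      VanCyc.QuadNondeg (VanCyc.quadPart (transl c hc F)) := by
  classical
  have hnd : ∀ c hc, VanCyc.QuadNondeg (VanCyc.quadPart (transl c hc F)) := by
    intro c hc
    unfold VanCyc.QuadNondeg at hdet ⊢
    have hπ := map_polarMatrix_congr (Ideal.Quotient.mk 𝔪) (VanCyc.quadPart (transl c hc F)) (VanCyc.quadPart F)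
      fun i j hij => by
        rw [Ideal.Quotient.eq, quadPart_apply_of_le _ hij, quadPart_apply_of_le _ hij]
        exact transl_congr_self c hc F _
    have hd := congrArg Matrix.det hπ
    change ((Ideal.Quotient.mk 𝔪).mapMatrix _).det = ((Ideal.Quotient.mk 𝔪).mapMatrix _).det at hd
    rw [← RingHom.map_det, ← RingHom.map_det, Ideal.Quotient.eq, hI] at hd
    by_contra hnu
    have : (VanCyc.polarMatrix (VanCyc.quadPart F)).det ∈ IsLocalRing.maximalIdeal A := by
      simpa using sub_mem ((IsLocalRing.mem_maximalIdeal _).mpr hnu) hd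
    exact (IsLocalRing.mem_maximalIdeal _).mp this hdet
  let Good : ℕ → (Fin n → A) → Prop := fun k c => ∃ hc : ∀ i, c i ∈ 𝔪,
    ∀ j, coeff (Finsupp.single j 1) (transl c hc F) ∈ 𝔪 ^ (k + 1)
  have hstep : ∀ k c, Good k c → ∃ c', Good (k + 1) c' ∧ ∀ i, c' i - c i ∈ 𝔪 ^ (k + 1) := by
    rintro k c ⟨hc, hl⟩
    set G := transl c hc F with hG
    set M := VanCyc.polarMatrix (VanCyc.quadPart G) with hM
    set l : Fin n → A := fun j => coeff (Finsupp.single j 1) G with hldef
    set δ : Fin n → A := - Matrix.vecMul l M⁻¹ with hδdef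
    have hδ : ∀ i, δ i ∈ 𝔪 ^ (k + 1) := fun i => by
      simp only [hδdef, Pi.neg_apply, Matrix.vecMul, dotProduct]
      exact neg_mem (Ideal.sum_mem _ fun j _ => Ideal.mul_mem_right _ _ (hl j))
    have hδI : ∀ i, δ i ∈ 𝔪 := fun i => Ideal.pow_le_self (Nat.succ_ne_zero k) (hδ i)
    have hδM : Matrix.vecMul δ M = - l := by
      rw [hδdef, Matrix.neg_vecMul, Matrix.vecMul_vecMul, Matrix.nonsing_inv_mul _ (hnd c hc), Matrix.vecMul_one]
    have hcd : ∀ i, (fun i => δ i + c i) i ∈ 𝔪 := fun i => add_mem (hδI i) (hc i)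
    refine ⟨fun i => δ i + c i, ⟨hcd, fun j => ?_⟩, fun i => by simpa using hδ i⟩
    rw [← transl_transl c δ _ hc hδI hcd (fun _ => rfl) F, ← hG]
    have h := transl_congr δ hδI (𝔪 ^ (k + 1 + 1)) (isClosed_pow _) (fun a b => by
      refine Ideal.pow_le_pow_right (show k + 1 + 1 ≤ (k + 1) + (k + 1) by omega) ?_
      rw [pow_add]; exact Ideal.mul_mem_mul (hδ a) (hδ b)) G (Finsupp.single j 1)
    simp only [map_sub, map_sum, coeff_C_mul, coeff_single_pderiv] at h
    have : ∑ i, δ i * M i j = - l j := congrFun hδM j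
    rw [this] at h
    simpa [hldef] using h
  have h0 : Good 0 0 := ⟨fun _ => zero_mem _, fun j => by simpa [transl_zero] using hlin j⟩
  choose step hs1 hs2 using hstep
  let seq : (k : ℕ) → {c // Good k c} := fun k =>
    Nat.rec ⟨0, h0⟩ (fun k c => ⟨step k c.1 c.2, hs1 k c.1 c.2⟩) k
  have hseq : ∀ a b, a ≤ b → ∀ i, (seq b).1 i - (seq a).1 i ∈ 𝔪 ^ a := by
    intro a b hab i
    induction b, hab using Nat.le_induction with
    | base => simp
    | succ b hab ih =>
      have : (seq (b + 1)).1 i - (seq b).1 i ∈ 𝔪 ^ a :=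
        Ideal.pow_le_pow_right (by omega) (hs2 b (seq b).1 (seq b).2 i)
      simpa using add_mem this ih
  have hlim : ∀ i, ∃ L, ∀ k, L - (seq k).1 i ∈ 𝔪 ^ k := by
    intro i
    obtain ⟨L, hL⟩ := IsPrecomplete.prec (I := 𝔪) (M := A) inferInstance (f := fun k => (seq k).1 i) (by
      intro a b hab
      rw [SModEq.sub_mem, smul_eq_mul, Ideal.mul_top, ← neg_sub]
      exact neg_mem (hseq a b hab i))
    refine ⟨L, fun k => ?_⟩
    have := hL k
    rw [SModEq.sub_mem, smul_eq_mul, Ideal.mul_top] at this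
    rw [← neg_sub]
    exact neg_mem this
  choose c hcL using hlim
  have hc : ∀ i, c i ∈ 𝔪 := fun i => by
    obtain ⟨h, -⟩ := (seq 1).2
    simpa using add_mem (Ideal.pow_le_self one_ne_zero (hcL i 1)) (h i)
  refine ⟨c, hc, fun j => ?_, ?_, hnd c hc⟩
  · refine IsHausdorff.haus (I := 𝔪) inferInstance _ fun k => ?_
    rw [SModEq.sub_mem, smul_eq_mul, Ideal.mul_top, sub_zero]
    rcases Nat.eq_zero_or_pos k with rfl | hk
    · simp
    obtain ⟨hck, hl⟩ := (seq k).2
    set δ : Fin n → A := fun i => c i - (seq k).1 i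
    have hδ : ∀ i, δ i ∈ 𝔪 ^ k := fun i => hcL i k
    have hδI : ∀ i, δ i ∈ 𝔪 := fun i => Ideal.pow_le_self hk.ne' (hδ i)
    rw [← transl_transl (seq k).1 δ c hck hδI hc (fun i => by simp [δ]) F]
    have h := transl_congr δ hδI (𝔪 ^ k) (isClosed_pow _) (fun a b => Ideal.mul_mem_right _ _ (hδ a))
      (transl (seq k).1 hck F) (Finsupp.single j 1)
    simp only [map_sub, map_sum, coeff_C_mul] at h
    have h2 := add_mem (add_mem h (Ideal.sum_mem _ (t := Finset.univ) fun i _ => Ideal.mul_mem_right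
      (coeff (Finsupp.single j 1) (pderiv A i (transl (seq k).1 hck F))) _ (hδ i)))
      (Ideal.pow_le_pow_right k.le_succ (hl j))
    simpa using h2
  · simpa [coeff_zero_eq_constantCoeff_apply] using transl_congr_self c hc F 0

end Newton

end Groth.SGA7.Translation
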