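import Groth.Agent.SGA7.DefSchCond
import Groth.Agent.ArtfunDeform.FunctorBasic

/-!
Extensions of a deformation along a semismall extension are a torsor under `F(k[J])`.
-/

set_option linter.style.haveILetI false
set_option linter.style.longLine false
set_option linter.unusedSectionVars false

noncomputable section

universe u v

open CategoryTheory AlgebraicGeometry Limits

namespace Groth.SGA7Def

open ArtFun ArtFun.Art Groth.ArtfunDeform

variable {Λ k : Type u} [CommRing Λ] [Field k] [Algebra Λ k] [Module.Finite Λ k]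

/-! ### Values at `k[k^n]`. -/

section Pow

variable (Λ k) in
/-- `k[k^n]`. -/
abbrev powArt (n : ℕ) : Art Λ k := tszeArt Λ k (Fin n → k)

variable (Λ k) in
/-- Dropping the first coordinate. -/
def powTail (n : ℕ) : powArt Λ k (n + 1) ⟶ powArt Λ k n :=
  tszeHom (LinearMap.funLeft k k Fin.succ)

variable (Λ k) in
/-- The first coordinate. -/
def powHead (n : ℕ) : powArt Λ k (n + 1) ⟶ dual Λ k :=
  ⟨tszeMap (LinearMap.proj 0 : (Fin (n + 1) → k) →ₗ[k] k), AlgHom.ext fun _ => rfl⟩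

lemma isFibreProd_pow (n : ℕ) :
    IsFibreProd (powTail Λ k n) (powHead Λ k n) (toBase (powArt Λ k n)) (toBase (dual Λ k)) where
  w := by rw [eq_toBase (powTail Λ k n ≫ toBase _), eq_toBase (powHead Λ k n ≫ toBase _)]
  inj a b h₁ h₂ := by
    refine TrivSqZeroExt.ext (R := k) (M := Fin (n + 1) → k) ?_ (funext fun i => Fin.cases ?_ (fun i => ?_) i)
    · have e := congrArg (fun z : TrivSqZeroExt k (Fin n → k) => z.fst) h₁; exact e
    · have e := congrArg (fun z : TrivSqZeroExt k k => z.snd) h₂; exact e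
    · have e := congrArg (fun z : TrivSqZeroExt k (Fin n → k) => z.snd) h₁; exact congrFun e i
  surj a b e := by
    let a' : TrivSqZeroExt k (Fin n → k) := a
    let b' : TrivSqZeroExt k k := b
    refine ⟨(a'.fst, Fin.cons b'.snd a'.snd),
      TrivSqZeroExt.ext (R := k) (M := Fin n → k) rfl (funext fun i => ?_), TrivSqZeroExt.ext (R := k) (M := k) ?_ ?_⟩
    · exact Fin.cons_succ (α := fun _ => k) b'.snd a'.snd i
    · exact e
    · exact Fin.cons_zero (α := fun _ => k) b'.snd a'.snd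

/-- `F(k[k^n]) ≃ F(k[ε])^n`. -/
theorem nonempty_powEquiv {F : Art Λ k ⥤ Type v} (h0 : ArtFun.H0 F) (h2 : ArtFun.Heps F) (n : ℕ) :
    Nonempty (F.obj (powArt Λ k n) ≃ (Fin n → F.obj (dual Λ k))) := by
  induction n with
  | zero =>
    haveI : Subsingleton (F.obj (base Λ k)) := h0.2
    haveI : Unique (F.obj (base Λ k)) := uniqueOfSubsingleton h0.1.some
    haveI : IsIso (toBase (powArt Λ k 0)) := isIso_of_bijective _ ⟨fun a b h => TrivSqZeroExt.ext h (Subsingleton.elim _ _),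
      (powArt Λ k 0).res_surjective⟩
    exact ⟨(Equiv.ofBijective _ (bijective_map_of_isIso F (toBase (powArt Λ k 0)))).trans (Equiv.ofUnique _ _)⟩
  | succ n ih =>
    obtain ⟨e⟩ := ih
    haveI : Subsingleton (F.obj (base Λ k)) := h0.2
    let c := Equiv.ofBijective _ (h2 _ _ (isFibreProd_pow (Λ := Λ) (k := k) n))
    refine ⟨(c.trans (Equiv.subtypeUnivEquiv fun _ => Subsingleton.elim _ _)).trans
      (((e.prodCongr (Equiv.refl _)).trans (Equiv.prodComm _ _)).trans (Fin.consEquiv fun _ => F.obj (dual Λ k)))⟩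

lemma sq_maximalIdeal_pow (n : ℕ) : IsLocalRing.maximalIdeal (powArt Λ k n) ^ 2 = ⊥ := by
  rw [sq, eq_bot_iff, Ideal.mul_le]
  intro a ha b hb
  rw [Ideal.mem_bot]
  have ha' : TrivSqZeroExt.fst (show TrivSqZeroExt k (Fin n → k) from a) = 0 := ((powArt Λ k n).mem_maximalIdeal_iff a).1 ha
  have hb' : TrivSqZeroExt.fst (show TrivSqZeroExt k (Fin n → k) from b) = 0 := ((powArt Λ k n).mem_maximalIdeal_iff b).1 hb
  exact (TrivSqZeroExt.ext (by rw [TrivSqZeroExt.fst_mul, ha', zero_mul]; rfl)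
    (by rw [TrivSqZeroExt.snd_mul, ha', hb']; simp) :
    (show TrivSqZeroExt k (Fin n → k) from a) * (show TrivSqZeroExt k (Fin n → k) from b) = 0)

variable (Λ k) in
/-- The section `k → k[k^n]`. -/
def powSection [IsScalarTower Λ k k] (n : ℕ) : base Λ k ⟶ powArt Λ k n :=
  ⟨(Algebra.ofId k (TrivSqZeroExt k (Fin n → k))).restrictScalars Λ, AlgHom.ext fun _ => rfl⟩

end Pow

/-! ### The torsor. -/

section Torsor

variable {X : Scheme.{u}} {x : X ⟶ Art.specPt k} {C' C : Art Λ k} {p : C' ⟶ C} (hp : Function.Surjective p)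
variable {𝒳 : ArtFun.DefSch X x C}

/-- Pairs of an extension and an identification. -/
abbrev Extn (p : C' ⟶ C) (𝒳 : ArtFun.DefSch X x C) : Type (u + 1) :=
  Σ 𝒴 : ArtFun.DefSch X x C', (𝒴.baseChange p).Iso 𝒳

/-- Equivalence of extensions. -/
abbrev ExtnRel (p : C' ⟶ C) (𝒳 : ArtFun.DefSch X x C) (a b : Extn p 𝒳) : Prop :=
  ∃ ψ : a.1.Iso b.1, ((ψ.baseChange p).trans b.2).iso = a.2.iso

/-- The morphism of an extension. -/
def extnHom (a : Extn p 𝒳) : SHom p a.1 𝒳 :=
  ((SHom.fst p a.1).comp (SHom.ofIso a.2.symm)).cast (Category.comp_id p)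

lemma extnHom_hom (a : Extn p 𝒳) : (extnHom a).hom = a.2.iso.inv ≫ pullback.fst a.1.f (Art.specMap p) := rfl

variable {D : Art Λ k} {p₁ p₂ : D ⟶ C'} (h : IsFibreProd p₁ p₂ p p) (a₀ : Extn p 𝒳)

/-- The glued deformation of two extensions. -/
def pairGlue (a : Extn p 𝒳) : ArtFun.DefSch X x D :=
  haveI := (extnHom a).isClosedImmersion hp
  haveI := (extnHom a).surjective
  haveI := (extnHom a₀).isAffineHom
  glueSch h hp (extnHom a₀) (extnHom a)

/-- First component. -/
def pairInl (a : Extn p 𝒳) : SHom p₁ (pairGlue hp h a₀ a) a₀.1 :=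
  haveI := (extnHom a).isClosedImmersion hp
  haveI := (extnHom a).surjective
  haveI := (extnHom a₀).isAffineHom
  glueInl h hp (extnHom a₀) (extnHom a)

/-- Second component. -/
def pairInr (a : Extn p 𝒳) : SHom p₂ (pairGlue hp h a₀ a) a.1 :=
  haveI := (extnHom a).isClosedImmersion hp
  haveI := (extnHom a).surjective
  haveI := (extnHom a₀).isAffineHom
  glueInr h hp (extnHom a₀) (extnHom a)

lemma pair_w (a : Extn p 𝒳) :
    (extnHom a).hom ≫ (pairInr hp h a₀ a).hom = (extnHom a₀).hom ≫ (pairInl hp h a₀ a).hom := by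
  haveI := (extnHom a).isClosedImmersion hp
  haveI := (extnHom a).surjective
  haveI := (extnHom a₀).isAffineHom
  exact ThickPushout.comp_inr (extnHom a).hom (extnHom a₀).hom

variable {n : ℕ} (q : D ⟶ powArt Λ k n)

/-- The difference class. -/
def diffCls (a : Extn p 𝒳) : (defFunctor (Λ := Λ) X x).obj (powArt Λ k n) :=
  (defFunctor (Λ := Λ) X x).map q (pairGlue hp h a₀ a).cl

lemma diffCls_congr {a b : Extn p 𝒳} (hab : ExtnRel p 𝒳 a b) : diffCls hp h a₀ q a = diffCls hp h a₀ q b := by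
  obtain ⟨ψ, hψ⟩ := hab
  have key : (extnHom a).hom ≫ ψ.iso.hom = (extnHom b).hom := by
    have e : (DefSch.Iso.baseChange ψ p).iso.hom ≫ b.2.iso.hom = a.2.iso.hom := congrArg CategoryTheory.Iso.hom hψ
    rw [extnHom_hom, extnHom_hom, Category.assoc, ← DefSch.pullMap_fst ψ.iso.hom ψ.hom_f p, ← Category.assoc]
    refine congrArg (· ≫ pullback.fst b.1.f (Art.specMap p)) ?_
    rw [Iso.inv_comp_eq, ← e, Category.assoc, Iso.hom_inv_id, Category.comp_id]
    rfl
  refine congrArg ((defFunctor (Λ := Λ) X x).map q) ?_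
  refine cl_eq_of_components h hp (extnHom a₀) (extnHom a) (pairInl hp h a₀ a) (pairInr hp h a₀ a) (pair_w hp h a₀ a)
    (pairInl hp h a₀ b) (((pairInr hp h a₀ b).comp (SHom.ofIso ψ)).cast (Category.comp_id p₂)) ?_
  change (extnHom a).hom ≫ ψ.iso.hom ≫ (pairInr hp h a₀ b).hom = _
  rw [reassoc_of% key, pair_w]

variable (hq : IsFibreProd p₁ q (toBase C') (toBase (powArt Λ k n)))

include hq in
lemma bijective_cmp_pow : Function.Bijective (cmp (defFunctor (Λ := Λ) X x) hq) :=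
  cmp_bijective_of_heps (heps_sch X x) (powSection Λ k n) (sq_maximalIdeal_pow n) hq

include hq in
/-- Automorphisms of the first component extend to the glued deformation. -/
lemma exists_aut_glue (a : Extn p 𝒳) (α : a₀.1.Iso a₀.1) :
    ∃ u : SHom (𝟙 D) (pairGlue hp h a₀ a) (pairGlue hp h a₀ a),
      (pairInl hp h a₀ a).hom ≫ u.hom = α.iso.hom ≫ (pairInl hp h a₀ a).hom := by
  have hf : Function.Surjective (toBase (powArt Λ k n)) := (powArt Λ k n).res_surjective
  let Z := pairGlue hp h a₀ a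
  let φ' := toSelfSch (Λ := Λ) (flat_of_field x) a₀.1
  let φ'' := toSelfSch (Λ := Λ) (flat_of_field x) (Z.baseChange q)
  let α₁ : SHom p₁ Z a₀.1 := pairInl hp h a₀ a
  let α₂ : SHom p₁ Z a₀.1 := (α₁.comp (SHom.ofIso α)).cast (Category.comp_id p₁)
  let β : SHom q Z (Z.baseChange q) := SHom.fst q Z
  haveI := φ''.isClosedImmersion hf
  haveI := φ''.surjective
  haveI := φ'.isAffineHom
  let f₁ := fromGlue hq hf φ' φ'' α₁ β (β.i_hom.trans α₁.i_hom.symm)
  let f₂ := fromGlue hq hf φ' φ'' α₂ β (β.i_hom.trans α₂.i_hom.symm)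
  haveI := f₁.isIso
  have e1 : ThickPushout.inl φ''.hom φ'.hom ≫ f₁.hom = α₁.hom := ThickPushout.inl_desc _ _ _ _ _
  have e2 : ThickPushout.inl φ''.hom φ'.hom ≫ f₂.hom = α₂.hom := ThickPushout.inl_desc _ _ _ _ _
  refine ⟨⟨inv f₁.hom ≫ f₂.hom, ?_, ?_⟩, ?_⟩
  · have h2 := f₂.hom_f
    have h1 := f₁.hom_f
    rw [Art.specMap_id, Category.comp_id] at h1 h2 ⊢
    rw [Category.assoc, h2, IsIso.inv_comp_eq, h1]
  · rw [← Category.assoc]
    have h1 : Z.i ≫ inv f₁.hom = (glueSch hq hf φ' φ'').i := by rw [IsIso.comp_inv_eq, f₁.i_hom]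
    rw [h1]
    exact f₂.i_hom
  · change α₁.hom ≫ inv f₁.hom ≫ f₂.hom = α.iso.hom ≫ α₁.hom
    conv_lhs => rw [← e1]
    simp only [Category.assoc, IsIso.hom_inv_id_assoc]
    exact e2

include hq in
lemma rel_of_diffCls_eq {a b : Extn p 𝒳} (hab : diffCls hp h a₀ q a = diffCls hp h a₀ q b) : ExtnRel p 𝒳 a b := by
  have hinj := (bijective_cmp_pow (X := X) (x := x) q hq).1
  have hcl : (pairGlue hp h a₀ b).cl = (pairGlue hp h a₀ a).cl := by
    refine hinj (Subtype.ext (Prod.ext ?_ hab.symm))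
    exact (map_cl_eq_iff'.2 ⟨pairInl hp h a₀ b⟩).trans (map_cl_eq_iff'.2 ⟨pairInl hp h a₀ a⟩).symm
  obtain ⟨H⟩ := cl_eq_iff'.1 hcl.symm
  obtain ⟨a', ha'⟩ := SHom.exists_factor (Category.comp_id p₁) (pairInl hp h a₀ a)
    ((H.comp (pairInl hp h a₀ b)).cast (Category.id_comp p₁))
  obtain ⟨u, hu⟩ := exists_aut_glue hp h a₀ q hq a a'.toIso.symm
  let K : SHom (𝟙 D) (pairGlue hp h a₀ a) (pairGlue hp h a₀ b) :=
    (u.comp H).cast (Category.id_comp _)
  have hK : (pairInl hp h a₀ b).hom ≫ K.hom = (pairInl hp h a₀ a).hom := by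
    change (pairInl hp h a₀ b).hom ≫ H.hom ≫ u.hom = _
    have e : a'.hom ≫ (pairInl hp h a₀ a).hom = (pairInl hp h a₀ b).hom ≫ H.hom := ha'
    rw [← reassoc_of% e, hu]
    exact a'.toIso.iso.hom_inv_id_assoc _
  obtain ⟨b', hb'⟩ := SHom.exists_factor (Category.comp_id p₂) (pairInr hp h a₀ a)
    ((K.comp (pairInr hp h a₀ b)).cast (Category.id_comp p₂))
  haveI := (pairInr hp h a₀ a).isClosedImmersion (surjective_fst (isFibreProd_symm h) hp)
  have key : (extnHom b).hom ≫ b'.hom = (extnHom a).hom := by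
    rw [← cancel_mono (pairInr hp h a₀ a).hom, Category.assoc, hb']
    change (extnHom b).hom ≫ (pairInr hp h a₀ b).hom ≫ K.hom = _
    rw [reassoc_of% (pair_w hp h a₀ b), hK, pair_w]
  have e : b.2.iso.inv ≫ (DefSch.Iso.baseChange b'.toIso p).iso.hom = a.2.iso.inv := by
    apply pullback.hom_ext
    · refine (Category.assoc _ _ _).trans ((congrArg (b.2.iso.inv ≫ ·) (DefSch.pullMap_fst b'.toIso.iso.hom b'.toIso.hom_f p)).trans ?_)
      exact ((Category.assoc _ _ _).symm.trans key)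
    · refine (Category.assoc _ _ _).trans ((congrArg (b.2.iso.inv ≫ ·) (DefSch.Iso.baseChange b'.toIso p).hom_f).trans ?_)
      exact b.2.symm.hom_f.trans a.2.symm.hom_f.symm
  refine ⟨b'.toIso.symm, CategoryTheory.Iso.ext ?_⟩
  change (DefSch.Iso.baseChange b'.toIso p).iso.inv ≫ b.2.iso.hom = a.2.iso.hom
  rw [Iso.inv_comp_eq, (Iso.inv_comp_eq _).1 e, Category.assoc, Iso.inv_hom_id, Category.comp_id]

include hq in
lemma exists_diffCls_eq (η : (defFunctor (Λ := Λ) X x).obj (powArt Λ k n)) :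
    ∃ a, diffCls hp h a₀ q a = η := by
  haveI := (h0_sch (Λ := Λ) X x).2
  obtain ⟨z, hz⟩ := (bijective_cmp_pow (X := X) (x := x) q hq).2 ⟨(a₀.1.cl, η), Subsingleton.elim _ _⟩
  obtain ⟨Z, rfl⟩ := exists_cl' z
  obtain ⟨α⟩ := map_cl_eq_iff'.1 (congrArg (fun t => t.1.1) hz : (defFunctor (Λ := Λ) X x).map p₁ Z.cl = a₀.1.cl)
  let β := SHom.fst p₂ Z
  obtain ⟨ψ, hψ⟩ := SHom.exists_factor h.w.symm β (α.comp (extnHom a₀))
  let a : Extn p 𝒳 := ⟨Z.baseChange p₂, ψ.lift.toIso.symm⟩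
  refine ⟨a, ?_⟩
  have key : (extnHom a).hom = ψ.hom := pullback.lift_fst _ _ _
  have hcl : (pairGlue hp h a₀ a).cl = Z.cl :=
    cl_eq_of_components h hp (extnHom a₀) (extnHom a) (pairInl hp h a₀ a) (pairInr hp h a₀ a) (pair_w hp h a₀ a)
      α β (by rw [key]; exact hψ)
  rw [diffCls, hcl]
  exact congrArg (fun t => t.1.2) hz

include hp h hq a₀ in
/-- Extensions up to equivalence are the elements of `F(k[k^n])`. -/
theorem nonempty_extn_equiv :
    Nonempty (Quot (ExtnRel p 𝒳) ≃ (defFunctor (Λ := Λ) X x).obj (powArt Λ k n)) := by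
  refine ⟨Equiv.ofBijective (Quot.lift (diffCls hp h a₀ q) fun _ _ hab => diffCls_congr hp h a₀ q hab) ⟨?_, ?_⟩⟩
  · rintro ⟨a⟩ ⟨b⟩ hab
    exact Quot.sound (rel_of_diffCls_eq hp h a₀ q hq hab)
  · intro η
    obtain ⟨a, ha⟩ := exists_diffCls_eq hp h a₀ q hq η
    exact ⟨Quot.mk _ a, ha⟩

end Torsor

/-! ### The fibre product along a semismall extension. -/

theorem exists_diff_map {k : Type u} [Field k] {C' C : Art k k} {p : C' ⟶ C} (hp : IsSemismallExt p)
    {D : Art k k} {p₁ p₂ : D ⟶ C'} (h : IsFibreProd p₁ p₂ p p) :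
    ∃ (n : ℕ) (q : D ⟶ powArt k k n) (_ : ↥(RingHom.ker p.toAlgHom) ≃ₗ[k] (Fin n → k)),
      IsFibreProd p₁ q (toBase C') (toBase (powArt k k n)) := by
  have hres : ∀ (y : C') (j : C'), j ∈ RingHom.ker p.toAlgHom → y * j = algebraMap k C' (C'.res y) * j := by
    intro y j hj
    have hm : (y - algebraMap k C' (C'.res y)) * j ∈ IsLocalRing.maximalIdeal C' * RingHom.ker p.toAlgHom := by
      refine Ideal.mul_mem_mul ((C'.mem_maximalIdeal_iff _).2 ?_) hj
      rw [map_sub, AlgHom.commutes, Algebra.algebraMap_self, RingHom.id_apply, sub_self]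
    rw [hp.2, Ideal.mem_bot, sub_mul, sub_eq_zero] at hm
    exact hm
  haveI : Module.Finite k C' := (Module.finite_iff_isArtinianRing k C').2 inferInstance
  haveI : Module.Finite k ↥(RingHom.ker p.toAlgHom) :=
    inferInstanceAs (Module.Finite k ((RingHom.ker p.toAlgHom).restrictScalars k))
  let b := Module.finBasis k ↥(RingHom.ker p.toAlgHom)
  let e := b.equivFun
  have hmem : ∀ d, p₂ d - p₁ d ∈ RingHom.ker p.toAlgHom := fun d => by
    rw [RingHom.mem_ker, map_sub, sub_eq_zero]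
    exact (h.w_apply d).symm
  let δ : D → (Fin (Module.finrank k ↥(RingHom.ker p.toAlgHom)) → k) := fun d => e ⟨p₂ d - p₁ d, hmem d⟩
  let g : D →ₐ[k] TrivSqZeroExt k (Fin (Module.finrank k ↥(RingHom.ker p.toAlgHom)) → k) :=
    { toFun := fun d => (D.res d, δ d)
      map_one' := TrivSqZeroExt.ext (map_one D.res) (by
        change e _ = 0
        rw [show (⟨p₂ 1 - p₁ 1, hmem 1⟩ : ↥(RingHom.ker p.toAlgHom)) = 0 from Subtype.ext (by simp), map_zero])
      map_zero' := TrivSqZeroExt.ext (map_zero D.res) (by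
        change e _ = 0
        rw [show (⟨p₂ 0 - p₁ 0, hmem 0⟩ : ↥(RingHom.ker p.toAlgHom)) = 0 from Subtype.ext (by simp), map_zero])
      map_add' := fun a a' => TrivSqZeroExt.ext (map_add D.res a a') (by
        change e _ = e _ + e _
        rw [← map_add]
        refine congrArg e (Subtype.ext ?_)
        change p₂ (a + a') - p₁ (a + a') = (p₂ a - p₁ a) + (p₂ a' - p₁ a')
        rw [map_add, map_add]; ring)
      map_mul' := fun a a' => TrivSqZeroExt.ext (map_mul D.res a a') (by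
        change e _ = D.res a • e _ + MulOpposite.op (D.res a') • e _
        rw [op_smul_eq_smul, ← map_smul, ← map_smul, ← map_add]
        refine congrArg e (Subtype.ext ?_)
        change p₂ (a * a') - p₁ (a * a') = D.res a • (p₂ a' - p₁ a') + D.res a' • (p₂ a - p₁ a)
        rw [Algebra.smul_def, Algebra.smul_def, ← res_app p₂ a, ← res_app p₁ a', ← hres _ _ (hmem a'), ← hres _ _ (hmem a),
          map_mul, map_mul]
        ring)
      commutes' := fun c => TrivSqZeroExt.ext (D.res.commutes c) (by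
        change e _ = 0
        rw [show (⟨_, hmem (algebraMap k D c)⟩ : ↥(RingHom.ker p.toAlgHom)) = 0 from Subtype.ext (by simp), map_zero]) }
  refine ⟨_, (⟨g, AlgHom.ext fun _ => rfl⟩ : D ⟶ powArt k k _), e, ⟨?_, fun d d' h₁ h₂ => ?_, fun y w hy => ?_⟩⟩
  · rw [eq_toBase (p₁ ≫ toBase C')]
    exact (eq_toBase _).symm
  · refine h.inj d d' h₁ ?_
    have h3 : δ d = δ d' := congrArg TrivSqZeroExt.snd h₂
    have h4 : p₂ d - p₁ d = p₂ d' - p₁ d' := congrArg Subtype.val (e.injective h3)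
    rw [h₁] at h4
    exact sub_left_inj.1 h4
  · obtain ⟨d, hd₁, hd₂⟩ := h.surj y (y + (e.symm (TrivSqZeroExt.snd w)).1) (by
      rw [map_add, show p (e.symm (TrivSqZeroExt.snd w)).1 = 0 from (e.symm (TrivSqZeroExt.snd w)).2, add_zero])
    refine ⟨d, hd₁, TrivSqZeroExt.ext ?_ ?_⟩
    · change D.res d = TrivSqZeroExt.fst w
      rw [← res_app p₁ d, hd₁]
      exact hy
    · change e ⟨p₂ d - p₁ d, hmem d⟩ = TrivSqZeroExt.snd w
      rw [← e.apply_symm_apply (TrivSqZeroExt.snd w)]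
      refine congrArg e (Subtype.ext ?_)
      change p₂ d - p₁ d = _
      rw [hd₁, hd₂, add_sub_cancel_left]

end Groth.SGA7Def
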