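import Groth.Agent.SGA7.DefSchGlue
import Groth.Agent.ArtfunDeform.ArtBasic

/-!
`H0`, `S1`, `Heps` for the deformation functor of any `k`-scheme; injectivity of the comparison map
against lifting of automorphisms.
-/

set_option linter.style.haveILetI false
set_option linter.style.longLine false
set_option linter.unusedSectionVars false

noncomputable section

universe u

open CategoryTheory AlgebraicGeometry Limits

namespace Groth.SGA7Def

open ArtFun Groth.ArtfunDeform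

variable {Λ k : Type u} [CommRing Λ] [Field k] [Algebra Λ k]
variable {X : Scheme.{u}} {x : X ⟶ Art.specPt k}
variable {A A' A'' B : Art Λ k}

lemma iso_ext {ξ ξ' : DefSch X x A} {e e' : ξ.Iso ξ'} (h : e.iso.hom = e'.iso.hom) : e = e' := by
  cases e; cases e'
  congr 1
  exact CategoryTheory.Iso.ext h

/-- Factorisation of a morphism over a composite. -/
theorem SHom.exists_factor {g : A ⟶ A'} {g' : A' ⟶ A''} {g'' : A ⟶ A''} (hg : g ≫ g' = g'')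
    {E : DefSch X x A} {ξ' : DefSch X x A'} {ξ : DefSch X x A''} (β : SHom g E ξ') (γ : SHom g'' E ξ) :
    ∃ ψ : SHom g' ξ' ξ, ψ.hom ≫ β.hom = γ.hom := by
  have hβ := β.isPullback
  have w : γ.hom ≫ E.f = (ξ.f ≫ Art.specMap g') ≫ Art.specMap g := by
    rw [γ.hom_f, Category.assoc, ← Art.specMap_comp, hg]
  refine ⟨⟨hβ.lift γ.hom (ξ.f ≫ Art.specMap g') w, hβ.lift_snd _ _ _, ?_⟩, hβ.lift_fst _ _ _⟩
  apply hβ.hom_ext
  · rw [Category.assoc, hβ.lift_fst, γ.i_hom, β.i_hom]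
  · rw [Category.assoc, hβ.lift_snd, ← Category.assoc, ξ.i_f, ξ'.i_f, Category.assoc, Art.specRes_comp]

section Cond

variable {p' : B ⟶ A'} {p'' : B ⟶ A''} {f' : A' ⟶ A} {f'' : A'' ⟶ A}
variable (h : Art.IsFibreProd p' p'' f' f'') (hf : Function.Surjective f'')

include h hf in
/-- Two deformations with compatible components are isomorphic. -/
theorem cl_eq_of_components {ξ : DefSch X x A} {ξ' : DefSch X x A'} {ξ'' : DefSch X x A''}
    (φ' : SHom f' ξ' ξ) (φ'' : SHom f'' ξ'' ξ) {E₁ E₂ : DefSch X x B}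
    (α₁ : SHom p' E₁ ξ') (β₁ : SHom p'' E₁ ξ'') (w₁ : φ''.hom ≫ β₁.hom = φ'.hom ≫ α₁.hom)
    (α₂ : SHom p' E₂ ξ') (β₂ : SHom p'' E₂ ξ'') (w₂ : φ''.hom ≫ β₂.hom = φ'.hom ≫ α₂.hom) :
    E₁.cl = E₂.cl := by
  haveI := φ''.isClosedImmersion hf
  haveI := φ''.surjective
  haveI := φ'.isAffineHom
  exact (cl_eq_iff'.2 ⟨fromGlue h hf φ' φ'' α₁ β₁ w₁⟩).trans (cl_eq_iff'.2 ⟨fromGlue h hf φ' φ'' α₂ β₂ w₂⟩).symm

include h hf in
theorem cmp_surjective : Function.Surjective (ArtFun.cmp (defFunctor (Λ := Λ) X x) h) := by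
  intro z
  obtain ⟨ξ', hξ'⟩ := exists_cl' z.1.1
  obtain ⟨ξ'', hξ''⟩ := exists_cl' z.1.2
  have hz := z.2
  rw [← hξ', ← hξ'', defFunctor_map_cl] at hz
  obtain ⟨φ''⟩ := map_cl_eq_iff'.1 hz.symm
  haveI := φ''.isClosedImmersion hf
  haveI := φ''.surjective
  haveI := (SHom.fst f' ξ').isAffineHom
  refine ⟨(glueSch h hf (SHom.fst f' ξ') φ'').cl, Subtype.ext (Prod.ext ?_ ?_)⟩
  · exact (map_cl_eq_iff'.2 ⟨glueInl h hf (SHom.fst f' ξ') φ''⟩).trans hξ'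
  · exact (map_cl_eq_iff'.2 ⟨glueInr h hf (SHom.fst f' ξ') φ''⟩).trans hξ''

/-- Extract common components from equal images. -/
theorem exists_components {E₁ E₂ : DefSch X x B}
    (hcmp : ArtFun.cmp (defFunctor (Λ := Λ) X x) h E₁.cl = ArtFun.cmp (defFunctor (Λ := Λ) X x) h E₂.cl) :
    ∃ (ξ' : DefSch X x A') (ξ'' : DefSch X x A''),
      (Nonempty (SHom p' E₁ ξ') ∧ Nonempty (SHom p'' E₁ ξ'')) ∧
        Nonempty (SHom p' E₂ ξ') ∧ Nonempty (SHom p'' E₂ ξ'') :=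
  ⟨E₁.baseChange p', E₁.baseChange p'', ⟨⟨SHom.fst p' E₁⟩, ⟨SHom.fst p'' E₁⟩⟩,
    map_cl_eq_iff'.1 (congrArg (fun t => t.1.1) hcmp).symm, map_cl_eq_iff'.1 (congrArg (fun t => t.1.2) hcmp).symm⟩

/-- Automorphisms lift along `p`. -/
def AutLift (X : Scheme.{u}) (x : X ⟶ Art.specPt k) {A' A : Art Λ k} (p : A' ⟶ A) : Prop :=
  ∀ ξ' : DefSch X x A', Function.Surjective (fun e : ξ'.Iso ξ' => e.baseChange p)

include h hf in
/-- Lifting of automorphisms gives injectivity. -/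
theorem cmp_injective_of_autLift (hl : AutLift X x f'') :
    Function.Injective (ArtFun.cmp (defFunctor (Λ := Λ) X x) h) := by
  intro a b hab
  obtain ⟨E₁, rfl⟩ := exists_cl' a
  obtain ⟨E₂, rfl⟩ := exists_cl' b
  obtain ⟨ξ', ξ'', ⟨⟨α₁⟩, ⟨β₁⟩⟩, ⟨α₂⟩, ⟨β₂⟩⟩ := exists_components h hab
  let φ' := SHom.fst f' ξ'
  obtain ⟨ψ₁, hψ₁⟩ := SHom.exists_factor h.w.symm β₁ (α₁.comp φ')
  obtain ⟨ψ₂, hψ₂⟩ := SHom.exists_factor h.w.symm β₂ (α₂.comp φ')
  obtain ⟨u, hu⟩ := hl ξ'' (ψ₁.lift.toIso.symm.trans ψ₂.lift.toIso)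
  have key : ψ₁.hom ≫ u.iso.hom = ψ₂.hom := by
    have e : (DefSch.Iso.baseChange u f'').iso.hom =
        (ψ₁.lift.toIso.symm.trans ψ₂.lift.toIso).iso.hom := congrArg (fun i => i.iso.hom) hu
    have e1 : ψ₁.lift.hom ≫ (DefSch.Iso.baseChange u f'').iso.hom = ψ₂.lift.hom := by
      rw [e]
      exact ψ₁.lift.toIso.iso.hom_inv_id_assoc _
    have e2 := congrArg (· ≫ pullback.fst ξ''.f (Art.specMap f'')) e1
    dsimp only at e2
    have l1 : ψ₁.lift.hom ≫ pullback.fst ξ''.f (Art.specMap f'') = ψ₁.hom := pullback.lift_fst _ _ _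
    have l2 : ψ₂.lift.hom ≫ pullback.fst ξ''.f (Art.specMap f'') = ψ₂.hom := pullback.lift_fst _ _ _
    refine Eq.trans ?_ (e2.trans l2)
    rw [← l1]
    exact (Category.assoc _ _ _).trans ((congrArg (ψ₁.lift.hom ≫ ·) (DefSch.pullMap_fst u.iso.hom u.hom_f f'').symm).trans
      (Category.assoc _ _ _).symm)
  exact cl_eq_of_components h hf φ' ψ₁ α₁ β₁ hψ₁ α₂ ((β₂.comp (SHom.ofIso u)).cast (Category.comp_id _))
    ((Category.assoc _ _ _).symm.trans ((congrArg (· ≫ β₂.hom) key).trans hψ₂))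

end Cond

/-- Injectivity on `A' ×_A A'` gives lifting of automorphisms. -/
theorem autLift_of_injective {p₁ p₂ : B ⟶ A'} {p : A' ⟶ A} (h : Art.IsFibreProd p₁ p₂ p p) (hp : Function.Surjective p)
    (hinj : Function.Injective (ArtFun.cmp (defFunctor (Λ := Λ) X x) h)) : AutLift X x p := by
  intro ξ e
  let φ₀ := SHom.fst p ξ
  let φ₁ : SHom p ξ (ξ.baseChange p) := ((SHom.fst p ξ).comp (SHom.ofIso e)).cast (Category.comp_id _)
  haveI := φ₀.isClosedImmersion hp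
  haveI := φ₀.surjective
  haveI := φ₀.isAffineHom
  haveI := φ₁.isClosedImmersion hp
  haveI := φ₁.surjective
  let G₁ := glueSch h hp φ₀ φ₀
  let G₂ := glueSch h hp φ₀ φ₁
  have hcl : G₂.cl = G₁.cl := hinj (Subtype.ext (Prod.ext
    ((map_cl_eq_iff'.2 ⟨glueInl h hp φ₀ φ₁⟩).trans (map_cl_eq_iff'.2 ⟨glueInl h hp φ₀ φ₀⟩).symm)
    ((map_cl_eq_iff'.2 ⟨glueInr h hp φ₀ φ₁⟩).trans (map_cl_eq_iff'.2 ⟨glueInr h hp φ₀ φ₀⟩).symm)))
  obtain ⟨H⟩ := cl_eq_iff'.1 hcl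
  obtain ⟨a, ha⟩ := SHom.exists_factor (Category.comp_id p₁) (glueInl h hp φ₀ φ₁)
    ((H.comp (glueInl h hp φ₀ φ₀)).cast (Category.id_comp p₁))
  obtain ⟨b, hb⟩ := SHom.exists_factor (Category.comp_id p₂) (glueInr h hp φ₀ φ₁)
    ((H.comp (glueInr h hp φ₀ φ₀)).cast (Category.id_comp p₂))
  let ā := DefSch.Iso.baseChange a.toIso p
  haveI := (glueInr h hp φ₀ φ₁).isClosedImmersion (surjective_fst (isFibreProd_symm h) hp)
  have hab : φ₀.hom ≫ b.hom = ā.iso.hom ≫ e.iso.hom ≫ φ₀.hom := by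
    rw [← cancel_mono (glueInr h hp φ₀ φ₁).hom]
    simp only [Category.assoc]
    rw [hb]
    change φ₀.hom ≫ ThickPushout.inr φ₀.hom φ₀.hom ≫ H.hom = _
    rw [← Category.assoc, ThickPushout.comp_inr, Category.assoc,
      show ThickPushout.inl φ₀.hom φ₀.hom ≫ H.hom = a.hom ≫ (glueInl h hp φ₀ φ₁).hom from ha.symm]
    have e3 : e.iso.hom ≫ φ₀.hom ≫ (glueInr h hp φ₀ φ₁).hom = φ₀.hom ≫ (glueInl h hp φ₀ φ₁).hom :=
      (Category.assoc _ _ _).symm.trans (ThickPushout.comp_inr φ₁.hom φ₀.hom)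
    rw [e3, ← Category.assoc, ← Category.assoc]
    exact congrArg (· ≫ (glueInl h hp φ₀ φ₁).hom) (DefSch.pullMap_fst a.toIso.iso.hom a.toIso.hom_f p).symm
  refine ⟨a.toIso.symm.trans b.toIso, iso_ext ?_⟩
  apply pullback.hom_ext
  · rw [show ((DefSch.Iso.baseChange (a.toIso.symm.trans b.toIso) p).iso.hom ≫ pullback.fst ξ.f (Art.specMap p)) =
      pullback.fst ξ.f (Art.specMap p) ≫ a.toIso.iso.inv ≫ b.hom from
        DefSch.pullMap_fst (a.toIso.symm.trans b.toIso).iso.hom (a.toIso.symm.trans b.toIso).hom_f p]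
    have hinv : pullback.fst ξ.f (Art.specMap p) ≫ a.toIso.iso.inv = ā.iso.inv ≫ pullback.fst ξ.f (Art.specMap p) :=
      (DefSch.pullMap_fst a.toIso.iso.inv a.toIso.symm.hom_f p).symm
    rw [← Category.assoc, hinv, Category.assoc,
      show pullback.fst ξ.f (Art.specMap p) ≫ b.hom = ā.iso.hom ≫ e.iso.hom ≫ φ₀.hom from hab, Iso.inv_hom_id_assoc]
    rfl
  · exact ((DefSch.Iso.baseChange (a.toIso.symm.trans b.toIso) p).hom_f).trans e.hom_f.symm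

theorem h0_sch (X : Scheme.{u}) (x : X ⟶ Art.specPt k) : ArtFun.H0 (defFunctor (Λ := Λ) X x) := by
  refine ⟨⟨(DefSch.self X x (flat_of_field x)).cl⟩, ⟨fun a b => ?_⟩⟩
  have key : ∀ q : (defFunctor (Λ := Λ) X x).obj (Art.base Λ k), q = (DefSch.self X x (flat_of_field x)).cl := fun q => by
    obtain ⟨ξ, rfl⟩ := exists_cl' q
    exact cl_eq_iff'.2 ⟨(toSelfSch (flat_of_field x) ξ).cast (Art.eq_toBase (𝟙 _)).symm⟩
  rw [key a, key b]

theorem s1_sch (X : Scheme.{u}) (x : X ⟶ Art.specPt k) : ArtFun.S1 (defFunctor (Λ := Λ) X x) :=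
  fun _ _ _ _ _ _ _ _ h hf => cmp_surjective h hf

theorem heps_sch (X : Scheme.{u}) (x : X ⟶ Art.specPt k) : ArtFun.Heps (defFunctor (Λ := Λ) X x) := by
  intro B A' p' p'' h
  have hf : Function.Surjective (Art.toBase (ArtFun.Art.dual Λ k)) := (ArtFun.Art.dual Λ k).res_surjective
  refine ⟨fun a b hab => ?_, s1_sch X x p' p'' _ _ h hf⟩
  obtain ⟨E₁, rfl⟩ := exists_cl' a
  obtain ⟨E₂, rfl⟩ := exists_cl' b
  obtain ⟨ξ', ξ'', ⟨⟨α₁⟩, ⟨β₁⟩⟩, ⟨α₂⟩, ⟨β₂⟩⟩ := exists_components h hab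
  exact cl_eq_of_components h hf (toSelfSch (flat_of_field x) ξ') (toSelfSch (flat_of_field x) ξ'')
    α₁ β₁ (β₁.i_hom.trans α₁.i_hom.symm) α₂ β₂ (β₂.i_hom.trans α₂.i_hom.symm)

end Groth.SGA7Def
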