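import Groth.Agent.SGA7.DerOfAffine
import Groth.Agent.LocFree.Sheafify
import Groth.Agent.QCohMod.Coherent
import Groth.Agent.CohFin.Proper
import Groth.Agent.CohFin.ProjFinite

/-!
Compatible families of elements of finite modules on a finite affine cover of a proper scheme over a
field span a finite-dimensional space.
-/

set_option linter.style.haveILetI false
set_option linter.style.longLine false
set_option linter.unusedSectionVars false

noncomputable section

universe u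

open CategoryTheory AlgebraicGeometry TopologicalSpace Opposite

namespace Groth.SGA7Def

lemma exists_pow_smul_of_cover {X : Scheme.{u}} {U : X.Opens} (hU : IsAffineOpen U) {M : Type u}
    [AddCommGroup M] [Module Γ(X, U) M] (m : M) (g : Γ(X, U))
    (h : ∀ z ∈ X.basicOpen g, ∃ f : Γ(X, U), z ∈ X.basicOpen f ∧ ∃ n : ℕ, f ^ n • m = 0) :
    ∃ N : ℕ, g ^ N • m = 0 := by
  let I : Ideal Γ(X, U) := LinearMap.ker (LinearMap.toSpanSingleton Γ(X, U) M m)
  suffices g ∈ I.radical from this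
  rw [Ideal.radical_eq_sInf, Ideal.mem_sInf]
  rintro P ⟨hIP, hP⟩
  by_contra hg
  let p : PrimeSpectrum Γ(X, U) := ⟨P, hP⟩
  have hmem : ∀ f : Γ(X, U), hU.fromSpec p ∈ X.basicOpen f ↔ f ∉ P := fun f => by
    change p ∈ hU.fromSpec ⁻¹ᵁ X.basicOpen f ↔ _
    rw [hU.fromSpec_preimage_basicOpen]
    rfl
  obtain ⟨f, hf, n, hn⟩ := h _ ((hmem g).2 hg)
  exact (hmem f).1 hf (hP.mem_of_pow_mem n (hIP hn))

section Span

variable {X : Scheme.{u}} {ι : Type u} (U : ι → X.Opens) (hU : ∀ j, IsAffineOpen (U j))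
variable {M : ι → Type u} [∀ j, AddCommGroup (M j)] [∀ j, Module Γ(X, U j) (M j)]
variable {r : ℕ} (e : Fin r → ∀ j, M j)

/-- `∑ aᵢ eᵢ` vanishes in `M j` localised at `g`, on `D`. -/
def RelAt (j : ι) (g : Γ(X, U j)) (D : X.Opens) (hD : D ≤ U j) (a : Fin r → Γ(X, D)) : Prop :=
  ∃ (N : ℕ) (b : Fin r → Γ(X, U j)), (∀ i, rs X hD (b i) = rs X hD g ^ N * a i) ∧ ∑ i, b i • e i j = 0

/-- Relations among the `eᵢ` transfer between members of the cover. -/
def Transfers : Prop :=
  ∀ (j m : ι) (g : Γ(X, U j)) (g' : Γ(X, U m)) (D : X.Opens) (hj : D ≤ U j) (hm : D ≤ U m),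
    X.basicOpen g = D → X.basicOpen g' = D → ∀ a, RelAt U e j g D hj a → RelAt U e m g' D hm a

variable {U e}

include hU

lemma relAt_mono {j : ι} {g g₁ : Γ(X, U j)} {D D₁ : X.Opens} {hD : D ≤ U j} {hD₁ : D₁ ≤ U j}
    (hgD : X.basicOpen g = D) (hgD₁ : X.basicOpen g₁ = D₁) (h : D₁ ≤ D) {a : Fin r → Γ(X, D)}
    (ha : RelAt U e j g D hD a) : RelAt U e j g₁ D₁ hD₁ fun i => rs X h (a i) := by
  obtain ⟨N, b, hb, hb0⟩ := ha
  subst hgD hgD₁
  obtain ⟨n, c, hc⟩ : ∃ (n : ℕ) (c : Γ(X, U j)), g₁ ^ n = c * g := by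
    have hle : PrimeSpectrum.basicOpen g₁ ≤ PrimeSpectrum.basicOpen g := by
      rw [← (hU j).fromSpec_preimage_basicOpen, ← (hU j).fromSpec_preimage_basicOpen]
      exact ((hU j).fromSpec).preimage_mono h
    obtain ⟨n, hn⟩ := (PrimeSpectrum.basicOpen_le_basicOpen_iff g₁ g).1 hle
    obtain ⟨c, hc⟩ := Ideal.mem_span_singleton'.1 hn
    exact ⟨n, c, hc.symm⟩
  refine ⟨n * N, fun i => c ^ N * b i, fun i => ?_, ?_⟩
  · rw [map_mul, map_pow (rs X hD₁) c N, pow_mul (rs X hD₁ g₁),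
      show rs X hD₁ g₁ ^ n = rs X hD₁ c * rs X hD₁ g by rw [← map_pow, hc, map_mul], mul_pow, mul_assoc]
    refine congrArg (_ * ·) ?_
    have h2 := congrArg (rs X h) (hb i)
    rw [rs_rs, map_mul, map_pow, rs_rs] at h2
    exact h2
  · simp only [mul_smul, ← Finset.smul_sum, hb0, smul_zero]

lemma exists_numerators {j : ι} (g : Γ(X, U j)) (hD : X.basicOpen g ≤ U j) (a : Fin r → Γ(X, X.basicOpen g)) :
    ∃ (N : ℕ) (b : Fin r → Γ(X, U j)), ∀ i, rs X hD (b i) = rs X hD g ^ N * a i := by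
  haveI := (hU j).isLocalization_basicOpen g
  obtain ⟨⟨_, N, rfl⟩, hN⟩ := IsLocalization.exist_integer_multiples_of_finite (Submonoid.powers g) a
  choose b hb using hN
  refine ⟨N, b, fun i => ?_⟩
  refine (hb i).trans ?_
  change algebraMap Γ(X, U j) Γ(X, X.basicOpen g) (g ^ N) * a i = _
  rw [map_pow]
  rfl

lemma exists_pow_smul_of_relAt {j : ι} {g g₁ : Γ(X, U j)} {a : Fin r → Γ(X, X.basicOpen g)} {N : ℕ}
    {b : Fin r → Γ(X, U j)} (hb : ∀ i, rs X (X.basicOpen_le g) (b i) = rs X (X.basicOpen_le g) g ^ N * a i)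
    (h : X.basicOpen g₁ ≤ X.basicOpen g)
    (hr : RelAt U e j g₁ (X.basicOpen g₁) (X.basicOpen_le g₁) fun i => rs X h (a i)) :
    ∃ n : ℕ, g₁ ^ n • ∑ i, b i • e i j = 0 := by
  obtain ⟨M', b', hb', hb'0⟩ := hr
  have key : ∀ i, ∃ P : ℕ, g₁ ^ P * (g₁ ^ M' * b i) = g₁ ^ P * (g ^ N * b' i) := fun i => by
    haveI := (hU j).isLocalization_basicOpen g₁
    have he : rs X (X.basicOpen_le g₁) (g₁ ^ M' * b i) = rs X (X.basicOpen_le g₁) (g ^ N * b' i) := by
      have h2 := congrArg (rs X h) (hb i)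
      rw [rs_rs, map_mul, map_pow, rs_rs] at h2
      rw [map_mul, map_mul, map_pow, map_pow, hb', h2]
      ring
    obtain ⟨⟨_, P, rfl⟩, hP⟩ := IsLocalization.exists_of_eq (M := Submonoid.powers g₁) (S := Γ(X, X.basicOpen g₁)) he
    exact ⟨P, hP⟩
  choose P hP using key
  refine ⟨Finset.univ.sup P + M', ?_⟩
  have h3 : ∀ i, g₁ ^ (Finset.univ.sup P + M') * b i = g₁ ^ (Finset.univ.sup P) * g ^ N * b' i := fun i => by
    obtain ⟨l, hl⟩ := Nat.exists_eq_add_of_le (Finset.le_sup (f := P) (Finset.mem_univ i))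
    rw [hl]
    linear_combination g₁ ^ l * hP i
  simp only [Finset.smul_sum, ← mul_smul, h3]
  simp only [mul_smul, ← Finset.smul_sum, hb'0, smul_zero]

variable (hcov : ∀ z : X, ∃ j, z ∈ U j) (ht : Transfers U e)

variable (U e) in
omit hU in
/-- Local relations among the `eᵢ`. -/
def IsRel (W : X.Opens) (a : Fin r → Γ(X, W)) : Prop :=
  ∀ z ∈ W, ∃ (j : ι) (g : Γ(X, U j)) (h : X.basicOpen g ≤ W),
    z ∈ X.basicOpen g ∧ RelAt U e j g (X.basicOpen g) (X.basicOpen_le g) fun i => rs X h (a i)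

omit hU in
lemma relAt_congr_open {j : ι} {g : Γ(X, U j)} {D D' : X.Opens} (hDD : D = D') {hD : D ≤ U j}
    {W : X.Opens} (hW : D ≤ W) (a : Fin r → Γ(X, W)) (h : RelAt U e j g D hD fun i => rs X hW (a i)) :
    RelAt U e j g D' (hDD ▸ hD) fun i => rs X (hDD ▸ hW) (a i) := by
  subst hDD; exact h

include ht in
lemma relAt_of_isRel {W : X.Opens} {a : Fin r → Γ(X, W)} (ha : IsRel U e W a) {j : ι} (g : Γ(X, U j))
    (hle : X.basicOpen g ≤ W) : RelAt U e j g (X.basicOpen g) (X.basicOpen_le g) fun i => rs X hle (a i) := by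
  obtain ⟨N, b, hb⟩ := exists_numerators hU g (X.basicOpen_le g) fun i => rs X hle (a i)
  have hcover : ∀ z ∈ X.basicOpen g, ∃ f : Γ(X, U j), z ∈ X.basicOpen f ∧ ∃ n : ℕ, f ^ n • (∑ i, b i • e i j) = 0 := by
    intro z hz
    obtain ⟨m, gm, hgm, hzm, hr⟩ := ha z (hle hz)
    obtain ⟨f, f', hff, hzf⟩ := exists_basicOpen_le_affine_inter ((hU j).basicOpen g) ((hU m).basicOpen gm) z ⟨hz, hzm⟩
    obtain ⟨h, hh⟩ := (hU j).basicOpen_basicOpen_is_basicOpen g f
    obtain ⟨h', hh'⟩ := (hU m).basicOpen_basicOpen_is_basicOpen gm f'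
    have e' : X.basicOpen h' = X.basicOpen h := hh'.trans (hff.symm.trans hh.symm)
    have h1 : X.basicOpen h ≤ X.basicOpen g := hh.le.trans (X.basicOpen_le f)
    have h2 : X.basicOpen h ≤ X.basicOpen gm := e'.ge.trans (hh'.le.trans (X.basicOpen_le f'))
    have r1 := relAt_mono hU rfl e' h2 (hD₁ := e'.ge.trans (X.basicOpen_le h')) hr
    have r2 := ht m j h' h (X.basicOpen h) _ (X.basicOpen_le h) e' rfl _ r1
    refine ⟨h, hh ▸ hzf, exists_pow_smul_of_relAt hU hb h1 ?_⟩
    simp only [rs_rs] at r2 ⊢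
    exact r2
  obtain ⟨Q, hQ⟩ := exists_pow_smul_of_cover (hU j) _ g hcover
  refine ⟨Q + N, fun i => g ^ Q * b i, fun i => ?_, ?_⟩
  · rw [map_mul, map_pow, hb, pow_add, mul_assoc]
  · simp only [mul_smul, ← Finset.smul_sum, hQ]

omit hU in
lemma exists_basic_le (hU : ∀ j, IsAffineOpen (U j)) (hcov : ∀ z : X, ∃ j, z ∈ U j) {W : X.Opens} {z : X}
    (hz : z ∈ W) : ∃ (j : ι) (g : Γ(X, U j)), X.basicOpen g ≤ W ∧ z ∈ X.basicOpen g := by
  obtain ⟨j, hj⟩ := hcov z
  obtain ⟨g, h1, h2⟩ := (hU j).exists_basicOpen_le ⟨z, hz⟩ hj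
  exact ⟨j, g, h1, h2⟩

include hcov ht in
/-- The submodule of local relations. -/
def relSub (W : X.Opens) : Submodule Γ(X, W) (Fin r → Γ(X, W)) where
  carrier := {a | IsRel U e W a}
  zero_mem' z hz := by
    obtain ⟨j, g, h, hzg⟩ := exists_basic_le hU hcov hz
    exact ⟨j, g, h, hzg, 0, fun _ => 0, fun i => by simp, by simp⟩
  add_mem' {a b} ha hb z hz := by
    obtain ⟨j, g, h, hzg⟩ := exists_basic_le hU hcov hz
    obtain ⟨N, c, hc, hc0⟩ := relAt_of_isRel hU ht ha g h
    obtain ⟨N', c', hc', hc'0⟩ := relAt_of_isRel hU ht hb g h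
    refine ⟨j, g, h, hzg, N + N', fun i => g ^ N' * c i + g ^ N * c' i, fun i => ?_, ?_⟩
    · simp only [Pi.add_apply, map_add, map_mul, map_pow, hc, hc']
      ring
    · simp only [add_smul, mul_smul, Finset.sum_add_distrib, ← Finset.smul_sum, hc0, hc'0, smul_zero, add_zero]
  smul_mem' s a ha z hz := by
    obtain ⟨j, g, h, hzg⟩ := exists_basic_le hU hcov hz
    obtain ⟨N, c, hc, hc0⟩ := relAt_of_isRel hU ht ha g h
    haveI := (hU j).isLocalization_basicOpen g
    obtain ⟨⟨d, ⟨_, n, rfl⟩⟩, hd⟩ := IsLocalization.surj (Submonoid.powers g) (rs X h s)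
    refine ⟨j, g, h, hzg, n + N, fun i => d * c i, fun i => ?_, ?_⟩
    · simp only [Pi.smul_apply, smul_eq_mul, map_mul, hc, pow_add, ← map_pow]
      rw [show rs X (X.basicOpen_le g) d = rs X h s * rs X (X.basicOpen_le g) (g ^ n) from hd.symm, map_pow]
      ring
    · simp only [mul_smul, ← Finset.smul_sum, hc0, smul_zero]

lemma relSub_res {W W' : X.Opens} (h : W' ≤ W) {a : Fin r → Γ(X, W)} (ha : a ∈ relSub hU hcov ht W) :
    (fun i => rs X h (a i)) ∈ relSub hU hcov ht W' := by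
  intro z hz
  obtain ⟨j, g, hg, hzg⟩ := exists_basic_le hU hcov hz
  refine ⟨j, g, hg, hzg, ?_⟩
  simp only [rs_rs]
  exact relAt_of_isRel hU ht ha g (hg.trans h)

/-- Restriction on the quotient by relations. -/
def quotRes {W W' : X.Opens} (h : W' ≤ W) :
    ((Fin r → Γ(X, W)) ⧸ relSub hU hcov ht W) →+ ((Fin r → Γ(X, W')) ⧸ relSub hU hcov ht W') :=
  QuotientAddGroup.map _ _ (AddMonoidHom.mk' (fun a i => rs X h (a i)) fun a b => funext fun i => map_add _ _ _)
    fun _ ha => relSub_res hU hcov ht h ha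

lemma quotRes_mk {W W' : X.Opens} (h : W' ≤ W) (a : Fin r → Γ(X, W)) :
    quotRes hU hcov ht h (Submodule.Quotient.mk a) = Submodule.Quotient.mk fun i => rs X h (a i) := rfl

/-- The presheaf `O^r` modulo relations, as abelian groups. -/
def spanAb : (Opens X)ᵒᵖ ⥤ AddCommGrpCat.{u} where
  obj W := AddCommGrpCat.of ((Fin r → Γ(X, W.unop)) ⧸ relSub hU hcov ht W.unop)
  map {W W'} i := AddCommGrpCat.ofHom (quotRes hU hcov ht (leOfHom i.unop))
  map_id W := by
    ext a
    obtain ⟨a, rfl⟩ := Submodule.Quotient.mk_surjective _ a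
    exact congrArg Submodule.Quotient.mk (funext fun i => rs_rfl _ _)
  map_comp i j := by
    ext a
    obtain ⟨a, rfl⟩ := Submodule.Quotient.mk_surjective _ a
    exact congrArg Submodule.Quotient.mk (funext fun l => (rs_rs (leOfHom j.unop) (leOfHom i.unop) _).symm)

instance (W : (Opens X)ᵒᵖ) : Module (X.ringCatSheaf.obj.obj W) ((spanAb hU hcov ht).obj W) :=
  inferInstanceAs (Module Γ(X, W.unop) ((Fin r → Γ(X, W.unop)) ⧸ relSub hU hcov ht W.unop))

/-- The presheaf `O^r` modulo relations. -/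
def spanPre : X.PresheafOfModules :=
  PresheafOfModules.ofPresheaf (spanAb hU hcov ht) fun W W' i s a => by
    obtain ⟨a, rfl⟩ := Submodule.Quotient.mk_surjective _ a
    exact congrArg Submodule.Quotient.mk (funext fun l => map_mul (rs X (leOfHom i.unop)) _ _)

/-- Class of a tuple. -/
def cls {W : X.Opens} : (Fin r → Γ(X, W)) →ₗ[Γ(X, W)] Groth.LocFree.PSec (spanPre hU hcov ht) W :=
  (relSub hU hcov ht W).mkQ

lemma cls_surjective (W : X.Opens) : Function.Surjective (cls hU hcov ht (W := W)) :=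
  Submodule.mkQ_surjective _

lemma cls_eq_zero_iff {W : X.Opens} {a : Fin r → Γ(X, W)} : cls hU hcov ht a = 0 ↔ IsRel U e W a :=
  Submodule.Quotient.mk_eq_zero _

lemma pres_cls {W W' : X.Opens} (h : W' ≤ W) (a : Fin r → Γ(X, W)) :
    Groth.LocFree.pres (spanPre hU hcov ht) h (cls hU hcov ht a) = cls hU hcov ht fun i => rs X h (a i) := rfl

lemma isLocalizingPre : Groth.LocFree.IsLocalizingPre (spanPre hU hcov ht) := by
  constructor
  · intro W hW f t
    obtain ⟨a, rfl⟩ := cls_surjective hU hcov ht _ t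
    haveI := hW.isLocalization_basicOpen f
    obtain ⟨⟨_, N, rfl⟩, hN⟩ := IsLocalization.exist_integer_multiples_of_finite (Submonoid.powers f) a
    choose b hb using hN
    refine ⟨N, cls hU hcov ht b, ?_⟩
    rw [pres_cls, ← map_smul (cls hU hcov ht)]
    refine congrArg _ (funext fun i => ?_)
    refine (hb i).trans ?_
    change algebraMap Γ(X, W) Γ(X, X.basicOpen f) (f ^ N) * a i = rs X _ f ^ N * a i
    rw [map_pow]
    rfl
  · intro W hW f b hb
    obtain ⟨b, rfl⟩ := cls_surjective hU hcov ht _ b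
    rw [pres_cls, cls_eq_zero_iff] at hb
    have key : ∀ z ∈ W, ∃ (j : ι) (h : Γ(X, U j)) (hle : X.basicOpen h ≤ W) (k : ℕ), z ∈ X.basicOpen h ∧
        RelAt U e j h (X.basicOpen h) (X.basicOpen_le h) fun i => rs X hle (f ^ k * b i) := by
      intro z hz
      obtain ⟨j, h, hle, hzh⟩ := exists_basic_le hU hcov hz
      obtain ⟨M', c, hc⟩ := exists_numerators hU h (X.basicOpen_le h) fun i => rs X hle (b i)
      haveI := (hU j).isLocalization_basicOpen h
      obtain ⟨⟨d, ⟨_, L, rfl⟩⟩, hd⟩ := IsLocalization.surj (Submonoid.powers h) (rs X hle f)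
      replace hd : rs X hle f * rs X (X.basicOpen_le h) h ^ L = rs X (X.basicOpen_le h) d :=
        (congrArg (_ * ·) (map_pow (rs X (X.basicOpen_le h)) h L).symm).trans hd
      obtain ⟨g, hg⟩ := (hU j).basicOpen_basicOpen_is_basicOpen h (rs X hle f)
      have hg' : X.basicOpen g = X.basicOpen h ⊓ X.basicOpen f := hg.trans (X.basicOpen_res f (homOfLE hle).op)
      have hgh : X.basicOpen g ≤ X.basicOpen h := hg'.le.trans inf_le_left
      have hgf : X.basicOpen g ≤ X.basicOpen f := hg'.le.trans inf_le_right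
      have r1 := relAt_of_isRel hU ht hb g hgf
      simp only [rs_rs] at r1
      obtain ⟨n, hn⟩ := exists_pow_smul_of_relAt hU hc hgh (by simpa only [rs_rs] using r1)
      have hdh : ∀ z' ∈ X.basicOpen (d * h), z' ∈ X.basicOpen g := fun z' hz' => by
        rw [X.basicOpen_mul] at hz'
        have e1 : X.basicOpen (rs X (X.basicOpen_le h) d) = X.basicOpen h ⊓ X.basicOpen d :=
          X.basicOpen_res d (homOfLE (X.basicOpen_le h)).op
        have h3 : z' ∈ X.basicOpen (rs X (X.basicOpen_le h) d) := e1.ge ⟨hz'.2, hz'.1⟩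
        rw [← hd, X.basicOpen_mul] at h3
        exact hg.ge h3.1
      obtain ⟨Q, hQ⟩ := exists_pow_smul_of_cover (hU j) (∑ i, c i • e i j) (d * h) fun z' hz' =>
        ⟨g, hdh z' hz', n, hn⟩
      refine ⟨j, h, hle, Q, hzh, Q + L * Q + M', fun i => (d * h) ^ Q * c i, fun i => ?_, ?_⟩
      · simp only [map_mul, map_pow, hc, ← hd, rs_rs]
        ring
      · simp only [mul_smul, ← Finset.smul_sum, hQ]
    choose j h hle k hzh hr using key
    obtain ⟨T, hT⟩ := hW.isCompact.elim_finite_subcover (fun z : W => (X.basicOpen (h z.1 z.2) : Set X))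
      (fun z => (X.basicOpen _).2) (fun z hz => Set.mem_iUnion.2 ⟨⟨z, hz⟩, hzh z hz⟩)
    refine ⟨T.sup fun z => k z.1 z.2, ?_⟩
    rw [← map_smul, cls_eq_zero_iff]
    intro z hz
    obtain ⟨w, hwT, hzw⟩ := Set.mem_iUnion₂.1 (hT hz)
    refine ⟨_, _, hle w.1 w.2, hzw, ?_⟩
    obtain ⟨l, hl⟩ := Nat.exists_eq_add_of_le (Finset.le_sup (f := fun z : W => k z.1 z.2) hwT)
    obtain ⟨N, c, hc, hc0⟩ := hr w.1 w.2
    haveI := (hU (j w.1 w.2)).isLocalization_basicOpen (h w.1 w.2)
    obtain ⟨⟨d, ⟨_, n, rfl⟩⟩, hd⟩ := IsLocalization.surj (Submonoid.powers (h w.1 w.2)) (rs X (hle w.1 w.2) (f ^ l))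
    replace hd : rs X (hle w.1 w.2) (f ^ l) * rs X (X.basicOpen_le _) (h w.1 w.2) ^ n = rs X (X.basicOpen_le _) d :=
      (congrArg (_ * ·) (map_pow (rs X (X.basicOpen_le (h w.1 w.2))) (h w.1 w.2) n).symm).trans hd
    refine ⟨n + N, fun i => d * c i, fun i => ?_, ?_⟩
    · rw [map_mul, hc i, ← hd]
      simp only [Pi.smul_apply, smul_eq_mul, hl, map_mul, pow_add]
      ring
    · simp only [mul_smul, ← Finset.smul_sum, hc0, smul_zero]

/-- The coherent sheaf spanned by the `eᵢ`. -/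
abbrev spanMod : X.Modules := Groth.LocFree.sheafify (spanPre hU hcov ht)

theorem isCoh_spanMod : Coh.IsCoh (spanMod hU hcov ht) := by
  have hP := isLocalizingPre hU hcov ht
  refine (Groth.QCohMod.isCoh_iff _).2 ⟨Groth.LocFree.isQCoh_sheafify hP, fun W hW => ?_⟩
  let φ : (Fin r → Γ(X, W)) →ₗ[Γ(X, W)] Γ(spanMod hU hcov ht, W) :=
    { toFun := fun a => Groth.LocFree.unitSec _ W (cls hU hcov ht a)
      map_add' := fun a b => by rw [map_add, map_add]
      map_smul' := fun c a => by rw [map_smul]; exact Groth.LocFree.unitSec_smul _ c _ }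
  exact Module.Finite.of_surjective φ
    ((Groth.LocFree.unitSec_bijective hP hW).2.comp (cls_surjective hU hcov ht W))

lemma isRel_of_unit_eq_zero {j : ι} {a : Fin r → Γ(X, U j)}
    (h : Groth.LocFree.unitSec (spanPre hU hcov ht) (U j) (cls hU hcov ht a) = 0) : ∑ i, a i • e i j = 0 := by
  have h1 := (cls_eq_zero_iff hU hcov ht).1
    (Groth.LocFree.unitSec_injective (isLocalizingPre hU hcov ht) (hU j) (h.trans (map_zero _).symm))
  have h2 : X.basicOpen (1 : Γ(X, U j)) = U j := X.basicOpen_of_isUnit isUnit_one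
  obtain ⟨N, b, hb, hb0⟩ := relAt_congr_open h2 _ a (relAt_of_isRel hU ht h1 1 h2.le)
  have : b = a := funext fun i => by
    have := hb i
    simpa only [rs_rfl, one_pow, one_mul] using this
  rwa [this] at hb0

end Span

/-- Families whose local relations transfer span a finite-dimensional space when `X` is proper over `k`. -/
theorem exists_finite_span {k : Type u} [Field k] {X : Scheme.{u}} (x : X ⟶ Spec (CommRingCat.of k)) [IsProper x]
    {ι : Type u} [Finite ι] (U : ι → X.Opens) (hU : ∀ j, IsAffineOpen (U j)) (hcov : ∀ z : X, ∃ j, z ∈ U j)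
    {M : ι → Type u} [∀ j, AddCommGroup (M j)] [∀ j, Module Γ(X, U j) (M j)] [∀ j, Module.Finite Γ(X, U j) (M j)]
    {V : Type*} [AddCommGroup V] [Module k V] (Φ : V →+ ∀ j, M j)
    (hΦ : ∀ (c : k) (v : V) (j : ι), Φ (c • v) j = strOf x (U j) c • Φ v j)
    (htr : ∀ (r : ℕ) (v : Fin r → V), Transfers U fun i => Φ (v i)) :
    ∃ (r : ℕ) (v : Fin r → V), ∀ w, ∃ c : Fin r → k, Φ w = Φ (∑ i, c i • v i) := by
  classical
  haveI : IsLocallyNoetherian X := LocallyOfFiniteType.isLocallyNoetherian x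
  haveI : ∀ j, IsNoetherian Γ(X, U j) (M j) := fun j => by
    haveI : IsNoetherianRing Γ(X, U j) := IsLocallyNoetherian.component_noetherian (X := X) ⟨U j, hU j⟩
    exact isNoetherian_of_isNoetherianRing_of_finite _ _
  have hfg : ∀ j, ∃ s : Finset V, Submodule.span Γ(X, U j) (Set.range fun w => Φ w j) ≤
      Submodule.span Γ(X, U j) ((fun w => Φ w j) '' s) := fun j => by
    obtain ⟨T, hT⟩ := IsNoetherian.noetherian (Submodule.span Γ(X, U j) (Set.range fun w => Φ w j))
    have hsub : (T : Set (M j)) ⊆ Submodule.span Γ(X, U j) (Set.range fun w => Φ w j) := hT ▸ Submodule.subset_span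
    choose s hs using fun t : T => Submodule.mem_span_finite_of_mem_span (hsub t.2)
    have hpre : ∀ y : M j, y ∈ Set.range (fun w => Φ w j) → ∃ w, Φ w j = y := fun y hy => hy
    choose! pre hpre using hpre
    refine ⟨(Finset.univ.biUnion s).image pre, ?_⟩
    conv_lhs => rw [← hT]
    rw [Submodule.span_le]
    intro t ht
    refine Submodule.span_mono ?_ (hs ⟨t, ht⟩).2
    intro y hy
    exact ⟨pre y, Finset.mem_coe.2 (Finset.mem_image.2 ⟨y, Finset.mem_biUnion.2 ⟨⟨t, ht⟩, Finset.mem_univ _, hy⟩, rfl⟩),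
      hpre y ((hs ⟨t, ht⟩).1 hy)⟩
  choose s hs using hfg
  haveI := Fintype.ofFinite ι
  let S : Finset V := Finset.univ.biUnion s
  obtain ⟨r, v, hv⟩ : ∃ (r : ℕ) (v : Fin r → V), ∀ y ∈ S, ∃ i, v i = y :=
    ⟨S.card, fun i => (S.equivFin.symm i).1, fun y hy => ⟨_, congrArg Subtype.val (S.equivFin.symm_apply_apply ⟨y, hy⟩)⟩⟩
  have hgen : ∀ w j, ∃ a : Fin r → Γ(X, U j), Φ w j = ∑ i, a i • Φ (v i) j := fun w j => by
    have h1 : Φ w j ∈ Submodule.span Γ(X, U j) (Set.range fun i => Φ (v i) j) := by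
      refine Submodule.span_mono ?_ (hs j (Submodule.subset_span ⟨w, rfl⟩))
      rintro _ ⟨y, hy, rfl⟩
      obtain ⟨i, rfl⟩ := hv y (Finset.mem_biUnion.2 ⟨j, Finset.mem_univ _, hy⟩)
      exact ⟨i, rfl⟩
    obtain ⟨a, ha⟩ := (Submodule.mem_span_range_iff_exists_fun _).1 h1
    exact ⟨a, ha.symm⟩
  have ht := htr r v
  let P := spanPre hU hcov ht
  let Q := spanMod hU hcov ht
  let cl (j : ι) (a : Fin r → Γ(X, U j)) : Γ(Q, U j) := Groth.LocFree.unitSec P (U j) (cls hU hcov ht a)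
  have hglue : ∀ w, ∃ σ : Γ(Q, ⊤), ∀ j, ∃ a : Fin r → Γ(X, U j),
      Φ w j = ∑ i, a i • Φ (v i) j ∧ Groth.CohTwo.res Q le_top σ = cl j a := by
    intro w
    choose a ha using hgen w
    obtain ⟨σ, hσ⟩ := Groth.CohTwo.exists_glue Q (W := ⊤) U (fun j => le_top) (fun z _ => hcov z) (fun j => cl j (a j))
      fun j m => by
        have hrel : IsRel U (fun i => Φ (v i)) (U j ⊓ U m)
            ((fun i => rs X inf_le_left (a j i)) - fun i => rs X inf_le_right (a m i)) := by
          intro z hz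
          obtain ⟨g, g', hgg, hzg⟩ := exists_basicOpen_le_affine_inter (hU j) (hU m) z hz
          have hgm : X.basicOpen g ≤ U m := hgg.le.trans (X.basicOpen_le g')
          refine ⟨m, g', hgg.ge.trans (le_inf (X.basicOpen_le g) hgm), hgg ▸ hzg, ?_⟩
          let v' : Fin (r + 1) → V := Fin.snoc v w
          let a' : Fin (r + 1) → Γ(X, X.basicOpen g) := Fin.snoc (fun i => rs X (X.basicOpen_le g) (a j i)) (-1)
          have hj : RelAt U (fun i => Φ (v' i)) j g (X.basicOpen g) (X.basicOpen_le g) a' := by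
            refine ⟨0, Fin.snoc (a j) (-1), fun i => ?_, ?_⟩
            · refine Fin.lastCases ?_ (fun i => ?_) i
              · simp [a', Fin.snoc_last]
              · simp [a', Fin.snoc_castSucc]
            · rw [Fin.sum_univ_castSucc]
              simp only [v', Fin.snoc_castSucc, Fin.snoc_last, neg_smul, one_smul, ← ha, add_neg_cancel]
          obtain ⟨N, b, hb, hb0⟩ := htr (r + 1) v' j m g g' (X.basicOpen g) (X.basicOpen_le g) hgm rfl hgg.symm a' hj
          rw [Fin.sum_univ_castSucc] at hb0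
          simp only [v', Fin.snoc_castSucc, Fin.snoc_last, ha m, Finset.smul_sum, ← mul_smul,
            ← Finset.sum_add_distrib, ← add_smul] at hb0
          refine (relAt_congr_open hgg (le_inf (X.basicOpen_le g) hgm)
            ((fun i => rs X inf_le_left (a j i)) - fun i => rs X inf_le_right (a m i)) (hD := hgm) ?_)
          refine ⟨N, fun i => b i.castSucc + b (Fin.last r) * a m i, fun i => ?_, hb0⟩
          simp only [map_add, map_mul, hb, a', Fin.snoc_castSucc, Fin.snoc_last, Pi.sub_apply, map_sub, rs_rs]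
          ring
        have hres : ∀ (l : ι) (h : U j ⊓ U m ≤ U l) (b : Fin r → Γ(X, U l)), Groth.CohTwo.res Q h (cl l b) =
            Groth.LocFree.unitSec P (U j ⊓ U m) (cls hU hcov ht fun i => rs X h (b i)) := fun l h b =>
          (Groth.LocFree.unitSec_res P h (cls hU hcov ht b)).symm
        rw [hres, hres]
        refine congrArg _ (sub_eq_zero.1 ?_)
        rw [← map_sub, cls_eq_zero_iff]
        exact hrel
    exact ⟨σ, fun j => ⟨a j, ha j, hσ j⟩⟩
  let W : Submodule k (Groth.CohFin.HA x Q 0 × V) :=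
    { carrier := {p | ∀ j, ∃ a : Fin r → Γ(X, U j), Φ p.2 j = ∑ i, a i • Φ (v i) j ∧
        Groth.CohTwo.res Q le_top (Groth.CohFin.equivSections x Q p.1) = cl j a}
      zero_mem' := fun j => ⟨0, by simp, by simp [cl]⟩
      add_mem' := fun {p q} hp hq j => by
        obtain ⟨a, ha, ha'⟩ := hp j
        obtain ⟨b, hb, hb'⟩ := hq j
        refine ⟨a + b, ?_, ?_⟩
        · rw [Prod.snd_add, map_add]
          simp only [Pi.add_apply, ha, hb, add_smul, Finset.sum_add_distrib]
        · rw [Prod.fst_add, map_add, map_add, ha', hb']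
          simp only [cl, map_add]
      smul_mem' := fun c p hp j => by
        obtain ⟨a, ha, ha'⟩ := hp j
        refine ⟨strOf x (U j) c • a, ?_, ?_⟩
        · rw [Prod.smul_snd, hΦ, ha, Finset.smul_sum]
          simp only [Pi.smul_apply, smul_eq_mul, mul_smul]
        · rw [Prod.smul_fst, Groth.CohFin.equivSections_smul, Groth.CohTwo.res_smul, ha']
          simp only [cl, map_smul, Groth.LocFree.unitSec_smul]
          congr 1 }
  haveI := Groth.CohFin.hFin_of_proper (Groth.CohFin.projFinite.{u}) 0 X x Q (isCoh_spanMod hU hcov ht)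
  let pr : W →ₗ[k] Groth.CohFin.HA x Q 0 := (LinearMap.fst k _ _).comp W.subtype
  haveI : Module.Finite k (LinearMap.range pr) := inferInstance
  let b := Module.finBasis k (LinearMap.range pr)
  choose p hp using fun i => LinearMap.mem_range.1 (b i).2
  refine ⟨_, fun i => (p i).1.2, fun w => ?_⟩
  obtain ⟨σ, hσ⟩ := hglue w
  let q : W := ⟨((Groth.CohFin.equivSections x Q).symm σ, w), fun j => by
    obtain ⟨a, ha, ha'⟩ := hσ j
    exact ⟨a, ha, by rw [AddEquiv.apply_symm_apply]; exact ha'⟩⟩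
  let c := b.repr ⟨pr q, LinearMap.mem_range_self pr q⟩
  refine ⟨fun i => c i, ?_⟩
  let d : W := q - ∑ i, c i • p i
  have hd : d.1.1 = 0 := by
    change pr d = 0
    rw [map_sub, map_sum, sub_eq_zero]
    simp only [map_smul, hp]
    refine (congrArg Subtype.val (b.sum_repr ⟨pr q, LinearMap.mem_range_self pr q⟩)).symm.trans ?_
    rw [Submodule.coe_sum]
    rfl
  have hd2 : d.1.2 = w - ∑ i, c i • (p i).1.2 := by
    simp [d, q, Prod.snd_sum]
  refine sub_eq_zero.1 ?_
  rw [← map_sub, ← hd2]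
  funext j
  obtain ⟨a, ha, ha'⟩ := d.2 j
  rw [hd, map_zero, map_zero] at ha'
  exact ha.trans (isRel_of_unit_eq_zero hU hcov ht ha'.symm)

end Groth.SGA7Def
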