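import Groth.Agent.SGA7.TangentRep
import Groth.Agent.SGA7.CohGlueSpan

/-!
Linear relations among local classes of first order deformations transfer between affine opens.
-/

set_option linter.style.haveILetI false
set_option linter.style.longLine false
set_option linter.unusedSectionVars false

noncomputable section

universe u

open CategoryTheory AlgebraicGeometry TopologicalSpace Opposite

namespace Groth.SGA7Def

open ArtFun Groth.ArtfunDeform

local notation "𝔪" => IsLocalRing.maximalIdeal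

variable {Λ k : Type u} [CommRing Λ] [Field k] [Algebra Λ k]
variable {X : Scheme.{u}} {x : X ⟶ Art.specPt k}

/-- Restriction between lifted opens. -/
def resL {A : Art Λ k} (ξ : DefSch X x A) {W W' : X.Opens} (h : W' ≤ W) : secL ξ W →+* secL ξ W' :=
  rs ξ.total (opens_le_of_preimage_le ξ (by rw [preimage_liftOpen, preimage_liftOpen]; exact h))

lemma resL_strL {A : Art Λ k} (ξ : DefSch X x A) {W W' : X.Opens} (h : W' ≤ W) (a : A) :
    resL ξ h (strL ξ W a) = strL ξ W' a := by
  change (strOf ξ.f _ ≫ ξ.total.presheaf.map _) a = _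
  rw [strOf, Category.assoc, Scheme.Hom.appLE_map]
  rfl

lemma redL_resL {A : Art Λ k} (ξ : DefSch X x A) {W W' : X.Opens} (h : W' ≤ W) (z : secL ξ W) :
    redL ξ W' (resL ξ h z) = rs X h (redL ξ W z) := by
  change (ξ.total.presheaf.map _ ≫ ξ.i.appLE _ _ _) z = (ξ.i.appLE _ _ _ ≫ X.presheaf.map (homOfLE h).op) z
  rw [Scheme.Hom.appLE_map, Scheme.Hom.map_appLE]

lemma rs_strOf {W W' : X.Opens} (h : W' ≤ W) (c : k) : rs X h (strOf x W c) = strOf x W' c := by
  change (strOf x W ≫ X.presheaf.map _) c = _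
  rw [strOf, Category.assoc, Scheme.Hom.appLE_map]
  rfl

section Pair

variable {nj nm : ℕ} {Uj Um D : X.Opens}
variable (qj : letI := algW x Uj; MvPolynomial (Fin nj) k →ₐ[k] Γ(X, Uj))
variable (qm : letI := algW x Um; MvPolynomial (Fin nm) k →ₐ[k] Γ(X, Um))
variable (hj : D ≤ Uj) (hm : D ≤ Um)

/-- The combined presentation on the overlap. -/
def qPair : letI := algW x D; MvPolynomial (Fin (nj + nm)) k →ₐ[k] Γ(X, D) :=
  letI := algW x D
  letI := algW x Uj
  letI := algW x Um
  MvPolynomial.aeval (Fin.append (fun i => rs X hj (qj (MvPolynomial.X i))) fun l => rs X hm (qm (MvPolynomial.X l)))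

lemma qPair_rename_left (f : MvPolynomial (Fin nj) k) :
    letI := algW x D
    letI := algW x Uj
    qPair qj qm hj hm (MvPolynomial.rename (Fin.castAdd nm) f) = rs X hj (qj f) := by
  letI := algW x D
  letI := algW x Uj
  letI := algW x Um
  refine RingHom.congr_fun (MvPolynomial.ringHom_ext (f := (qPair qj qm hj hm).toRingHom.comp (MvPolynomial.rename (Fin.castAdd nm)).toRingHom)
    (g := (rs X hj).comp qj.toRingHom) (fun c => ?_) fun i => ?_) f
  · change qPair qj qm hj hm (MvPolynomial.rename _ (MvPolynomial.C c)) = rs X hj (qj (MvPolynomial.C c))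
    rw [MvPolynomial.rename_C, map_C' (q := qPair qj qm hj hm), map_C' (q := qj), rs_strOf]
  · change qPair qj qm hj hm (MvPolynomial.rename _ (MvPolynomial.X i)) = rs X hj (qj (MvPolynomial.X i))
    rw [MvPolynomial.rename_X, qPair, MvPolynomial.aeval_X, Fin.append_left]

lemma qPair_rename_right (f : MvPolynomial (Fin nm) k) :
    letI := algW x D
    letI := algW x Um
    qPair qj qm hj hm (MvPolynomial.rename (Fin.natAdd nj) f) = rs X hm (qm f) := by
  letI := algW x D
  letI := algW x Uj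
  letI := algW x Um
  refine RingHom.congr_fun (MvPolynomial.ringHom_ext (f := (qPair qj qm hj hm).toRingHom.comp (MvPolynomial.rename (Fin.natAdd nj)).toRingHom)
    (g := (rs X hm).comp qm.toRingHom) (fun c => ?_) fun i => ?_) f
  · change qPair qj qm hj hm (MvPolynomial.rename _ (MvPolynomial.C c)) = rs X hm (qm (MvPolynomial.C c))
    rw [MvPolynomial.rename_C, map_C' (q := qPair qj qm hj hm), map_C' (q := qm), rs_strOf]
  · change qPair qj qm hj hm (MvPolynomial.rename _ (MvPolynomial.X i)) = rs X hm (qm (MvPolynomial.X i))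
    rw [MvPolynomial.rename_X, qPair, MvPolynomial.aeval_X, Fin.append_right]

lemma rename_left_mem (a : letI := algW x Uj; RingHom.ker qj) :
    letI := algW x D
    MvPolynomial.rename (Fin.castAdd nm) (a : MvPolynomial (Fin nj) k) ∈ RingHom.ker (qPair qj qm hj hm) := by
  letI := algW x D
  letI := algW x Uj
  rw [RingHom.mem_ker, qPair_rename_left, show qj a.1 = 0 from a.2, map_zero]

lemma rename_right_mem (a : letI := algW x Um; RingHom.ker qm) :
    letI := algW x D
    MvPolynomial.rename (Fin.natAdd nj) (a : MvPolynomial (Fin nm) k) ∈ RingHom.ker (qPair qj qm hj hm) := by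
  letI := algW x D
  letI := algW x Um
  rw [RingHom.mem_ker, qPair_rename_right, show qm a.1 = 0 from a.2, map_zero]

/-- Normal vectors on the overlap extending those of both sides. -/
theorem exists_nor_pair {ξ : DefSch X x (Art.dual Λ k)} (hUj : IsAffineOpen Uj) (hUm : IsAffineOpen Um) (hD : IsAffineOpen D)
    {wj : letI := algW x Uj; Nor qj} {wm : letI := algW x Um; Nor qm} (hwj : Rep ξ Uj qj wj) (hwm : Rep ξ Um qm wm) :
    letI := algW x D
    letI := algW x Uj
    letI := algW x Um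
    ∃ w : Nor (qPair qj qm hj hm), (∀ a, w.1 ⟨_, rename_left_mem qj qm hj hm a⟩ = rs X hj (wj.1 a)) ∧
      ∀ a, w.1 ⟨_, rename_right_mem qj qm hj hm a⟩ = rs X hm (wm.1 a) := by
  letI := algW x D
  letI := algW x Uj
  letI := algW x Um
  obtain ⟨ηj, hηj, hwj⟩ := hwj
  obtain ⟨ηm, hηm, hwm⟩ := hwm
  let y : Fin (nj + nm) → secL ξ D :=
    Fin.append (fun i => resL ξ hj (ηj (MvPolynomial.X i))) fun l => resL ξ hm (ηm (MvPolynomial.X l))
  have hη := isEta_eval₂ (q := (qPair qj qm hj hm).toRingHom) ξ (res_dC (Λ := Λ)) map_C' y fun i => by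
    refine Fin.addCases (fun i => ?_) (fun l => ?_) i
    · simp only [y, Fin.append_left]
      rw [redL_resL, hηj.red]
      exact ((qPair_rename_left qj qm hj hm (MvPolynomial.X i)).symm.trans (by rw [MvPolynomial.rename_X]; rfl))
    · simp only [y, Fin.append_right]
      rw [redL_resL, hηm.red]
      exact ((qPair_rename_right qj qm hj hm (MvPolynomial.X l)).symm.trans (by rw [MvPolynomial.rename_X]; rfl))
  set η := MvPolynomial.eval₂Hom ((strL ξ D).comp (dC (Λ := Λ))) y with hη_def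
  obtain ⟨w, hw⟩ := exists_nor_of_isEta hD hη
  have el : ∀ f, η (MvPolynomial.rename (Fin.castAdd nm) f) = resL ξ hj (ηj f) := fun f =>
    RingHom.congr_fun (MvPolynomial.ringHom_ext (f := η.comp (MvPolynomial.rename (Fin.castAdd nm)).toRingHom)
      (g := (resL ξ hj).comp ηj) (fun c => by
        change η (MvPolynomial.rename _ (MvPolynomial.C c)) = resL ξ hj (ηj (MvPolynomial.C c))
        rw [MvPolynomial.rename_C, hη.map_C, hηj.map_C, resL_strL]) fun i => by
        change η (MvPolynomial.rename _ (MvPolynomial.X i)) = resL ξ hj (ηj (MvPolynomial.X i))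
        rw [MvPolynomial.rename_X, hη_def, MvPolynomial.eval₂Hom_X']
        exact Fin.append_left _ _ i) f
  have er : ∀ f, η (MvPolynomial.rename (Fin.natAdd nj) f) = resL ξ hm (ηm f) := fun f =>
    RingHom.congr_fun (MvPolynomial.ringHom_ext (f := η.comp (MvPolynomial.rename (Fin.natAdd nj)).toRingHom)
      (g := (resL ξ hm).comp ηm) (fun c => by
        change η (MvPolynomial.rename _ (MvPolynomial.C c)) = resL ξ hm (ηm (MvPolynomial.C c))
        rw [MvPolynomial.rename_C, hη.map_C, hηm.map_C, resL_strL]) fun i => by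
        change η (MvPolynomial.rename _ (MvPolynomial.X i)) = resL ξ hm (ηm (MvPolynomial.X i))
        rw [MvPolynomial.rename_X, hη_def, MvPolynomial.eval₂Hom_X']
        exact Fin.append_right _ _ i) f
  refine ⟨w, fun a => ?_, fun a => ?_⟩
  · obtain ⟨d, hd⟩ := redL_surjective ξ hD (w.1 ⟨_, rename_left_mem qj qm hj hm a⟩)
    obtain ⟨e, he⟩ := redL_surjective ξ hUj (wj.1 a)
    rw [← hd, ← he, ← redL_resL]
    refine redL_eq_of_eps_mul hD ?_
    rw [← hw _ d hd, el, hwj a e he, map_mul, resL_strL]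
  · obtain ⟨d, hd⟩ := redL_surjective ξ hD (w.1 ⟨_, rename_right_mem qj qm hj hm a⟩)
    obtain ⟨e, he⟩ := redL_surjective ξ hUm (wm.1 a)
    rw [← hd, ← he, ← redL_resL]
    refine redL_eq_of_eps_mul hD ?_
    rw [← hw _ d hd, er, hwm a e he, map_mul, resL_strL]

lemma nor_zero_of_mem_span {n : ℕ} {B₀ : Type u} [CommRing B₀] [Algebra k B₀] {p : MvPolynomial (Fin n) k →ₐ[k] B₀}
    (w : Nor p) {s : Set (MvPolynomial (Fin n) k)} (hs : ∀ f ∈ s, ∃ h : f ∈ RingHom.ker p, w.1 ⟨f, h⟩ = 0)
    {f : MvPolynomial (Fin n) k} (hf : f ∈ Ideal.span s) : ∃ h : f ∈ RingHom.ker p, w.1 ⟨f, h⟩ = 0 := by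
  induction hf using Submodule.span_induction with
  | mem g hg => exact hs g hg
  | zero => exact ⟨zero_mem _, nor_zero w⟩
  | add g g' _ _ ih ih' =>
    obtain ⟨h, e⟩ := ih
    obtain ⟨h', e'⟩ := ih'
    exact ⟨add_mem h h', (w.2.1 ⟨g, h⟩ ⟨g', h'⟩).trans (by rw [e, e', add_zero])⟩
  | smul c g _ ih =>
    obtain ⟨h, e⟩ := ih
    exact ⟨Ideal.mul_mem_left _ c h, (w.2.2 c ⟨g, h⟩).trans (by rw [e, mul_zero])⟩

/-- A normal vector on the overlap which is a coboundary on the first presentation is one on the second. -/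
theorem exists_cob_right (hqj : letI := algW x Uj; Function.Surjective qj) (hUj : IsAffineOpen Uj)
    (g : Γ(X, Uj)) (hg : X.basicOpen g = D)
    (Ψ : letI := algW x D; Nor (qPair qj qm hj hm)) (v : Fin nj → Γ(X, D))
    (hv : letI := algW x D; letI := algW x Uj; ∀ a, Ψ.1 ⟨_, rename_left_mem qj qm hj hm a⟩ =
      ∑ i, rs X hj (qj (MvPolynomial.pderiv i a.1)) * v i) :
    letI := algW x D
    letI := algW x Um
    ∃ v' : Fin nm → Γ(X, D), ∀ a, Ψ.1 ⟨_, rename_right_mem qj qm hj hm a⟩ =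
      ∑ l, rs X hm (qm (MvPolynomial.pderiv l a.1)) * v' l := by
  classical
  letI := algW x D
  letI := algW x Uj
  letI := algW x Um
  subst hg
  haveI := hUj.isLocalization_basicOpen g
  obtain ⟨gt, hgt⟩ := hqj g
  set G := rs X hj g with hGdef
  have hG : IsUnit G := IsLocalization.map_units (S := Γ(X, X.basicOpen g)) (⟨g, Submonoid.mem_powers g⟩ : Submonoid.powers g)
  let ι₁ := MvPolynomial.rename (R := k) (Fin.castAdd nm (n := nj))
  have hgq : qPair qj qm hj hm (ι₁ gt) = G := by rw [qPair_rename_left, hgt]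
  have hsurj : ∀ l, ∃ (L : ℕ) (h : MvPolynomial (Fin nj) k), G ^ L * rs X hm (qm (MvPolynomial.X l)) = rs X hj (qj h) := by
    intro l
    obtain ⟨⟨d, ⟨_, L, rfl⟩⟩, hd⟩ := IsLocalization.surj (Submonoid.powers g) (rs X hm (qm (MvPolynomial.X l)))
    obtain ⟨h, hh⟩ := hqj d
    refine ⟨L, h, ?_⟩
    rw [hh, hGdef, ← map_pow, mul_comm]
    exact hd
  choose L h hLh using hsurj
  let R : Fin nm → MvPolynomial (Fin (nj + nm)) k := fun l =>
    ι₁ gt ^ L l * MvPolynomial.X (Fin.natAdd nj l) - ι₁ (h l)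
  have hR : ∀ l, qPair qj qm hj hm (R l) = 0 := fun l => by
    simp only [R, map_sub, map_mul, map_pow, hgq]
    rw [qPair_rename_left, ← MvPolynomial.rename_X, qPair_rename_right, hLh, sub_self]
  have hnot : ∀ (l : Fin nm) (f : MvPolynomial (Fin nj) k), MvPolynomial.pderiv (Fin.natAdd nj l) (ι₁ f) = 0 := by
    intro l f
    refine MvPolynomial.pderiv_eq_zero_of_notMem_vars fun hl => ?_
    have := MvPolynomial.vars_rename _ _ hl
    simp only [Finset.mem_image] at this
    obtain ⟨i, -, hi⟩ := this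
    have h1 := congrArg Fin.val hi
    simp only [Fin.val_castAdd, Fin.val_natAdd] at h1
    omega
  let T : Fin nm → Γ(X, X.basicOpen g) := fun l =>
    ∑ i, qPair qj qm hj hm (MvPolynomial.pderiv (Fin.castAdd nm i) (R l)) * v i
  let v' : Fin nm → Γ(X, X.basicOpen g) := fun l => ↑(hG.pow (L l)).unit⁻¹ * (Ψ.1 ⟨R l, hR l⟩ - T l)
  have hyy : ∀ l l', qPair qj qm hj hm (MvPolynomial.pderiv (Fin.natAdd nj l') (R l)) = if l' = l then G ^ L l else 0 := by
    intro l l'
    simp only [R, map_sub, MvPolynomial.pderiv_mul, map_add, map_mul, hnot, map_zero, sub_zero,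
      MvPolynomial.pderiv_pow, mul_zero, zero_mul, zero_add, map_pow, hgq, MvPolynomial.pderiv_X]
    rcases eq_or_ne l' l with rfl | hne
    · rw [Pi.single_eq_same, map_one, mul_one, if_pos rfl]
    · rw [Pi.single_eq_of_ne (fun e => hne (Fin.natAdd_injective _ _ e.symm)), map_zero, mul_zero, if_neg hne]
  let Φ : Nor (qPair qj qm hj hm) := Ψ - cob (qPair qj qm hj hm) (Fin.append v v')
  have hΦval : ∀ a, Φ.1 a = Ψ.1 a - (∑ i, qPair qj qm hj hm (MvPolynomial.pderiv (Fin.castAdd nm i) a.1) * v i +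
      ∑ l, qPair qj qm hj hm (MvPolynomial.pderiv (Fin.natAdd nj l) a.1) * v' l) := fun a => by
    change Ψ.1 a - ∑ i, qPair qj qm hj hm (MvPolynomial.pderiv i a.1) * Fin.append v v' i = _
    rw [Fin.sum_univ_add]
    simp only [Fin.append_left, Fin.append_right]
  have hΦR : ∀ l, Φ.1 ⟨R l, hR l⟩ = 0 := fun l => by
    rw [hΦval]
    simp only [hyy, ite_mul, zero_mul, Finset.sum_ite_eq', Finset.mem_univ, if_true]
    change _ - (T l + G ^ L l * (↑(hG.pow (L l)).unit⁻¹ * (Ψ.1 ⟨R l, hR l⟩ - T l))) = 0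
    rw [← mul_assoc, IsUnit.mul_val_inv, one_mul]
    abel
  have hΦl : ∀ a : RingHom.ker qj, Φ.1 ⟨_, rename_left_mem qj qm hj hm a⟩ = 0 := fun a => by
    rw [hΦval, hv a]
    simp only [show ∀ l, MvPolynomial.pderiv (Fin.natAdd nj l) (ι₁ a.1) = 0 from fun l => hnot l a.1, map_zero, zero_mul,
      Finset.sum_const_zero, add_zero, ι₁]
    rw [sub_eq_zero]
    refine Finset.sum_congr rfl fun i _ => ?_
    rw [MvPolynomial.pderiv_rename (Fin.castAdd_injective _ _), qPair_rename_left]
  have hS : ∀ f : MvPolynomial (Fin (nj + nm)) k, ∃ (M : ℕ) (h' : MvPolynomial (Fin nj) k),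
      ι₁ gt ^ M * f - ι₁ h' ∈ Ideal.span (Set.range R) := by
    intro f
    induction f using MvPolynomial.induction_on with
    | C c => exact ⟨0, MvPolynomial.C c, by simp [ι₁, MvPolynomial.rename_C]⟩
    | add f f' hf hf' =>
      obtain ⟨M, h₁, e⟩ := hf
      obtain ⟨M', h₂, e'⟩ := hf'
      refine ⟨M + M', gt ^ M' * h₁ + gt ^ M * h₂, ?_⟩
      convert add_mem (Ideal.mul_mem_left _ (ι₁ gt ^ M') e) (Ideal.mul_mem_left _ (ι₁ gt ^ M) e') using 1
      simp only [map_add, map_mul, map_pow]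
      ring
    | mul_X f i hf =>
      obtain ⟨M, h₁, e⟩ := hf
      refine Fin.addCases (fun i => ?_) (fun l => ?_) i
      · refine ⟨M, h₁ * MvPolynomial.X i, ?_⟩
        convert Ideal.mul_mem_right (MvPolynomial.X (Fin.castAdd nm i)) _ e using 1
        simp only [map_mul, ι₁, MvPolynomial.rename_X]
        ring
      · refine ⟨M + L l, h₁ * h l, ?_⟩
        convert add_mem (Ideal.mul_mem_right (ι₁ gt ^ L l * MvPolynomial.X (Fin.natAdd nj l)) _ e)
          (Ideal.mul_mem_left _ (ι₁ h₁) (Ideal.subset_span (Set.mem_range_self (f := R) l))) using 1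
        simp only [R, map_mul]
        ring
  refine ⟨v', fun a => ?_⟩
  obtain ⟨M, h', e⟩ := hS (MvPolynomial.rename (Fin.natAdd nj) a.1)
  obtain ⟨hz, hz0⟩ := nor_zero_of_mem_span Φ (by rintro _ ⟨l, rfl⟩; exact ⟨hR l, hΦR l⟩) e
  have hfm := rename_right_mem qj qm hj hm a
  have hgm : ι₁ gt ^ M * MvPolynomial.rename (Fin.natAdd nj) a.1 ∈ RingHom.ker (qPair qj qm hj hm) := Ideal.mul_mem_left _ _ hfm
  have hh' : ι₁ h' ∈ RingHom.ker (qPair qj qm hj hm) := by simpa using sub_mem hgm hz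
  obtain ⟨P, hP⟩ : ∃ P : ℕ, g ^ P * qj h' = 0 := by
    have h0 : rs X hj (qj h') = rs X hj 0 := by rw [map_zero, ← qPair_rename_left qj qm hj hm]; exact hh'
    obtain ⟨⟨_, P, rfl⟩, hP⟩ := IsLocalization.exists_of_eq (M := Submonoid.powers g) (S := Γ(X, X.basicOpen g)) h0
    exact ⟨P, hP.trans (mul_zero _)⟩
  have hgP : gt ^ P * h' ∈ RingHom.ker qj := by rw [RingHom.mem_ker, map_mul, map_pow, hgt]; exact hP
  have k1 : Φ.1 ⟨ι₁ h', hh'⟩ = 0 := by
    refine (hG.pow P).mul_right_eq_zero.1 ?_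
    rw [← hgq, ← map_pow (qPair qj qm hj hm), ← Φ.2.2]
    exact (nor_congr Φ (by simp [ι₁]) _ _).trans (hΦl ⟨_, hgP⟩)
  have k2 : Φ.1 ⟨_, hfm⟩ = 0 := by
    refine (hG.pow M).mul_right_eq_zero.1 ?_
    rw [← hgq, ← map_pow (qPair qj qm hj hm), ← Φ.2.2]
    refine (nor_congr Φ (show _ = (ι₁ gt ^ M * MvPolynomial.rename (Fin.natAdd nj) a.1 - ι₁ h') + ι₁ h' by
      rw [sub_add_cancel]; rfl) _ (add_mem hz hh')).trans ?_
    refine (Φ.2.1 ⟨_, hz⟩ ⟨_, hh'⟩).trans ?_
    rw [hz0, k1, add_zero]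
  rw [hΦval, sub_eq_zero] at k2
  rw [k2]
  have z0 : ∀ i, MvPolynomial.pderiv (Fin.castAdd nm i) (MvPolynomial.rename (Fin.natAdd nj) a.1) = 0 := by
    intro i
    refine MvPolynomial.pderiv_eq_zero_of_notMem_vars fun hl => ?_
    have := MvPolynomial.vars_rename _ _ hl
    simp only [Finset.mem_image] at this
    obtain ⟨l, -, hi⟩ := this
    have h1 := congrArg Fin.val hi
    simp only [Fin.val_castAdd, Fin.val_natAdd] at h1
    omega
  simp only [z0, map_zero, zero_mul, Finset.sum_const_zero, zero_add]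
  refine Finset.sum_congr rfl fun l _ => ?_
  rw [MvPolynomial.pderiv_rename (Fin.natAdd_injective _ _), qPair_rename_right]

end Pair

variable {ι : Type u} {n : ι → ℕ} {U : ι → X.Opens}
variable (q : ∀ j, letI := algW x (U j); MvPolynomial (Fin (n j)) k →ₐ[k] Γ(X, U j))
variable (hq : ∀ j, letI := algW x (U j); Function.Surjective (q j))
variable (hU : ∀ j, IsAffineOpen (U j))
variable [TangentStr (defFunctor (Λ := Λ) X x)]

include hq in
/-- Relations among classes of tangent vectors transfer. -/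
theorem transfers_theta (r : ℕ) (t : Fin r → TangentSpace (defFunctor (Λ := Λ) X x)) :
    Transfers U fun i => theta q hU (t i) := by
  intro j m g g' D hj hm hgD hgD' a ⟨N, b, hb, hb0⟩
  letI := algW x (U j)
  letI := algW x (U m)
  letI := algW x D
  choose ξ hξ using fun i => exists_cl' (TangentSpace.val (t i))
  choose wj hwj using fun i => exists_rep (q := q j) (ξ i) (hU j)
  choose wm hwm using fun i => exists_rep (q := q m) (ξ i) (hU m)
  have hD : IsAffineOpen D := hgD ▸ (hU j).basicOpen g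
  choose wP hwPj hwPm using fun i => exists_nor_pair (q j) (q m) hj hm (hU j) (hU m) hD (hwj i) (hwm i)
  simp only [theta_eq q hU (hξ _) (hwj _)] at hb0
  have hb1 : ∑ i, b i • wj i ∈ LinearMap.range (cob (q j)) := by
    rw [← Submodule.Quotient.mk_eq_zero, ← Submodule.mkQ_apply, map_sum]
    simp only [map_smul]
    exact hb0
  obtain ⟨v, hv⟩ := hb1
  have hGu : IsUnit (rs X hj g) := by
    haveI : IsLocalization.Away g Γ(X, X.basicOpen g) := (hU j).isLocalization_basicOpen g
    subst hgD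
    exact IsLocalization.map_units (S := Γ(X, X.basicOpen g)) (⟨g, Submonoid.mem_powers g⟩ : Submonoid.powers g)
  let Ψ : Nor (qPair (q j) (q m) hj hm) := ∑ i, a i • wP i
  have hval : ∀ p, Ψ.1 p = ∑ i, a i * (wP i).1 p := fun p => by
    simp [Ψ, Finset.sum_apply]
  obtain ⟨v', hv'⟩ := exists_cob_right (q j) (q m) hj hm (hq j) (hU j) g hgD Ψ
    (fun x' => ↑(hGu.pow N).unit⁻¹ * rs X hj (v x')) fun p => by
      rw [hval]
      simp only [hwPj]
      refine (hGu.pow N).mul_left_cancel ?_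
      rw [Finset.mul_sum, Finset.mul_sum]
      simp only [← mul_assoc, ← hb, ← map_mul]
      rw [← map_sum]
      have e : ∑ i, b i * (wj i).1 p = ∑ x', q j (MvPolynomial.pderiv x' p.1) * v x' := by
        have := congrArg (fun w : Nor (q j) => w.1 p) hv
        simpa [cob, Finset.sum_apply] using this.symm
      rw [e, map_sum]
      refine Finset.sum_congr rfl fun x' _ => ?_
      rw [map_mul]
      linear_combination (-(rs X hj ((q j) (MvPolynomial.pderiv x' p.1)) * rs X hj (v x'))) * IsUnit.mul_val_inv (hGu.pow N)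
  subst hgD'
  obtain ⟨N₁, b', hb'⟩ := exists_numerators hU g' hm a
  obtain ⟨K, c, hc⟩ := exists_numerators hU g' hm v'
  let F : Nor (q m) := g' ^ K • ∑ i, b' i • wm i - g' ^ N₁ • cob (q m) c
  have hF : ∀ p, rs X hm (F.1 p) = 0 := fun p => by
    have e := hv' p
    rw [hval] at e
    simp only [hwPm] at e
    have hFv : F.1 p = g' ^ K * ∑ i, b' i * (wm i).1 p - g' ^ N₁ * ∑ l, q m (MvPolynomial.pderiv l p.1) * c l := by
      simp [F, cob, Finset.sum_apply]
    rw [hFv, map_sub, map_mul, map_mul, map_pow, map_pow, map_sum, map_sum]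
    simp only [map_mul, hb', hc, mul_assoc]
    rw [← Finset.mul_sum, e, Finset.mul_sum, Finset.mul_sum, Finset.mul_sum, ← Finset.sum_sub_distrib]
    exact Finset.sum_eq_zero fun l _ => by ring
  haveI := (hU m).isLocalization_basicOpen g'
  have hF' : ∀ p, ∃ P : ℕ, g' ^ P * F.1 p = 0 := fun p => by
    obtain ⟨⟨_, P, rfl⟩, hP⟩ := IsLocalization.exists_of_eq (M := Submonoid.powers g') (S := Γ(X, X.basicOpen g'))
      ((hF p).trans (map_zero (algebraMap Γ(X, U m) Γ(X, X.basicOpen g'))).symm)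
    exact ⟨P, hP.trans (mul_zero _)⟩
  choose P hP using hF'
  obtain ⟨S, hS⟩ := (IsNoetherian.noetherian (RingHom.ker (q m)) : (RingHom.ker (q m)).FG)
  have hmem : ∀ f : S, f.1 ∈ RingHom.ker (q m) := fun f => hS ▸ Ideal.subset_span f.2
  let P₀ := Finset.univ.sup fun f : S => P ⟨f.1, hmem f⟩
  have hzero : g' ^ P₀ • F = 0 := nor_eq_zero_of_forall _ hS fun f hf => by
    obtain ⟨l, hl⟩ := Nat.exists_eq_add_of_le
      (Finset.le_sup (f := fun f : S => P ⟨f.1, hmem f⟩) (Finset.mem_univ ⟨f, hf⟩))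
    change g' ^ P₀ * F.1 ⟨f, _⟩ = 0
    rw [show P₀ = _ from hl, pow_add, mul_right_comm, hP, zero_mul]
  refine ⟨P₀ + K + N₁, fun i => g' ^ (P₀ + K) * b' i, fun i => ?_, ?_⟩
  · rw [map_mul, map_pow, hb', ← mul_assoc, ← pow_add]
  · simp only [theta_eq q hU (hξ _) (hwm _)]
    refine Eq.trans (b := locCls q m (∑ i, (g' ^ (P₀ + K) * b' i) • wm i)) ?_ ?_
    · rw [map_sum]
      rfl
    · refine (Submodule.Quotient.mk_eq_zero _).2 ⟨g' ^ (P₀ + N₁) • c, ?_⟩
      rw [smul_sub, sub_eq_zero] at hzero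
      simp only [map_smul, pow_add, mul_smul, ← Finset.smul_sum]
      exact hzero.symm

end Groth.SGA7Def
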