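import Groth.Agent.SGA7.LocTrivClass
import Groth.Agent.SGA7.CohGlueSpan
import Groth.Agent.SGA7.TangentTransfer

/-!
The tangent space of the deformation functor of a proper scheme over a field is finite dimensional.
-/

set_option linter.style.haveILetI false
set_option linter.style.longLine false
set_option linter.unusedSectionVars false

noncomputable section

universe u

open CategoryTheory AlgebraicGeometry TopologicalSpace Opposite

namespace Groth.SGA7Def

open ArtFun Groth.ArtfunDeform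
open Groth.CohBase (inter inter_le inter_comp inter_one Coch dCoch dCoch_apply)

variable {Λ k : Type u} [CommRing Λ] [Field k] [Algebra Λ k]
variable {X : Scheme.{u}} {x : X ⟶ Art.specPt k}
variable {ι : Type u} {U : ι → X.Opens}

lemma strOf_eq_resTop (W : X.Opens) (c : k) :
    Coh.resTop X (op W) (Coh.toGlobal (X := X) x c) = strOf x W c := rfl

lemma id_dC (c : k) : (𝟙 (Art.dual Λ k) : Art.dual Λ k ⟶ Art.dual Λ k) (dC c) = dC c := rfl

section Class

variable (hAC : Groth.PnCoh.IsAcyclicCover U) [QuasiSeparated x]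
variable [LocallyOfFiniteType x] [IsLocallyNoetherian X]

instance : (tanSh x).IsQuasicoherent := (isCoh_tanSh x).1

lemma evT_cocycle_add (z z' : Groth.PnCoh.Cocycle (X := X.toTopCat) U (Coh.toAb (tanSh x)).obj 1) (i : Fin 2 → ι)
    (a : Γ(X, inter (X := X.toTopCat) U i)) :
    evT (cv U (z + z').1 i) a = evT (cv U z.1 i) a + evT (cv U z'.1 i) a :=
  evT_add_left (cv U z.1 i) (cv U z'.1 i) a

lemma evT_smulCocycle (z : Groth.PnCoh.Cocycle (X := X.toTopCat) U (Coh.toAb (tanSh x)).obj 1) (c : k)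
    (i : Fin 2 → ι) (a : Γ(X, inter (X := X.toTopCat) U i)) :
    evT (cv U (Groth.PnCoh.smulCocycle (tanSh x) (Coh.toGlobal (X := X) x c) 1 z).1 i) a =
      strOf x (inter (X := X.toTopCat) U i) c * evT (cv U z.1 i) a :=
  evT_smul_left (strOf x (inter (X := X.toTopCat) U i) c) (cv U z.1 i) a

/-- The class of a family of trivialisations. -/
def trivClass {ξ : DefSch X x (Art.dual Λ k)} (τ : ∀ j, Triv ξ dC (U j)) : Coh.HH X (tanSh x) 1 :=
  Groth.PnCoh.cohClass hAC (tanSh x) 1 (diffCocycle hAC.affine τ)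

lemma trivClass_eq {ξ ξ' : DefSch X x (Art.dual Λ k)} (φ : SHom (𝟙 (Art.dual Λ k)) ξ ξ')
    (τ : ∀ j, Triv ξ dC (U j)) (τ' : ∀ j, Triv ξ' dC (U j)) : trivClass hAC τ = trivClass hAC τ' := by
  have e : diffCocycle hAC.affine τ = diffCocycle hAC.affine fun j => (τ j).map φ id_dC (Λ := Λ) :=
    Subtype.ext (funext fun i => evT_ext (hAC.affine i) fun a =>
      ((evT_diffCoch hAC.affine τ i a).trans
        (trivDiff_map_id φ (τ (i 0)) (τ (i 1)) (hAC.affine i) _ _ a).symm).trans
        (evT_diffCoch hAC.affine (fun j => (τ j).map φ id_dC (Λ := Λ)) i a).symm)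
  rw [trivClass, trivClass, e, ← sub_eq_zero, ← map_sub]
  refine (Groth.PnCoh.cohClass_eq_zero_iff hAC (tanSh x) 0 _).2 ?_
  obtain ⟨t, ht⟩ := exists_coboundary hAC.affine (fun j => (τ j).map φ id_dC (Λ := Λ)) τ'
  exact ⟨t, ht⟩

variable [TangentStr (defFunctor (Λ := Λ) X x)]

/-- Local triviality of a tangent vector on the cover. -/
def IsLocTriv (U : ι → X.Opens) (v : TangentSpace (defFunctor (Λ := Λ) X x)) : Prop :=
  ∀ ξ : DefSch X x (Art.dual Λ k), ξ.cl = TangentSpace.val v → ∀ j, Nonempty (Triv ξ dC (U j))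

/-- The class in `H¹` of a locally trivial tangent vector. -/
def h1Fun (v : TangentSpace (defFunctor (Λ := Λ) X x)) (hv : IsLocTriv U v) : Coh.HH X (tanSh x) 1 :=
  trivClass hAC fun j => (hv (exists_cl' (TangentSpace.val v)).choose (exists_cl' (TangentSpace.val v)).choose_spec j).some

lemma h1Fun_eq {v : TangentSpace (defFunctor (Λ := Λ) X x)} (hv : IsLocTriv U v) {ξ : DefSch X x (Art.dual Λ k)}
    (hξ : ξ.cl = TangentSpace.val v) (τ : ∀ j, Triv ξ dC (U j)) : h1Fun hAC v hv = trivClass hAC τ := by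
  obtain ⟨φ⟩ := cl_eq_iff'.1 ((exists_cl' (TangentSpace.val v)).choose_spec.trans hξ.symm)
  exact trivClass_eq hAC φ _ τ

lemma h1Fun_add (v w : TangentSpace (defFunctor (Λ := Λ) X x)) (hv : IsLocTriv U v) (hw : IsLocTriv U w)
    (hvw : IsLocTriv U (v + w)) : h1Fun hAC (v + w) hvw = h1Fun hAC v hv + h1Fun hAC w hw := by
  haveI := (h0_sch (Λ := Λ) X x).2
  obtain ⟨z, hz⟩ := s1_sch (Λ := Λ) X x _ _ _ _ Art.isFibreProd_dual2 (Art.dual Λ k).res_surjective
    ⟨(TangentSpace.val v, TangentSpace.val w), Subsingleton.elim _ _⟩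
  obtain ⟨ξ, rfl⟩ := exists_cl' z
  have e1 : (ξ.baseChange Art.pr₁).cl = TangentSpace.val v := congrArg (fun p => p.1.1) hz
  have e2 : (ξ.baseChange Art.pr₂).cl = TangentSpace.val w := congrArg (fun p => p.1.2) hz
  have e3 : (ξ.baseChange Art.plus).cl = TangentSpace.val (v + w) := by
    have h := TangentStr.add_eq (F := defFunctor (Λ := Λ) X x) ξ.cl
    rw [defFunctor_map_cl, defFunctor_map_cl, defFunctor_map_cl, e1, e2] at h
    exact h.symm
  let φ₁ := SHom.fst Art.pr₁ ξ
  let φ₂ := SHom.fst Art.pr₂ ξ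
  let φ₃ := SHom.fst Art.plus ξ
  choose τ _ using fun j => exists_triv_pair φ₁ φ₂ (hv _ e1 j).some (hw _ e2 j).some
  rw [h1Fun_eq hAC hv e1 fun j => (τ j).map φ₁ fun c => (map_dC2 c).1,
    h1Fun_eq hAC hw e2 fun j => (τ j).map φ₂ fun c => (map_dC2 c).2.1,
    h1Fun_eq hAC hvw e3 fun j => (τ j).map φ₃ fun c => (map_dC2 c).2.2, trivClass, trivClass, trivClass, ← map_add]
  refine congrArg _ (Subtype.ext (funext fun i => evT_ext (hAC.affine i) fun a => ?_))
  refine Eq.trans ?_ (evT_cocycle_add (diffCocycle hAC.affine _) (diffCocycle hAC.affine _) i a).symm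
  simp only [diffCocycle]
  rw [evT_diffCoch, evT_diffCoch, evT_diffCoch]
  exact trivDiff_plus φ₁ φ₂ φ₃ (τ (i 0)) (τ (i 1)) _ _ _ a

lemma h1Fun_smul (c : k) (v : TangentSpace (defFunctor (Λ := Λ) X x)) (hv : IsLocTriv U v)
    (hcv : IsLocTriv U (c • v)) : h1Fun hAC (c • v) hcv = Coh.toGlobal (X := X) x c • h1Fun hAC v hv := by
  obtain ⟨ξ, hξ⟩ := exists_cl' (TangentSpace.val v)
  have e : (ξ.baseChange (Art.scale c)).cl = TangentSpace.val (c • v) := by
    refine Eq.trans ?_ (TangentStr.smul_eq (F := defFunctor (Λ := Λ) X x) c (TangentSpace.val v)).symm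
    rw [← hξ]
    rfl
  let φ := SHom.fst (Art.scale c) ξ
  let τ := fun j => (hv ξ hξ j).some
  rw [h1Fun_eq hAC hv hξ τ, h1Fun_eq hAC hcv e fun j => (τ j).map φ (scale_values c).2]
  rw [trivClass, trivClass, ← Groth.PnCoh.cohClass_smul hAC (tanSh x) (Coh.toGlobal (X := X) x c) 1 (diffCocycle hAC.affine τ)]
  refine congrArg _ (Subtype.ext (funext fun i => evT_ext (hAC.affine i) fun a => ?_))
  refine Eq.trans ?_ (evT_smulCocycle (diffCocycle hAC.affine τ) c i a).symm
  simp only [diffCocycle]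
  rw [evT_diffCoch, evT_diffCoch]
  exact trivDiff_scale c φ (τ (i 0)) (τ (i 1)) (hAC.affine i) _ _ a

lemma eq_zero_of_h1Fun (v : TangentSpace (defFunctor (Λ := Λ) X x)) (hv : IsLocTriv U v) (h : h1Fun hAC v hv = 0) :
    v = 0 := by
  obtain ⟨ξ, hξ⟩ := exists_cl' (TangentSpace.val v)
  rw [h1Fun_eq hAC hv hξ fun j => (hv ξ hξ j).some] at h
  obtain ⟨t, ht⟩ := (Groth.PnCoh.cohClass_eq_zero_iff hAC (tanSh x) 0 _).1 h
  exact eq_zero_of_dCoch hAC.affine (fun z => Opens.mem_iSup.1 (hAC.cover.ge (trivial : z ∈ (⊤ : X.Opens)))) hξ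
    (fun j => (hv ξ hξ j).some) t ht

/-- The injection of locally trivial tangent vectors into `H¹`. -/
def h1Lin (K : Submodule k (TangentSpace (defFunctor (Λ := Λ) X x))) (hK : ∀ v ∈ K, IsLocTriv U v) :
    K →ₗ[k] Groth.CohFin.HA x (tanSh x) 1 where
  toFun v := h1Fun hAC v.1 (hK v.1 v.2)
  map_add' v w := h1Fun_add hAC v.1 w.1 _ _ (hK _ (v + w).2)
  map_smul' c v := h1Fun_smul hAC c v.1 _ (hK _ (c • v).2)

lemma h1Lin_injective (K : Submodule k (TangentSpace (defFunctor (Λ := Λ) X x))) (hK : ∀ v ∈ K, IsLocTriv U v) :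
    Function.Injective (h1Lin hAC K hK) :=
  (injective_iff_map_eq_zero _).2 fun v h => Subtype.ext (eq_zero_of_h1Fun hAC v.1 (hK v.1 v.2) h)

end Class

/-- The tangent space of the deformation functor of a proper scheme is finite dimensional. -/
theorem hfin_of_isProper (X : Scheme.{u}) (x : X ⟶ Art.specPt k) [IsProper x]
    [TangentStr (defFunctor (Λ := Λ) X x)] : Hfin (defFunctor (Λ := Λ) X x) := by
  classical
  haveI : IsLocallyNoetherian X := LocallyOfFiniteType.isLocallyNoetherian x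
  haveI : X.IsSeparated := Groth.CohFin.isSeparated_of_proper x
  haveI := Groth.CohFin.compactSpace_of_proper x
  obtain ⟨s, hs⟩ := isCompact_univ.elim_finite_subcover (fun V : X.affineOpens => (V.1 : Set X)) (fun V => V.1.2)
    (fun z _ => by
      obtain ⟨_, ⟨V, hV, rfl⟩, hzV, -⟩ := X.isBasis_affineOpens.exists_subset_of_mem_open (Set.mem_univ z) isOpen_univ
      exact Set.mem_iUnion.2 ⟨⟨V, hV⟩, hzV⟩)
  let ι := {V // V ∈ s}
  let U : ι → X.Opens := fun V => V.1.1
  have hU : ∀ j, IsAffineOpen (U j) := fun j => j.1.2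
  have hcov : ∀ z : X, ∃ j, z ∈ U j := fun z => by
    obtain ⟨V, hV, hzV⟩ := Set.mem_iUnion₂.1 (hs (Set.mem_univ z))
    exact ⟨⟨V, hV⟩, hzV⟩
  have hAC : Groth.PnCoh.IsAcyclicCover U :=
    ⟨top_le_iff.1 fun z _ => Opens.mem_iSup.2 (hcov z), fun i => IsAffineOpen.iInf fun a => hU (i a)⟩
  have hft : ∀ j, letI := algW x (U j); Algebra.FiniteType k Γ(X, U j) := fun j => by
    letI := algW x (U j)
    refine RingHom.finiteType_algebraMap.1 ?_
    exact ((LocallyOfFiniteType.finiteType_appLE x (isAffineOpen_top _) (hU j) le_top).comp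
      (RingHom.FiniteType.of_surjective _
        (Scheme.ΓSpecIso (CommRingCat.of k)).commRingCatIsoToRingEquiv.symm.surjective))
  choose n q hq using fun j =>
    letI := algW x (U j)
    Algebra.FiniteType.iff_quotient_mvPolynomial''.1 (hft j)
  haveI : ∀ j, Module.Finite Γ(X, U j) (locT q j) := fun j => by
    letI := algW x (U j)
    haveI := finite_nor (hq j)
    exact Module.Finite.quotient Γ(X, U j) _
  let θ := theta (Λ := Λ) q hU
  obtain ⟨r, v, hv⟩ := exists_finite_span (M := fun j => locT q j) x U hU hcov θ (theta_smul q hU) (transfers_theta q hq hU)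
  let K : Submodule k (TangentSpace (defFunctor (Λ := Λ) X x)) :=
    { carrier := {w | θ w = 0}
      zero_mem' := map_zero θ
      add_mem' := fun {a b} ha hb => by
        change θ (a + b) = 0
        refine (map_add θ a b).trans (funext fun j => ?_)
        refine (congrArg₂ (· + ·) (congrFun ha j) (congrFun hb j)).trans ?_
        simp
      smul_mem' := fun c a ha => funext fun j => by
        rw [show θ (c • a) j = _ from theta_smul q hU c a j]
        exact (congrArg (_ • ·) (congrFun ha j)).trans (smul_zero _) }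
  have hK : ∀ w ∈ K, IsLocTriv U w := fun w hw ξ hξ j =>
    nonempty_triv_of_rep_zero (hU j) (hq j) (rep_zero_of_theta_eq_zero q hU hξ (congrFun hw j))
  haveI : Module.Finite k (Groth.CohFin.HA x (tanSh x) 1) :=
    Groth.CohFin.hFin_of_proper (Groth.CohFin.projFinite.{u}) 1 X x (tanSh x) (isCoh_tanSh x)
  haveI : Module.Finite k K := Module.Finite.of_injective (h1Lin hAC K hK) (h1Lin_injective hAC K hK)
  have htop : (⊤ : Submodule k (TangentSpace (defFunctor (Λ := Λ) X x))) =
      Submodule.span k (Set.range v) ⊔ K := by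
    refine (eq_top_iff.2 fun w _ => ?_).symm
    obtain ⟨c, hc⟩ := hv w
    rw [← add_sub_cancel (∑ i, c i • v i) w]
    refine Submodule.add_mem_sup (Submodule.sum_mem _ fun i _ =>
      Submodule.smul_mem _ _ (Submodule.subset_span ⟨i, rfl⟩)) ?_
    change θ _ = 0
    refine (map_sub θ _ _).trans (funext fun j => ?_)
    refine (congrArg (fun f => f j - θ (∑ i, c i • v i) j) hc).trans ?_
    simp
  refine ⟨?_⟩
  rw [htop]
  exact (Submodule.fg_span (Set.finite_range v)).sup ((Module.Finite.iff_fg).1 inferInstance)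

end Groth.SGA7Def
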