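import Groth.Agent.SGA7.DefGlue
import Groth.Agent.ArtfunDeform.AlgDef.FirstOrder

/-!
Finiteness of the tangent space of the deformation functor of an affine algebra with finitely many
non-smooth points, via `ψ ↦ P[ε]/J(ψ)` for `ψ : Hom_P(I, B₀)`.
-/

set_option linter.style.haveILetI false
set_option linter.style.longLine false
set_option linter.unusedSectionVars false

noncomputable section

universe u

open CategoryTheory AlgebraicGeometry

namespace Groth.SGA7Def

open ArtFun Groth.ArtfunDeform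

local notation "𝔪" => IsLocalRing.maximalIdeal

/-! ### Localised lifting: normal vectors vanish up to denominators at smooth points. -/

section Local

variable {k : Type u} [Field k] {B₀ : Type u} [CommRing B₀] [Algebra k B₀] {n : ℕ}

/-- Two algebra maps out of a polynomial ring differing by a square-zero amount differ by a derivation. -/
theorem sub_eq_sum_pderiv {L : Type u} [CommRing L] [Algebra k L] (η θ : MvPolynomial (Fin n) k →ₐ[k] L)
    (h : ∀ f g, (η f - θ f) * (η g - θ g) = 0) (f : MvPolynomial (Fin n) k) :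
    η f - θ f = ∑ i, η (MvPolynomial.pderiv i f) * (η (MvPolynomial.X i) - θ (MvPolynomial.X i)) := by
  induction f using MvPolynomial.induction_on with
  | C c => simp [← MvPolynomial.algebraMap_eq]
  | add f g hf hg =>
    simp only [map_add, add_mul, Finset.sum_add_distrib]
    linear_combination hf + hg
  | mul_X f j hf =>
    have e1 : η (f * MvPolynomial.X j) - θ (f * MvPolynomial.X j) =
        (η f - θ f) * η (MvPolynomial.X j) + η f * (η (MvPolynomial.X j) - θ (MvPolynomial.X j)) := by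
      rw [map_mul, map_mul]
      linear_combination -h f (MvPolynomial.X j)
    rw [e1, hf, Finset.sum_mul]
    have e2 : ∀ i, η (MvPolynomial.pderiv i (f * MvPolynomial.X j)) * (η (MvPolynomial.X i) - θ (MvPolynomial.X i)) =
        η (MvPolynomial.pderiv i f) * (η (MvPolynomial.X i) - θ (MvPolynomial.X i)) * η (MvPolynomial.X j) +
          (if i = j then η f * (η (MvPolynomial.X i) - θ (MvPolynomial.X i)) else 0) := by
      intro i
      rw [MvPolynomial.pderiv_mul, MvPolynomial.pderiv_X, map_add, map_mul, map_mul]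
      rcases eq_or_ne i j with rfl | hij
      · rw [Pi.single_eq_same, map_one, if_pos rfl]
        ring
      · rw [Pi.single_eq_of_ne hij.symm, map_zero, if_neg hij]
        ring
    simp only [e2, Finset.sum_add_distrib, Finset.sum_ite_eq', Finset.mem_univ, if_true]

/-- At a point where `B₀` is formally smooth, `η` is a coboundary up to a denominator. -/
theorem exists_denominator (X : Exal.Ext k B₀ B₀) (η : MvPolynomial (Fin n) k →ₐ[k] X.E)
    (p : Ideal B₀) [p.IsPrime] [Algebra.FormallySmooth k (Localization.AtPrime p)]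
    (S : Finset (MvPolynomial (Fin n) k)) (hS : ∀ f ∈ S, X.proj (η f) = 0)
    (w : MvPolynomial (Fin n) k → B₀) (hw : ∀ f ∈ S, η f = X.incl (w f)) :
    ∃ (s : B₀) (v : Fin n → B₀), s ∉ p ∧
      ∀ f ∈ S, s * w f = ∑ i, X.proj (η (MvPolynomial.pderiv i f)) * v i := by
  classical
  let P' : Ideal X.E := p.comap X.proj.toRingHom
  haveI : P'.IsPrime := Ideal.IsPrime.comap _
  let L := Localization.AtPrime P'
  let S₀ := Localization.AtPrime p
  let φ : L →ₐ[k] S₀ :=
    { Localization.localRingHom P' p X.proj.toRingHom rfl with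
      commutes' := fun c => by
        change Localization.localRingHom P' p X.proj.toRingHom rfl (algebraMap k L c) = algebraMap k S₀ c
        rw [IsScalarTower.algebraMap_apply k X.E L, Localization.localRingHom_to_map,
          IsScalarTower.algebraMap_apply k B₀ S₀]
        exact congrArg _ (X.proj.commutes c) }
  have hφmap : ∀ e : X.E, φ (algebraMap X.E L e) = algebraMap B₀ S₀ (X.proj e) := fun e =>
    Localization.localRingHom_to_map P' p X.proj.toRingHom rfl e
  have hker : ∀ z : L, φ z = 0 → ∃ (u : X.E) (b : B₀), X.proj u ∉ p ∧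
      z * algebraMap X.E L u = algebraMap X.E L (X.incl b) := by
    intro z hz
    obtain ⟨⟨e, u⟩, he⟩ := IsLocalization.surj P'.primeCompl z
    have h0 : algebraMap B₀ S₀ (X.proj e) = 0 := by
      rw [← hφmap, ← he, map_mul, hz, zero_mul]
    obtain ⟨t, ht⟩ := (IsLocalization.map_eq_zero_iff p.primeCompl S₀ _).1 h0
    obtain ⟨t', ht'⟩ := X.isExtension.proj_surjective t.1
    obtain ⟨b, hb⟩ := (X.isExtension.exact (t' * e)).1 (by rw [map_mul, ht', ht])
    refine ⟨u.1 * t', b, ?_, ?_⟩
    · rw [map_mul, ht']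
      exact p.primeCompl.mul_mem u.2 t.2
    · rw [hb, map_mul, ← mul_assoc, he, map_mul, mul_comm]
  have hunit : ∀ u : X.E, X.proj u ∉ p → IsUnit (algebraMap X.E L u) := fun u hu =>
    IsLocalization.map_units L (⟨u, hu⟩ : P'.primeCompl)
  have hmul : ∀ z z' : L, φ z = 0 → φ z' = 0 → z * z' = 0 := by
    intro z z' hz hz'
    obtain ⟨u, b, hu, hb⟩ := hker z hz
    obtain ⟨u', b', hu', hb'⟩ := hker z' hz'
    refine ((hunit u hu).mul (hunit u' hu')).mul_left_injective ?_
    change z * z' * (_ * _) = 0 * _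
    rw [zero_mul, mul_mul_mul_comm, hb, hb', ← map_mul, incl_mul_incl, map_zero]
  have hsurj : Function.Surjective φ := by
    intro z
    obtain ⟨⟨b, u⟩, hb⟩ := IsLocalization.surj p.primeCompl z
    obtain ⟨e, rfl⟩ := X.isExtension.proj_surjective b
    obtain ⟨u', hu'⟩ := X.isExtension.proj_surjective u.1
    have hu2 : X.proj u' ∉ p := hu' ▸ u.2
    refine ⟨algebraMap X.E L e * ↑(hunit u' hu2).unit⁻¹, ?_⟩
    refine (IsLocalization.map_units S₀ u).mul_left_injective ?_
    change _ * _ = z * _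
    rw [hb, ← hu', ← hφmap, ← map_mul, mul_assoc, IsUnit.val_inv_mul, mul_one, hφmap]
  have hnil : IsNilpotent (RingHom.ker (φ : L →+* S₀)) := by
    refine ⟨2, ?_⟩
    rw [pow_two, Ideal.zero_eq_bot, eq_bot_iff, Ideal.mul_le]
    exact fun a ha b hb => (Ideal.mem_bot).2 (hmul a b ha hb)
  let σ : S₀ →ₐ[k] L := Algebra.FormallySmooth.liftOfSurjective (AlgHom.id k S₀) φ hsurj hnil
  have hσ : ∀ z, φ (σ z) = z := fun z =>
    Algebra.FormallySmooth.liftOfSurjective_apply (AlgHom.id k S₀) φ hsurj hnil z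
  let η' : MvPolynomial (Fin n) k →ₐ[k] L := (IsScalarTower.toAlgHom k X.E L).comp η
  let θ : MvPolynomial (Fin n) k →ₐ[k] L := σ.comp ((IsScalarTower.toAlgHom k B₀ S₀).comp (X.proj.comp η))
  have hd : ∀ f, φ (η' f - θ f) = 0 := fun f => by
    rw [map_sub]
    change φ (algebraMap X.E L (η f)) - φ (σ (algebraMap B₀ S₀ (X.proj (η f)))) = 0
    rw [hσ, hφmap, sub_self]
  let δ : Fin n → L := fun i => η' (MvPolynomial.X i) - θ (MvPolynomial.X i)
  have key := sub_eq_sum_pderiv η' θ fun f g => hmul _ _ (hd f) (hd g)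
  choose u b hu hb using fun i => hker (δ i) (hd _)
  let U : X.E := ∏ i, u i
  have hU : X.proj U ∉ p := by
    rw [map_prod]
    exact prod_mem (S := p.primeCompl) fun i _ => hu i
  let v : Fin n → B₀ := fun i => X.proj (∏ j ∈ Finset.univ.erase i, u j) * b i
  have hv : ∀ i, δ i * algebraMap X.E L U = algebraMap X.E L (X.incl (v i)) := by
    intro i
    rw [show v i = X.proj (∏ j ∈ Finset.univ.erase i, u j) • b i from rfl, ← X.isExtension.mul_incl, map_mul, ← hb i,
      show U = u i * ∏ j ∈ Finset.univ.erase i, u j from (Finset.mul_prod_erase _ _ (Finset.mem_univ i)).symm,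
      map_mul]
    ring
  have hf0 : ∀ f ∈ S, ∃ t : X.E, X.proj t ∉ p ∧ X.proj t * (X.proj U * w f) =
      X.proj t * ∑ i, X.proj (η (MvPolynomial.pderiv i f)) * v i := by
    intro f hf
    have hθ : θ f = 0 := by
      change σ (algebraMap B₀ S₀ (X.proj (η f))) = 0
      rw [hS f hf, map_zero, map_zero]
    have e := congrArg (· * algebraMap X.E L U) (key f)
    rw [hθ, sub_zero, Finset.sum_mul] at e
    change algebraMap X.E L (η f) * _ = _ at e
    simp only [mul_assoc] at e
    have e' : algebraMap X.E L (X.incl (X.proj U * w f)) =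
        algebraMap X.E L (X.incl (∑ i, X.proj (η (MvPolynomial.pderiv i f)) * v i)) := by
      rw [← smul_eq_mul, ← X.isExtension.mul_incl, ← hw f hf, map_mul, mul_comm, e, map_sum, map_sum]
      refine Finset.sum_congr rfl fun i _ => ?_
      rw [← smul_eq_mul (a := X.proj _), ← X.isExtension.mul_incl, map_mul, ← hv i]
      rfl
    obtain ⟨t, ht⟩ := IsLocalization.exists_of_eq (M := P'.primeCompl) e'
    refine ⟨t.1, t.2, X.isExtension.incl_injective ?_⟩
    rw [← smul_eq_mul, ← smul_eq_mul (a := X.proj t.1) (b := ∑ i, _), ← X.isExtension.mul_incl,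
      ← X.isExtension.mul_incl]
    exact ht
  choose! t ht htf using hf0
  let T : B₀ := ∏ f ∈ S, X.proj (t f)
  have hT : T ∉ p := prod_mem (S := p.primeCompl) fun f hf => ht f hf
  refine ⟨T * X.proj U, fun i => T * v i, p.primeCompl.mul_mem hT hU, fun f hf => ?_⟩
  have hTf : T = (∏ g ∈ S.erase f, X.proj (t g)) * X.proj (t f) := (Finset.prod_erase_mul S _ hf).symm
  have e := congrArg ((∏ g ∈ S.erase f, X.proj (t g)) * ·) (htf f hf)
  rw [← mul_assoc, ← mul_assoc, ← hTf, mul_assoc T] at e
  rw [mul_assoc T, e]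
  simp only [Finset.mul_sum]
  exact Finset.sum_congr rfl fun i _ => by rw [hTf]; ring

end Local

/-! ### The deformation attached to a normal vector. -/

section Normal

variable {k : Type u} [Field k] {B₀ : Type u} [CommRing B₀] [Algebra k B₀] {n : ℕ}

/-- `Hom_P(I, B₀)` for `I` the kernel of `q`. -/
def Nor (q : MvPolynomial (Fin n) k →ₐ[k] B₀) : Submodule B₀ (RingHom.ker q → B₀) where
  carrier := {w | (∀ a b, w (a + b) = w a + w b) ∧ ∀ g a, w (g • a) = q g * w a}
  add_mem' {w w'} hw hw' :=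
    ⟨fun a b => by simp only [Pi.add_apply, hw.1, hw'.1]; ring,
      fun g a => by simp only [Pi.add_apply, hw.2, hw'.2]; ring⟩
  zero_mem' := ⟨fun a b => by simp, fun g a => by simp⟩
  smul_mem' c w hw :=
    ⟨fun a b => by simp only [Pi.smul_apply, smul_eq_mul, hw.1]; ring,
      fun g a => by simp only [Pi.smul_apply, smul_eq_mul, hw.2]; ring⟩

variable {q : MvPolynomial (Fin n) k →ₐ[k] B₀}

lemma nor_zero (w : Nor q) : w.1 0 = 0 := by
  have h := w.2.1 0 0
  rwa [add_zero, left_eq_add] at h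

lemma nor_congr (w : Nor q) {a b : MvPolynomial (Fin n) k} (h : a = b) (ha : a ∈ RingHom.ker q)
    (hb : b ∈ RingHom.ker q) : w.1 ⟨a, ha⟩ = w.1 ⟨b, hb⟩ := by
  subst h; rfl

variable (q) in
/-- Coboundaries. -/
def cob : (Fin n → B₀) →ₗ[B₀] Nor q where
  toFun v := ⟨fun a => ∑ i, q (MvPolynomial.pderiv i a.1) * v i,
    fun a b => by simp only [Submodule.coe_add, map_add, add_mul, Finset.sum_add_distrib],
    fun g a => by
      have ha : q a.1 = 0 := a.2
      simp only [SetLike.val_smul, smul_eq_mul, MvPolynomial.pderiv_mul, map_add, map_mul, ha, mul_zero,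
        zero_add, Finset.mul_sum, mul_assoc]⟩
  map_add' v v' := Subtype.ext <| funext fun a => by
    simp only [Pi.add_apply, mul_add, Finset.sum_add_distrib, Submodule.coe_add]
  map_smul' c v := Subtype.ext <| funext fun a => by
    simp only [Pi.smul_apply, smul_eq_mul, RingHom.id_apply, SetLike.val_smul, Finset.mul_sum]
    exact Finset.sum_congr rfl fun i _ => by ring

/-- The equations of `P[ε]/J(w)`. -/
def norIdeal (w : Nor q) : Ideal (DualNumber (MvPolynomial (Fin n) k)) where
  carrier := {x | ∃ h : q x.fst = 0, q x.snd = w.1 ⟨x.fst, h⟩}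
  zero_mem' := ⟨map_zero q, (map_zero q).trans (nor_zero w).symm⟩
  add_mem' {x y} hx hy := by
    obtain ⟨hx0, hx1⟩ := hx
    obtain ⟨hy0, hy1⟩ := hy
    refine ⟨by rw [TrivSqZeroExt.fst_add, map_add, hx0, hy0, add_zero], ?_⟩
    rw [TrivSqZeroExt.snd_add, map_add, hx1, hy1]
    exact (w.2.1 ⟨x.fst, hx0⟩ ⟨y.fst, hy0⟩).symm
  smul_mem' c x hx := by
    obtain ⟨hx0, hx1⟩ := hx
    have e0 : (c • x).fst = c.fst * x.fst := TrivSqZeroExt.fst_mul c x
    have e1 : (c • x).snd = c.fst * x.snd + x.fst * c.snd := by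
      rw [smul_eq_mul, TrivSqZeroExt.snd_mul, op_smul_eq_smul, smul_eq_mul, smul_eq_mul]
    have h0 : q (c • x).fst = 0 := by rw [e0, map_mul, hx0, mul_zero]
    refine ⟨h0, ?_⟩
    rw [e1, map_add, map_mul, map_mul, hx0, zero_mul, add_zero, hx1]
    exact (w.2.2 c.fst ⟨x.fst, hx0⟩).symm.trans (nor_congr w e0.symm _ _)

variable (hq : Function.Surjective q) (w : Nor q)

/-- Lift of an element of `B₀`. -/
abbrev qLift (b : B₀) : MvPolynomial (Fin n) k := Function.surjInv hq b

lemma q_qLift (b : B₀) : q (qLift hq b) = b := Function.surjInv_eq hq b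

lemma mk_inr_eq {a b : MvPolynomial (Fin n) k} (h : q a = q b) :
    Ideal.Quotient.mk (norIdeal w) (TrivSqZeroExt.inr a) = Ideal.Quotient.mk (norIdeal w) (TrivSqZeroExt.inr b) := by
  refine Ideal.Quotient.eq.2 ⟨by simp, ?_⟩
  rw [TrivSqZeroExt.snd_sub, TrivSqZeroExt.snd_inr, TrivSqZeroExt.snd_inr, map_sub, h, sub_self]
  exact (nor_zero w).symm.trans (nor_congr w (by simp) _ _)

/-- The augmentation of `P[ε]/J(w)`. -/
def norProj : (DualNumber (MvPolynomial (Fin n) k) ⧸ norIdeal w) →ₐ[k] B₀ :=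
  Ideal.Quotient.liftₐ (norIdeal w) (q.comp (TrivSqZeroExt.fstHom k (MvPolynomial (Fin n) k) (MvPolynomial (Fin n) k)))
    fun _ hx => hx.1

lemma norProj_mk (x : DualNumber (MvPolynomial (Fin n) k)) : norProj w (Ideal.Quotient.mk _ x) = q x.fst := rfl

/-- The extension attached to a normal vector. -/
@[reducible] def norExt : Exal.Ext k B₀ B₀ where
  E := DualNumber (MvPolynomial (Fin n) k) ⧸ norIdeal w
  proj := norProj w
  incl :=
    { toFun := fun b => Ideal.Quotient.mk (norIdeal w) (TrivSqZeroExt.inr (qLift hq b))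
      map_zero' := by rw [mk_inr_eq w (b := 0) (by rw [q_qLift, map_zero]), TrivSqZeroExt.inr_zero, map_zero]
      map_add' := fun a b => by
        rw [← map_add, ← TrivSqZeroExt.inr_add]
        exact mk_inr_eq w (by rw [map_add, q_qLift, q_qLift, q_qLift]) }
  isExtension :=
    { proj_surjective := fun b => ⟨Ideal.Quotient.mk _ (TrivSqZeroExt.inl (qLift hq b)), q_qLift hq b⟩
      incl_injective := by
        rw [injective_iff_map_eq_zero]
        intro b hb
        obtain ⟨h0, h1⟩ := Ideal.Quotient.eq_zero_iff_mem.1 hb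
        rw [TrivSqZeroExt.snd_inr, q_qLift] at h1
        exact h1.trans ((nor_congr w (TrivSqZeroExt.fst_inr _ _) _ (zero_mem _)).trans (nor_zero w))
      exact := fun x => by
        constructor
        · obtain ⟨x, rfl⟩ := Ideal.Quotient.mk_surjective x
          intro hx
          rw [norProj_mk] at hx
          refine ⟨q x.snd - w.1 ⟨x.fst, hx⟩, Eq.symm (Ideal.Quotient.eq.2 ⟨by simpa using hx, ?_⟩)⟩
          rw [TrivSqZeroExt.snd_sub, TrivSqZeroExt.snd_inr, map_sub, q_qLift, sub_sub_cancel]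
          exact nor_congr w (by simp) _ _
        · rintro ⟨b, rfl⟩
          exact (norProj_mk w _).trans (map_zero q)
      mul_incl := fun x b => by
        obtain ⟨x, rfl⟩ := Ideal.Quotient.mk_surjective x
        change Ideal.Quotient.mk (norIdeal w) x * Ideal.Quotient.mk (norIdeal w) _ =
          Ideal.Quotient.mk (norIdeal w) (TrivSqZeroExt.inr (qLift hq (q x.fst * b)))
        rw [← map_mul, show x * TrivSqZeroExt.inr (qLift hq b) = TrivSqZeroExt.inr (x.fst * qLift hq b) from
          TrivSqZeroExt.ext (by simp) (by simp [mul_comm])]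
        exact mk_inr_eq w (by rw [map_mul, q_qLift, q_qLift]) }

/-- `k[ε] → P[ε]`. -/
def dualC (a : DualNumber k) : DualNumber (MvPolynomial (Fin n) k) :=
  TrivSqZeroExt.inl (algebraMap k _ a.fst) + TrivSqZeroExt.inr (algebraMap k _ a.snd)

lemma dualToExt_norExt (a : DualNumber k) :
    dualToExt (norExt hq w) a = Ideal.Quotient.mk (norIdeal w) (dualC a) := by
  conv_lhs => rw [dual_decomp a]
  rw [map_add, map_mul, dualToExt_eps, AlgHom.commutes, AlgHom.commutes]
  change Ideal.Quotient.mk (norIdeal w) (algebraMap k (DualNumber (MvPolynomial (Fin n) k)) a.fst) +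
    Ideal.Quotient.mk (norIdeal w) (algebraMap k (DualNumber (MvPolynomial (Fin n) k)) a.snd) *
      Ideal.Quotient.mk (norIdeal w) (TrivSqZeroExt.inr (qLift hq 1)) = _
  rw [mk_inr_eq w (b := 1) (by rw [q_qLift, map_one]), ← map_mul, ← map_add]
  congr 1
  rw [dualC, TrivSqZeroExt.algebraMap_eq_inl', TrivSqZeroExt.algebraMap_eq_inl']
  refine TrivSqZeroExt.ext ?_ ?_ <;> simp

variable (Λ : Type u) [CommRing Λ] [Algebra Λ k]

/-- The deformation attached to a normal vector. -/
@[reducible] def norDef : DefAlg B₀ (Art.dual Λ k) where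
  carrier := (norExt hq w).E
  algebra := (dualToExt (norExt hq w)).toRingHom.toAlgebra
  flat := (ofExt (norExt hq w)).flat
  π := (norExt hq w).proj.toRingHom
  π_surjective := (norExt hq w).isExtension.proj_surjective
  ker_π := (ofExt (norExt hq w)).ker_π
  π_algebraMap a := proj_dualToExt (norExt hq w) a

variable {Λ}

/-- Maps between these deformations from endomorphisms of `P[ε]`. -/
def mapOfLift {g : Art.dual Λ k ⟶ Art.dual Λ k} {w' : Nor q}
    (σ : DualNumber (MvPolynomial (Fin n) k) →+* DualNumber (MvPolynomial (Fin n) k))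
    (hJ : ∀ x ∈ norIdeal w, σ x ∈ norIdeal w') (hfst : ∀ x, q (σ x).fst = q x.fst)
    (halg : ∀ a, σ (dualC a) = dualC (show DualNumber k from g a)) :
    DefAlg.Map g (norDef hq w Λ) (norDef hq w' Λ) where
  hom := Ideal.Quotient.lift (norIdeal w) ((Ideal.Quotient.mk (norIdeal w')).comp σ)
    fun x hx => Ideal.Quotient.eq_zero_iff_mem.2 (hJ x hx)
  hom_algebraMap a := by
    exact (congrArg _ (dualToExt_norExt hq w a)).trans
      ((congrArg (Ideal.Quotient.mk (norIdeal w')) (halg a)).trans (dualToExt_norExt hq w' _).symm)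
  π_hom x := by
    obtain ⟨x, rfl⟩ := Ideal.Quotient.mk_surjective x
    exact hfst x

/-- The map over `ε ↦ c ε`. -/
def scaleMap (c : k) : DefAlg.Map (Art.scale c) (norDef hq w Λ) (norDef hq (c • w) Λ) :=
  mapOfLift hq w
    (TrivSqZeroExt.map (c • LinearMap.id : MvPolynomial (Fin n) k →ₗ[MvPolynomial (Fin n) k] _)).toRingHom
    (fun x ⟨h0, h1⟩ => by
      refine ⟨(congrArg q (TrivSqZeroExt.fst_map _ x)).trans h0, ?_⟩
      change q (TrivSqZeroExt.map (c • LinearMap.id : MvPolynomial (Fin n) k →ₗ[MvPolynomial (Fin n) k] _) x).snd = _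
      rw [TrivSqZeroExt.snd_map, LinearMap.smul_apply, LinearMap.id_apply, map_smul, h1]
      exact congrArg (c • ·) (nor_congr w (TrivSqZeroExt.fst_map _ x).symm _ _))
    (fun x => congrArg q (TrivSqZeroExt.fst_map _ x))
    (fun a => by
      change TrivSqZeroExt.map (c • LinearMap.id : MvPolynomial (Fin n) k →ₗ[MvPolynomial (Fin n) k] _) (dualC a) =
        dualC ((a.fst, c * a.snd) : DualNumber k)
      refine TrivSqZeroExt.ext ?_ ?_
      · simp [dualC, TrivSqZeroExt.fst_map]
      · rw [TrivSqZeroExt.snd_map]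
        simp [dualC, MvPolynomial.smul_eq_C_mul])

/-- The shear `(a, b) ↦ (a, b - Σ vᵢ ∂ᵢ a)`. -/
def shear (v : Fin n → MvPolynomial (Fin n) k) :
    DualNumber (MvPolynomial (Fin n) k) →+* DualNumber (MvPolynomial (Fin n) k) where
  toFun x := x - TrivSqZeroExt.inr (∑ i, MvPolynomial.pderiv i x.fst * v i)
  map_one' := by simp
  map_zero' := by simp
  map_add' x y := by
    refine TrivSqZeroExt.ext (by simp) ?_
    simp [Finset.sum_add_distrib, add_mul]; ring
  map_mul' x y := by
    refine TrivSqZeroExt.ext (by simp) ?_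
    simp [MvPolynomial.pderiv_mul, Finset.sum_add_distrib, add_mul, mul_sub, sub_mul, Finset.mul_sum, Finset.sum_mul]
    ring_nf

lemma shear_dualC (v : Fin n → MvPolynomial (Fin n) k) (a : DualNumber k) : shear v (dualC a) = dualC a := by
  refine TrivSqZeroExt.ext ?_ ?_ <;> simp [shear, dualC]

/-- Coboundaries give trivial deformations. -/
def cobMap (v : Fin n → B₀) : DefAlg.Map (𝟙 (Art.dual Λ k)) (norDef hq (cob q v) Λ) (norDef hq 0 Λ) :=
  mapOfLift hq (cob q v) (shear fun i => qLift hq (v i))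
    (fun x ⟨h0, h1⟩ => by
      have e0 : (shear (fun i => qLift hq (v i)) x).fst = x.fst := by simp [shear]
      refine ⟨by rw [e0, h0], ?_⟩
      change _ = (0 : B₀)
      have e1 : q x.snd = ∑ i, q (MvPolynomial.pderiv i x.fst) * v i := h1
      simp [shear, e1, q_qLift])
    (fun x => by simp [shear])
    (fun a => shear_dualC _ a)

/-- The linear map `P[ε₁, ε₂] → P[ε]²` into the glued ring. -/
def plusSrc (w₁ w₂ : Nor q) : TrivSqZeroExt (MvPolynomial (Fin n) k) (MvPolynomial (Fin n) k × MvPolynomial (Fin n) k) →+*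
    glueRing (toSelf B₀ (norDef hq w₁ Λ)) (toSelf B₀ (norDef hq w₂ Λ)) :=
  RingHom.codRestrict
    (((Ideal.Quotient.mk (norIdeal w₁)).comp (TrivSqZeroExt.map (LinearMap.fst (MvPolynomial (Fin n) k) _ _)).toRingHom).prod
      ((Ideal.Quotient.mk (norIdeal w₂)).comp (TrivSqZeroExt.map (LinearMap.snd (MvPolynomial (Fin n) k) _ _)).toRingHom))
    _ fun x => by
      refine congrArg q ?_
      exact (TrivSqZeroExt.fst_map _ x).trans (TrivSqZeroExt.fst_map _ x).symm

lemma plusSrc_surjective (w₁ w₂ : Nor q) : Function.Surjective (plusSrc (Λ := Λ) hq w₁ w₂) := by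
  rintro ⟨⟨y₁, y₂⟩, hy⟩
  obtain ⟨x₁, rfl⟩ := Ideal.Quotient.mk_surjective y₁
  obtain ⟨x₂, rfl⟩ := Ideal.Quotient.mk_surjective y₂
  have h : q x₁.fst = q x₂.fst := hy
  have hf : q (x₁.fst - x₂.fst) = 0 := by rw [map_sub, h, sub_self]
  let e := qLift hq (w₁.1 ⟨_, hf⟩)
  refine ⟨TrivSqZeroExt.inl x₂.fst + TrivSqZeroExt.inr (x₁.snd - e, x₂.snd), Subtype.ext (Prod.ext ?_ ?_)⟩
  · refine Eq.symm (Ideal.Quotient.eq.2 ?_)
    refine ⟨by simpa using hf, ?_⟩
    refine Eq.trans ?_ (nor_congr w₁ (a := x₁.fst - x₂.fst) ?_ hf _)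
    · refine Eq.trans (congrArg q ?_) (q_qLift hq _)
      simp [e]
    · simp
  · exact congrArg (Ideal.Quotient.mk (norIdeal w₂)) (TrivSqZeroExt.ext (by simp) (by simp))

/-- The sum of two deformations, as a map over `plus`. -/
def plusMap (w₁ w₂ : Nor q) :
    DefAlg.Map Art.plus
      (glue Art.isFibreProd_dual2 (toSelf B₀ (norDef hq w₁ Λ)) (toSelf B₀ (norDef hq w₂ Λ)) (Art.dual Λ k).res_surjective)
      (norDef hq (w₁ + w₂) Λ) :=
  let j := plusSrc (Λ := Λ) hq w₁ w₂
  let g : TrivSqZeroExt (MvPolynomial (Fin n) k) (MvPolynomial (Fin n) k × MvPolynomial (Fin n) k) →+*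
      (DualNumber (MvPolynomial (Fin n) k) ⧸ norIdeal (w₁ + w₂)) :=
    (Ideal.Quotient.mk (norIdeal (w₁ + w₂))).comp
      (TrivSqZeroExt.map (LinearMap.fst (MvPolynomial (Fin n) k) _ _ + LinearMap.snd (MvPolynomial (Fin n) k) _ _)).toRingHom
  have hker : RingHom.ker j ≤ RingHom.ker g := fun x hx => by
    have h1 := Ideal.Quotient.eq_zero_iff_mem.1 (congrArg (fun t => t.1.1) hx)
    have h2 := Ideal.Quotient.eq_zero_iff_mem.1 (congrArg (fun t => t.1.2) hx)
    obtain ⟨a, a'⟩ := h1
    obtain ⟨b, b'⟩ := h2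
    have a0 : q x.fst = 0 := by simpa using a
    refine Ideal.Quotient.eq_zero_iff_mem.2 ⟨by simpa using a, ?_⟩
    simp only [AlgHom.toRingHom_eq_coe, RingHom.coe_coe, TrivSqZeroExt.snd_map, LinearMap.add_apply,
      LinearMap.fst_apply, LinearMap.snd_apply, map_add] at a' b' ⊢
    rw [a', b', nor_congr w₁ (TrivSqZeroExt.fst_map _ x) _ a0, nor_congr w₂ (TrivSqZeroExt.fst_map _ x) _ a0]
    exact (congrArg₂ (· + ·) (nor_congr w₁ (TrivSqZeroExt.fst_map _ x).symm a0 _)
      (nor_congr w₂ (TrivSqZeroExt.fst_map _ x).symm a0 _))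
  let Φ := j.liftOfSurjective (plusSrc_surjective hq w₁ w₂) ⟨g, hker⟩
  have hΦ : ∀ x, Φ (j x) = g x := fun x =>
    RingHom.liftOfRightInverse_comp_apply j _ _ ⟨g, hker⟩ x
  { hom := Φ
    hom_algebraMap := fun a => by
      let a' : TrivSqZeroExt (MvPolynomial (Fin n) k) (MvPolynomial (Fin n) k × MvPolynomial (Fin n) k) :=
        TrivSqZeroExt.inl (algebraMap k _ (show TrivSqZeroExt k (k × k) from a).fst) +
          TrivSqZeroExt.inr (algebraMap k _ (show TrivSqZeroExt k (k × k) from a).snd.1, algebraMap k _ (show TrivSqZeroExt k (k × k) from a).snd.2)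
      have hj : j a' = glueAlgMap Art.isFibreProd_dual2 (toSelf B₀ (norDef hq w₁ Λ)) (toSelf B₀ (norDef hq w₂ Λ)) a := by
        refine Subtype.ext (Prod.ext ?_ ?_)
        · refine Eq.trans ?_ (dualToExt_norExt hq w₁ _).symm
          refine congrArg (Ideal.Quotient.mk (norIdeal w₁)) (TrivSqZeroExt.ext ?_ ?_) <;> simp [dualC, a'] <;> rfl
        · refine Eq.trans ?_ (dualToExt_norExt hq w₂ _).symm
          refine congrArg (Ideal.Quotient.mk (norIdeal w₂)) (TrivSqZeroExt.ext ?_ ?_) <;> simp [dualC, a'] <;> rfl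
      refine (congrArg Φ hj.symm).trans ((hΦ a').trans ?_)
      refine Eq.trans ?_ (dualToExt_norExt hq (w₁ + w₂) _).symm
      refine congrArg (Ideal.Quotient.mk (norIdeal (w₁ + w₂))) (TrivSqZeroExt.ext ?_ ?_)
      · simp [dualC, a']; rfl
      · simp [dualC, a']
        exact (map_add MvPolynomial.C _ _).symm
    π_hom := fun x => by
      obtain ⟨x, rfl⟩ := plusSrc_surjective (Λ := Λ) hq w₁ w₂ x
      exact (congrArg (norDef hq (w₁ + w₂) Λ).π (hΦ x)).trans rfl }

lemma mul_eps_of_fst {m : DualNumber k} (h : TrivSqZeroExt.fst m = 0) : m * DualNumber.eps = 0 := by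
  rw [dual_decomp m, h, map_zero, zero_add, mul_assoc, DualNumber.eps_mul_eps, mul_zero]

lemma inl_snd_mul_eps {m : DualNumber k} (h : TrivSqZeroExt.fst m = 0) :
    (TrivSqZeroExt.inl m.snd : DualNumber k) * DualNumber.eps = m :=
  TrivSqZeroExt.ext (by simp [h]) (by simp)

/-- Every first order deformation comes from a normal vector. -/
theorem exists_norDef (D : DefAlg B₀ (Art.dual Λ k)) :
    ∃ w : Nor q, Nonempty (DefAlg.Map (𝟙 (Art.dual Λ k)) (norDef hq w Λ) D) := by
  letI : Algebra k D.carrier :=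
    ((algebraMap (Art.dual Λ k) D.carrier).comp (algebraMap k (DualNumber k))).toAlgebra
  let ε : Art.dual Λ k := DualNumber.eps (R := k)
  have hεm : ∀ m ∈ 𝔪 (Art.dual Λ k), m * ε = 0 := fun m h => by
    have h0 : TrivSqZeroExt.fst (show DualNumber k from m) = 0 := ((Art.dual Λ k).mem_maximalIdeal_iff m).1 h
    change (show DualNumber k from m) * DualNumber.eps = 0
    exact mul_eps_of_fst h0
  have hε0 : ε ≠ 0 := fun h => one_ne_zero (congrArg (fun m : DualNumber k => TrivSqZeroExt.snd m) h)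
  have hle : 𝔪 (Art.dual Λ k) ≤ Ideal.span {ε} := fun m h => by
    have h0 : TrivSqZeroExt.fst (show DualNumber k from m) = 0 := ((Art.dual Λ k).mem_maximalIdeal_iff m).1 h
    refine Ideal.mem_span_singleton'.2 ⟨TrivSqZeroExt.inl (show DualNumber k from m).snd, ?_⟩
    exact inl_snd_mul_eps h0
  have hpre : ∀ x : D.carrier, D.π x = 0 → ∃ d, ε • d = x := fun x hx => by
    have h2 := Submodule.smul_mono_left hle ((D.π_eq_zero_iff x).1 hx)
    rw [Submodule.ideal_span_singleton_smul, Submodule.mem_smul_pointwise_iff_exists] at h2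
    obtain ⟨d, -, hd⟩ := h2
    exact ⟨d, hd⟩
  choose! dv hdv using hpre
  let y : Fin n → D.carrier := fun i => Function.surjInv D.π_surjective (q (MvPolynomial.X i))
  let η : MvPolynomial (Fin n) k →ₐ[k] D.carrier := MvPolynomial.aeval y
  let πk : D.carrier →ₐ[k] B₀ := { D.π with commutes' := fun c => (D.π_algebraMap _).trans rfl }
  have hπη : ∀ f, D.π (η f) = q f := fun f => DFunLike.congr_fun
    (MvPolynomial.algHom_ext (f := πk.comp η) (g := q) fun i => by
      rw [AlgHom.comp_apply, MvPolynomial.aeval_X]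
      exact Function.surjInv_eq D.π_surjective _) f
  have hεinj : ∀ d e : D.carrier, ε • d = ε • e → D.π d = D.π e := fun d e h => by
    have := D.π_eq_zero_of_smul_eq_zero hε0 hεm (d := d - e) (by rw [smul_sub, h, sub_self])
    rwa [map_sub, sub_eq_zero] at this
  have hd : ∀ a : RingHom.ker q, ε • dv (η a.1) = η a.1 := fun a => hdv _ ((hπη a.1).trans a.2)
  let w : Nor q := ⟨fun a => -D.π (dv (η a.1)), fun a b => by
      rw [← neg_add, ← map_add]
      refine congrArg Neg.neg (hεinj _ _ ?_)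
      rw [smul_add, hd, hd, hd, Submodule.coe_add, map_add], fun g a => by
      rw [mul_neg, ← hπη g, ← map_mul]
      refine congrArg Neg.neg (hεinj _ _ ?_)
      rw [← mul_smul_comm, hd, hd, SetLike.val_smul, smul_eq_mul, map_mul]⟩
  let εD : D.carrier := algebraMap (Art.dual Λ k) D.carrier ε
  have hεεD : εD * εD = 0 := by
    rw [← map_mul, show ε * ε = 0 from DualNumber.eps_mul_eps, map_zero]
  let Ψ : DualNumber (MvPolynomial (Fin n) k) →ₐ[k] D.carrier :=
    DualNumber.lift ⟨(η, εD), hεεD, fun _ => Commute.all _ _⟩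
  have hΨ : ∀ x : DualNumber (MvPolynomial (Fin n) k), Ψ x = η x.fst + η x.snd * εD := fun x =>
    DualNumber.lift_apply_apply _ x
  have hJ : ∀ x ∈ norIdeal w, Ψ x = 0 := fun x ⟨h0, h1⟩ => by
    rw [hΨ, ← hd ⟨x.fst, h0⟩, mul_comm, ← Algebra.smul_def, ← smul_add]
    have : D.π (dv (η x.fst) + η x.snd) = D.π 0 := by
      rw [map_add, hπη, h1, map_zero]
      exact add_neg_cancel (D.π (dv (η x.fst)))
    exact (D.smul_eq_of_π_eq hεm this).trans (smul_zero _)
  refine ⟨w, ⟨{ hom := Ideal.Quotient.lift (norIdeal w) Ψ.toRingHom hJ, hom_algebraMap := fun a => ?_, π_hom := fun x => ?_ }⟩⟩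
  · change Ideal.Quotient.lift (norIdeal w) Ψ.toRingHom hJ (dualToExt (norExt hq w) a) = _
    refine (congrArg _ (dualToExt_norExt hq w a)).trans ((hΨ (dualC a)).trans ?_)
    change η (TrivSqZeroExt.fst (dualC _)) + η (TrivSqZeroExt.snd (dualC _)) * εD = algebraMap (Art.dual Λ k) D.carrier a
    rw [show TrivSqZeroExt.fst (dualC (n := n) (show DualNumber k from a)) = algebraMap k _ (show DualNumber k from a).fst by simp [dualC],
      show TrivSqZeroExt.snd (dualC (n := n) (show DualNumber k from a)) = algebraMap k _ (show DualNumber k from a).snd by simp [dualC],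
      AlgHom.commutes, AlgHom.commutes]
    refine Eq.trans ?_ (congrArg (algebraMap (Art.dual Λ k) D.carrier) (dual_decomp (show DualNumber k from a)).symm)
    refine Eq.trans ?_ (map_add (algebraMap (Art.dual Λ k) D.carrier) _ _).symm
    refine congrArg₂ (· + ·) rfl ?_
    exact (map_mul (algebraMap (Art.dual Λ k) D.carrier) _ _).symm
  · obtain ⟨x, rfl⟩ := Ideal.Quotient.mk_surjective x
    change D.π (Ψ x) = q x.fst
    rw [hΨ, map_add, map_mul, hπη, hπη, D.π_algebraMap, show (Art.dual Λ k).res ε = 0 from rfl, map_zero, mul_zero, add_zero]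

end Normal

/-! ### Finiteness. -/

section Finite

variable {Λ k : Type u} [CommRing Λ] [Field k] [Algebra Λ k] {B₀ : Type u} [CommRing B₀] [Algebra k B₀] {n : ℕ}
variable {q : MvPolynomial (Fin n) k →ₐ[k] B₀} (hq : Function.Surjective q)

include hq in
lemma isNoetherianRing_of_q : IsNoetherianRing B₀ := isNoetherianRing_of_surjective _ _ q.toRingHom hq

/-- The normal module is determined by values on generators. -/
lemma nor_eq_zero_of_forall (w : Nor q) {S : Finset (MvPolynomial (Fin n) k)}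
    (hS : Ideal.span (S : Set (MvPolynomial (Fin n) k)) = RingHom.ker q)
    (h : ∀ (f) (hf : f ∈ S), w.1 ⟨f, hS ▸ Ideal.subset_span hf⟩ = 0) : w = 0 := by
  refine Subtype.ext (funext fun a => ?_)
  have key : ∀ g ∈ Ideal.span (S : Set (MvPolynomial (Fin n) k)), ∀ hg : g ∈ RingHom.ker q, w.1 ⟨g, hg⟩ = 0 := by
    intro g hg
    induction hg using Submodule.span_induction with
    | mem g hg => exact fun _ => h g hg
    | zero => exact fun _ => nor_zero w
    | add g g' hg hg' ih ih' =>
      intro _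
      refine (w.2.1 ⟨g, hS ▸ hg⟩ ⟨g', hS ▸ hg'⟩).trans ?_
      rw [ih, ih', add_zero]
    | smul c g hg ih =>
      intro _
      refine (w.2.2 c ⟨g, hS ▸ hg⟩).trans ?_
      rw [ih, mul_zero]
  exact key a.1 (hS.symm ▸ a.2) a.2

include hq in
theorem finite_nor : Module.Finite B₀ (Nor q) := by
  haveI := isNoetherianRing_of_q hq
  obtain ⟨S, hS⟩ := (IsNoetherian.noetherian (RingHom.ker q) : (RingHom.ker q).FG)
  let ev : Nor q →ₗ[B₀] (S → B₀) :=
    { toFun := fun w f => w.1 ⟨f.1, hS ▸ Ideal.subset_span f.2⟩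
      map_add' := fun _ _ => rfl
      map_smul' := fun _ _ => rfl }
  refine Module.Finite.of_injective ev ?_
  rw [injective_iff_map_eq_zero]
  exact fun w hw => nor_eq_zero_of_forall w hS fun f hf => congrFun hw ⟨f, hf⟩

include hq in
/-- At formally smooth points the normal module is generated by coboundaries. -/
theorem exists_smul_mem_range_cob (p : Ideal B₀) [p.IsPrime] [Algebra.FormallySmooth k (Localization.AtPrime p)]
    (w : Nor q) : ∃ s, s ∉ p ∧ s • w ∈ LinearMap.range (cob q) := by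
  classical
  obtain ⟨S, hS⟩ := (IsNoetherian.noetherian (RingHom.ker q) : (RingHom.ker q).FG)
  have hmem : ∀ f ∈ S, f ∈ RingHom.ker q := fun f hf => hS ▸ Ideal.subset_span hf
  let η : MvPolynomial (Fin n) k →ₐ[k] (norExt hq w).E :=
    (Ideal.Quotient.mkₐ k (norIdeal w)).comp (TrivSqZeroExt.inlAlgHom k (MvPolynomial (Fin n) k) (MvPolynomial (Fin n) k))
  let w' : MvPolynomial (Fin n) k → B₀ := fun f => if h : f ∈ RingHom.ker q then -w.1 ⟨f, h⟩ else 0
  have hη : ∀ f, (norExt hq w).proj (η f) = q f := fun f => rfl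
  obtain ⟨s, v, hs, hv⟩ := exists_denominator (norExt hq w) η p S (fun f hf => (hη f).trans (hmem f hf)) w' fun f hf => by
    refine Ideal.Quotient.eq.2 ?_
    refine ⟨by simpa using hmem f hf, ?_⟩
    simp only [w', dif_pos (hmem f hf)]
    change q ((TrivSqZeroExt.inl f : DualNumber (MvPolynomial (Fin n) k)) - TrivSqZeroExt.inr _).snd = _
    rw [TrivSqZeroExt.snd_sub, TrivSqZeroExt.snd_inl, TrivSqZeroExt.snd_inr, zero_sub, map_neg, q_qLift, neg_neg]
    exact nor_congr w (by simp) _ _
  refine ⟨s, hs, -v, ?_⟩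
  refine sub_eq_zero.1 (nor_eq_zero_of_forall _ hS fun f hf => ?_)
  change (∑ i, q (MvPolynomial.pderiv i f) * (-v) i) - s * w.1 ⟨f, _⟩ = 0
  have e := hv f hf
  simp only [hη, w', dif_pos (hmem f hf)] at e
  simp only [Pi.neg_apply, mul_neg, Finset.sum_neg_distrib, ← e]
  ring

include hq in
/-- `T¹` is finite-dimensional when `B₀` is formally smooth outside a finite set of primes. -/
theorem finite_cokernel_cob (Z : Set (PrimeSpectrum B₀)) (hZ : Z.Finite)
    (hsm : ∀ p ∉ Z, Algebra.FormallySmooth k (Localization.AtPrime p.asIdeal)) :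
    Module.Finite k (Nor q ⧸ LinearMap.range (cob q)) := by
  haveI := isNoetherianRing_of_q hq
  haveI := finite_nor hq
  let M := Nor q ⧸ LinearMap.range (cob q)
  have hsupp : Module.support B₀ M ⊆ Z := by
    intro p hp
    by_contra hpZ
    haveI := hsm p hpZ
    refine Module.notMem_support_iff'.2 (fun m => ?_) hp
    obtain ⟨w, rfl⟩ := Submodule.Quotient.mk_surjective _ m
    obtain ⟨s, hs, hsw⟩ := exists_smul_mem_range_cob hq p.asIdeal w
    exact ⟨s, hs, (Submodule.Quotient.mk_smul _ s w).symm.trans ((Submodule.Quotient.mk_eq_zero _).2 hsw)⟩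
  let C := B₀ ⧸ Module.annihilator B₀ M
  haveI : Finite (PrimeSpectrum C) := by
    have hinj : Function.Injective (PrimeSpectrum.comap (Ideal.Quotient.mk (Module.annihilator B₀ M))) :=
      PrimeSpectrum.comap_injective_of_surjective _ Ideal.Quotient.mk_surjective
    refine (Set.finite_univ_iff).1 (Set.Finite.of_finite_image (f := PrimeSpectrum.comap (Ideal.Quotient.mk (Module.annihilator B₀ M))) ?_ hinj.injOn)
    refine hZ.subset ?_
    rintro _ ⟨x, -, rfl⟩
    refine hsupp ?_
    rw [Module.support_eq_zeroLocus, PrimeSpectrum.mem_zeroLocus]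
    intro a ha
    change Ideal.Quotient.mk _ a ∈ x.asIdeal
    rw [Ideal.Quotient.eq_zero_iff_mem.2 ha]
    exact x.asIdeal.zero_mem
  haveI : Algebra.FiniteType k B₀ := Algebra.FiniteType.of_surjective q hq
  haveI : Algebra.FiniteType k C := Algebra.FiniteType.of_surjective (Ideal.Quotient.mkₐ k _) Ideal.Quotient.mk_surjective
  haveI : IsJacobsonRing C := isJacobsonRing_of_finiteType (A := k)
  haveI : Ring.KrullDimLE 0 C :=
    (PrimeSpectrum.discreteTopology_iff_finite_and_krullDimLE_zero.1 inferInstance).2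
  haveI : IsArtinianRing C := IsNoetherianRing.isArtinianRing_of_krullDimLE_zero
  haveI : Module.Finite k C := (Module.finite_iff_isArtinianRing k C).2 inferInstance
  haveI ht : Module.IsTorsionBySet B₀ M (Module.annihilator B₀ M) := fun {m} a => Module.mem_annihilator.1 a.2 m
  letI : Module C M := ht.module
  haveI : IsScalarTower B₀ C M := ht.isScalarTower
  haveI : Module.Finite C M := Module.Finite.of_restrictScalars_finite B₀ C M
  haveI : IsScalarTower k C M := ⟨fun c x m => by
    obtain ⟨x, rfl⟩ := Ideal.Quotient.mk_surjective x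
    change (Ideal.Quotient.mk _ (c • x)) • m = c • (Ideal.Quotient.mk _ x • m)
    exact (smul_assoc c x m)⟩
  exact Module.Finite.trans C M

include hq in
/-- The tangent space of the deformation functor is finite-dimensional. -/
theorem hfin_spec [TangentStr (ArtFun.defFunctor (Λ := Λ) (Spec (CommRingCat.of B₀)) (strMap k B₀))]
    (Z : Set (PrimeSpectrum B₀)) (hZ : Z.Finite)
    (hsm : ∀ p ∉ Z, Algebra.FormallySmooth k (Localization.AtPrime p.asIdeal)) :
    Hfin (ArtFun.defFunctor (Λ := Λ) (Spec (CommRingCat.of B₀)) (strMap k B₀)) := by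
  let F := ArtFun.defFunctor (Λ := Λ) (Spec (CommRingCat.of B₀)) (strMap k B₀)
  let Φ : Nor q →ₗ[k] TangentSpace F :=
    { toFun := fun w => TangentSpace.mk (norDef hq w Λ).cl
      map_add' := fun w₁ w₂ => by
        have h := TangentStr.add_eq (F := F)
          (glue Art.isFibreProd_dual2 (toSelf B₀ (norDef hq w₁ Λ)) (toSelf B₀ (norDef hq w₂ Λ)) (Art.dual Λ k).res_surjective).cl
        have hf : Function.Surjective (Art.toBase (ArtFun.Art.dual Λ k)) := (Art.dual Λ k).res_surjective
        rw [DefAlg.map_cl (glueFst Art.isFibreProd_dual2 (toSelf B₀ (norDef hq w₁ Λ)) (toSelf B₀ (norDef hq w₂ Λ)) hf),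
          DefAlg.map_cl (glueSnd Art.isFibreProd_dual2 (toSelf B₀ (norDef hq w₁ Λ)) (toSelf B₀ (norDef hq w₂ Λ)) hf),
          DefAlg.map_cl (plusMap hq w₁ w₂)] at h
        exact h.symm
      map_smul' := fun c w => by
        refine Eq.trans ?_ (TangentStr.smul_eq (F := F) c (norDef hq w Λ).cl).symm
        exact (DefAlg.map_cl (scaleMap hq w c)).symm }
  have hcob : (LinearMap.range (cob q)).restrictScalars k ≤ LinearMap.ker Φ := by
    rintro _ ⟨v, rfl⟩
    rw [LinearMap.mem_ker]
    refine Eq.trans ?_ (map_zero Φ)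
    exact DefAlg.cl_eq_iff.2 ⟨cobMap hq v⟩
  have hsurj : Function.Surjective Φ := fun t => by
    obtain ⟨D, hD⟩ := DefAlg.exists_cl (TangentSpace.val t)
    obtain ⟨w, ⟨φ⟩⟩ := exists_norDef hq D
    exact ⟨w, (DefAlg.cl_eq_iff.2 ⟨φ⟩).trans hD⟩
  haveI := finite_cokernel_cob hq Z hZ hsm
  haveI : Module.Finite k (Nor q ⧸ (LinearMap.range (cob q)).restrictScalars k) :=
    Module.Finite.equiv (Submodule.Quotient.restrictScalarsEquiv k (LinearMap.range (cob q))).symm
  refine Module.Finite.of_surjective (Submodule.liftQ _ Φ hcob) fun t => ?_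
  obtain ⟨w, hw⟩ := hsurj t
  exact ⟨Submodule.Quotient.mk w, hw⟩

end Finite

end Groth.SGA7Def
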