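import Groth.Prelude.Def_ArtFun4

/-!
The deformation functor only depends on `X → Spec k` up to isomorphism.
-/

set_option linter.style.haveILetI false
set_option linter.style.longLine false

noncomputable section

universe u v

open CategoryTheory AlgebraicGeometry Limits

namespace Groth.SGA7Def

open ArtFun

variable {Λ k : Type u} [CommRing Λ] [Field k] [Algebra Λ k]
variable {X Y : Scheme.{u}} {x : X ⟶ Art.specPt k} {y : Y ⟶ Art.specPt k}

/-- Transport of a deformation along an isomorphism of closed fibres. -/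
def transport (e : X ≅ Y) (he : e.hom ≫ y = x) {A : Art Λ k} (ξ : DefSch Y y A) : DefSch X x A where
  total := ξ.total
  f := ξ.f
  flat := ξ.flat
  i := e.hom ≫ ξ.i
  isPullback := by
    refine ξ.isPullback.of_iso e.symm (Iso.refl _) (Iso.refl _) (Iso.refl _) ?_ ?_ ?_ ?_
    · simp
    · simp [← he]
    · simp
    · simp

theorem cl_transport_baseChange (e : X ≅ Y) (he : e.hom ≫ y = x) {A B : Art Λ k} (g : A ⟶ B) (ξ : DefSch Y y A) :
    (transport e he (ξ.baseChange g)).cl = ((transport e he ξ).baseChange g).cl := by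
  refine Quotient.sound ⟨⟨Iso.refl _, Category.id_comp _, ?_⟩⟩
  apply pullback.hom_ext
  · simp [transport]
    erw [pullback.lift_fst, pullback.lift_fst]
  · simp [transport, ← he]
    erw [pullback.lift_snd, pullback.lift_snd]

/-- The component of the transport map. -/
def transportApp (e : X ≅ Y) (he : e.hom ≫ y = x) (A : Art Λ k) :
    (defFunctor (Λ := Λ) Y y).obj A → (defFunctor (Λ := Λ) X x).obj A :=
  Quotient.lift (s := DefSch.setoid Y y A) (fun ξ => (transport e he ξ).cl) fun ξ ξ' h => by
    obtain ⟨φ⟩ := h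
    exact Quotient.sound ⟨⟨φ.iso, φ.hom_f, (Category.assoc _ _ _).trans (congrArg (e.hom ≫ ·) φ.i_hom)⟩⟩

theorem transportApp_inv (e : X ≅ Y) (he : e.hom ≫ y = x) (he' : e.inv ≫ x = y) (A : Art Λ k)
    (t : (defFunctor (Λ := Λ) Y y).obj A) :
    transportApp e.symm he' A (transportApp e he A t) = t := by
  induction t using Quotient.inductionOn with
  | h ξ => exact Quotient.sound ⟨⟨Iso.refl _, Category.id_comp _, by simp [transport]⟩⟩

theorem transportApp_natural (e : X ≅ Y) (he : e.hom ≫ y = x) {A B : Art Λ k} (g : A ⟶ B)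
    (t : (defFunctor (Λ := Λ) Y y).obj A) :
    transportApp e he B ((defFunctor (Λ := Λ) Y y).map g t) = (defFunctor (Λ := Λ) X x).map g (transportApp e he A t) := by
  induction t using Quotient.inductionOn with
  | h ξ => exact cl_transport_baseChange e he g ξ

/-- Isomorphic fibres have isomorphic deformation functors. -/
def defFunctorIso (e : X ≅ Y) (he : e.hom ≫ y = x) : defFunctor (Λ := Λ) Y y ≅ defFunctor (Λ := Λ) X x :=
  NatIso.ofComponents
    (fun A =>
      { hom := ↾(transportApp e he A)
        inv := ↾(transportApp e.symm (by simp [← he]) A)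
        hom_inv_id := ConcreteCategory.hom_ext _ _ (transportApp_inv e he (by simp [← he]) A)
        inv_hom_id := ConcreteCategory.hom_ext _ _ (transportApp_inv e.symm (by simp [← he]) (by simp [he]) A) })
    fun g => ConcreteCategory.hom_ext _ _ (transportApp_natural e he g)

/-- Hulls transport along isomorphisms of functors. -/
theorem hasHull_of_natIso {F G : Art Λ k ⥤ Type v} (i : F ≅ G) (h : HasHull F) : HasHull G := by
  obtain ⟨⟨R, ξ, hv, hm⟩⟩ := h
  have hbij : ∀ A, Function.Bijective (i.hom.app A) := fun A =>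
    ⟨Function.LeftInverse.injective (g := i.inv.app A) fun t => congr($(i.hom_inv_id_app A) t),
      Function.RightInverse.surjective (g := i.inv.app A) fun t => congr($(i.inv_hom_id_app A) t)⟩
  let ξ' : Family R.carrier R.res G :=
    { app := fun A φ => i.hom.app A (ξ.app A φ)
      natural := fun {A B} f φ => by
        rw [ξ.natural]
        exact NatTrans.naturality_apply i.hom f (ξ.app A φ) }
  refine ⟨⟨R, ξ', ?_, (hbij _).comp hm⟩⟩
  intro B A μ hμ φ y hy
  obtain ⟨y', rfl⟩ := (hbij B).2 y
  obtain ⟨ψ, h1, h2⟩ := hv μ hμ φ y' ((hbij A).1 ((NatTrans.naturality_apply i.hom μ y').trans hy))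
  exact ⟨ψ, h1, congrArg (i.hom.app B) h2⟩

end Groth.SGA7Def
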