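import Groth.Prelude.Def_ArtFun2
import Groth.Agent.ArtfunDeform.ArtBasic
import Mathlib.Tactic.LinearCombination

/-! The torsor structure of small extensions: `A' ×_A A' ≅ A' ×_k k[ε]`. -/

namespace Groth.SGA7.Deform

open CategoryTheory ArtFun ArtFun.Art

universe u v

variable {Λ k : Type u} [CommRing Λ] [Field k] [Algebra Λ k]

theorem mul_eq_zero_of_res {B : Art Λ k} {t x : B} (ht : ∀ m ∈ IsLocalRing.maximalIdeal B, m * t = 0)
    (hx : B.res x = 0) : x * t = 0 :=
  ht x ((B.mem_maximalIdeal_iff x).mpr hx)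

/-- For a small extension `f` and a self fibre product `D`, the difference map `D → k[ε]`. -/
theorem exists_diff {D A A' : Art Λ k} {p₁ p₂ : D ⟶ A'} {f : A' ⟶ A} (h : IsFibreProd p₁ p₂ f f)
    (hf : IsSmallExt f) :
    ∃ (t : A') (q : D ⟶ dual Λ k), f t = 0 ∧ t ≠ 0 ∧
      IsFibreProd p₁ q (toBase A') (toBase (dual Λ k)) ∧
      (∀ (d : D) (β : A'), p₂ d - p₁ d = β * t → q d = TrivSqZeroExt.inl (D.res d) + TrivSqZeroExt.inr (A'.res β)) ∧
      ∀ d : D, ∃ β : A', p₂ d - p₁ d = β * t := by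
  obtain ⟨-, hne, ⟨⟨t, ht⟩⟩, hm⟩ := hf
  have htk : f t = 0 := (ht ▸ Ideal.mem_span_singleton_self t : t ∈ RingHom.ker f.toAlgHom)
  have ht0 : t ≠ 0 := fun h0 => hne (by rw [ht, h0]; exact Ideal.span_singleton_eq_bot.2 rfl)
  have htm : ∀ m ∈ IsLocalRing.maximalIdeal A', m * t = 0 := fun m hm' => by
    have : m * t ∈ IsLocalRing.maximalIdeal A' * RingHom.ker f.toAlgHom := Ideal.mul_mem_mul hm' htk
    rwa [hm, Ideal.mem_bot] at this
  have huniq : ∀ β β' : A', β * t = β' * t → A'.res β = A'.res β' := by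
    intro β β' he
    by_contra hne'
    have : IsUnit (β - β') := (Groth.ArtfunDeform.isUnit_iff _).mpr (by rwa [map_sub, sub_ne_zero])
    exact ht0 ((this.mul_right_eq_zero).mp (by rw [sub_mul, he, sub_self]))
  have hres : ∀ (x y : A'), A'.res x = A'.res y → x * t = y * t := fun x y hxy => by
    have := mul_eq_zero_of_res htm (x := x - y) (by rw [map_sub, hxy, sub_self])
    rwa [sub_mul, sub_eq_zero] at this
  have hex : ∀ d : D, ∃ β : A', p₂ d - p₁ d = β * t := fun d => by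
    have : p₂ d - p₁ d ∈ RingHom.ker f.toAlgHom := by
      show f (p₂ d - p₁ d) = 0
      rw [map_sub, h.w_apply, sub_self]
    rw [ht, Ideal.mem_span_singleton'] at this
    obtain ⟨β, hβ⟩ := this
    exact ⟨β, hβ.symm⟩
  choose b hb using hex
  have key : ∀ (d : D) (β : A'), p₂ d - p₁ d = β * t → A'.res (b d) = A'.res β :=
    fun d β he => huniq _ _ ((hb d).symm.trans he)
  let g : D →ₐ[Λ] DualNumber k :=
    { toFun := fun d => (TrivSqZeroExt.inl (D.res d) + TrivSqZeroExt.inr (A'.res (b d)) : DualNumber k)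
      map_one' := by
        have h1 := key 1 0 (by simp)
        ext <;> simp [h1]
      map_zero' := by
        have h1 := key 0 0 (by simp)
        ext <;> simp [h1]
      map_add' := fun x y => by
        have h1 := key (x + y) (b x + b y) (by rw [map_add, map_add, add_mul, ← hb, ← hb]; ring)
        ext <;> simp [h1]
      map_mul' := fun x y => by
        obtain ⟨rx, hrx⟩ := A'.res_surjective (D.res x)
        obtain ⟨ry, hry⟩ := A'.res_surjective (D.res y)
        have h1 := key (x * y) (rx * b y + b x * ry) (by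
          have ex : p₁ x * t = rx * t := hres _ _ (by rw [res_app, hrx])
          have ey : p₂ y * t = ry * t := hres _ _ (by rw [res_app, hry])
          rw [map_mul, map_mul]
          linear_combination (p₂ y) * hb x + (p₁ x) * hb y + b x * ey + b y * ex)
        ext <;> simp [h1, hrx, hry]
      commutes' := fun l => by
        have h1 := key (algebraMap Λ D l) 0 (by simp)
        ext <;> simp [h1, TrivSqZeroExt.algebraMap_eq_inl'] }
  have hg : (dual Λ k).res.comp g = D.res := AlgHom.ext fun d => by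
    show TrivSqZeroExt.fst (TrivSqZeroExt.inl (D.res d) + TrivSqZeroExt.inr (A'.res (b d)) : DualNumber k) = D.res d
    simp
  refine ⟨t, homMk g hg, htk, ht0, ⟨?_, ?_, ?_⟩, fun d β he => ?_, fun d => ⟨b d, hb d⟩⟩
  · rw [eq_toBase (p₁ ≫ toBase A'), eq_toBase ((homMk g hg : D ⟶ dual Λ k) ≫ toBase _)]
  · intro d d' h1 h2
    refine h.inj _ _ h1 ?_
    have h3 : A'.res (b d) = A'.res (b d') := by
      have h2' : (TrivSqZeroExt.inl (D.res d) + TrivSqZeroExt.inr (A'.res (b d)) : DualNumber k) =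
          TrivSqZeroExt.inl (D.res d') + TrivSqZeroExt.inr (A'.res (b d')) := h2
      have := congrArg TrivSqZeroExt.snd h2'
      simpa using this
    have := hres _ _ h3
    rw [← hb, ← hb, h1] at this
    exact sub_left_injective this
  · intro a e hae
    obtain ⟨β, hβ⟩ := A'.res_surjective (TrivSqZeroExt.snd e)
    obtain ⟨d, hd1, hd2⟩ := h.surj a (a + β * t) (by rw [map_add, map_mul, htk, mul_zero, add_zero])
    refine ⟨d, hd1, ?_⟩
    have h1 := key d β (by rw [hd1, hd2, add_sub_cancel_left])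
    show (TrivSqZeroExt.inl (D.res d) + TrivSqZeroExt.inr (A'.res (b d)) : DualNumber k) = e
    refine TrivSqZeroExt.ext ?_ ?_
    · simp only [TrivSqZeroExt.fst_add, TrivSqZeroExt.fst_inl, TrivSqZeroExt.fst_inr, add_zero]
      rw [← res_app p₁ d, hd1]
      exact hae
    · simp [h1, hβ]
  · show (TrivSqZeroExt.inl (D.res d) + TrivSqZeroExt.inr (A'.res (b d)) : DualNumber k) = _
    rw [key d β he]; rfl

variable [Module.Finite Λ k]

theorem relCmp_injective_of_small {G H : Art Λ k ⥤ Type v} (ψ : G ⟶ H) (hG : S1 G ∧ Heps G)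
    (hH : ∀ ⦃B A A' A'' : Art Λ k⦄ (p' : B ⟶ A') (p'' : B ⟶ A'') (f' : A' ⟶ A) (f'' : A'' ⟶ A)
      (h : IsFibreProd p' p'' f' f''), Function.Surjective f'' → Function.Bijective (cmp H h))
    (hψ : Function.Injective (TangentSpace.map ψ)) {A A' : Art Λ k} (f : A' ⟶ A) (hf : IsSmallExt f) :
    Function.Injective (relCmp ψ f) := by
  intro y y' hyy'
  have h1 : G.map f y = G.map f y' := congrArg (fun z => z.1.1) hyy'
  have h2 : ψ.app A' y = ψ.app A' y' := congrArg (fun z => z.1.2) hyy'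
  obtain ⟨D, p₁, p₂, hD⟩ := Groth.ArtfunDeform.exists_isFibreProd f f hf.1
  obtain ⟨t, q, -, -, hq, hqval, -⟩ := exists_diff hD hf
  let Δ : A' ⟶ D := Groth.ArtfunDeform.fpLift hD (𝟙 A') (𝟙 A') rfl
  have hΔ1 : Δ ≫ p₁ = 𝟙 A' := Groth.ArtfunDeform.fpLift_fst _ _ _ _
  have hΔ2 : Δ ≫ p₂ = 𝟙 A' := Groth.ArtfunDeform.fpLift_snd _ _ _ _
  obtain ⟨η, hη⟩ := hG.1 p₁ p₂ f f hD hf.1 ⟨(y, y'), h1⟩
  have hη1 : G.map p₁ η = y := congrArg (fun z => z.1.1) hη
  have hη2 : G.map p₂ η = y' := congrArg (fun z => z.1.2) hη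
  have e1 : ∀ z : G.obj A', G.map p₁ (G.map Δ z) = z ∧ G.map p₂ (G.map Δ z) = z := fun z => by
    rw [← Functor.map_comp_apply, hΔ1, ← Functor.map_comp_apply, hΔ2]
    simp
  have hH' : ψ.app D η = ψ.app D (G.map Δ y) := by
    refine (hH p₁ p₂ f f hD hf.1).1 (Subtype.ext (Prod.ext ?_ ?_))
    · show H.map p₁ (ψ.app D η) = H.map p₁ (ψ.app D (G.map Δ y))
      rw [← NatTrans.naturality_apply ψ p₁, ← NatTrans.naturality_apply ψ p₁, hη1, (e1 y).1]
    · show H.map p₂ (ψ.app D η) = H.map p₂ (ψ.app D (G.map Δ y))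
      rw [← NatTrans.naturality_apply ψ p₂, ← NatTrans.naturality_apply ψ p₂, hη2, (e1 y).2, h2]
  have hq' : G.map q η = G.map q (G.map Δ y) := hψ (by
    show ψ.app _ (G.map q η) = ψ.app _ (G.map q (G.map Δ y))
    rw [NatTrans.naturality_apply ψ q, NatTrans.naturality_apply ψ q, hH'])
  have : η = G.map Δ y := (hG.2 p₁ q hq).1 (Subtype.ext (Prod.ext (by
    show G.map p₁ η = G.map p₁ (G.map Δ y)
    rw [hη1, (e1 y).1]) hq'))
  rw [← hη2, this, (e1 y).2]

end Groth.SGA7.Deform
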