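import Groth.Agent.SGA7.StableVal
import Mathlib.RingTheory.Polynomial.Eisenstein.Basic
import Mathlib.RingTheory.Polynomial.GaussLemma
import Mathlib.FieldTheory.Normal.Basic
import Mathlib.RingTheory.RootsOfUnity.AlgebraicallyClosed

/-! The tame theory over a discretely valued field with trivial residual Galois action. -/

set_option autoImplicit false

namespace Groth.SGA7.TameField

open IsLocalRing Groth.SGA7.Inertia Polynomial
open _root_.SGA7 (IsInertia LiesOver)

universe u

variable {R K Ω : Type u} [CommRing R] [IsDomain R] [IsDiscreteValuationRing R] [Field K] [Algebra R K]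
  [IsFractionRing R K] [Field Ω] [Algebra K Ω] [Algebra R Ω] [IsScalarTower R K Ω]
  [IsGalois K Ω] {W : ValuationSubring Ω} (hW : LiesOver K R W) (hI : ∀ σ : Ω ≃ₐ[K] Ω, IsInertia W σ)

section Basic

include hW

omit [IsGalois K Ω]

theorem algebraMap_mem (r : R) : algebraMap R Ω r ∈ W := by
  rw [IsScalarTower.algebraMap_apply R K Ω]; exact hW.1 r

theorem val_unit (u : Rˣ) : W.valuation (algebraMap R Ω u) = 1 := by
  have h := fun r : R => (W.valuation_le_one_iff _).mpr (algebraMap_mem hW r)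
  refine le_antisymm (h _) ?_
  have := congrArg (fun r => W.valuation (algebraMap R Ω r)) u.mul_inv
  simp only [map_mul, map_one] at this
  rw [← this]
  exact mul_le_of_le_one_right' (h _)

theorem val_eq_zpow {ϖ : R} (hϖ : Irreducible ϖ) (c : K) (hc : c ≠ 0) :
    ∃ i : ℤ, W.valuation (algebraMap K Ω c) = W.valuation (algebraMap R Ω ϖ) ^ i := by
  obtain ⟨a, b, hb, rfl⟩ := IsFractionRing.div_surjective R c
  have ha : a ≠ 0 := by rintro rfl; simp at hc
  have hb' : b ≠ 0 := nonZeroDivisors.ne_zero hb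
  obtain ⟨i, u, rfl⟩ := IsDiscreteValuationRing.eq_unit_mul_pow_irreducible ha hϖ
  obtain ⟨j, v, rfl⟩ := IsDiscreteValuationRing.eq_unit_mul_pow_irreducible hb' hϖ
  refine ⟨(i : ℤ) - j, ?_⟩
  have hne : W.valuation (algebraMap R Ω ϖ) ≠ 0 := by
    rw [Valuation.ne_zero_iff, IsScalarTower.algebraMap_apply R K Ω]
    exact (_root_.map_ne_zero _).mpr ((map_ne_zero_iff _ (IsFractionRing.injective R K)).mpr hϖ.ne_zero)
  rw [map_div₀, ← IsScalarTower.algebraMap_apply, ← IsScalarTower.algebraMap_apply, map_div₀, map_mul, map_mul,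
    map_mul, map_mul, val_unit hW u, val_unit hW v, one_mul, one_mul, map_pow, map_pow, map_pow, map_pow,
    zpow_sub₀ hne, zpow_natCast, zpow_natCast]

theorem mem_range_of_mem (c : K) (hc : algebraMap K Ω c ∈ W) : ∃ r : R, algebraMap R K r = c := by
  rcases eq_or_ne c 0 with rfl | hc0
  · exact ⟨0, map_zero _⟩
  rcases ValuationRing.isInteger_or_isInteger R c with h | ⟨b, hb⟩
  · exact h
  by_cases hu : IsUnit b
  · obtain ⟨u, rfl⟩ := hu
    refine ⟨((u⁻¹ : Rˣ) : R), ?_⟩
    rw [← inv_inv c, ← hb]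
    exact map_units_inv (algebraMap R K) u
  · exfalso
    have h1 := hW.2 b ((IsLocalRing.mem_maximalIdeal b).mpr hu)
    rw [hb, map_inv₀, map_inv₀, inv_lt_one₀ (zero_lt_iff.mpr ((Valuation.ne_zero_iff _).mpr ((_root_.map_ne_zero _).mpr hc0)))] at h1
    exact absurd ((W.valuation_le_one_iff _).mpr hc) (not_le.mpr h1)

end Basic

include hI

omit [Algebra R Ω] [IsScalarTower R K Ω] in
theorem stable : ∀ (σ : Ω ≃ₐ[K] Ω) (x : Ω), x ∈ W → σ x ∈ W := fun σ x hx => (hI σ x hx).1

include hW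

theorem exists_zpow {ϖ : R} (hϖ : Irreducible ϖ) (y : Ω) (hy : y ≠ 0) :
    ∃ i : ℤ, W.valuation y ^ (minpoly K y).natDegree = W.valuation (algebraMap R Ω ϖ) ^ i := by
  set p := minpoly K y
  have hint : IsIntegral K y := Algebra.IsIntegral.isIntegral y
  have hm := minpoly.monic hint
  have hsp : (p.map (algebraMap K Ω)).Splits := Normal.splits inferInstance y
  have h0 := hsp.coeff_zero_eq_prod_roots_of_monic (hm.map _)
  have hv : ∀ z ∈ (p.map (algebraMap K Ω)).roots, W.valuation z = W.valuation y := fun z hz => by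
    obtain ⟨σ, hσ⟩ := minpoly.exists_algEquiv_of_root' hint.isAlgebraic (y := y) (x := z) (by
      rw [← Polynomial.aroots_def] at hz
      exact (Polynomial.mem_aroots.mp hz).2)
    rw [← hσ, StableVal.val_eq (stable hI) σ y]
  have h1 := congrArg W.valuation h0
  rw [coeff_map, map_mul, map_pow, Valuation.map_neg, map_one, one_pow, one_mul, map_multiset_prod,
    Multiset.map_congr rfl hv, Multiset.map_const', Multiset.prod_replicate, ← hsp.natDegree_eq_card_roots,
    natDegree_map] at h1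
  obtain ⟨i, hi⟩ := val_eq_zpow hW hϖ (p.coeff 0) (minpoly.coeff_zero_ne_zero hint hy)
  exact ⟨i, h1.symm.trans hi⟩

theorem exists_zpow_of_mem {ϖ : R} (hϖ : Irreducible ϖ) (L : IntermediateField K Ω) [FiniteDimensional K L]
    {y : Ω} (hyL : y ∈ L) (hy : y ≠ 0) :
    ∃ i : ℤ, W.valuation y ^ Module.finrank K L = W.valuation (algebraMap R Ω ϖ) ^ i := by
  obtain ⟨i, hi⟩ := exists_zpow hW hI hϖ y hy
  have hd : (minpoly K y).natDegree ∣ Module.finrank K L := by
    rw [← IntermediateField.adjoin.finrank (Algebra.IsIntegral.isIntegral y)]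
    exact IntermediateField.finrank_dvd_of_le_right (IntermediateField.adjoin_simple_le_iff.mpr hyL)
  obtain ⟨c, hc⟩ := hd
  exact ⟨i * c, by rw [hc, pow_mul, hi, zpow_mul, zpow_natCast]⟩

theorem isIntegral_of_mem {x : Ω} (hx : x ∈ W) : IsIntegral R x := by
  set p := minpoly K x
  have hint : IsIntegral K x := Algebra.IsIntegral.isIntegral x
  have hm := minpoly.monic hint
  have hsp : (p.map (algebraMap K Ω)).Splits := Normal.splits inferInstance x
  have hlift : (p.map (algebraMap K Ω)) ∈ lifts W.subtype := by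
    rw [hsp.eq_prod_roots_of_monic (hm.map _)]
    refine multiset_prod_mem _ fun q hq => ?_
    obtain ⟨z, hz, rfl⟩ := Multiset.mem_map.mp hq
    obtain ⟨σ, hσ⟩ := minpoly.exists_algEquiv_of_root' hint.isAlgebraic (y := x) (x := z) (by
      rw [← Polynomial.aroots_def] at hz
      exact (Polynomial.mem_aroots.mp hz).2)
    rw [← hσ]
    exact ⟨X - C ⟨σ x, (hI σ x hx).1⟩, by simp⟩
  have hcoef : p ∈ lifts (algebraMap R K) := by
    rw [lifts_iff_coeff_lifts]
    intro n
    have h := (lifts_iff_coeff_lifts _).mp hlift n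
    obtain ⟨w, hw⟩ := h
    rw [coeff_map] at hw
    exact mem_range_of_mem hW _ (hw ▸ w.2)
  obtain ⟨q, hq, -, hqm⟩ := lifts_and_degree_eq_and_monic hcoef hm
  refine ⟨q, hqm, ?_⟩
  rw [← aeval_def, ← aeval_map_algebraMap K, hq]
  exact minpoly.aeval K x

omit [Algebra R Ω] [IsScalarTower R K Ω] in
theorem root_of_unity_mem {n : ℕ} (hn : res W (n : Ω) ≠ 0) {ζ : Ω} (hζ : ζ ^ n = 1) :
    ζ ∈ Set.range (algebraMap K Ω) := by
  have hn0 : n ≠ 0 := fun h => hn (by rw [h, Nat.cast_zero, res_of_mem W.zero_mem]; exact map_zero _)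
  have hζ0 : ζ ≠ 0 := by rintro rfl; simp [zero_pow hn0] at hζ
  refine (InfiniteGalois.mem_range_algebraMap_iff_fixed ζ).mpr fun σ => ?_
  have hv : W.valuation (σ ζ / ζ) = 1 := StableVal.val_div (stable hI) hζ0
  have hzv : W.valuation ζ = 1 := (pow_eq_one_iff.mp (by rw [← map_pow, hζ, map_one] : W.valuation ζ ^ n = 1)).resolve_right hn0
  have hzW : ζ ∈ W := mem_of_val_eq_one hzv
  have hres : res W (σ ζ / ζ) = 1 := by
    have h2 := res_mul (mem_of_val_eq_one hv) hzW
    rw [div_mul_cancel₀ _ hζ0, res_inertia (hI σ) hzW] at h2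
    exact mul_right_cancel₀ (res_ne_zero hzv) (h2.symm.trans (one_mul _).symm)
  have hN : (n : ResidueField W) ≠ 0 := by
    rw [res_of_mem (natCast_mem W n)] at hn
    rw [← map_natCast (residue W)]; exact hn
  have h3 := HenselVal.eq_one_of_map_eq_one (residue W) (η := (⟨σ ζ / ζ, mem_of_val_eq_one hv⟩ : W)) (N := n)
    (Subtype.ext (show (σ ζ / ζ) ^ n = 1 by rw [div_pow, ← map_pow, hζ, map_one, div_one])) hN
    (by rw [← res_of_mem]; exact hres)
  have h4 : σ ζ / ζ = 1 := congrArg Subtype.val h3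
  rwa [div_eq_one_iff_eq hζ0] at h4

theorem natCast_ne_zero {n : ℕ} (hn : (n : ResidueField R) ≠ 0) : res W (n : Ω) ≠ 0 := by
  refine res_ne_zero ?_
  have hu : IsUnit (n : R) := by
    by_contra h
    exact hn (by rw [← map_natCast (residue R)]; exact (residue_eq_zero_iff _).mpr h)
  obtain ⟨u, hu⟩ := hu
  have := val_unit hW u
  rwa [hu, map_natCast] at this

omit hI hW

omit [IsGalois K Ω] [Algebra R Ω] [IsScalarTower R K Ω] in
theorem irreducible_X_pow_sub {ϖ : R} (hϖ : Irreducible ϖ) {n : ℕ} (hn : 0 < n) :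
    Irreducible ((Polynomial.X : K[X]) ^ n - Polynomial.C (algebraMap R K ϖ)) := by
  have hp : Prime ϖ := hϖ.prime
  have hm : ((X : R[X]) ^ n - C ϖ).Monic := monic_X_pow_sub_C _ hn.ne'
  have hd : ((X : R[X]) ^ n - C ϖ).natDegree = n := natDegree_X_pow_sub_C
  have he : ((X : R[X]) ^ n - C ϖ).IsEisensteinAt (Ideal.span {ϖ}) :=
    { leading := by
        rw [hm.leadingCoeff, Ideal.mem_span_singleton]
        exact fun h => hp.not_unit (isUnit_of_dvd_one h)
      mem := fun {i} hi => by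
        rw [hd] at hi
        rw [coeff_sub, coeff_X_pow, if_neg hi.ne, zero_sub, neg_mem_iff, coeff_C]
        split_ifs
        · exact Ideal.mem_span_singleton_self ϖ
        · exact zero_mem _
      notMem := by
        rw [coeff_sub, coeff_X_pow, if_neg hn.ne, coeff_C_zero, zero_sub, neg_mem_iff, Ideal.span_singleton_pow,
          Ideal.mem_span_singleton]
        intro h
        have h2 : ϖ * ϖ ∣ ϖ * 1 := by rw [mul_one, ← sq]; exact h
        exact hp.not_unit (isUnit_of_dvd_one ((mul_dvd_mul_iff_left hp.ne_zero).mp h2)) }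
  have hirr := he.irreducible ((Ideal.span_singleton_prime hp.ne_zero).mpr hp) hm.isPrimitive (by rw [hd]; exact hn)
  have := (hm.irreducible_iff_irreducible_map_fraction_map (K := K)).mp hirr
  simpa using this

theorem minpoly_kummer {ϖ : R} (hϖ : Irreducible ϖ) {n : ℕ} (hn : 0 < n) {ρ : Ω}
    (hρ : ρ ^ n = algebraMap R Ω ϖ) : minpoly K ρ = X ^ n - C (algebraMap R K ϖ) := by
  refine (minpoly.eq_of_irreducible_of_monic (irreducible_X_pow_sub hϖ hn) ?_ (monic_X_pow_sub_C _ hn.ne')).symm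
  simp [hρ, ← IsScalarTower.algebraMap_apply]

/-- Every root of unity occurs as `σ ρ / ρ`. -/
theorem exists_character {ϖ : R} (hϖ : Irreducible ϖ) {n : ℕ} (hn : 0 < n) {ρ : Ω}
    (hρ : ρ ^ n = algebraMap R Ω ϖ) {ξ : Ω} (hξ : ξ ^ n = 1) : ∃ σ : Ω ≃ₐ[K] Ω, σ ρ = ξ * ρ := by
  refine minpoly.exists_algEquiv_of_root' (Algebra.IsIntegral.isIntegral (R := K) ρ).isAlgebraic ?_
  rw [minpoly_kummer hϖ hn hρ]
  simp [mul_pow, hξ, hρ, ← IsScalarTower.algebraMap_apply]

theorem finrank_kummer {ϖ : R} (hϖ : Irreducible ϖ) {n : ℕ} (hn : 0 < n) {ρ : Ω}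
    (hρ : ρ ^ n = algebraMap R Ω ϖ) : Module.finrank K (IntermediateField.adjoin K {ρ}) = n := by
  rw [IntermediateField.adjoin.finrank (Algebra.IsIntegral.isIntegral ρ), minpoly_kummer hϖ hn hρ,
    natDegree_X_pow_sub_C]

include hI hW

/-- The residue of `δ y / y` vanishes when `δ` fixes a root of the uniformizer of the same index. -/
theorem res_eq_one_of_fix {ϖ : R} (hϖ : Irreducible ϖ) {n : ℕ} (hn : 0 < n) {ρ : Ω}
    (hρ : ρ ^ n = algebraMap R Ω ϖ) {δ : Ω ≃ₐ[K] Ω} (hδ : δ ρ = ρ) {y : Ω} (hy : y ≠ 0) {i : ℤ}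
    (hi : W.valuation y ^ n = W.valuation (algebraMap R Ω ϖ) ^ i) : res W (δ y / y) = 1 := by
  have hπ : algebraMap R Ω ϖ ≠ 0 := by
    rw [IsScalarTower.algebraMap_apply R K Ω]
    exact (_root_.map_ne_zero _).mpr ((map_ne_zero_iff _ (IsFractionRing.injective R K)).mpr hϖ.ne_zero)
  have hρ0 : ρ ≠ 0 := by
    rintro rfl
    rw [zero_pow hn.ne'] at hρ
    exact hπ hρ.symm
  set z := y / ρ ^ i
  have hz0 : z ≠ 0 := div_ne_zero hy (zpow_ne_zero _ hρ0)
  have hz : W.valuation z = 1 := by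
    refine (pow_eq_one_iff.mp (?_ : W.valuation z ^ n = 1)).resolve_right hn.ne'
    rw [← map_pow, div_pow, map_div₀, map_pow, hi, ← zpow_natCast (ρ ^ i), ← zpow_mul, mul_comm, zpow_mul,
      zpow_natCast, hρ, map_zpow₀, div_self (zpow_ne_zero _ ((Valuation.ne_zero_iff _).mpr hπ))]
  have hzW := mem_of_val_eq_one hz
  have hdiv := StableVal.val_div (stable hI) (σ := δ) hz0
  have h1 : res W (δ z / z) = 1 := by
    have h2 := res_mul (mem_of_val_eq_one hdiv) hzW
    rw [div_mul_cancel₀ _ hz0, res_inertia (hI δ) hzW] at h2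
    exact mul_right_cancel₀ (res_ne_zero hz) (h2.symm.trans (one_mul _).symm)
  rwa [show δ z / z = δ y / y by
    simp only [z, map_div₀, map_zpow₀, hδ]
    field_simp] at h1

end Groth.SGA7.TameField
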