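import Groth.Agent.VectorBundles.RegularNormal
import Mathlib

/-! The normalization of a cyclic cover branched along a regular divisor is regular. -/

namespace Groth.SGA7.CyclicCover

universe u

open IsLocalRing Polynomial

/-- Square-zero perturbations of a simple root of `X ^ d = c` are trivial. -/
theorem eq_of_pow_eq {R : Type*} [CommRing R] {x y : R} {d : ℕ} (hx : IsUnit x) (hd : IsUnit (d : R))
    (hε : (y - x) ^ 2 = 0) (h : y ^ d = x ^ d) : y = x := by
  have e := Polynomial.eval_add_of_sq_eq_zero (X ^ d : R[X]) x (y - x) hε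
  simp only [eval_pow, eval_X, derivative_X_pow, eval_mul, eval_C, add_sub_cancel, h, left_eq_add] at e
  exact sub_eq_zero.mp ((hd.mul (hx.pow _)).mul_right_eq_zero.mp e)

/-- Same for units. -/
theorem units_eq_of_pow_eq {R : Type*} [CommRing R] {x y : Rˣ} {d : ℕ} (hd : IsUnit (d : R))
    (hε : ((y : R) - x) ^ 2 = 0) (h : y ^ d = x ^ d) : y = x :=
  Units.ext (eq_of_pow_eq x.isUnit hd hε (by rw [← Units.val_pow_eq_pow_val, h, Units.val_pow_eq_pow_val]))

/-- The data of a cyclic cover away from the branch divisor. -/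
structure Data (B K : Type u) [CommRing B] [CommRing K] [Algebra B K] where
  N : ℕ
  α : ℕ
  hN : 0 < N
  f : B
  u : Bˣ
  T : Kˣ
  Φ : Kˣ
  hΦ : (Φ : K) = algebraMap B K f
  hT : T ^ N = Units.map (algebraMap B K).toMonoidHom u * Φ ^ α

variable {B K : Type u} [CommRing B] [CommRing K] [Algebra B K] (D : Data B K)

/-- The image of the unit. -/
def Data.U : Kˣ := Units.map (algebraMap B K).toMonoidHom D.u

/-- The generators. -/
def Data.e (i : ℤ) : Kˣ := D.T ^ i * D.Φ ^ (-(i * D.α / D.N) : ℤ)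

/-- The subalgebra generated by the `e`. -/
def Data.alg : Subalgebra B K := Algebra.adjoin B (Set.range fun r : Fin D.N => (D.e (r : ℕ) : K))

/-- Their span. -/
def Data.spanE : Submodule B K := Submodule.span B (Set.range fun r : Fin D.N => (D.e (r : ℕ) : K))

theorem Data.hT' : D.T ^ (D.N : ℤ) = D.U * D.Φ ^ (D.α : ℤ) := by
  rw [zpow_natCast, zpow_natCast]; exact D.hT

theorem Data.e_add_mul (r l : ℤ) : D.e (r + D.N * l) = D.e r * D.U ^ l := by
  have hq : (r + D.N * l) * D.α / D.N = r * D.α / D.N + D.α * l := by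
    rw [show (r + D.N * l) * D.α = r * D.α + (D.N : ℤ) * (D.α * l) by ring,
      Int.add_mul_ediv_left _ _ (by exact_mod_cast D.hN.ne')]
  rw [Data.e, Data.e, hq, zpow_add, zpow_mul, D.hT', mul_zpow, ← zpow_mul, neg_add, zpow_add]
  rw [show D.T ^ r * (D.U ^ l * D.Φ ^ ((D.α : ℤ) * l)) * (D.Φ ^ (-(r * D.α / D.N) : ℤ) * D.Φ ^ (-((D.α : ℤ) * l))) =
    D.T ^ r * D.Φ ^ (-(r * D.α / D.N) : ℤ) * D.U ^ l * (D.Φ ^ ((D.α : ℤ) * l) * D.Φ ^ (-((D.α : ℤ) * l))) by
      simp only [mul_assoc, mul_left_comm, mul_comm]]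
  rw [← zpow_add, add_neg_cancel, zpow_zero, mul_one]

theorem Data.U_zpow_mem (l : ℤ) : ∃ c : B, algebraMap B K c = ((D.U ^ l : Kˣ) : K) :=
  ⟨((D.u ^ l : Bˣ) : B), by rw [Data.U, ← map_zpow]; rfl⟩

theorem Data.e_mem_spanE (i : ℤ) : (D.e i : K) ∈ D.spanE := by
  have hN : (0 : ℤ) < D.N := by exact_mod_cast D.hN
  obtain ⟨r, hr⟩ := Int.eq_ofNat_of_zero_le (Int.emod_nonneg i hN.ne')
  have hlt : r < D.N := by
    have := Int.emod_lt_of_pos i hN
    rw [hr] at this
    exact_mod_cast this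
  obtain ⟨c, hc⟩ := D.U_zpow_mem (i / D.N)
  rw [← Int.emod_add_mul_ediv i D.N, hr, D.e_add_mul, Units.val_mul, ← hc, mul_comm, ← Algebra.smul_def]
  exact Submodule.smul_mem _ _ (Submodule.subset_span ⟨⟨r, hlt⟩, rfl⟩)

theorem Data.mul_e (i j : ℤ) : ∃ n : ℕ, D.e i * D.e j = D.e (i + j) * D.Φ ^ n := by
  have hN : (0 : ℤ) < D.N := by exact_mod_cast D.hN
  obtain ⟨n, hn⟩ : ∃ n : ℕ, ((i + j) * D.α / D.N : ℤ) - i * D.α / D.N - j * D.α / D.N = n := by
    refine Int.eq_ofNat_of_zero_le ?_
    have : i * D.α / D.N + j * D.α / D.N ≤ (i + j) * D.α / D.N := by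
      rw [Int.le_ediv_iff_mul_le hN, add_mul, add_mul]
      exact add_le_add (Int.ediv_mul_le _ hN.ne') (Int.ediv_mul_le _ hN.ne')
    omega
  refine ⟨n, ?_⟩
  rw [Data.e, Data.e, Data.e, ← zpow_natCast D.Φ n, ← hn, mul_mul_mul_comm, ← zpow_add, ← zpow_add, mul_assoc,
    ← zpow_add]
  congr 2
  ring

theorem Data.spanE_mul {x y : K} (hx : x ∈ D.spanE) (hy : y ∈ D.spanE) : x * y ∈ D.spanE := by
  induction hx using Submodule.span_induction with
  | mem x hx =>
    obtain ⟨r, rfl⟩ := hx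
    induction hy using Submodule.span_induction with
    | mem y hy =>
      obtain ⟨r', rfl⟩ := hy
      obtain ⟨n, hn⟩ := D.mul_e (r : ℕ) (r' : ℕ)
      show (D.e (r : ℕ) : K) * (D.e (r' : ℕ) : K) ∈ _
      rw [← Units.val_mul, hn, Units.val_mul, Units.val_pow_eq_pow_val, D.hΦ, ← map_pow, mul_comm,
        ← Algebra.smul_def]
      exact Submodule.smul_mem _ _ (D.e_mem_spanE _)
    | zero => simp
    | add a b _ _ ha hb => rw [mul_add]; exact add_mem ha hb
    | smul c a _ ha => rw [mul_smul_comm]; exact Submodule.smul_mem _ _ ha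
  | zero => simp
  | add a b _ _ ha hb => rw [add_mul]; exact add_mem ha hb
  | smul c a _ ha => rw [smul_mul_assoc]; exact Submodule.smul_mem _ _ ha

theorem Data.one_mem_spanE : (1 : K) ∈ D.spanE := by
  simpa [Data.e] using D.e_mem_spanE 0

theorem Data.toSubmodule_alg : D.alg.toSubmodule = D.spanE := by
  refine le_antisymm ?_ (Submodule.span_le.mpr Algebra.subset_adjoin)
  intro x hx
  exact (Algebra.adjoin_le (S := D.spanE.toSubalgebra D.one_mem_spanE fun _ _ => D.spanE_mul)
    Submodule.subset_span : D.alg ≤ _) hx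

theorem Data.e_mem (i : ℤ) : (D.e i : K) ∈ D.alg := by
  have := D.e_mem_spanE i
  rwa [← D.toSubmodule_alg] at this

theorem Data.Φ_mem : (D.Φ : K) ∈ D.alg := D.hΦ ▸ D.alg.algebraMap_mem _

theorem Data.T_mem : (D.T : K) ∈ D.alg := by
  obtain ⟨n, hn⟩ := Int.eq_ofNat_of_zero_le (a := (1 : ℤ) * D.α / D.N) (by positivity)
  have e : D.T = D.e 1 * D.Φ ^ n := by
    rw [Data.e, hn, zpow_one, zpow_neg, zpow_natCast, inv_mul_cancel_right]
  rw [e, Units.val_mul, Units.val_pow_eq_pow_val]
  exact mul_mem (D.e_mem _) (pow_mem D.Φ_mem _)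

theorem Data.finite : Module.Finite B D.alg := by
  have h : D.alg.toSubmodule.FG := by
    rw [D.toSubmodule_alg]
    exact Submodule.fg_span (Set.finite_range _)
  exact Module.Finite.iff_fg.mpr h

/-- Independence of the powers of `T`. -/
def Data.Indep : Prop := ∀ c : Fin D.N → B, ∑ r, c r • ((D.T : K) ^ (r : ℕ)) = 0 → ∀ r, c r = 0

theorem Data.free [IsDomain B] (hf : D.f ≠ 0) (hli : D.Indep) : Module.Free B D.alg := by
  have hind : LinearIndependent B fun r : Fin D.N => (D.e (r : ℕ) : K) := by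
    rw [Fintype.linearIndependent_iff]
    intro c hc r
    have key : ∀ r : Fin D.N, (D.e (r : ℕ) : K) * algebraMap B K D.f ^ D.α =
        algebraMap B K D.f ^ (D.α - (r : ℕ) * D.α / D.N) * (D.T : K) ^ (r : ℕ) := fun r => by
      have hle : (r : ℕ) * D.α / D.N ≤ D.α :=
        Nat.div_le_of_le_mul (Nat.mul_le_mul_right _ r.2.le)
      have hu : D.e (r : ℕ) * D.Φ ^ D.α = D.Φ ^ (D.α - (r : ℕ) * D.α / D.N) * D.T ^ (r : ℕ) := by
        rw [Data.e, ← zpow_natCast D.Φ D.α, mul_assoc, ← zpow_add, zpow_natCast, mul_comm]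
        congr 1
        rw [← zpow_natCast D.Φ (_ - _), Nat.cast_sub hle]
        congr 1
        push_cast
        ring
      rw [← D.hΦ, ← Units.val_pow_eq_pow_val, ← Units.val_pow_eq_pow_val, ← Units.val_pow_eq_pow_val,
        ← Units.val_mul, ← Units.val_mul, hu]
    have := hli (fun r => c r * D.f ^ (D.α - (r : ℕ) * D.α / D.N)) (by
      calc ∑ r : Fin D.N, (c r * D.f ^ (D.α - (r : ℕ) * D.α / D.N)) • ((D.T : K) ^ (r : ℕ))
          = (∑ r, c r • (D.e (r : ℕ) : K)) * algebraMap B K D.f ^ D.α := by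
            rw [Finset.sum_mul]
            refine Finset.sum_congr rfl fun r _ => ?_
            rw [smul_mul_assoc, key, mul_smul, ← map_pow, ← Algebra.smul_def]
        _ = 0 := by rw [hc, zero_mul]) r
    exact (mul_eq_zero.mp this).resolve_right (pow_ne_zero _ hf)
  have h : Module.Free B D.spanE := Module.Free.of_basis (Module.Basis.span hind)
  rw [← D.toSubmodule_alg] at h
  exact h

/-- The two elements `w` and `s` generating the cover. -/
structure Data.Gens where
  d : ℕ
  m : ℕ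
  hdm : d * m = D.N
  w : Kˣ
  s : Kˣ
  a : ℤ
  hw : w ^ d = D.U
  hs : s ^ m = w ^ a * D.Φ
  hwA : (w : K) ∈ D.alg
  hwA' : ((w⁻¹ : Kˣ) : K) ∈ D.alg
  hsA : (s : K) ∈ D.alg
  he : ∀ r : Fin D.N, ∃ (x : ℤ) (y : ℕ), D.e (r : ℕ) = w ^ x * s ^ y

theorem Data.exists_gens : Nonempty D.Gens := by
  let d := Nat.gcd D.α D.N
  obtain ⟨β, hβ⟩ := Nat.gcd_dvd_left D.α D.N
  obtain ⟨m, hm⟩ := Nat.gcd_dvd_right D.α D.N
  have hd : 0 < d := Nat.gcd_pos_of_pos_right _ D.hN
  have hm0 : 0 < m := by
    rcases Nat.eq_zero_or_pos m with h | h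
    · exact absurd (hm.trans (by rw [h, mul_zero])) D.hN.ne'
    · exact h
  have hg := Nat.gcd_eq_gcd_ab D.α D.N
  set a := Nat.gcdA D.α D.N
  set b := -Nat.gcdB D.α D.N with hb
  have hαZ : (D.α : ℤ) = d * β := by exact_mod_cast hβ
  have hNZ : (D.N : ℤ) = d * m := by exact_mod_cast hm
  have hab : a * β - b * m = 1 := by
    refine mul_left_cancel₀ (show (d : ℤ) ≠ 0 by exact_mod_cast hd.ne') ?_
    rw [mul_one, hb]
    calc (d : ℤ) * (a * β - -Nat.gcdB D.α D.N * m) = (d * β) * a + (d * m) * Nat.gcdB D.α D.N := by ring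
      _ = _ := by rw [← hαZ, ← hNZ]; exact hg.symm
  have hq : ∀ i : ℤ, i * D.α / D.N = i * β / m := fun i => by
    rw [hαZ, hNZ, show i * (↑d * ↑β) = (d : ℤ) * (i * β) by ring,
      Int.mul_ediv_mul_of_pos _ _ (by exact_mod_cast hd)]
  let w : Kˣ := D.T ^ (m : ℤ) * D.Φ ^ (-(β : ℤ))
  let s : Kˣ := D.T ^ a * D.Φ ^ (-b)
  have hmZ : (m : ℤ) ≠ 0 := by exact_mod_cast hm0.ne'
  have hw : w = D.e m := by
    rw [Data.e, hq, Int.mul_ediv_cancel_left _ hmZ]
  have hw' : w⁻¹ = D.e (-m) := by
    rw [Data.e, hq, neg_mul, ← mul_neg, Int.mul_ediv_cancel_left _ hmZ, neg_neg, mul_inv, ← zpow_neg, ← zpow_neg,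
      neg_neg]
  refine ⟨⟨d, m, hm.symm, w, s, a, ?_, ?_, hw ▸ D.e_mem _, hw' ▸ D.e_mem _, ?_, fun r => ?_⟩⟩
  · rw [← zpow_natCast, mul_zpow, ← zpow_mul, ← zpow_mul, mul_comm (m : ℤ), ← hNZ, D.hT', mul_assoc, ← zpow_add,
      show (D.α : ℤ) + -(β : ℤ) * d = 0 by rw [hαZ]; ring, zpow_zero, mul_one]
  · rw [← zpow_natCast s m, mul_zpow, mul_zpow, ← zpow_mul, ← zpow_mul, ← zpow_mul, ← zpow_mul, mul_assoc,
      mul_comm a (m : ℤ)]
    conv_rhs => rw [← zpow_add_one]
    congr 2
    linear_combination hab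
  · obtain ⟨n, hn⟩ := Int.eq_ofNat_of_zero_le (a := (1 : ℤ) / m) (Int.ediv_nonneg zero_le_one (by positivity))
    have e : s = D.e a * D.Φ ^ n := by
      show D.T ^ a * D.Φ ^ (-b) = _
      rw [Data.e, hq, show a * β = 1 + (m : ℤ) * b by linear_combination hab, Int.add_mul_ediv_left _ _ hmZ, hn,
        mul_assoc, ← zpow_natCast D.Φ n, ← zpow_add]
      congr 2
      ring
    rw [e, Units.val_mul, Units.val_pow_eq_pow_val]
    exact mul_mem (D.e_mem _) (pow_mem D.Φ_mem _)
  · set i : ℤ := ((r : ℕ) : ℤ)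
    obtain ⟨y, hy⟩ := Int.eq_ofNat_of_zero_le (Int.emod_nonneg (i * β) hmZ)
    refine ⟨a * (i * β / m) - i * b, y, ?_⟩
    have hy' : (y : ℤ) = i * β - m * (i * β / m) := by rw [← hy, Int.emod_def]
    rw [Data.e, hq, ← zpow_natCast s y, hy', mul_zpow, mul_zpow, ← zpow_mul, ← zpow_mul, ← zpow_mul, ← zpow_mul,
      mul_mul_mul_comm, ← zpow_add, ← zpow_add]
    congr 2
    · linear_combination (-i) * hab
    · linear_combination (i * β / m) * hab

variable {D} (G : D.Gens)

/-- `w` in the algebra. -/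
def Data.Gens.wA : D.algˣ :=
  ⟨⟨G.w, G.hwA⟩, ⟨((G.w⁻¹ : Kˣ) : K), G.hwA'⟩, Subtype.ext G.w.mul_inv, Subtype.ext G.w.inv_mul⟩

theorem Data.Gens.wA_pow : ((G.wA : D.alg) ^ G.d) = algebraMap B D.alg D.u := by
  apply Subtype.ext
  show (G.w : K) ^ G.d = _
  rw [← Units.val_pow_eq_pow_val, G.hw]
  rfl

theorem Data.Gens.sA_pow :
    (⟨G.s, G.hsA⟩ : D.alg) ^ G.m = ((G.wA ^ G.a : D.algˣ) : D.alg) * algebraMap B D.alg D.f := by
  apply Subtype.ext
  have h : Units.map (D.alg.val : D.alg →+* K).toMonoidHom G.wA = G.w := Units.ext rfl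
  have h2 : (((G.wA ^ G.a : D.algˣ) : D.alg) : K) = ((G.w ^ G.a : Kˣ) : K) := by
    conv_rhs => rw [← h, ← map_zpow]
    rfl
  show (G.s : K) ^ G.m = (((G.wA ^ G.a : D.algˣ) : D.alg) : K) * algebraMap B K D.f
  rw [← Units.val_pow_eq_pow_val, G.hs, Units.val_mul, D.hΦ, h2]

/-- A map out of the cover is determined by `w` and `s`. -/
theorem Data.Gens.hom_ext {S : Type*} [CommRing S] {g h : D.alg →+* S}
    (hB : ∀ b, g (algebraMap B D.alg b) = h (algebraMap B D.alg b)) (hw : g G.wA = h G.wA)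
    (hs : g ⟨G.s, G.hsA⟩ = h ⟨G.s, G.hsA⟩) : g = h := by
  refine RingHom.ext fun x => ?_
  obtain ⟨x, hx⟩ := x
  revert hx
  show ∀ hx : x ∈ D.alg, _
  intro hx
  have hx' : x ∈ Algebra.adjoin B (Set.range fun r : Fin D.N => (D.e (r : ℕ) : K)) := hx
  induction hx' using Algebra.adjoin_induction with
  | mem x hx' =>
    obtain ⟨r, rfl⟩ := hx'
    obtain ⟨i, y, e⟩ := G.he r
    have hz : (⟨_, hx⟩ : D.alg) = ((G.wA ^ i : D.algˣ) : D.alg) * ⟨G.s, G.hsA⟩ ^ y := by
      apply Subtype.ext
      show (D.e (r : ℕ) : K) = (((G.wA ^ i : D.algˣ) : D.alg) : K) * (G.s : K) ^ y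
      have h' : Units.map (D.alg.val : D.alg →+* K).toMonoidHom G.wA = G.w := Units.ext rfl
      rw [e, Units.val_mul, Units.val_pow_eq_pow_val]
      congr 1
      conv_lhs => rw [← h', ← map_zpow]
      rfl
    rw [hz, map_mul, map_mul, map_pow, map_pow, hs]
    congr 1
    have : Units.map g.toMonoidHom G.wA = Units.map h.toMonoidHom G.wA := Units.ext hw
    have := congrArg (fun v : Sˣ => ((v ^ i : Sˣ) : S)) this
    simpa [← map_zpow] using this
  | algebraMap b => exact hB b
  | add x y hx' hy' px py =>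
    rw [show (⟨x + y, hx⟩ : D.alg) = ⟨x, hx'⟩ + ⟨y, hy'⟩ from rfl, map_add, map_add, px hx', py hy']
  | mul x y hx' hy' px py =>
    rw [show (⟨x * y, hx⟩ : D.alg) = ⟨x, hx'⟩ * ⟨y, hy'⟩ from rfl, map_mul, map_mul, px hx', py hy']

/-- Quotients of localizations of the cover on which `s` vanishes or is invertible are unramified over the base. -/
theorem Data.Gens.formallyUnramified (hN : IsUnit (D.N : B)) (C : Type u) [CommRing C] [Algebra B C]
    (g : D.alg →ₐ[B] C)
    (hepi : ∀ (S : Type u) [CommRing S] (g₁ g₂ : C →+* S), g₁.comp g.toRingHom = g₂.comp g.toRingHom → g₁ = g₂)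
    (hs : g ⟨G.s, G.hsA⟩ = 0 ∨ IsUnit (g ⟨G.s, G.hsA⟩)) : Algebra.FormallyUnramified B C := by
  rw [Algebra.FormallyUnramified.iff_comp_injective]
  intro S _ _ I hI g₁ g₂ h12
  have hsq : ∀ c : C, (g₁ c - g₂ c) ^ 2 = 0 := fun c => by
    have hc : g₁ c - g₂ c ∈ I := Ideal.Quotient.eq.mp (congr($h12 c))
    rw [← Ideal.mem_bot, ← hI]
    exact Ideal.pow_mem_pow hc 2
  have hdm : IsUnit ((G.d : ℕ) : S) ∧ IsUnit ((G.m : ℕ) : S) := by
    have h := hN.map (algebraMap B S)
    rw [map_natCast, ← G.hdm, Nat.cast_mul] at h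
    exact IsUnit.mul_iff.mp h
  have hw : g₁ (g G.wA) = g₂ (g G.wA) := eq_of_pow_eq ((G.wA.isUnit.map g).map g₂) hdm.1 (hsq _) (by
    simp only [← map_pow, G.wA_pow, AlgHom.commutes])
  have hs' : g₁ (g ⟨G.s, G.hsA⟩) = g₂ (g ⟨G.s, G.hsA⟩) := by
    rcases hs with h0 | hu
    · rw [h0, map_zero, map_zero]
    · refine eq_of_pow_eq (hu.map g₂) hdm.2 (hsq _) ?_
      have hwu : Units.map ((g₁.comp g).toRingHom).toMonoidHom G.wA =
          Units.map ((g₂.comp g).toRingHom).toMonoidHom G.wA := Units.ext hw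
      have h3 := congrArg (fun v : Sˣ => ((v ^ G.a : Sˣ) : S)) hwu
      simp only [← map_zpow] at h3
      simp only [← map_pow, G.sA_pow, map_mul, AlgHom.commutes]
      exact congrArg (· * _) h3
  refine AlgHom.ext fun c => RingHom.congr_fun (hepi S g₁.toRingHom g₂.toRingHom
    (G.hom_ext (g := g₁.toRingHom.comp g.toRingHom) (h := g₂.toRingHom.comp g.toRingHom) (fun b => ?_) hw hs')) c
  show g₁ (g (algebraMap B _ b)) = g₂ (g (algebraMap B _ b))
  simp only [AlgHom.commutes]

/-- Generators of the maximal ideal of a regular local ring adapted to a regular divisor. -/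
theorem exists_gens_of_regular_divisor {B : Type u} [CommRing B] [IsDomain B] [IsNoetherianRing B] {f : B}
    (hf : f ≠ 0) (hD : ∀ (P : Ideal (B ⧸ Ideal.span ({f} : Set B))) [P.IsPrime],
      IsRegularLocalRing (Localization.AtPrime P))
    (P : Ideal B) [P.IsPrime] (hfP : f ∈ P) :
    ∃ S : Finset (Localization.AtPrime P), (S.card : WithBot ℕ∞) + 1 ≤ P.height ∧
      maximalIdeal (Localization.AtPrime P) =
        Ideal.span {algebraMap B (Localization.AtPrime P) f} ⊔ Ideal.span (S : Set (Localization.AtPrime P)) := by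
  classical
  let q := Ideal.Quotient.mk (Ideal.span ({f} : Set B))
  have hle : Ideal.span ({f} : Set B) ≤ P := Ideal.span_le.mpr (by simpa using hfP)
  have : (P.map q).IsPrime := Ideal.map_isPrime_of_surjective Ideal.Quotient.mk_surjective (by rwa [Ideal.mk_ker])
  have hPc : P = (P.map q).comap q := by
    rw [Ideal.comap_map_of_surjective _ Ideal.Quotient.mk_surjective, ← RingHom.ker_eq_comap_bot, Ideal.mk_ker,
      sup_eq_left.mpr hle]
  let R := Localization.AtPrime P
  let ψ : R →+* Localization.AtPrime (P.map q) := Localization.localRingHom P (P.map q) q hPc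
  set x : R := algebraMap B R f
  have hψ : Function.Surjective ψ := fun z => by
    obtain ⟨c, ⟨t, ht⟩, rfl⟩ := IsLocalization.exists_mk'_eq (P.map q).primeCompl z
    obtain ⟨c, rfl⟩ := Ideal.Quotient.mk_surjective c
    obtain ⟨t, rfl⟩ := Ideal.Quotient.mk_surjective t
    refine ⟨IsLocalization.mk' R c (⟨t, fun h => ht (Ideal.mem_map_of_mem q h)⟩ : P.primeCompl), ?_⟩
    rw [Localization.localRingHom_mk']
  have hker : RingHom.ker ψ = Ideal.span {x} := by
    refine le_antisymm (fun z hz => ?_) (Ideal.span_le.mpr (Set.singleton_subset_iff.mpr ?_))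
    · obtain ⟨c, t, rfl⟩ := IsLocalization.exists_mk'_eq P.primeCompl z
      rw [RingHom.mem_ker, Localization.localRingHom_mk', IsLocalization.mk'_eq_zero_iff] at hz
      obtain ⟨⟨v, hv⟩, hvc⟩ := hz
      obtain ⟨v, rfl⟩ := Ideal.Quotient.mk_surjective v
      have hvP : v ∉ P := fun h => hv (Ideal.mem_map_of_mem q h)
      rw [← map_mul] at hvc
      obtain ⟨b, hb⟩ := Ideal.mem_span_singleton.mp (Ideal.Quotient.eq_zero_iff_mem.mp hvc)
      rw [Ideal.mem_span_singleton]
      refine ⟨IsLocalization.mk' R b (⟨v, hvP⟩ * t), ?_⟩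
      rw [IsLocalization.mul_mk'_eq_mk'_of_mul, IsLocalization.mk'_eq_iff_eq]
      show algebraMap B R (v * t * c) = algebraMap B R (t * (f * b))
      rw [← hb]; ring_nf
    · show ψ x = 0
      rw [Localization.localRingHom_to_map, show q f = 0 from
        Ideal.Quotient.eq_zero_iff_mem.mpr (Ideal.mem_span_singleton_self f), map_zero]
  have := hD (P.map q)
  let L := Localization.AtPrime (P.map q)
  have hx0 : x ∈ nonZeroDivisors R := mem_nonZeroDivisors_of_ne_zero fun h =>
    hf (IsLocalization.injective R P.primeCompl_le_nonZeroDivisors (h.trans (map_zero _).symm))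
  have hxm : x ∈ maximalIdeal R := by
    rw [← Localization.AtPrime.map_eq_maximalIdeal]; exact Ideal.mem_map_of_mem _ hfP
  have hdim : ringKrullDim L + 1 = P.height := by
    rw [← ringKrullDim_eq_of_ringEquiv (RingHom.quotientKerEquivOfSurjective hψ),
      ringKrullDim_eq_of_ringEquiv (Ideal.quotEquivOfEq hker),
      ringKrullDim_quotient_span_singleton_succ_eq_ringKrullDim (IsSMulRegular.of_ne_zero (nonZeroDivisors.ne_zero hx0))
        hxm,
      IsLocalization.AtPrime.ringKrullDim_eq_height P]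
  obtain ⟨S, hS, hSspan⟩ : ∃ S : Finset L, S.card = (maximalIdeal L).spanFinrank ∧
      Ideal.span (S : Set L) = maximalIdeal L := by
    obtain ⟨s, hs1, hs2⟩ := Submodule.FG.exists_span_finset_card_eq_spanFinrank (IsNoetherian.noetherian (maximalIdeal L))
    exact ⟨s, hs1, hs2⟩
  refine ⟨S.image (Function.surjInv hψ), ?_, ?_⟩
  · refine le_trans ?_ hdim.le
    rw [← (inferInstance : IsRegularLocalRing L).spanFinrank_maximalIdeal, ← hS]
    gcongr
    exact_mod_cast Finset.card_image_le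
  · refine le_antisymm ?_ (sup_le (Ideal.span_le.mpr (Set.singleton_subset_iff.mpr hxm)) ?_)
    · intro z hz
      have h1 : ψ z ∈ (Ideal.span (Function.surjInv hψ '' (S : Set L))).map ψ := by
        rw [Ideal.map_span, ← Set.image_comp, (Function.rightInverse_surjInv hψ).id, Set.image_id, hSspan]
        exact (mem_maximalIdeal _).mpr fun h => hz (IsLocalHom.map_nonunit z h)
      rw [Ideal.mem_map_iff_of_surjective _ hψ] at h1
      obtain ⟨z', hz', e⟩ := h1
      rw [Finset.coe_image, ← sub_add_cancel z z']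
      exact Submodule.add_mem_sup (hker ▸ RingHom.mem_ker.mpr (by rw [map_sub, e, sub_self])) hz'
    · rw [Ideal.span_le, Finset.coe_image]
      rintro _ ⟨z, hz, rfl⟩
      refine (mem_maximalIdeal _).mpr fun h => ?_
      have h2 := h.map ψ
      rw [Function.surjInv_eq hψ] at h2
      exact (hSspan ▸ Ideal.subset_span hz : z ∈ maximalIdeal L) h2

/-- The maximal ideal of a local algebra with unramified quotient. -/
theorem le_map_sup_of_formallyUnramified {B R L : Type u} [CommRing B] [CommRing R] [CommRing L] [IsLocalRing R]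
    [IsLocalRing L] [Algebra B R] [Algebra B L] [Algebra.EssFiniteType B L] (φ : R →+* L) [IsLocalHom φ]
    (hφ : ∀ b, φ (algebraMap B R b) = algebraMap B L b) (J : Ideal L) (hJ : J ≤ maximalIdeal L)
    [Algebra.FormallyUnramified B (L ⧸ J)] : maximalIdeal L ≤ (maximalIdeal R).map φ ⊔ J := by
  have : Nontrivial (L ⧸ J) :=
    Ideal.Quotient.nontrivial_iff.mpr (ne_top_of_le_ne_top (maximalIdeal.isMaximal L).ne_top hJ)
  have : IsLocalRing (L ⧸ J) := .of_surjective' (Ideal.Quotient.mk J) Ideal.Quotient.mk_surjective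
  have hsurj : IsLocalHom (Ideal.Quotient.mk J) := .of_surjective _ Ideal.Quotient.mk_surjective
  let := ((Ideal.Quotient.mk J).comp φ).toAlgebra
  have : IsScalarTower B R (L ⧸ J) := IsScalarTower.of_algebraMap_eq fun b => by
    show _ = Ideal.Quotient.mk J (φ (algebraMap B R b))
    rw [hφ]
    rfl
  have : IsLocalHom (algebraMap R (L ⧸ J)) := RingHom.isLocalHom_comp _ _
  have : Algebra.FormallyUnramified R (L ⧸ J) := .of_restrictScalars B R _
  have : Algebra.EssFiniteType B (L ⧸ J) := .comp B L _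
  have : Algebra.EssFiniteType R (L ⧸ J) := .of_comp B R _
  have hmap : (maximalIdeal R).map (algebraMap R (L ⧸ J)) = maximalIdeal _ :=
    Algebra.FormallyUnramified.map_maximalIdeal
  intro z hz
  have : Ideal.Quotient.mk J z ∈ ((maximalIdeal R).map φ).map (Ideal.Quotient.mk J) := by
    rw [Ideal.map_map]
    exact hmap.ge ((mem_maximalIdeal _).mpr fun h => hz (IsLocalHom.map_nonunit (f := Ideal.Quotient.mk J) z h))
  rwa [Ideal.mem_quotient_iff_mem_sup] at this

set_option synthInstance.maxHeartbeats 400000 in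
theorem Data.regular [IsDomain B] [IsNoetherianRing B] (hN : IsUnit (D.N : B)) (hf : D.f ≠ 0) (hli : D.Indep)
    (hreg : ∀ (P : Ideal B) [P.IsPrime], IsRegularLocalRing (Localization.AtPrime P))
    (hD : ∀ (P : Ideal (B ⧸ Ideal.span ({D.f} : Set B))) [P.IsPrime], IsRegularLocalRing (Localization.AtPrime P))
    (Q : Ideal D.alg) [Q.IsPrime] : IsRegularLocalRing (Localization.AtPrime Q) := by
  classical
  obtain ⟨G⟩ := D.exists_gens
  have := D.finite
  have := D.free hf hli
  have : IsNoetherianRing D.alg := IsNoetherianRing.of_finite B D.alg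
  let P := Q.under B
  let R := Localization.AtPrime P
  let L := Localization.AtPrime Q
  let φ : R →+* L := Localization.localRingHom P Q (algebraMap B D.alg) rfl
  have hht : (P.height : WithBot ℕ∞) ≤ ringKrullDim L := by
    rw [IsLocalization.AtPrime.ringKrullDim_eq_height Q L,
      Ideal.height_eq_height_add_of_liesOver_of_hasGoingDown P Q]
    exact_mod_cast le_self_add
  have : Algebra.EssFiniteType B L := .comp B D.alg L
  let sL : L := algebraMap D.alg L ⟨G.s, G.hsA⟩
  have key : ∀ J : Ideal L, J ≤ maximalIdeal L → (sL ∈ J ∨ IsUnit sL) →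
      maximalIdeal L ≤ (maximalIdeal R).map φ ⊔ J := by
    intro J hJ hsJ
    let C := L ⧸ J
    have : Nontrivial C := Ideal.Quotient.nontrivial_iff.mpr (ne_top_of_le_ne_top (maximalIdeal.isMaximal L).ne_top hJ)
    have : IsLocalRing C := .of_surjective' (Ideal.Quotient.mk J) Ideal.Quotient.mk_surjective
    let g : D.alg →ₐ[B] C := IsScalarTower.toAlgHom B D.alg C
    have hu : Algebra.FormallyUnramified B C := by
      refine G.formallyUnramified hN C g (fun S _ g₁ g₂ h => ?_) ?_
      · have : g₁.comp (Ideal.Quotient.mk J) = g₂.comp (Ideal.Quotient.mk J) :=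
          IsLocalization.ringHom_ext Q.primeCompl (RingHom.ext fun x => RingHom.congr_fun h x)
        exact RingHom.ext fun c => by
          obtain ⟨c, rfl⟩ := Ideal.Quotient.mk_surjective c
          exact RingHom.congr_fun this c
      · rcases hsJ with h | h
        · exact Or.inl (Ideal.Quotient.eq_zero_iff_mem.mpr h)
        · exact Or.inr (h.map (Ideal.Quotient.mk J))
    exact le_map_sup_of_formallyUnramified φ (fun b => Localization.localRingHom_to_map P Q _ rfl b) J hJ
  have hsf : sL ^ G.m = algebraMap D.alg L ((G.wA ^ G.a : D.algˣ) : D.alg) * φ (algebraMap B R D.f) := by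
    rw [← map_pow, G.sA_pow, map_mul, Localization.localRingHom_to_map]
  have hφm : (maximalIdeal R).map φ ≤ maximalIdeal L :=
    ((local_hom_TFAE φ).out 0 2 rfl rfl).mp inferInstance
  refine IsRegularLocalRing.of_spanFinrank_maximalIdeal_le L ?_
  by_cases hfP : D.f ∈ P
  · obtain ⟨S, hS, hm⟩ := exists_gens_of_regular_divisor hf hD P hfP
    have hsm : sL ∈ maximalIdeal L := by
      have h1 : φ (algebraMap B R D.f) ∈ maximalIdeal L := by
        refine hφm (Ideal.mem_map_of_mem φ ?_)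
        rw [← Localization.AtPrime.map_eq_maximalIdeal]
        exact Ideal.mem_map_of_mem _ hfP
      exact (maximalIdeal.isMaximal L).isPrime.mem_of_pow_mem G.m (hsf ▸ Ideal.mul_mem_left _ _ h1)
    have hm0 : 0 < G.m := Nat.pos_of_ne_zero fun h => D.hN.ne' (by rw [← G.hdm, h, mul_zero])
    have hle := key (Ideal.span {sL}) (Ideal.span_le.mpr (Set.singleton_subset_iff.mpr hsm))
      (Or.inl (Ideal.mem_span_singleton_self _))
    have hspan : maximalIdeal L = Ideal.span ((insert sL (S.image φ) : Finset L) : Set L) := by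
      refine le_antisymm (hle.trans ?_) ?_
      · rw [hm, Ideal.map_sup, Ideal.map_span, Ideal.map_span, Set.image_singleton, Finset.coe_insert,
          Finset.coe_image, Ideal.span_insert]
        refine sup_le (sup_le (le_sup_of_le_left ?_) le_sup_right) le_sup_left
        rw [Ideal.span_le, Set.singleton_subset_iff, SetLike.mem_coe, Ideal.mem_span_singleton]
        exact (IsUnit.dvd_mul_left ((G.wA ^ G.a).isUnit.map (algebraMap D.alg L))).mp (hsf ▸ dvd_pow_self sL hm0.ne')
      · rw [Ideal.span_le, Finset.coe_insert, Finset.coe_image, Set.insert_subset_iff]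
        refine ⟨hsm, ?_⟩
        rintro _ ⟨z, hz, rfl⟩
        exact hφm (Ideal.mem_map_of_mem φ (hm.ge (Submodule.mem_sup_right (Ideal.subset_span hz))))
    refine le_trans ?_ hht
    refine le_trans ?_ hS
    have h1 : (maximalIdeal L).spanFinrank ≤ S.card + 1 := by
      rw [hspan]
      refine (Submodule.spanFinrank_span_le_ncard_of_finite (Finset.finite_toSet _)).trans ?_
      rw [Set.ncard_coe_finset]
      exact (Finset.card_insert_le _ _).trans (Nat.add_le_add_right Finset.card_image_le 1)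
    exact_mod_cast h1
  · have hu : IsUnit sL := by
      have hm0 : G.m ≠ 0 := fun h => D.hN.ne' (by rw [← G.hdm, h, mul_zero])
      refine (isUnit_pow_iff hm0).mp (hsf ▸ ((G.wA ^ G.a).isUnit.map (algebraMap D.alg L)).mul ?_)
      exact (IsLocalization.map_units R (⟨D.f, hfP⟩ : P.primeCompl)).map φ
    have hspan : maximalIdeal L = (maximalIdeal R).map φ :=
      le_antisymm (le_of_le_of_eq (key ⊥ bot_le (Or.inr hu)) (sup_bot_eq _)) hφm
    refine le_trans ?_ hht
    rw [← IsLocalization.AtPrime.ringKrullDim_eq_height P R, ← (hreg P).spanFinrank_maximalIdeal, hspan]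
    exact_mod_cast Ideal.spanFinrank_map_le_of_fg φ (IsNoetherian.noetherian _)

set_option synthInstance.maxHeartbeats 400000 in
/-- The cover is integrally closed in the ring obtained by inverting the branch locus. -/
theorem Data.mem_of_isIntegral [IsDomain B] [IsNoetherianRing B] (hf : D.f ≠ 0) (hli : D.Indep)
    (hR : ∀ (Q : Ideal D.alg) [Q.IsPrime], IsRegularLocalRing (Localization.AtPrime Q))
    (hK : ∀ x : K, ∃ n : ℕ, x * (D.Φ : K) ^ n ∈ D.alg) {x : K} (hx : IsIntegral D.alg x) : x ∈ D.alg := by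
  let J : Ideal D.alg := (1 : Submodule D.alg K).comap (LinearMap.toSpanSingleton D.alg K x)
  suffices hJ : J = ⊤ by
    have h1 : (1 : D.alg) ∈ J := hJ ▸ trivial
    obtain ⟨a, ha⟩ := Submodule.mem_one.mp h1
    rw [LinearMap.toSpanSingleton_apply, one_smul] at ha
    rw [← ha]
    exact a.2
  by_contra hJ
  obtain ⟨Q, hQ, hJQ⟩ := Ideal.exists_le_maximal J hJ
  let L := Localization.AtPrime Q
  have := hR Q
  have : IsDomain L := Groth.Ega4Algebra1.isDomain_of_isRegularLocalRing L
  have := Groth.VectorBundles.isIntegrallyClosed_of_isRegularLocalRing L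
  let F := FractionRing L
  have hPA : algebraMap B K D.f = ((algebraMap B D.alg D.f : D.alg) : K) := rfl
  have hreg : ∀ a : D.alg, algebraMap B D.alg D.f * a = 0 → a = 0 := fun a ha => by
    apply Subtype.ext
    have h2 : (D.Φ : K) * (a : K) = 0 := by rw [D.hΦ]; exact congrArg Subtype.val ha
    exact (Units.mul_right_eq_zero D.Φ).mp h2
  have : IsLocalization.Away (algebraMap B D.alg D.f) K :=
    { map_units := by
        rintro ⟨_, n, rfl⟩
        show IsUnit ((algebraMap B K D.f) ^ n)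
        rw [← D.hΦ]
        exact D.Φ.isUnit.pow n
      surj := fun z => by
        obtain ⟨n, hn⟩ := hK z
        refine ⟨(⟨_, hn⟩, ⟨_, n, rfl⟩), ?_⟩
        show z * (algebraMap B K D.f) ^ n = z * (D.Φ : K) ^ n
        rw [D.hΦ]
      exists_of_eq := fun {a b} h => ⟨1, by rw [Subtype.ext h]⟩ }
  have hne : algebraMap D.alg L (algebraMap B D.alg D.f) ≠ 0 := fun h => by
    obtain ⟨⟨t, ht⟩, hth⟩ := (IsLocalization.map_eq_zero_iff Q.primeCompl L _).mp h
    exact ht (hreg t (by rw [mul_comm]; exact hth) ▸ Q.zero_mem)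
  have hFu : IsUnit (algebraMap D.alg F (algebraMap B D.alg D.f)) :=
    isUnit_iff_ne_zero.mpr (by
      rw [IsScalarTower.algebraMap_apply D.alg L F]
      exact fun h => hne ((IsFractionRing.to_map_eq_zero_iff).mp h))
  let h : K →ₐ[D.alg] F :=
    { IsLocalization.Away.lift (algebraMap B D.alg D.f) hFu with
      commutes' := fun a => IsLocalization.Away.lift_eq _ hFu a }
  obtain ⟨y, hy⟩ := IsIntegrallyClosed.isIntegral_iff.mp ((hx.map h).tower_top (A := L))
  obtain ⟨c, ⟨t, ht⟩, rfl⟩ := IsLocalization.exists_mk'_eq Q.primeCompl y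
  obtain ⟨n, hn⟩ := hK x
  have e : algebraMap D.alg F t * h x = algebraMap D.alg F c := by
    rw [← hy, IsScalarTower.algebraMap_apply D.alg L F t, IsScalarTower.algebraMap_apply D.alg L F c, ← map_mul,
      IsLocalization.mk'_spec'_mk]
  have e2 : algebraMap D.alg F (t * ⟨_, hn⟩) = algebraMap D.alg F (c * algebraMap B D.alg D.f ^ n) := by
    rw [map_mul, map_mul, ← e]
    have h3 : algebraMap D.alg F ⟨_, hn⟩ = h x * algebraMap D.alg F (algebraMap B D.alg D.f ^ n) := by
      rw [← h.commutes, ← h.commutes, ← map_mul]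
      congr 1
      show x * (D.Φ : K) ^ n = x * (algebraMap B K D.f) ^ n
      rw [D.hΦ]
    rw [h3, mul_assoc]
  rw [IsScalarTower.algebraMap_apply D.alg L F, IsScalarTower.algebraMap_apply D.alg L F (c * _),
    (IsFractionRing.injective L F).eq_iff, IsLocalization.eq_iff_exists Q.primeCompl] at e2
  obtain ⟨⟨t', ht'⟩, e3⟩ := e2
  have e4 : ((t' * t : D.alg) : K) * x = ((t' * c : D.alg) : K) := by
    have h4 : (t' : K) * ((t : K) * (x * (D.Φ : K) ^ n)) = (t' : K) * ((c : K) * (algebraMap B K D.f) ^ n) :=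
      congrArg Subtype.val e3
    rw [← D.hΦ] at h4
    refine (D.Φ.isUnit.pow n).mul_left_injective ?_
    show _ * _ * _ = _ * _
    push_cast
    linear_combination h4
  have hJm : t' * t ∈ J := by
    show (t' * t) • x ∈ (1 : Submodule D.alg K)
    exact Submodule.mem_one.mpr ⟨t' * c, e4.symm⟩
  rcases hQ.isPrime.mem_or_mem (hJQ hJm) with h5 | h5
  · exact ht' h5
  · exact ht h5

end Groth.SGA7.CyclicCover
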