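import Groth.Prelude.Def_SGA7a
import Groth.Agent.Hensel1.Finite
import Mathlib.RingTheory.DedekindDomain.PID
import Mathlib.RingTheory.DedekindDomain.IntegralClosure
import Mathlib.RingTheory.Valuation.ValuationSubring
import Mathlib.RingTheory.RootsOfUnity.PrimitiveRoots
import Mathlib.FieldTheory.IntermediateField.Adjoin.Basic
import Mathlib.Tactic

/-! The valuation over a henselian discrete valuation ring extends uniquely to separable algebraic
extensions of its fraction field. -/

set_option autoImplicit false

namespace Groth.SGA7.HenselVal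

open IsLocalRing

universe u

theorem isLocalRing_of_finite_domain (R S : Type u) [CommRing R] [HenselianLocalRing R] [CommRing S] [IsDomain S]
    [Algebra R S] [Module.Finite R S] : IsLocalRing S := by
  classical
  obtain ⟨ι, _, e, he, hloc⟩ := Groth.Hensel1.exists_completeOrthogonalIdempotents_local R S
  obtain ⟨i, hi⟩ : ∃ i, e i = 1 := by
    by_contra h
    push Not at h
    have h0 : ∀ i, e i = 0 := fun i => ((IsIdempotentElem.iff_eq_zero_or_one.mp (he.idem i))).resolve_right (h i)
    exact zero_ne_one (α := S) (by rw [← he.complete]; simp [h0])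
  have := hloc i
  rw [hi, sub_self] at this
  have hb : Ideal.span {(0 : S)} = ⊥ := Ideal.span_singleton_eq_bot.mpr rfl
  exact ((Ideal.quotEquivOfEq hb).trans (RingEquiv.quotientBot S)).isLocalRing

theorem isLocalRing_integralClosure (R L : Type u) [CommRing R] [HenselianLocalRing R] [Field L] [Algebra R L] :
    IsLocalRing (integralClosure R L) := by
  refine IsLocalRing.of_isUnit_or_isUnit_one_sub_self fun s => ?_
  let T := Algebra.adjoin R {(s : L)}
  have : Module.Finite R T := Module.Finite.iff_fg.mpr (IsIntegral.fg_adjoin_singleton s.2)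
  have := isLocalRing_of_finite_domain R T
  have hle : T ≤ integralClosure R L := Algebra.adjoin_le (Set.singleton_subset_iff.mpr s.2)
  let t : T := ⟨s, Algebra.self_mem_adjoin_singleton R (s : L)⟩
  rcases IsLocalRing.isUnit_or_isUnit_one_sub_self t with h | h
  · exact Or.inl (h.map (Subalgebra.inclusion hle))
  · exact Or.inr (h.map (Subalgebra.inclusion hle))

/-- Two elements with the same residue among roots of unity of order invertible in the residue field are equal. -/
theorem eq_one_of_map_eq_one {A B : Type*} [CommRing A] [IsDomain A] [CommRing B] (φ : A →+* B) {η : A} {N : ℕ}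
    (hη : η ^ N = 1) (hN : (N : B) ≠ 0) (h : φ η = 1) : η = 1 := by
  have h0 : (∑ i ∈ Finset.range N, η ^ i) * (η - 1) = 0 := by rw [geom_sum_mul, hη, sub_self]
  rcases mul_eq_zero.mp h0 with h1 | h1
  · have := congrArg φ h1
    simp [map_sum, h, hN] at this
  · exact sub_eq_zero.mp h1

variable {R K Ω : Type u} [CommRing R] [IsDomain R] [IsDiscreteValuationRing R] [HenselianLocalRing R]
  [Field K] [Algebra R K] [IsFractionRing R K] [Field Ω] [Algebra K Ω] [Algebra R Ω] [IsScalarTower R K Ω]
  [Algebra.IsSeparable K Ω] {W : ValuationSubring Ω} (hW : _root_.SGA7.LiesOver K R W)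

theorem isIntegral_or_inv (R K : Type u) [CommRing R] [IsDomain R] [IsDiscreteValuationRing R] [HenselianLocalRing R]
    [Field K] [Algebra R K] [IsFractionRing R K] {Ω : Type u} [Field Ω] [Algebra K Ω] [Algebra R Ω]
    [IsScalarTower R K Ω] [Algebra.IsSeparable K Ω] (x : Ω) : IsIntegral R x ∨ IsIntegral R x⁻¹ := by
  let L : IntermediateField K Ω := IntermediateField.adjoin K {x}
  have : FiniteDimensional K L := IntermediateField.adjoin.finiteDimensional (Algebra.IsIntegral.isIntegral x)
  have : Algebra.IsSeparable K L := Algebra.isSeparable_tower_bot_of_isSeparable K L Ω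
  let B := integralClosure R L
  have : IsDedekindDomain B := integralClosure.isDedekindDomain R K L
  have : IsFractionRing B L := IsIntegralClosure.isFractionRing_of_finite_extension R K L B
  have : IsLocalRing B := isLocalRing_integralClosure R L
  have : IsPrincipalIdealRing B := IsPrincipalIdealRing.of_finite_maximals <| Set.Finite.subset
    (Set.finite_singleton (maximalIdeal B)) fun I hI => IsLocalRing.eq_maximalIdeal hI
  have : ValuationRing B := ValuationRing.iff_local_bezout_domain.mpr ⟨inferInstance, inferInstance⟩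
  let x' : L := ⟨x, IntermediateField.mem_adjoin_simple_self K x⟩
  let f : L →ₐ[R] Ω := L.val.restrictScalars R
  rcases ValuationRing.isInteger_or_isInteger B x' with ⟨b, hb⟩ | ⟨b, hb⟩
  · left
    have : IsIntegral R x' := by rw [← hb]; exact b.2
    exact this.map f
  · right
    have : IsIntegral R x'⁻¹ := by rw [← hb]; exact b.2
    have := this.map f
    rw [map_inv₀] at this
    exact this

include hW

theorem algebraMap_mem (r : R) : algebraMap R Ω r ∈ W := by
  rw [IsScalarTower.algebraMap_apply R K Ω]; exact hW.1 r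

theorem mem_of_isIntegral {x : Ω} (hx : IsIntegral R x) : x ∈ W := by
  letI : Algebra R W := ((algebraMap R Ω).codRestrict W.toSubring (algebraMap_mem hW)).toAlgebra
  haveI : IsScalarTower R W Ω := IsScalarTower.of_algebraMap_eq fun r => rfl
  obtain ⟨w, rfl⟩ := IsIntegrallyClosed.isIntegral_iff.mp (hx.tower_top (A := W))
  exact w.2

theorem isIntegral_of_mem {x : Ω} (hx : x ∈ W) : IsIntegral R x := by
  by_contra hni
  have hy : IsIntegral R x⁻¹ := (isIntegral_or_inv R K x).resolve_left hni
  have hx0 : x ≠ 0 := fun h => hni (h ▸ isIntegral_zero)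
  let S := integralClosure R Ω
  have := isLocalRing_integralClosure R Ω
  let f : S →+* W := S.val.toRingHom.codRestrict W.toSubring fun s => mem_of_isIntegral hW s.2
  let P : Ideal S := (maximalIdeal W).comap f
  have hP : P.comap (algebraMap R S) = maximalIdeal R := by
    refine ((maximalIdeal.isMaximal R).eq_of_le (Ideal.IsPrime.ne_top inferInstance) fun r hr => ?_).symm
    change f (algebraMap R S r) ∈ maximalIdeal W
    rw [ValuationSubring.valuation_lt_one_iff]
    change W.valuation (algebraMap R Ω r) < 1
    rw [IsScalarTower.algebraMap_apply R K Ω]; exact hW.2 r hr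
  have : Algebra.IsIntegral R S := inferInstanceAs (Algebra.IsIntegral R (integralClosure R Ω))
  have hmax : P.IsMaximal := Ideal.isMaximal_of_isIntegral_of_isMaximal_comap P (hP ▸ maximalIdeal.isMaximal R)
  have hnu : (⟨x⁻¹, hy⟩ : S) ∈ maximalIdeal S := by
    rw [IsLocalRing.mem_maximalIdeal, mem_nonunits_iff]
    intro hu
    obtain ⟨b, hb⟩ := hu.exists_right_inv
    apply hni
    have : x⁻¹ * (b : Ω) = 1 := congrArg Subtype.val hb
    rw [inv_mul_eq_one₀ hx0] at this
    exact this ▸ b.2
  rw [← IsLocalRing.eq_maximalIdeal hmax] at hnu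
  have h1 : W.valuation x⁻¹ < 1 := (ValuationSubring.valuation_lt_one_iff W _).mp hnu
  have h2 := (ValuationSubring.valuation_le_one_iff W x).mpr hx
  rw [map_inv₀, inv_lt_one₀ (zero_lt_iff.mpr ((Valuation.ne_zero_iff _).mpr hx0))] at h1
  exact absurd h2 (not_le.mpr h1)

theorem gal_mem (g : Ω ≃ₐ[K] Ω) {x : Ω} (hx : x ∈ W) : g x ∈ W :=
  mem_of_isIntegral hW ((isIntegral_of_mem hW hx).map (g.toAlgHom.restrictScalars R))

theorem gal_val_lt_one (g : Ω ≃ₐ[K] Ω) {x : Ω} (hx : W.valuation x < 1) : W.valuation (g x) < 1 := by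
  rcases eq_or_ne x 0 with rfl | h0
  · simp
  have h0' : g x ≠ 0 := by simpa using h0
  by_contra h
  rw [not_lt, ← inv_le_one₀ (zero_lt_iff.mpr ((Valuation.ne_zero_iff _).mpr h0')), ← map_inv₀,
    ValuationSubring.valuation_le_one_iff] at h
  have := gal_mem hW g.symm h
  rw [map_inv₀, AlgEquiv.symm_apply_apply, ← ValuationSubring.valuation_le_one_iff, map_inv₀,
    inv_le_one₀ (zero_lt_iff.mpr ((Valuation.ne_zero_iff _).mpr h0))] at this
  exact absurd hx (not_lt.mpr this)

theorem gal_val_lt (g : Ω ≃ₐ[K] Ω) {a b : Ω} (h : W.valuation a < W.valuation b) :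
    W.valuation (g a) < W.valuation (g b) := by
  have hb : b ≠ 0 := by rintro rfl; simp at h
  have hb' : g b ≠ 0 := by simpa using hb
  have h1 : W.valuation (a / b) < 1 := by
    rw [map_div₀, div_lt_one₀ (zero_lt_iff.mpr ((Valuation.ne_zero_iff _).mpr hb))]; exact h
  have h2 := gal_val_lt_one hW g h1
  rwa [map_div₀, map_div₀, div_lt_one₀ (zero_lt_iff.mpr ((Valuation.ne_zero_iff _).mpr hb'))] at h2

theorem gal_val_eq (g : Ω ≃ₐ[K] Ω) (y : Ω) : W.valuation (g y) = W.valuation y := by
  classical
  rcases eq_or_ne y 0 with rfl | h0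
  · simp
  -- the orbit of `y` is finite
  have hfin : (Set.range fun t : ℕ => g^[t] y).Finite := by
    refine ((minpoly K y).rootSet_finite Ω).subset ?_
    rintro _ ⟨t, rfl⟩
    rw [Polynomial.mem_rootSet_of_ne (minpoly.ne_zero (Algebra.IsIntegral.isIntegral y))]
    induction t with
    | zero => exact minpoly.aeval K y
    | succ t ih =>
      simp only [Function.iterate_succ_apply'] at ih ⊢
      rw [← AlgEquiv.coe_algHom g, Polynomial.aeval_algHom_apply]
      exact (congrArg g ih).trans (map_zero _)
  obtain ⟨d, hd0, hd⟩ : ∃ d : ℕ, 0 < d ∧ g^[d] y = y := by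
    obtain ⟨a, -, b, -, hab, he⟩ := Set.infinite_univ.exists_ne_map_eq_of_mapsTo
      (f := fun t : ℕ => g^[t] y) (fun t _ => Set.mem_range_self t) hfin
    rcases hab.lt_or_gt with h | h
    · refine ⟨b - a, by omega, (g.injective.iterate a) ?_⟩
      rw [← Function.iterate_add_apply, show a + (b - a) = b by omega, ← he]
    · refine ⟨a - b, by omega, (g.injective.iterate b) ?_⟩
      rw [← Function.iterate_add_apply, show b + (a - b) = a by omega, he]
  rcases lt_trichotomy (W.valuation (g y)) (W.valuation y) with h | h | h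
  · have key : ∀ t, 0 < t → W.valuation (g^[t] y) < W.valuation y := by
      intro t ht
      induction t with
      | zero => omega
      | succ t ih =>
        rcases Nat.eq_zero_or_pos t with rfl | ht'
        · simpa using h
        · rw [Function.iterate_succ_apply']; exact (gal_val_lt hW g (ih ht')).trans h
    exact absurd (key d hd0) (by rw [hd]; exact lt_irrefl _)
  · exact h
  · have key : ∀ t, 0 < t → W.valuation y < W.valuation (g^[t] y) := by
      intro t ht
      induction t with
      | zero => omega
      | succ t ih =>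
        rcases Nat.eq_zero_or_pos t with rfl | ht'
        · simpa using h
        · rw [Function.iterate_succ_apply']; exact h.trans (gal_val_lt hW g (ih ht'))
    exact absurd (key d hd0) (by rw [hd]; exact lt_irrefl _)

omit hW in
/-- A finite extension contains only boundedly many roots of unity of `ℓ`-power order. -/
theorem exists_bound_roots (L : IntermediateField K Ω) [FiniteDimensional K L] (ℓ : ℕ)
    (hℓ : (ℓ : ResidueField R) ≠ 0)
    (hstar : ∀ (k' : Type u) [Field k'] [Algebra (ResidueField R) k'], FiniteDimensional (ResidueField R) k' →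
      ∃ m : ℕ, ∀ ζ : k', ¬ IsPrimitiveRoot ζ (ℓ ^ m)) :
    ∃ m : ℕ, ∀ ζ : Ω, ζ ∈ L → ¬ IsPrimitiveRoot ζ (ℓ ^ m) := by
  have : Algebra.IsSeparable K L := Algebra.isSeparable_tower_bot_of_isSeparable K L Ω
  let B := integralClosure R L
  have : Module.Finite R B := IsIntegralClosure.finite R K L B
  have : IsLocalRing B := isLocalRing_integralClosure R L
  have hinj : Function.Injective (algebraMap R L) := by
    rw [IsScalarTower.algebraMap_eq R K L]
    exact (algebraMap K L).injective.comp (IsFractionRing.injective R K)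
  have : FaithfulSMul R B := (faithfulSMul_iff_algebraMap_injective R B).mpr fun a b h =>
    hinj (congrArg Subtype.val h)
  have : Algebra.IsIntegral R B := inferInstanceAs (Algebra.IsIntegral R (integralClosure R L))
  have : IsLocalHom (algebraMap R B) := inferInstance
  obtain ⟨m, hm⟩ := hstar (ResidueField B) inferInstance
  refine ⟨m, fun ζ hζL hζ => ?_⟩
  have hℓ0 : ℓ ≠ 0 := fun h => hℓ (by simp [h])
  have hne : ((ℓ ^ m : ℕ) : ResidueField B) ≠ 0 := by
    rw [Nat.cast_pow]
    refine pow_ne_zero _ ?_
    rw [← map_natCast (algebraMap (ResidueField R) (ResidueField B))]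
    exact fun h => hℓ ((algebraMap (ResidueField R) (ResidueField B)).injective (h.trans (map_zero _).symm))
  have hζint : IsIntegral R (⟨ζ, hζL⟩ : L) :=
    IsIntegral.of_pow (pow_pos (Nat.pos_of_ne_zero hℓ0) m) (by
      rw [show (⟨ζ, hζL⟩ : L) ^ (ℓ ^ m) = 1 from Subtype.ext hζ.pow_eq_one]; exact isIntegral_one)
  let z : B := ⟨⟨ζ, hζL⟩, hζint⟩
  refine hm (residue B z) (IsPrimitiveRoot.iff_def _ _ |>.mpr ⟨?_, fun i hi => ?_⟩)
  · rw [← map_pow, show z ^ (ℓ ^ m) = 1 from Subtype.ext (Subtype.ext hζ.pow_eq_one), map_one]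
  · refine hζ.dvd_of_pow_eq_one i ?_
    have h1 : z ^ i = 1 := eq_one_of_map_eq_one (residue B) (N := ℓ ^ m)
      (by rw [← pow_mul, mul_comm, pow_mul, show z ^ (ℓ ^ m) = 1 from Subtype.ext (Subtype.ext hζ.pow_eq_one), one_pow])
      hne (by rw [map_pow]; exact hi)
    exact congrArg (fun b : B => ((b : L) : Ω)) h1

end Groth.SGA7.HenselVal
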