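import Mathlib

/-!
Torsion points of order prime to the residue characteristic of a group scheme are rigid:
a point over a local ring which is killed by `n` and reduces to the unit is the unit.
-/

universe u

open CategoryTheory CategoryTheory.Limits MonoidalCategory CartesianMonoidalCategory MonObj AlgebraicGeometry

namespace Groth.SGA7.TorsionRigid

variable {R : Type u} [CommRing R]

/-- `Spec` of an algebra over the base. -/
noncomputable abbrev tS (R S : Type u) [CommRing R] [CommRing S] [Algebra R S] : Over (Spec (CommRingCat.of R)) :=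
  Over.mk (Spec.map (CommRingCat.ofHom (algebraMap R S)))

/-- Functoriality. -/
noncomputable def sm {S S' : Type u} [CommRing S] [Algebra R S] [CommRing S'] [Algebra R S'] (f : S →ₐ[R] S') :
    tS R S' ⟶ tS R S :=
  Over.homMk (Spec.map (CommRingCat.ofHom f.toRingHom)) (by
    show Spec.map _ ≫ Spec.map _ = Spec.map _
    rw [← Spec.map_comp]
    congr 1
    ext r
    exact f.commutes r)

theorem sm_comp {S S' S'' : Type u} [CommRing S] [Algebra R S] [CommRing S'] [Algebra R S'] [CommRing S'']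
    [Algebra R S''] (f : S →ₐ[R] S') (g : S' →ₐ[R] S'') : sm g ≫ sm f = sm (g.comp f) := by
  apply Over.OverMorphism.ext
  show Spec.map _ ≫ Spec.map _ = Spec.map _
  rw [← Spec.map_comp]
  rfl

variable {C : Type u} [CommRing C] [Algebra R C] {B : Over (Spec (CommRingCat.of R))} (p : tS R C ⟶ B)

theorem pt_injective [Mono p.left] {S : Type u} [CommRing S] [Algebra R S] {φ φ' : C →ₐ[R] S}
    (h : sm φ ≫ p = sm φ' ≫ p) : φ = φ' := by
  have h1 : Spec.map (CommRingCat.ofHom φ.toRingHom) = Spec.map (CommRingCat.ofHom φ'.toRingHom) :=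
    (cancel_mono p.left).mp (congrArg Over.Hom.left h)
  have h2 := Spec.map_injective h1
  exact AlgHom.ext fun c => congr($h2 c)

theorem exists_factor [IsOpenImmersion p.left] {S : Type u} [CommRing S] [Algebra R S] (x : tS R S ⟶ B)
    (hx : Set.range x.left.base ⊆ Set.range p.left.base) : ∃ φ : C →ₐ[R] S, sm φ ≫ p = x := by
  let l : Spec (CommRingCat.of S) ⟶ Spec (CommRingCat.of C) := IsOpenImmersion.lift p.left x.left hx
  have hl : l ≫ p.left = x.left := IsOpenImmersion.lift_fac _ _ hx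
  have hR : CommRingCat.ofHom (algebraMap R C) ≫ Spec.preimage l = CommRingCat.ofHom (algebraMap R S) := by
    apply Spec.map_injective
    rw [Spec.map_comp, Spec.map_preimage]
    have e : Spec.map (CommRingCat.ofHom (algebraMap R C)) = p.left ≫ B.hom := (Over.w p).symm
    rw [e, ← Category.assoc, hl]
    exact Over.w x
  refine ⟨{ (Spec.preimage l).hom with commutes' := fun r => congr($hR r) }, Over.OverMorphism.ext ?_⟩
  show Spec.map (Spec.preimage l) ≫ p.left = x.left
  rw [Spec.map_preimage]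
  exact hl

theorem exists_factor_of_nilpotent [IsOpenImmersion p.left] {S S' : Type u} [CommRing S] [Algebra R S]
    [CommRing S'] [Algebra R S'] (q : S →ₐ[R] S') (hq : ∀ z ∈ RingHom.ker q.toRingHom, IsNilpotent z)
    (hs : Function.Surjective q) (x : tS R S ⟶ B) (φ' : C →ₐ[R] S') (h : sm q ≫ x = sm φ' ≫ p) :
    ∃ φ : C →ₐ[R] S, sm φ ≫ p = x := by
  refine exists_factor p x ?_
  rintro _ ⟨y, rfl⟩
  have hle : RingHom.ker q.toRingHom ≤ PrimeSpectrum.asIdeal (R := S) y := fun z hz =>
    by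
      obtain ⟨m, hm⟩ := hq z hz
      exact y.isPrime.mem_of_pow_mem m (hm ▸ zero_mem _)
  obtain ⟨y', rfl⟩ : y ∈ Set.range (PrimeSpectrum.comap q.toRingHom) := by
    rw [range_comap_of_surjective _ _ hs]
    exact hle
  refine ⟨(sm φ').left.base y', ?_⟩
  exact congr(($h.symm).left.base y')

variable [GrpObj B]

/-- The first order deviation from the unit. -/
theorem mul_linear [IsOpenImmersion p.left] {S : Type u} [CommRing S] [Algebra R S] (ε : C →ₐ[R] S)
    (hε : sm ε ≫ p = (1 : tS R S ⟶ B)) (I : Ideal S) (hI : ∀ a ∈ I, ∀ b ∈ I, a * b = 0)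
    {φ φ' : C →ₐ[R] S} (hφ : ∀ c, φ c - ε c ∈ I)
    (hφ' : ∀ c, φ' c - ε c ∈ I) :
    ∃ ψ : C →ₐ[R] S, sm ψ ≫ p = (sm φ ≫ p) * (sm φ' ≫ p) ∧
      ∀ c, ψ c - ε c = (φ c - ε c) + (φ' c - ε c) := by
  let mkHom : (l : (I × I) →ₗ[S] I) → ((TrivSqZeroExt S (I × I)) →ₐ[R] S) := fun l =>
    { toFun := fun z => z.fst + (l z.snd : S)
      map_one' := by simp
      map_zero' := by simp
      map_add' := fun a b => by simp; ring
      map_mul' := fun a b => by
        have := hI _ (l a.snd).2 _ (l b.snd).2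
        simp only [TrivSqZeroExt.fst_mul, TrivSqZeroExt.snd_mul, op_smul_eq_smul, map_add, map_smul,
          Submodule.coe_add, Submodule.coe_smul, smul_eq_mul]
        linear_combination -this
      commutes' := fun r => by
        simp [TrivSqZeroExt.algebraMap_eq_inl', TrivSqZeroExt.fst_inl, TrivSqZeroExt.snd_inl] }
  let q0 : (TrivSqZeroExt S (I × I)) →ₐ[R] S := mkHom 0
  let q1 : (TrivSqZeroExt S (I × I)) →ₐ[R] S := mkHom (LinearMap.fst S I I)
  let q2 : (TrivSqZeroExt S (I × I)) →ₐ[R] S := mkHom (LinearMap.snd S I I)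
  let q12 : (TrivSqZeroExt S (I × I)) →ₐ[R] S := mkHom (LinearMap.fst S I I + LinearMap.snd S I I)
  let εS : C →ₐ[R] S := ε
  have hone : sm εS ≫ p = (1 : tS R S ⟶ B) := hε
  let mkPt : (D : C → I × I) → (∀ a b, D (a * b) = εS a • D b + εS b • D a) → (∀ a b, D (a + b) = D a + D b) →
      (∀ r, D (algebraMap R C r) = 0) → (C →ₐ[R] (TrivSqZeroExt S (I × I))) := fun D hmul hadd hconst =>
    { toFun := fun c => TrivSqZeroExt.inl (εS c) + TrivSqZeroExt.inr (D c)
      map_one' := by
        rw [map_one, ← map_one (algebraMap R C), hconst]; simp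
      map_zero' := by
        rw [map_zero, ← map_zero (algebraMap R C), hconst]; simp
      map_add' := fun a b => by
        rw [map_add, hadd]
        apply TrivSqZeroExt.ext <;> simp
      map_mul' := fun a b => by
        rw [map_mul, hmul]
        apply TrivSqZeroExt.ext
        · simp
        · simp [op_smul_eq_smul]
      commutes' := fun r => by
        rw [hconst]; apply TrivSqZeroExt.ext <;> simp [TrivSqZeroExt.algebraMap_eq_inl'] }
  let dev : (φ : C →ₐ[R] S) → (∀ c, φ c - ε c ∈ I) → C → I := fun φ h c => ⟨_, h c⟩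
  have dmul : ∀ φ h a b, dev φ h (a * b) = εS a • dev φ h b + εS b • dev φ h a := fun φ h a b => by
    apply Subtype.ext
    have := hI _ (h a) _ (h b)
    show φ (a * b) - ε (a * b) =
      ε a * (φ b - ε b) + ε b * (φ a - ε a)
    rw [map_mul, map_mul]
    linear_combination this
  have dadd : ∀ φ h a b, dev φ h (a + b) = dev φ h a + dev φ h b := fun φ h a b => by
    apply Subtype.ext
    show φ (a + b) - ε (a + b) = (φ a - _) + (φ b - _)
    rw [map_add, map_add]; ring
  have dconst : ∀ φ h r, dev φ h (algebraMap R C r) = 0 := fun φ h r => by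
    apply Subtype.ext
    show φ (algebraMap R C r) - ε (algebraMap R C r) = 0
    simp
  let x : C →ₐ[R] (TrivSqZeroExt S (I × I)) := mkPt (fun c => (dev φ hφ c, 0))
    (fun a b => by simp [dmul, Prod.ext_iff]) (fun a b => by simp [dadd]) (fun r => by simp [dconst])
  let y : C →ₐ[R] (TrivSqZeroExt S (I × I)) := mkPt (fun c => (0, dev φ' hφ' c))
    (fun a b => by simp [dmul, Prod.ext_iff]) (fun a b => by simp [dadd]) (fun r => by simp [dconst])
  let z : tS R (TrivSqZeroExt S (I × I)) ⟶ B := (sm x ≫ p) * (sm y ≫ p)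
  have e1x : q1.comp x = φ := AlgHom.ext fun c => by simp [q1, x, mkHom, mkPt, dev, εS]
  have e1y : q1.comp y = εS := AlgHom.ext fun c => by simp [q1, y, mkHom, mkPt, dev, εS]
  have e2x : q2.comp x = εS := AlgHom.ext fun c => by simp [q2, x, mkHom, mkPt, dev, εS]
  have e2y : q2.comp y = φ' := AlgHom.ext fun c => by simp [q2, y, mkHom, mkPt, dev, εS]
  have e12x : q12.comp x = φ := AlgHom.ext fun c => by simp [q12, x, mkHom, mkPt, dev, εS]
  have e12y : q12.comp y = φ' := AlgHom.ext fun c => by simp [q12, y, mkHom, mkPt, dev, εS]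
  have e0x : q0.comp x = εS := AlgHom.ext fun c => by simp [q0, x, mkHom, mkPt, dev, εS]
  have e0y : q0.comp y = εS := AlgHom.ext fun c => by simp [q0, y, mkHom, mkPt, dev, εS]
  have hz : ∀ q : (TrivSqZeroExt S (I × I)) →ₐ[R] S, sm q ≫ z = (sm (q.comp x) ≫ p) * (sm (q.comp y) ≫ p) := fun q => by
    rw [MonObj.comp_mul, ← Category.assoc, sm_comp, ← Category.assoc, sm_comp]
  obtain ⟨w, hw⟩ := exists_factor_of_nilpotent p q0 (fun v hv => ⟨2, by
      have h0 : v.fst = 0 := by
        have : v.fst + ((0 : (I × I) →ₗ[S] I) v.snd : S) = 0 := hv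
        simpa using this
      rw [pow_two]
      apply TrivSqZeroExt.ext <;> simp [h0]⟩)
    (fun s => ⟨TrivSqZeroExt.inl s, by simp [q0, mkHom]⟩) z εS (by rw [hz, e0x, e0y, hone, _root_.mul_one])
  have h1 : q1.comp w = φ := pt_injective p (by
    rw [← sm_comp, Category.assoc, hw, hz, e1x, e1y, hone, _root_.mul_one])
  have h2 : q2.comp w = φ' := pt_injective p (by
    rw [← sm_comp, Category.assoc, hw, hz, e2x, e2y, hone, _root_.one_mul])
  have h0 : q0.comp w = εS := pt_injective p (by
    rw [← sm_comp, Category.assoc, hw, hz, e0x, e0y, hone, _root_.mul_one])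
  refine ⟨q12.comp w, by rw [← sm_comp, Category.assoc, hw, hz, e12x, e12y], fun c => ?_⟩
  have a0 : (w c).fst = ε c := by
    have : q0 (w c) = εS c := DFunLike.congr_fun h0 c
    simpa [q0, mkHom, εS] using this
  have a1 : (w c).fst + ((w c).snd.1 : S) = φ c := DFunLike.congr_fun h1 c
  have a2 : (w c).fst + ((w c).snd.2 : S) = φ' c := DFunLike.congr_fun h2 c
  show (w c).fst + (((w c).snd.1 : S) + ((w c).snd.2 : S)) - _ = _
  rw [← a1, ← a2, a0]
  ring

theorem pow_linear [IsOpenImmersion p.left] {S : Type u} [CommRing S] [Algebra R S] (ε : C →ₐ[R] S)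
    (hε : sm ε ≫ p = (1 : tS R S ⟶ B)) (I : Ideal S) (hI : ∀ a ∈ I, ∀ b ∈ I, a * b = 0)
    {φ : C →ₐ[R] S} (hφ : ∀ c, φ c - ε c ∈ I) (n : ℕ) :
    ∃ ψ : C →ₐ[R] S, sm ψ ≫ p = (sm φ ≫ p) ^ n ∧
      ∀ c, ψ c - ε c = n • (φ c - ε c) := by
  induction n with
  | zero =>
    exact ⟨ε, by rw [hε, pow_zero], fun c => by simp⟩
  | succ n ih =>
    obtain ⟨ψ, hψ, hd⟩ := ih
    obtain ⟨χ, hχ, hc⟩ := mul_linear p ε hε I hI (fun c => hd c ▸ nsmul_mem (hφ c) n) hφ
    exact ⟨χ, by rw [hχ, hψ, pow_succ], fun c => by rw [hc, hd, succ_nsmul]⟩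

omit p in
/-- A point over a local algebra killed by `n` invertible and reducing to the unit is the unit. -/
theorem eq_one_of_pow_eq_one [LocallyOfFiniteType B.hom] {W : Type u} [CommRing W] [IsLocalRing W] [Algebra R W]
    (n : ℕ) (hn : IsUnit (n : W)) (d : tS R W ⟶ B) (hd : d ^ n = 1)
    (hres : sm (IsScalarTower.toAlgHom R W (IsLocalRing.ResidueField W)) ≫ d = 1) : d = 1 := by
  classical
  -- pass to the base change along `R → W`, where the unit section has values in `W` itself
  let ρ : W →ₐ[R] IsLocalRing.ResidueField W := IsScalarTower.toAlgHom R W (IsLocalRing.ResidueField W)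
  let q₀ : ↥(tS R W).left := IsLocalRing.closedPoint W
  let b₀ : B.left := ((1 : tS R W ⟶ B)).left.base q₀
  obtain ⟨U, hU, hbU, -⟩ := exists_isAffineOpen_mem_and_subset (x := b₀) (U := ⊤) trivial
  let ψ := Spec.preimage (hU.fromSpec ≫ B.hom)
  have hψ : ψ.hom.FiniteType := by
    refine (HasRingHomProperty.Spec_iff (P := @LocallyOfFiniteType)).mp ?_
    rw [Spec.map_preimage]
    infer_instance
  let : Algebra R Γ(B.left, U) := ψ.hom.toAlgebra
  have : Algebra.FiniteType R Γ(B.left, U) := hψ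
  let p : tS R Γ(B.left, U) ⟶ B := Over.homMk hU.fromSpec (Spec.map_preimage _).symm
  have : IsOpenImmersion p.left := inferInstanceAs (IsOpenImmersion hU.fromSpec)
  have hrange : ∀ x : tS R W ⟶ B, x.left.base q₀ = b₀ → Set.range x.left.base ⊆ Set.range p.left.base := by
    intro x hx
    rintro _ ⟨y, rfl⟩
    show x.left.base y ∈ Set.range hU.fromSpec.base
    rw [hU.range_fromSpec]
    have hy : y ⤳ q₀ := (PrimeSpectrum.le_iff_specializes (R := W) _ _).mp (IsLocalRing.le_maximalIdeal y.isPrime.ne_top)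
    exact ((hy.map x.left.continuous).mem_open U.2 (hx.symm ▸ hbU))
  have hres' : sm ρ ≫ d = sm ρ ≫ (1 : tS R W ⟶ B) := hres.trans (MonObj.comp_one _).symm
  have hq₀ : (sm ρ).left.base (IsLocalRing.closedPoint (IsLocalRing.ResidueField W)) = q₀ :=
    IsLocalRing.comap_closedPoint (IsLocalRing.residue W)
  have hdq : d.left.base q₀ = b₀ := by
    have := congr(($hres').left.base (IsLocalRing.closedPoint (IsLocalRing.ResidueField W)))
    rw [← hq₀]
    exact this.trans (congrArg (1 : tS R W ⟶ B).left.base hq₀)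
  obtain ⟨δ, hδ⟩ := exists_factor p d (hrange d hdq)
  obtain ⟨ε, hε⟩ := exists_factor p (1 : tS R W ⟶ B) (hrange 1 rfl)
  let J : Ideal W := Ideal.span (Set.range fun c => δ c - ε c)
  have hJmem : ∀ c, δ c - ε c ∈ J := fun c => Ideal.subset_span ⟨c, rfl⟩
  have hJm : J ≤ IsLocalRing.maximalIdeal W := by
    rw [Ideal.span_le]
    rintro _ ⟨c, rfl⟩
    have : ρ.comp δ = ρ.comp ε := pt_injective p (by
      rw [← sm_comp, Category.assoc, hδ, ← sm_comp, Category.assoc, hε]; exact hres')
    exact Ideal.Quotient.eq.mp (DFunLike.congr_fun this c)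
  have hJfg : J.FG := by
    obtain ⟨s, hs⟩ := (Algebra.FiniteType.out : (⊤ : Subalgebra R Γ(B.left, U)).FG)
    refine ⟨s.image fun c => δ c - ε c, le_antisymm (Submodule.span_mono ?_) (Ideal.span_le.mpr ?_)⟩
    · rw [Finset.coe_image]
      exact Set.image_subset_range _ _
    · rintro _ ⟨c, rfl⟩
      have hc : c ∈ Algebra.adjoin R (s : Set Γ(B.left, U)) := hs ▸ trivial
      induction hc using Algebra.adjoin_induction with
      | mem c hc => exact Ideal.subset_span (Finset.mem_coe.mpr (Finset.mem_image_of_mem _ hc))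
      | algebraMap r => simp
      | add a b _ _ ha hb =>
        show δ (a + b) - ε (a + b) ∈ _
        rw [map_add, map_add, add_sub_add_comm]
        exact add_mem ha hb
      | mul a b _ _ ha hb =>
        show δ (a * b) - ε (a * b) ∈ _
        rw [map_mul, map_mul, show δ a * δ b - ε a * ε b = δ a * (δ b - ε b) + (δ a - ε a) * ε b by ring]
        exact add_mem (Ideal.mul_mem_left _ _ hb) (Ideal.mul_mem_right _ _ ha)
  have hJJ : J ≤ J ^ 2 := by
    rw [Ideal.span_le]
    rintro _ ⟨c, rfl⟩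
    let S := W ⧸ J ^ 2
    let π : W →ₐ[R] S := Ideal.Quotient.mkₐ R (J ^ 2)
    let I : Ideal S := J.map (Ideal.Quotient.mk (J ^ 2))
    have hI : ∀ a ∈ I, ∀ b ∈ I, a * b = 0 := fun a ha b hb => by
      have h2 : a * b ∈ (J * J).map (Ideal.Quotient.mk (J ^ 2)) := by
        rw [Ideal.map_mul]; exact Ideal.mul_mem_mul ha hb
      rwa [← pow_two, Ideal.map_quotient_self, Ideal.mem_bot] at h2
    have he : sm (π.comp ε) ≫ p = (1 : tS R S ⟶ B) := by
      rw [← sm_comp, Category.assoc, hε, MonObj.comp_one]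
    obtain ⟨χ, hχ, hlin⟩ := pow_linear p (π.comp ε) he I hI (φ := π.comp δ)
      (fun c => by
        show π (δ c) - π (ε c) ∈ I
        rw [← map_sub]
        exact Ideal.mem_map_of_mem _ (hJmem c)) n
    have hχ1 : χ = π.comp ε := pt_injective p (by
      rw [hχ, he, ← sm_comp, Category.assoc, hδ, ← MonObj.comp_pow, hd, MonObj.comp_one])
    have h0 := hlin c
    rw [hχ1, sub_self] at h0
    refine Ideal.Quotient.eq_zero_iff_mem.mp ?_
    show π (δ c - ε c) = 0
    have hnu : IsUnit (n : S) := by simpa using hn.map π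
    rw [map_sub]
    refine (hnu.mul_right_eq_zero).mp ?_
    rw [← nsmul_eq_mul]
    exact h0.symm
  have hJ0 : J = ⊥ := Submodule.eq_bot_of_le_smul_of_le_jacobson_bot J J hJfg
    (hJJ.trans (by rw [pow_two]; rfl)) (hJm.trans (IsLocalRing.maximalIdeal_le_jacobson _))
  have : δ = ε := AlgHom.ext fun c => sub_eq_zero.mp (Ideal.mem_bot.mp (hJ0 ▸ hJmem c))
  rw [← hδ, this, hε]

end Groth.SGA7.TorsionRigid
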