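import Groth.Prelude.Def_SGA7a
import Groth.Agent.SGA7.TorsionRigid
import Groth.Agent.Abvar.Rigidity
import Mathlib.AlgebraicGeometry.ValuativeCriterion

/-! Inertia acts trivially on prime-to-residue-characteristic torsion in case of good reduction. -/

universe u

open CategoryTheory CategoryTheory.Limits MonoidalCategory CartesianMonoidalCategory MonObj AlgebraicGeometry
open Groth.SGA7.TorsionRigid

namespace Groth.SGA7.GoodReductionTorsion

/-- Points of a group over a local base fixed modulo the maximal ideal by an automorphism of a valuation ring. -/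
theorem galois_fix {R Ω : Type u} [CommRing R] [Field Ω] [Algebra R Ω] (W : ValuationSubring Ω)
    (hW : ∀ r, algebraMap R Ω r ∈ W) (σ : Ω →ₐ[R] Ω) (hσ : ∀ x : Ω, x ∈ W → σ x ∈ W ∧ W.valuation (σ x - x) < 1)
    (B : Over (Spec (CommRingCat.of R))) [GrpObj B] [IsProper B.hom] (n : ℕ) (hn : IsUnit (n : W))
    (a : tS R Ω ⟶ B) (ha : ((sm σ ≫ a) * a⁻¹) ^ n = 1) : sm σ ≫ a = a := by
  let : Algebra R W := ((algebraMap R Ω).codRestrict W.toSubring hW).toAlgebra
  have : IsScalarTower R W Ω := IsScalarTower.of_algebraMap_eq fun _ => rfl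
  let j : tS R Ω ⟶ tS R W := sm (IsScalarTower.toAlgHom R W Ω)
  have inj : ∀ a b : tS R W ⟶ B, j ≫ a = j ≫ b → a = b := by
    intro a b h
    have hu : ValuativeCriterion.Uniqueness B.hom := by
      have : IsSeparated B.hom := inferInstance
      rw [IsSeparated.eq_valuativeCriterion] at this
      exact this.1
    let sq : ValuativeCommSq B.hom :=
      { R := W, K := Ω
        i₁ := j.left ≫ b.left
        i₂ := Spec.map (CommRingCat.ofHom (algebraMap R W))
        commSq := ⟨by rw [Category.assoc, Over.w b]; rfl⟩ }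
    have hss := hu sq
    let la : sq.commSq.LiftStruct := ⟨a.left, congrArg Over.Hom.left h, Over.w a⟩
    let lb : sq.commSq.LiftStruct := ⟨b.left, rfl, Over.w b⟩
    exact Over.OverMorphism.ext (congrArg CommSq.LiftStruct.l (Subsingleton.elim la lb))
  have hex : ∃ a' : tS R W ⟶ B, j ≫ a' = a := by
    have he : ValuativeCriterion.Existence B.hom := by
      have : UniversallyClosed B.hom := inferInstance
      rw [UniversallyClosed.eq_valuativeCriterion] at this
      exact this.1
    let sq : ValuativeCommSq B.hom :=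
      { R := W, K := Ω
        i₁ := a.left
        i₂ := Spec.map (CommRingCat.ofHom (algebraMap R W))
        commSq := ⟨by
          rw [Over.w a]
          show Spec.map _ = Spec.map _ ≫ Spec.map _
          rw [← Spec.map_comp]; rfl⟩ }
    obtain ⟨⟨l, hl1, hl2⟩⟩ := he sq
    exact ⟨Over.homMk l hl2, Over.OverMorphism.ext hl1⟩
  obtain ⟨a', rfl⟩ := hex
  let σW : W →ₐ[R] W :=
    { toFun := fun x => ⟨σ x, (hσ x x.2).1⟩
      map_one' := Subtype.ext (map_one σ)
      map_zero' := Subtype.ext (map_zero σ)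
      map_add' := fun x y => Subtype.ext (map_add σ (x : Ω) y)
      map_mul' := fun x y => Subtype.ext (map_mul σ (x : Ω) y)
      commutes' := fun r => Subtype.ext (σ.commutes r) }
  have hsq : sm σ ≫ j = j ≫ sm σW := by
    rw [sm_comp, sm_comp]
    exact congrArg sm (AlgHom.ext fun x => rfl)
  have key : (sm σW ≫ a') * a'⁻¹ = 1 := by
    refine eq_one_of_pow_eq_one n hn _ (inj _ _ ?_) ?_
    · rw [MonObj.comp_pow, MonObj.comp_mul, MonObj.comp_one, ← Category.assoc, ← hsq, GrpObj.comp_inv,
        Category.assoc, ha]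
    · have hres : (IsScalarTower.toAlgHom R W (IsLocalRing.ResidueField W)).comp σW =
          IsScalarTower.toAlgHom R W (IsLocalRing.ResidueField W) := AlgHom.ext fun x => by
        refine Ideal.Quotient.eq.mpr ?_
        exact (W.valuation_lt_one_iff (σW x - x)).mpr (hσ x x.2).2
      rw [MonObj.comp_mul, GrpObj.comp_inv, ← Category.assoc, sm_comp, hres, mul_inv_cancel]
  rw [← Category.assoc, hsq, Category.assoc, mul_inv_eq_one.mp key]

section

variable {R K Ω : Type u} [CommRing R] [Field K] [Algebra R K] [Field Ω] [Algebra K Ω] [Algebra R Ω]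
  [IsScalarTower R K Ω] (B : Over (Spec (CommRingCat.of R)))

/-- The unit of the adjunction at `Spec Ω`. -/
noncomputable def diag : SGA7.pt Ω ⟶ (Over.pullback (Spec.map (CommRingCat.ofHom (algebraMap R K)))).obj (tS R Ω) :=
  Over.homMk (pullback.lift (𝟙 _) (Spec.map (CommRingCat.ofHom (algebraMap K Ω))) (by
    show 𝟙 _ ≫ Spec.map _ = Spec.map _ ≫ Spec.map _
    rw [Category.id_comp, ← Spec.map_comp, ← CommRingCat.ofHom_comp, ← IsScalarTower.algebraMap_eq]))
    (pullback.lift_snd _ _ _)

/-- Points of the generic fibre are points of the scheme. -/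
noncomputable def toGen (a : tS R Ω ⟶ B) :
    SGA7.pt Ω ⟶ (Over.pullback (Spec.map (CommRingCat.ofHom (algebraMap R K)))).obj B :=
  diag ≫ (Over.pullback (Spec.map (CommRingCat.ofHom (algebraMap R K)))).map a

theorem toGen_fst (a : tS R Ω ⟶ B) :
    (toGen (K := K) B a).left ≫ pullback.fst B.hom _ = a.left := by
  show (pullback.lift _ _ _ ≫ pullback.lift _ _ _) ≫ pullback.fst _ _ = _
  rw [Category.assoc, pullback.lift_fst, ← Category.assoc, pullback.lift_fst, Category.id_comp]

theorem toGen_injective : Function.Injective (toGen (K := K) (Ω := Ω) B) := fun a b h => by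
  apply Over.OverMorphism.ext
  rw [← toGen_fst (K := K) B a, h, toGen_fst]

theorem toGen_surjective : Function.Surjective (toGen (K := K) (Ω := Ω) B) := fun x => by
  refine ⟨Over.homMk (x.left ≫ pullback.fst B.hom _) ?_, Over.OverMorphism.ext ?_⟩
  · show (x.left ≫ pullback.fst _ _) ≫ B.hom = Spec.map _
    rw [Category.assoc, pullback.condition, ← Category.assoc]
    refine (congrArg (· ≫ _) (Over.w x)).trans ?_
    show Spec.map _ ≫ Spec.map _ = _
    rw [← Spec.map_comp, ← CommRingCat.ofHom_comp, ← IsScalarTower.algebraMap_eq]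
  · apply pullback.hom_ext
    · exact toGen_fst B _
    · exact (Over.w (toGen (K := K) B _)).trans (Over.w x).symm

end

theorem inertia_fix {R K Ω : Type u} [CommRing R] [IsLocalRing R] [Field K] [Algebra R K] [Field Ω] [Algebra K Ω]
    (W : ValuationSubring Ω) (hW : SGA7.LiesOver K R W) (n : ℕ) (hn : (n : IsLocalRing.ResidueField R) ≠ 0)
    (A : Over (Spec (CommRingCat.of K))) [GrpObj A] [IsProper A.hom] [GeometricallyIntegral A.hom]
    (B : Over (Spec (CommRingCat.of R))) [GrpObj B] [IsProper B.hom]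
    (e : (Over.pullback (Spec.map (CommRingCat.ofHom (algebraMap R K)))).obj B ≅ A)
    (σ : Ω ≃ₐ[K] Ω) (hσ : SGA7.IsInertia W σ) (x : SGA7.Pts Ω A) (hx : x ^ n = 1) :
    SGA7.galAct σ x = x := by
  let F := Over.pullback (Spec.map (CommRingCat.ofHom (algebraMap R K)))
  let : GrpObj (F.obj B) := Functor.grpObjObj
  have : IsIso e.hom.left := (Over.forget _).map_isIso e.hom
  have hZ : (F.obj B).hom = e.hom.left ≫ A.hom := (Over.w e.hom).symm
  have : IsProper (F.obj B).hom := by rw [hZ]; infer_instance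
  have : GeometricallyIntegral (F.obj B).hom := by
    rw [hZ]; exact (MorphismProperty.cancel_left_of_respectsIso @GeometricallyIntegral e.hom.left A.hom).mpr inferInstance
  have := AlgebraicGeometry.isCommMonObj_of_isProper_of_geometricallyIntegral (F.obj B)
  let h : A ⟶ F.obj B := e.inv * (toUnit A ≫ η[A] ≫ e.inv)⁻¹
  have : IsMonHom h := Groth.Abvar.isMonHom_mul_inv e.inv
  have hcomp : ∀ y : SGA7.Pts Ω A, y ≫ h = (y ≫ e.inv) * (toUnit _ ≫ η[A] ≫ e.inv)⁻¹ := fun y => by
    rw [MonObj.comp_mul, GrpObj.comp_inv, ← Category.assoc, toUnit_unique (y ≫ toUnit A) (toUnit _)]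
  have hinj : ∀ y y' : SGA7.Pts Ω A, y ≫ h = y' ≫ h → y = y' := fun y y' hyy => by
    rw [hcomp, hcomp] at hyy
    exact (cancel_mono e.inv).mp (mul_right_cancel hyy)
  let : Algebra R Ω := ((algebraMap K Ω).comp (algebraMap R K)).toAlgebra
  have : IsScalarTower R K Ω := IsScalarTower.of_algebraMap_eq fun _ => rfl
  obtain ⟨a, ha⟩ := toGen_surjective (K := K) B (x ≫ h)
  let σR : Ω →ₐ[R] Ω := σ.toAlgHom.restrictScalars R
  have hgal : toGen (K := K) B (sm σR ≫ a) = SGA7.galAct σ x ≫ h := by
    rw [SGA7.galAct, Category.assoc, ← ha]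
    apply Over.OverMorphism.ext
    apply pullback.hom_ext
    · rw [toGen_fst, Over.comp_left, Over.comp_left, Category.assoc, toGen_fst]
      rfl
    · exact (Over.w (toGen (K := K) B (sm σR ≫ a))).trans (Over.w (SGA7.specAut σ ≫ toGen (K := K) B a)).symm
  let φ : (tS R Ω ⟶ B) →* (SGA7.pt Ω ⟶ F.obj B) :=
    { toFun := toGen B
      map_one' := by rw [toGen, Functor.map_one, MonObj.comp_one]
      map_mul' := fun p q => by rw [toGen, Functor.map_mul, MonObj.comp_mul]; rfl }
  have hnW : IsUnit ((n : ℕ) : W) := by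
    have hu : IsUnit ((n : ℕ) : R) := IsLocalRing.notMem_maximalIdeal.mp fun hm => hn (by
      rw [← map_natCast (IsLocalRing.residue R)]
      exact Ideal.Quotient.eq_zero_iff_mem.mpr hm)
    simpa using hu.map ((algebraMap R Ω).codRestrict W.toSubring hW.1)
  have hpow : ((sm σR ≫ a) * a⁻¹) ^ n = 1 := by
    apply toGen_injective (K := K) B
    show φ (((sm σR ≫ a) * a⁻¹) ^ n) = φ 1
    rw [map_pow, map_mul, map_inv, map_one]
    show (toGen B (sm σR ≫ a) * (toGen B a)⁻¹) ^ n = 1
    rw [hgal, ha, mul_pow, inv_pow]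
    have h1 : (SGA7.galAct σ x ≫ h) ^ n = 1 := by
      rw [SGA7.galAct, Category.assoc, ← MonObj.comp_pow, ← MonObj.pow_comp, hx, MonObj.one_comp, MonObj.comp_one]
    have h2 : (x ≫ h) ^ n = 1 := by rw [← MonObj.pow_comp, hx, MonObj.one_comp]
    rw [h1, h2, inv_one, _root_.mul_one]
  have hfix := galois_fix W hW.1 σR hσ B n hnW a hpow
  exact hinj _ _ (by rw [← hgal, hfix, ha])

end Groth.SGA7.GoodReductionTorsion
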