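import Mathlib.RingTheory.Etale.StandardEtale
import Mathlib.RingTheory.Etale.Basic
import Mathlib.RingTheory.Spectrum.Prime.Chevalley
import Mathlib.RingTheory.Flat.Localization
import Mathlib.RingTheory.Smooth.Flat
import Mathlib.LinearAlgebra.Matrix.NonsingularInverse
import Mathlib.LinearAlgebra.Matrix.ToLin
import Mathlib.FieldTheory.IsAlgClosed.AlgebraicClosure
import Mathlib.RingTheory.LocalRing.ResidueField.Ideal
import Mathlib.Tactic

/-! A nondegenerate quadratic form of even rank is étale locally hyperbolic. A quadratic form is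
given by any square table `a`, its value being `x ⬝ᵥ a *ᵥ x` and its Gram matrix `a + aᵀ`. -/

set_option autoImplicit false

namespace Groth.SGA7.SplitForm

open Matrix

universe u

section Ring

variable {S : Type u} [CommRing S] {ι κ : Type*} [Fintype ι] [DecidableEq ι] [Fintype κ] [DecidableEq κ]

/-- The quadratic form of a table. -/
def Q (a : Matrix ι ι S) (x : ι → S) : S := x ⬝ᵥ (a *ᵥ x)

/-- The polar form. -/
def B (a : Matrix ι ι S) (x y : ι → S) : S := x ⬝ᵥ ((a + aᵀ) *ᵥ y)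

theorem B_comm (a : Matrix ι ι S) (x y : ι → S) : B a x y = B a y x := by
  unfold B
  rw [dotProduct_comm, ← vecMul_transpose, ← dotProduct_mulVec, transpose_add, transpose_transpose, add_comm aᵀ]

theorem dot_transpose (a : Matrix ι ι S) (x y : ι → S) : x ⬝ᵥ (aᵀ *ᵥ y) = y ⬝ᵥ (a *ᵥ x) := by
  rw [mulVec_transpose, dotProduct_comm, ← dotProduct_mulVec]

theorem B_eq (a : Matrix ι ι S) (x y : ι → S) : B a x y = x ⬝ᵥ (a *ᵥ y) + y ⬝ᵥ (a *ᵥ x) := by
  rw [B, add_mulVec, dotProduct_add, dot_transpose]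

theorem B_self (a : Matrix ι ι S) (x : ι → S) : B a x x = 2 * Q a x := by
  rw [B_eq, Q]; ring

theorem B_add_left (a : Matrix ι ι S) (x y z : ι → S) : B a (x + y) z = B a x z + B a y z := add_dotProduct _ _ _

theorem B_smul_left (a : Matrix ι ι S) (c : S) (x z : ι → S) : B a (c • x) z = c * B a x z := by
  simp [B, smul_dotProduct]

theorem B_smul_right (a : Matrix ι ι S) (c : S) (x z : ι → S) : B a x (c • z) = c * B a x z := by
  simp [B, mulVec_smul, dotProduct_smul]

theorem B_add_right (a : Matrix ι ι S) (x y z : ι → S) : B a z (x + y) = B a z x + B a z y := by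
  simp [B, mulVec_add, dotProduct_add]

theorem B_sub_right (a : Matrix ι ι S) (x y z : ι → S) : B a z (x - y) = B a z x - B a z y := by
  simp [B, mulVec_sub, dotProduct_sub]

theorem Q_lin (a : Matrix ι ι S) (s t : S) (x y : ι → S) :
    Q a (s • x + t • y) = s ^ 2 * Q a x + s * t * B a x y + t ^ 2 * Q a y := by
  rw [B_eq]
  simp only [Q, mulVec_add, mulVec_smul, add_dotProduct, dotProduct_add, smul_dotProduct, dotProduct_smul, smul_eq_mul]
  ring

theorem Q_conj (a : Matrix ι ι S) (g : Matrix ι κ S) (x : κ → S) : Q (gᵀ * a * g) x = Q a (g *ᵥ x) := by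
  rw [Q, Q, ← mulVec_mulVec, ← mulVec_mulVec, dotProduct_mulVec x gᵀ, vecMul_transpose]

theorem conj_apply (a : Matrix ι ι S) (g : Matrix ι κ S) (i j : κ) :
    (gᵀ * a * g) i j = (fun l => g l i) ⬝ᵥ (a *ᵥ fun l => g l j) := by
  simp only [Matrix.mul_apply, transpose_apply, dotProduct, mulVec, Finset.sum_mul, Finset.mul_sum, mul_assoc]
  exact Finset.sum_comm

theorem gram_conj (a : Matrix ι ι S) (g : Matrix ι κ S) :
    gᵀ * a * g + (gᵀ * a * g)ᵀ = gᵀ * (a + aᵀ) * g := by
  simp [transpose_mul, Matrix.mul_add, Matrix.add_mul, Matrix.mul_assoc]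

theorem gram_apply (a : Matrix ι ι S) (g : Matrix ι κ S) (i j : κ) :
    (gᵀ * (a + aᵀ) * g) i j = B a (fun l => g l i) (fun l => g l j) := conj_apply _ _ _ _

theorem Q_congr {a b : Matrix ι ι S} (h : a + aᵀ = b + bᵀ) (hd : ∀ i, a i i = b i i) (x : ι → S) : Q a x = Q b x := by
  rw [← sub_eq_zero]
  have e : Q a x - Q b x = ∑ p : ι × ι, (a p.1 p.2 - b p.1 p.2) * (x p.1 * x p.2) := by
    simp only [Q, dotProduct, mulVec, Finset.mul_sum, ← Finset.sum_sub_distrib, Fintype.sum_prod_type]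
    exact Finset.sum_congr rfl fun i _ => Finset.sum_congr rfl fun j _ => by ring
  rw [e]
  refine Finset.sum_involution (fun p _ => p.swap) (fun p _ => ?_) (fun p _ hp hswap => hp ?_) (fun _ _ => Finset.mem_univ _)
    (fun p _ => p.swap_swap)
  · have := congrFun (congrFun h p.1) p.2
    simp only [Matrix.add_apply, transpose_apply] at this
    simp only [Prod.fst_swap, Prod.snd_swap]
    linear_combination (x p.1 * x p.2) * this
  · have : p.2 = p.1 := congrArg Prod.fst hswap
    rw [this, hd, sub_self, zero_mul]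

theorem Q_map {T : Type u} [CommRing T] (f : S →+* T) (a : Matrix ι ι S) (x : ι → S) :
    Q (a.map f) (f ∘ x) = f (Q a x) := by
  rw [Q, Q, f.map_dotProduct]
  congr 1
  funext i
  exact (f.map_mulVec a x i).symm

theorem B_map {T : Type u} [CommRing T] (f : S →+* T) (a : Matrix ι ι S) (x y : ι → S) :
    B (a.map f) (f ∘ x) (f ∘ y) = f (B a x y) := by
  rw [B, B, f.map_dotProduct]
  congr 1
  funext i
  rw [Function.comp_apply, f.map_mulVec]
  simp [Matrix.map_add, transpose_map]

theorem det_gram_map {T : Type u} [CommRing T] (f : S →+* T) {a : Matrix ι ι S} (h : IsUnit (a + aᵀ).det) :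
    IsUnit (a.map f + (a.map f)ᵀ).det := by
  have : a.map f + (a.map f)ᵀ = f.mapMatrix (a + aᵀ) := by
    simp [Matrix.map_add, transpose_map]
  rw [this, ← RingHom.map_det]
  exact h.map f

/-- The split table. -/
def hyp (S : Type u) [CommRing S] (m : ℕ) : Matrix (Fin m ⊕ Fin m) (Fin m ⊕ Fin m) S := fromBlocks 0 1 0 0

theorem Q_hyp (m : ℕ) (x : Fin m ⊕ Fin m → S) : Q (hyp S m) x = ∑ j, x (.inl j) * x (.inr j) := by
  simp [Q, hyp, fromBlocks_mulVec, dotProduct, Fintype.sum_sum_type]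

theorem det_outer (u : ι → S) {i₀ i₁ : ι} (h : i₀ ≠ i₁) : (Matrix.of fun i j => u i * u j).det = 0 := by
  have : (Matrix.of fun i j => u i * u j) =
      (Matrix.of fun i l => if l = i₀ then u i else 0) * (Matrix.of fun l j => if l = i₀ then u j else 0) := by
    ext i j
    simp [Matrix.mul_apply, ite_mul]
  rw [this, det_mul, det_eq_zero_of_column_eq_zero i₁ (fun i => by simp [h.symm]), zero_mul]

end Ring

variable {ι : Type} [Fintype ι] [DecidableEq ι]

/-- Two vectors spanning a nondegenerate plane at a point. -/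
theorem exists_disc {A K : Type u} [CommRing A] [Field K] (χ : A →+* K) (a : Matrix ι ι A) (hdet : IsUnit (a + aᵀ).det)
    (i₀ i₁ : ι) (hne : i₀ ≠ i₁) :
    ∃ e f : ι → A, χ (B a e f ^ 2 - 4 * (Q a e * Q a f)) ≠ 0 := by
  classical
  have hG : ∀ i j, (a + aᵀ) i j = B a (Pi.single i 1) (Pi.single j 1) := fun i j => by simp [B]
  have hdet' : χ (a + aᵀ).det ≠ 0 := (hdet.map χ).ne_zero
  have hnz : ∃ i j, χ ((a + aᵀ) i j) ≠ 0 := by
    by_contra h
    push Not at h
    apply hdet'
    rw [RingHom.map_det]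
    exact det_eq_zero_of_row_eq_zero i₀ fun j => h i₀ j
  obtain ⟨i, j, hij⟩ := hnz
  by_cases h2 : (2 : K) = 0
  · refine ⟨Pi.single i 1, Pi.single j 1, ?_⟩
    have h4 : (4 : K) = 0 := by rw [show (4 : K) = 2 * 2 by norm_num, h2, zero_mul]
    rw [map_sub, map_mul χ 4, map_ofNat, h4, zero_mul, sub_zero, map_pow, ← hG]
    exact pow_ne_zero _ hij
  have anis : ∀ π : (ι → A) → (ι → A), (∀ x y, π (x + y) = π x + π y) →
      (∃ i j, χ (B a (π (Pi.single i 1)) (π (Pi.single j 1))) ≠ 0) → ∃ x, χ (B a (π x) (π x)) ≠ 0 := by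
    rintro π hπ ⟨i, j, hij⟩
    by_contra h
    push Not at h
    have h3 := h (Pi.single i 1 + Pi.single j 1)
    rw [hπ, B_add_left, B_add_right, B_add_right, B_comm a (π (Pi.single j 1)) (π (Pi.single i 1))] at h3
    simp only [map_add, h (Pi.single i 1), h (Pi.single j 1)] at h3
    exact hij ((mul_eq_zero.mp (show (2 : K) * χ (B a (π (Pi.single i 1)) (π (Pi.single j 1))) = 0 by
      linear_combination h3)).resolve_left h2)
  obtain ⟨e, he⟩ := anis id (fun _ _ => rfl) ⟨i, j, by simpa [← hG] using hij⟩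
  simp only [id] at he
  set c := B a e e with hc
  let π : (ι → A) → (ι → A) := fun x => c • x - B a e x • e
  have hπ : ∀ x y, π (x + y) = π x + π y := fun x y => by
    simp only [π, B_add_right, smul_add, add_smul]; abel
  have horth : ∀ x, B a e (π x) = 0 := fun x => by
    simp only [π, B_sub_right, B_smul_right, ← hc]; ring
  have hππ : ∀ x y, B a (π x) (π y) = c ^ 2 * B a x y - c * (B a e x * B a e y) := fun x y => by
    rw [show π y = c • y - B a e y • e from rfl, B_sub_right, B_smul_right, B_smul_right, B_comm a (π x) e, horth,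
      B_comm a (π x) y, show π x = c • x - B a e x • e from rfl, B_sub_right, B_smul_right, B_smul_right,
      B_comm a y x, B_comm a y e]
    ring
  obtain ⟨x, hx⟩ := anis π hπ (by
    by_contra h
    push Not at h
    apply hdet'
    have hK : ∀ i j, χ c * χ ((a + aᵀ) i j) = χ (B a e (Pi.single i 1)) * χ (B a e (Pi.single j 1)) := fun i j => by
      have := h i j
      rw [hππ, ← hG, map_sub, map_mul, map_mul, map_pow, map_mul, sub_eq_zero] at this
      exact mul_left_cancel₀ he (by linear_combination this)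
    have : ((χ c) • (a + aᵀ).map χ).det = 0 := by
      rw [show (χ c) • (a + aᵀ).map χ = Matrix.of fun i j => χ (B a e (Pi.single i 1)) * χ (B a e (Pi.single j 1)) from
        Matrix.ext fun i j => by rw [Matrix.smul_apply, Matrix.map_apply, smul_eq_mul, hK, Matrix.of_apply]]
      exact det_outer _ hne
    rw [det_smul, mul_eq_zero] at this
    rw [RingHom.map_det]
    exact this.resolve_left (pow_ne_zero _ he))
  refine ⟨e, π x, ?_⟩
  rw [horth, show (0 : A) ^ 2 - 4 * (Q a e * Q a (π x)) = -(B a e e * B a (π x) (π x)) by rw [B_self, B_self]; ring,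
    map_neg, neg_ne_zero, map_mul]
  exact mul_ne_zero he hx

variable {A K : Type u} [CommRing A] [Field K] [IsAlgClosed K]

/-- Étale locally there is a hyperbolic pair. -/
theorem exists_pair (χ : A →+* K) (a : Matrix ι ι A) (hdet : IsUnit (a + aᵀ).det) (i₀ i₁ : ι) (hne : i₀ ≠ i₁) :
    ∃ (A' : Type u) (_ : CommRing A') (_ : Algebra A A'), Algebra.Etale A A' ∧
      ∃ χ' : A' →+* K, χ'.comp (algebraMap A A') = χ ∧
      ∃ v w : ι → A', Q (a.map (algebraMap A A')) v = 0 ∧ Q (a.map (algebraMap A A')) w = 0 ∧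
        B (a.map (algebraMap A A')) v w = 1 := by
  classical
  obtain ⟨e₀, f₀, hD₀⟩ := exists_disc χ a hdet i₀ i₁ hne
  obtain ⟨e, f, hD, he⟩ : ∃ e f : ι → A, χ (B a e f ^ 2 - 4 * (Q a e * Q a f)) ≠ 0 ∧ χ (Q a e) ≠ 0 := by
    by_cases h1 : χ (Q a e₀) = 0
    · by_cases h2 : χ (Q a f₀) = 0
      · refine ⟨e₀ + f₀, f₀, ?_, ?_⟩
        · have hq := Q_lin a 1 1 e₀ f₀
          rw [one_smul, one_smul] at hq
          rw [hq, B_add_left, B_self]
          convert hD₀ using 2
          ring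
        · have hq := Q_lin a 1 1 e₀ f₀
          rw [one_smul, one_smul] at hq
          rw [map_sub, map_mul, map_mul, h1, zero_mul, mul_zero, sub_zero, map_pow] at hD₀
          rw [hq]
          simpa [h1, h2] using fun h => hD₀ (by rw [h]; ring)
      · refine ⟨f₀, e₀, ?_, h2⟩
        rw [B_comm, mul_comm (Q a f₀)]
        exact hD₀
    · exact ⟨e₀, f₀, hD₀, h1⟩
  set h := (B a e f ^ 2 - 4 * (Q a e * Q a f)) * Q a e with hh
  have hχh : IsUnit (χ h) := (isUnit_iff_ne_zero.mpr (by rw [hh, map_mul]; exact mul_ne_zero hD he))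
  let A₁ := Localization.Away h
  let χ₁ : A₁ →+* K := IsLocalization.Away.lift h hχh
  let φ := algebraMap A A₁
  have hu : IsUnit (φ h) := IsLocalization.Away.algebraMap_isUnit h
  have hu' : IsUnit (φ (B a e f ^ 2 - 4 * (Q a e * Q a f)) * φ (Q a e)) := by rw [← map_mul]; exact hu
  obtain ⟨hDu, heu⟩ := IsUnit.mul_iff.mp hu'
  set ia := ↑heu.unit⁻¹ with hia
  have hia1 : φ (Q a e) * ia = 1 := heu.mul_val_inv
  set b := φ (B a e f) * ia with hb
  set c := φ (Q a f) * ia with hcdef
  have hdisc : IsUnit (b ^ 2 - 4 * c) := by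
    rw [hb, hcdef, show (φ (B a e f) * ia) ^ 2 - 4 * (φ (Q a f) * ia) = φ (B a e f ^ 2 - 4 * (Q a e * Q a f)) * ia ^ 2 by
      rw [map_sub, map_pow, map_mul, map_mul, map_ofNat]; linear_combination 4 * φ (Q a f) * ia * hia1]
    exact hDu.mul (heu.unit⁻¹.isUnit.pow 2)
  let P : StandardEtalePair A₁ :=
    { f := Polynomial.X ^ 2 + (Polynomial.C b * Polynomial.X + Polynomial.C c)
      monic_f := Polynomial.monic_X_pow_add (lt_of_le_of_lt Polynomial.degree_linear_le (by exact_mod_cast one_lt_two))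
      g := 1
      cond := by
        refine ⟨(2 * Polynomial.X + Polynomial.C b) * Polynomial.C (↑hdisc.unit⁻¹ : A₁), -4 * Polynomial.C (↑hdisc.unit⁻¹ : A₁), 1, ?_⟩
        have hC : (Polynomial.C b ^ 2 - 4 * Polynomial.C c) * Polynomial.C (↑hdisc.unit⁻¹ : A₁) = 1 := by
          rw [← Polynomial.C_ofNat, ← Polynomial.C_pow, ← Polynomial.C_mul, ← Polynomial.C_sub, ← Polynomial.C_mul,
            hdisc.mul_val_inv, Polynomial.C_1]
        simp only [Polynomial.derivative_add, Polynomial.derivative_mul, Polynomial.derivative_C, Polynomial.derivative_X,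
          Polynomial.derivative_X_pow, zero_mul, zero_add, mul_one, add_zero, Nat.cast_ofNat, pow_one]
        rw [Polynomial.C_ofNat]
        linear_combination hC }
  letI : Algebra A₁ K := χ₁.toAlgebra
  obtain ⟨r, hr⟩ := IsAlgClosed.exists_root (Polynomial.X ^ 2 +
    (Polynomial.C (χ₁ b) * Polynomial.X + Polynomial.C (χ₁ c)) : Polynomial K)
    (by rw [Polynomial.degree_add_eq_left_of_degree_lt]
        · simp
        · rw [Polynomial.degree_X_pow]; exact lt_of_le_of_lt Polynomial.degree_linear_le (by exact_mod_cast one_lt_two))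
  have hmap : P.HasMap r := by
    refine ⟨?_, by simp [P]⟩
    have : algebraMap A₁ K = χ₁ := rfl
    simpa [P, this] using hr
  letI : Algebra A P.Ring := Algebra.compHom P.Ring φ
  haveI : IsScalarTower A A₁ P.Ring := IsScalarTower.of_algebraMap_eq fun _ => rfl
  haveI : Algebra.Etale A A₁ := Algebra.Etale.of_isLocalizationAway h
  refine ⟨P.Ring, inferInstance, inferInstance, Algebra.Etale.comp A A₁ P.Ring, (P.lift r hmap).toRingHom, ?_, ?_⟩
  · refine RingHom.ext fun z => ?_
    change P.lift r hmap (algebraMap A₁ P.Ring (φ z)) = χ z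
    rw [AlgHom.commutes]
    exact IsLocalization.Away.lift_eq h hχh z
  set ψ := algebraMap A P.Ring with hψ
  set σ := algebraMap A₁ P.Ring with hσ
  set T := P.X with hT
  have hXrel : T ^ 2 + (σ b * T + σ c) = 0 := by
    have h0 := P.hasMap_X.1
    simpa [P] using h0
  have hQe : ψ (Q a e) * σ ia = 1 := by
    rw [show ψ (Q a e) = σ (φ (Q a e)) from rfl, ← map_mul, hia1, map_one]
  have hb' : σ b = ψ (B a e f) * σ ia := by rw [hb, map_mul]; rfl
  have hc' : σ c = ψ (Q a f) * σ ia := by rw [hcdef, map_mul]; rfl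
  have hiso : T ^ 2 * ψ (Q a e) + T * ψ (B a e f) + ψ (Q a f) = 0 := by
    rw [hb', hc'] at hXrel
    linear_combination ψ (Q a e) * hXrel - (T * ψ (B a e f) + ψ (Q a f)) * hQe
  set d := 2 * T * ψ (Q a e) + ψ (B a e f) with hd
  have hdu : IsUnit d := by
    refine (isUnit_pow_iff two_ne_zero).mp ?_
    have : d ^ 2 = ψ (B a e f ^ 2 - 4 * (Q a e * Q a f)) := by
      rw [map_sub, map_pow, map_mul, map_mul, map_ofNat, hd]; linear_combination 4 * ψ (Q a e) * hiso
    rw [this, show ψ = σ.comp φ from rfl, RingHom.comp_apply]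
    exact hDu.map σ
  let v : ι → P.Ring := T • (ψ ∘ e) + (1 : P.Ring) • (ψ ∘ f)
  let w₀ : ι → P.Ring := (↑hdu.unit⁻¹ : P.Ring) • (ψ ∘ e)
  have hv : Q (a.map ψ) v = 0 := by
    rw [Q_lin, Q_map, B_map, Q_map]; linear_combination hiso
  have hvw : B (a.map ψ) v w₀ = 1 := by
    rw [B_add_left, B_smul_left, B_smul_left, one_mul, B_smul_right, B_smul_right, B_map, B_map, B_self, B_comm a f e,
      map_mul, map_ofNat]
    linear_combination hdu.mul_val_inv
  refine ⟨v, (1 : P.Ring) • w₀ + (- Q (a.map ψ) w₀) • v, hv, ?_, ?_⟩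
  · rw [Q_lin, hv, B_comm, hvw]; ring
  · rw [B_add_right, B_smul_right (a.map ψ), B_smul_right (a.map ψ) _ v v, hvw, B_self, hv]; ring

/-- Splitting off a hyperbolic pair after a localisation. -/
theorem exists_complement {ι' : Type} [Fintype ι'] [DecidableEq ι'] (χ : A →+* K) (a : Matrix ι ι A)
    (hdet : IsUnit (a + aᵀ).det) (hcard : Fintype.card ι = Fintype.card ι' + 2)
    (v w : ι → A) (hv : Q a v = 0) (hw : Q a w = 0) (hvw : B a v w = 1) :
    ∃ (A' : Type u) (_ : CommRing A') (_ : Algebra A A'), Algebra.Etale A A' ∧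
      ∃ χ' : A' →+* K, χ'.comp (algebraMap A A') = χ ∧
      ∃ (g : Matrix ι ((Fin 1 ⊕ Fin 1) ⊕ ι') A') (a' : Matrix ι' ι' A'), IsUnit (a' + a'ᵀ).det ∧
        (∀ e : ((Fin 1 ⊕ Fin 1) ⊕ ι') ≃ ι, IsUnit (g.submatrix e id).det) ∧
        ∀ x, Q (gᵀ * a.map (algebraMap A A') * g) x = Q (fromBlocks (hyp A' 1) 0 0 a') x := by
  classical
  let P : ι → (ι → A) := fun i => Pi.single i 1 - B a (Pi.single i 1) w • v - B a (Pi.single i 1) v • w
  have hPv : ∀ i, B a v (P i) = 0 := fun i => by
    simp only [P, B_sub_right, B_smul_right, B_self, hv, hvw, B_comm a v (Pi.single i 1)]; ring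
  have hwv : B a w v = 1 := (B_comm a w v).trans hvw
  have hPw : ∀ i, B a w (P i) = 0 := fun i => by
    simp only [P, B_sub_right, B_smul_right, B_self, hw, hwv, B_comm a w (Pi.single i 1)]; ring
  -- choose a basis of the complement at the point
  obtain ⟨κ, sel, hsel, hspan, hli⟩ := exists_linearIndependent' K (fun i => χ ∘ P i)
  haveI : Finite κ := Finite.of_injective sel hsel
  haveI : Fintype κ := Fintype.ofFinite κ
  let cols : (Fin 1 ⊕ Fin 1) ⊕ κ → (ι → A) := Sum.elim (Sum.elim (fun _ => v) (fun _ => w)) (fun k => P (sel k))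
  let colsK : (Fin 1 ⊕ Fin 1) ⊕ κ → (ι → K) := fun s => χ ∘ cols s
  have hind : LinearIndependent K colsK := by
    rw [Fintype.linearIndependent_iff]
    intro r hr
    have key : ∀ z : ι → A, ∑ s, r s * χ (B a z (cols s)) = 0 := fun z => by
      have := congrArg (fun y => B (a.map χ) (χ ∘ z) y) hr
      simp only [B, mulVec_zero, dotProduct_zero, mulVec_sum, dotProduct_sum, mulVec_smul, dotProduct_smul, smul_eq_mul] at this
      rw [← this]
      exact Finset.sum_congr rfl fun s _ => by rw [← B_map χ a z (cols s)]; rfl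
    have h0 : r (.inl (.inl 0)) = 0 := by
      have := key w
      simp [Fintype.sum_sum_type, cols, B_self, hw, hwv, hPw] at this
      exact this
    have h1 : r (.inl (.inr 0)) = 0 := by
      have := key v
      simp [Fintype.sum_sum_type, cols, B_self, hv, hvw, hPv] at this
      exact this
    have h2 : ∀ k, r (.inr k) = 0 := by
      refine Fintype.linearIndependent_iff.mp hli (fun k => r (.inr k)) ?_
      simpa [Fintype.sum_sum_type, colsK, cols, h0, h1] using hr
    rintro ((s | s) | k)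
    · rw [Subsingleton.elim s 0]; exact h0
    · rw [Subsingleton.elim s 0]; exact h1
    · exact h2 k
  have htop : ⊤ ≤ Submodule.span K (Set.range colsK) := by
    rw [← (Pi.basisFun K ι).span_eq, Submodule.span_le]
    rintro _ ⟨i, rfl⟩
    have hP : χ ∘ P i ∈ Submodule.span K (Set.range colsK) := by
      have h1 : χ ∘ P i ∈ Submodule.span K (Set.range fun i => χ ∘ P i) := Submodule.subset_span ⟨i, rfl⟩
      rw [← hspan] at h1
      refine Submodule.span_mono (Set.range_subset_iff.mpr fun k => ?_) h1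
      exact ⟨Sum.inr k, rfl⟩
    have hv' : χ ∘ v ∈ Submodule.span K (Set.range colsK) := Submodule.subset_span ⟨.inl (.inl 0), rfl⟩
    have hw' : χ ∘ w ∈ Submodule.span K (Set.range colsK) := Submodule.subset_span ⟨.inl (.inr 0), rfl⟩
    have e : Pi.basisFun K ι i = χ ∘ P i + χ (B a (Pi.single i 1) w) • (χ ∘ v) + χ (B a (Pi.single i 1) v) • (χ ∘ w) := by
      funext l
      simp [P, Pi.single_apply, apply_ite χ]
      ring
    rw [SetLike.mem_coe, e]
    exact add_mem (add_mem hP (Submodule.smul_mem _ _ hv')) (Submodule.smul_mem _ _ hw')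
  have hκ : Fintype.card κ = Fintype.card ι' := by
    have := Module.finrank_eq_card_basis (Module.Basis.mk hind htop)
    rw [Module.finrank_fintype_fun_eq_card, hcard] at this
    simp at this; omega
  let eκ : κ ≃ ι' := Fintype.equivOfCardEq hκ
  let eJ : (Fin 1 ⊕ Fin 1) ⊕ ι' ≃ (Fin 1 ⊕ Fin 1) ⊕ κ := Equiv.sumCongr (Equiv.refl _) eκ.symm
  let g₀ : Matrix ι ((Fin 1 ⊕ Fin 1) ⊕ ι') A := Matrix.of fun l s => cols (eJ s) l
  have e₀ : (Fin 1 ⊕ Fin 1) ⊕ ι' ≃ ι := Fintype.equivOfCardEq (by simp [hcard]; omega)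
  set δ := (g₀.submatrix e₀ id).det with hδ
  have hχδ : IsUnit (χ δ) := by
    rw [hδ, RingHom.map_det, ← Matrix.isUnit_iff_isUnit_det, ← Matrix.linearIndependent_cols_iff_isUnit]
    have h2 := (hind.comp eJ eJ.injective).map' (LinearEquiv.funCongrLeft K K e₀).toLinearMap (LinearEquiv.ker _)
    exact h2
  let A' := Localization.Away δ
  let φ := algebraMap A A'
  haveI : Algebra.Etale A A' := Algebra.Etale.of_isLocalizationAway δ
  refine ⟨A', inferInstance, inferInstance, inferInstance, IsLocalization.Away.lift δ hχδ,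
    IsLocalization.Away.lift_comp δ hχδ, ?_⟩
  let g : Matrix ι ((Fin 1 ⊕ Fin 1) ⊕ ι') A' := g₀.map φ
  have hgu : ∀ e : ((Fin 1 ⊕ Fin 1) ⊕ ι') ≃ ι, IsUnit (g.submatrix e id).det := by
    intro e
    have h1 : IsUnit (φ δ) := IsLocalization.Away.algebraMap_isUnit δ
    have : g.submatrix e id = (φ.mapMatrix (g₀.submatrix e₀ id)).submatrix (e.trans e₀.symm) id := by
      ext i j; simp [g]
    rw [this, det_permute, ← RingHom.map_det]
    exact ((Units.isUnit _).map (Int.castRingHom A')).mul h1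
  set aφ := a.map φ with haφ
  let M := gᵀ * aφ * g
  let a' : Matrix ι' ι' A' := M.toBlocks₂₂
  have hcol : ∀ s, (fun l => g l s) = φ ∘ cols (eJ s) := fun s => rfl
  have hGM : ∀ s t, (M + Mᵀ) s t = φ (B a (cols (eJ s)) (cols (eJ t))) := fun s t => by
    rw [gram_conj, gram_apply, hcol, hcol, B_map]
  have hM : ∀ s t, M s t + M t s = φ (B a (cols (eJ s)) (cols (eJ t))) := fun s t => hGM s t
  have hblock : M + Mᵀ = fromBlocks (hyp A' 1 + (hyp A' 1)ᵀ) 0 0 (a' + a'ᵀ) := by
    refine Matrix.ext fun s t => ?_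
    rcases s with (s | s) | s <;> rcases t with (t | t) | t <;>
      first
        | (simp only [fromBlocks_apply₂₂, Matrix.add_apply, transpose_apply]; rfl)
        | (rw [hGM]
           simp [eJ, cols, hyp, B_self, hv, hw, hvw, hwv, hPv, hPw, B_comm a (P _) v, B_comm a (P _) w,
             Matrix.one_apply, Fin.fin_one_eq_zero])
  refine ⟨g, a', ?_, hgu, fun x => ?_⟩
  · have h1 : IsUnit (M + Mᵀ).det := by
      rw [gram_conj]
      let e := e₀
      have hG := det_gram_map φ hdet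
      have e1 : gᵀ * (aφ + aφᵀ) * g = (g.submatrix e id)ᵀ * ((aφ + aφᵀ).submatrix e e) * g.submatrix e id := by
        rw [transpose_submatrix, Matrix.submatrix_mul_equiv, Matrix.submatrix_mul_equiv, Matrix.submatrix_id_id]
      rw [e1, det_mul, det_mul, det_transpose, det_submatrix_equiv_self]
      exact ((hgu e).mul hG).mul (hgu e)
    rw [hblock, det_fromBlocks_zero₂₁, IsUnit.mul_iff] at h1
    exact h1.2
  · refine Q_congr ?_ ?_ x
    · show M + Mᵀ = _
      rw [hblock, fromBlocks_transpose, fromBlocks_add]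
      simp
    · have hdiag : ∀ s, M s s = φ (Q a (cols (eJ s))) := fun s => by
        show (gᵀ * aφ * g) s s = _
        rw [conj_apply, ← Q_map φ a]; rfl
      rintro ((s | s) | s)
      · show M _ _ = _
        rw [hdiag]; simp [eJ, cols, hyp, hv]
      · show M _ _ = _
        rw [hdiag]; simp [eJ, cols, hyp, hw]
      · rfl

/-- Pointwise étale local splitting. -/
theorem exists_split (m : ℕ) : ∀ (A : Type u) [CommRing A] (χ : A →+* K)
    (a : Matrix (Fin m ⊕ Fin m) (Fin m ⊕ Fin m) A), IsUnit (a + aᵀ).det →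
    ∃ (A' : Type u) (_ : CommRing A') (_ : Algebra A A'), Algebra.Etale A A' ∧
      ∃ χ' : A' →+* K, χ'.comp (algebraMap A A') = χ ∧
      ∃ g : Matrix (Fin m ⊕ Fin m) (Fin m ⊕ Fin m) A', IsUnit g.det ∧
        ∀ x, Q (a.map (algebraMap A A')) (g *ᵥ x) = Q (hyp A' m) x := by
  induction m with
  | zero =>
    intro A _ χ a _
    exact ⟨A, inferInstance, inferInstance, inferInstance, χ, RingHom.ext fun _ => rfl, 1, by simp,
      fun x => by simp [Q, dotProduct]⟩
  | succ m ih =>
    intro A _ χ a hdet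
    obtain ⟨A₁, _, _, hA₁, χ₁, hχ₁, v, w, hv, hw, hvw⟩ :=
      exists_pair χ a hdet (.inl 0) (.inr 0) Sum.inl_ne_inr
    obtain ⟨A₂, _, _, hA₂, χ₂, hχ₂, g₁, a', hdet', hg₁, hQ₁⟩ :=
      exists_complement (ι' := Fin m ⊕ Fin m) χ₁ (a.map (algebraMap A A₁)) (det_gram_map _ hdet)
        (by simp; omega) v w hv hw hvw
    obtain ⟨A₃, _, _, hA₃, χ₃, hχ₃, g₂, hg₂, hQ₂⟩ := ih A₂ χ₂ a' hdet'
    letI : Algebra A A₂ := Algebra.compHom A₂ (algebraMap A A₁)
    haveI : IsScalarTower A A₁ A₂ := IsScalarTower.of_algebraMap_eq fun _ => rfl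
    haveI : Algebra.Etale A A₂ := Algebra.Etale.comp A A₁ A₂
    letI : Algebra A A₃ := Algebra.compHom A₃ (algebraMap A A₂)
    haveI : IsScalarTower A A₂ A₃ := IsScalarTower.of_algebraMap_eq fun _ => rfl
    refine ⟨A₃, inferInstance, inferInstance, Algebra.Etale.comp A A₂ A₃, χ₃, ?_, ?_⟩
    · rw [IsScalarTower.algebraMap_eq A A₂ A₃, IsScalarTower.algebraMap_eq A A₁ A₂, ← RingHom.comp_assoc, hχ₃,
        ← RingHom.comp_assoc, hχ₂, hχ₁]
    set ρ := algebraMap A₂ A₃
    let e : (Fin 1 ⊕ Fin 1) ⊕ (Fin m ⊕ Fin m) ≃ Fin (m + 1) ⊕ Fin (m + 1) :=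
      (Equiv.sumSumSumComm _ _ _ _).trans
        (Equiv.sumCongr (finSumFinEquiv.trans (finCongr (add_comm 1 m))) (finSumFinEquiv.trans (finCongr (add_comm 1 m))))
    let h : Matrix ((Fin 1 ⊕ Fin 1) ⊕ (Fin m ⊕ Fin m)) ((Fin 1 ⊕ Fin 1) ⊕ (Fin m ⊕ Fin m)) A₃ := fromBlocks 1 0 0 g₂
    let g := ((g₁.map ρ) * h).submatrix id e.symm
    refine ⟨g, ?_, fun x => ?_⟩
    · have e1 : g.submatrix e e = (ρ.mapMatrix (g₁.submatrix e id)) * h := by
        ext i j
        simp [g, Matrix.mul_apply]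
      rw [← det_submatrix_equiv_self e g, e1, det_mul, ← RingHom.map_det, det_fromBlocks_zero₂₁, det_one, one_mul]
      exact ((hg₁ e).map ρ).mul hg₂
    have hm : a.map (algebraMap A A₃) = ((a.map (algebraMap A A₁)).map (algebraMap A₁ A₂)).map ρ := by
      rw [Matrix.map_map, Matrix.map_map]; rfl
    have hgx : g *ᵥ x = (g₁.map ρ) *ᵥ (h *ᵥ (x ∘ e)) := by
      rw [mulVec_mulVec]
      funext l
      simp only [g, mulVec, dotProduct, submatrix_apply, id_eq, Function.comp_apply]
      rw [← e.sum_comp]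
      simp
    set y := h *ᵥ (x ∘ e)
    have hQ : Q (((a.map (algebraMap A A₁)).map (algebraMap A₁ A₂)).map ρ) ((g₁.map ρ) *ᵥ y) =
        Q ((fromBlocks (hyp A₂ 1) 0 0 a').map ρ) y := by
      rw [← Q_conj, ← transpose_map, ← Matrix.map_mul, ← Matrix.map_mul]
      refine Q_congr ?_ (fun i => ?_) y
      · rw [← transpose_map, ← transpose_map, ← Matrix.map_add ρ (map_add ρ), ← Matrix.map_add ρ (map_add ρ)]
        congr 1
        refine Matrix.ext fun i j => ?_
        have h11 := hQ₁ (Pi.single i 1 + Pi.single j 1)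
        have hi := hQ₁ (Pi.single i 1)
        have hj := hQ₁ (Pi.single j 1)
        have key : ∀ b : Matrix ((Fin 1 ⊕ Fin 1) ⊕ (Fin m ⊕ Fin m)) ((Fin 1 ⊕ Fin 1) ⊕ (Fin m ⊕ Fin m)) A₂,
            (b + bᵀ) i j = Q b (Pi.single i 1 + Pi.single j 1) - Q b (Pi.single i 1) - Q b (Pi.single j 1) := fun b => by
          have hq := Q_lin b 1 1 (Pi.single i 1) (Pi.single j 1)
          rw [one_smul, one_smul] at hq
          rw [hq]
          simp [B]
          ring
        rw [key, key, h11, hi, hj]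
      · have hi := hQ₁ (Pi.single i 1)
        simp only [Matrix.map_apply]
        congr 1
        simpa [Q] using hi
    rw [hm, hgx, hQ, fromBlocks_map, Q_hyp]
    have hQblock : Q (fromBlocks ((hyp A₂ 1).map ρ) ((0 : Matrix _ (Fin m ⊕ Fin m) A₂).map ρ)
        ((0 : Matrix (Fin m ⊕ Fin m) _ A₂).map ρ) (a'.map ρ)) y =
        Q ((hyp A₂ 1).map ρ) (y ∘ .inl) + Q (a'.map ρ) (y ∘ .inr) := by
      rw [Matrix.map_zero ρ (map_zero ρ), Matrix.map_zero ρ (map_zero ρ)]
      simp [Q, dotProduct, fromBlocks_mulVec, Fintype.sum_sum_type]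
    rw [hQblock]
    have hy1 : y ∘ .inl = x ∘ e ∘ .inl := by
      funext i; simp [y, h, fromBlocks_mulVec]
    have hy2 : y ∘ .inr = g₂ *ᵥ (x ∘ e ∘ .inr) := by
      funext i; simp [y, h, fromBlocks_mulVec, Function.comp_def]
    have hh : (hyp A₂ 1).map ρ = hyp A₃ 1 := by simp [hyp, fromBlocks_map, Matrix.map_one]
    rw [hy1, hy2, hQ₂, hh, Q_hyp, Q_hyp]
    have hsum : ∀ F : Fin (m + 1) → A₃, ∑ j, F j =
        ∑ j, F ((finSumFinEquiv.trans (finCongr (add_comm 1 m))) (Sum.inl j : Fin 1 ⊕ Fin m)) +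
        ∑ j, F ((finSumFinEquiv.trans (finCongr (add_comm 1 m))) (Sum.inr j : Fin 1 ⊕ Fin m)) := fun F => by
      rw [← (finSumFinEquiv.trans (finCongr (add_comm 1 m))).sum_comp, Fintype.sum_sum_type]
    rw [hsum fun j => x (.inl j) * x (.inr j)]
    rfl

/-- Finitely many étale algebras suffice. -/
theorem exists_cover (A : Type u) [CommRing A] (m : ℕ) (a : Matrix (Fin m ⊕ Fin m) (Fin m ⊕ Fin m) A)
    (hdet : IsUnit (a + aᵀ).det) :
    ∃ (n : ℕ) (A' : Fin n → Type u) (_ : ∀ t, CommRing (A' t)) (_ : ∀ t, Algebra A (A' t)),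
      (∀ t, Algebra.Etale A (A' t)) ∧
      (∀ p : PrimeSpectrum A, ∃ (t : Fin n) (q : PrimeSpectrum (A' t)),
        q.asIdeal.comap (algebraMap A (A' t)) = p.asIdeal) ∧
      ∀ t, ∃ g : Matrix (Fin m ⊕ Fin m) (Fin m ⊕ Fin m) (A' t), IsUnit g.det ∧
        ∀ x, Q (a.map (algebraMap A (A' t))) (g *ᵥ x) = Q (hyp (A' t) m) x := by
  classical
  have loc : ∀ p : PrimeSpectrum A, ∃ (A' : Type u) (_ : CommRing A') (_ : Algebra A A'), Algebra.Etale A A' ∧
      p ∈ Set.range (PrimeSpectrum.comap (algebraMap A A')) ∧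
      ∃ g : Matrix (Fin m ⊕ Fin m) (Fin m ⊕ Fin m) A', IsUnit g.det ∧
        ∀ x, Q (a.map (algebraMap A A')) (g *ᵥ x) = Q (hyp A' m) x := fun p => by
    let χ : A →+* AlgebraicClosure p.asIdeal.ResidueField :=
      (algebraMap p.asIdeal.ResidueField _).comp (algebraMap A p.asIdeal.ResidueField)
    obtain ⟨A', _, _, hA', χ', hχ', hg⟩ := exists_split m A χ a hdet
    refine ⟨A', inferInstance, inferInstance, hA', ⟨⟨RingHom.ker χ', RingHom.ker_isPrime χ'⟩, ?_⟩, hg⟩
    ext1
    show (RingHom.ker χ').comap (algebraMap A A') = p.asIdeal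
    rw [RingHom.comap_ker, hχ']
    rw [RingHom.ker_comp_of_injective _ (RingHom.injective (algebraMap p.asIdeal.ResidueField
      (AlgebraicClosure p.asIdeal.ResidueField)))]
    exact Ideal.ker_algebraMap_residueField p.asIdeal
  choose A' i1 i2 het hmem hg using loc
  have hopen : ∀ p, IsOpen (Set.range (PrimeSpectrum.comap (algebraMap A (A' p)))) := fun p => by
    letI := i1 p; letI := i2 p
    haveI := het p
    exact (PrimeSpectrum.isOpenMap_comap_of_hasGoingDown_of_finitePresentation).isOpen_range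
  obtain ⟨s, hs⟩ := isCompact_univ.elim_finite_subcover _ hopen fun p _ => Set.mem_iUnion.mpr ⟨p, hmem p⟩
  let en := s.equivFin.symm
  refine ⟨s.card, fun t => A' (en t).1, fun t => i1 _, fun t => i2 _, fun t => het _, fun p => ?_, fun t => hg _⟩
  obtain ⟨p₀, hp₀, q, hq⟩ := Set.mem_iUnion₂.mp (hs (Set.mem_univ p))
  obtain ⟨t, ht⟩ := en.surjective ⟨p₀, hp₀⟩
  have : (en t).1 = p₀ := by rw [ht]
  subst this
  exact ⟨t, q, congrArg PrimeSpectrum.asIdeal hq⟩

end Groth.SGA7.SplitForm
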