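import Mathlib.RingTheory.WittVector.DiscreteValuationRing
import Mathlib.RingTheory.WittVector.Teichmuller
import Mathlib.RingTheory.IntegralDomain
import Mathlib.RingTheory.MvPolynomial.Homogeneous
import Mathlib.Algebra.Order.Antidiag.Pi
import Mathlib.Data.Nat.Choose.Multinomial
import Mathlib.NumberTheory.Padics.PadicVal.Basic
import Mathlib.NumberTheory.Basic
import Mathlib.FieldTheory.Finite.Basic
import Mathlib.Data.Nat.Digits.Lemmas
import Mathlib.Tactic

/-! Ax's divisibility theorem. -/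

set_option autoImplicit false

namespace Groth.SGA7.Ax

open Finset

/-- The least positive representative modulo `r`, and `0` at `0`. -/
def rp (r x : ℕ) : ℕ := if x = 0 then 0 else (x - 1) % r + 1

theorem modEq_sum {r : ℕ} {ι : Type*} {s : Finset ι} {f g : ι → ℕ} (h : ∀ a ∈ s, f a ≡ g a [MOD r]) :
    ∑ a ∈ s, f a ≡ ∑ a ∈ s, g a [MOD r] := by
  simp only [← ZMod.natCast_eq_natCast_iff, Nat.cast_sum] at h ⊢
  exact Finset.sum_congr rfl h

theorem rp_modEq (r x : ℕ) : rp r x ≡ x [MOD r] := by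
  unfold rp
  split_ifs with h
  · rw [h]
  · calc (x - 1) % r + 1 ≡ (x - 1) + 1 [MOD r] := Nat.ModEq.add_right _ (Nat.mod_modEq _ _)
      _ = x := by omega

theorem rp_le_of_modEq {r x y : ℕ} (h : y ≡ x [MOD r]) (hy : x ≠ 0 → y ≠ 0) : rp r x ≤ y := by
  unfold rp
  split_ifs with hx
  · exact Nat.zero_le _
  · have hy' := hy hx
    have : (x - 1) % r = (y - 1) % r := by
      have h2 : (x - 1) + 1 ≡ (y - 1) + 1 [MOD r] := by
        rw [show x - 1 + 1 = x by omega, show y - 1 + 1 = y by omega]; exact h.symm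
      exact Nat.ModEq.add_right_cancel' 1 h2
    rw [this]
    have := Nat.mod_le (y - 1) r
    omega

theorem rp_le (r x : ℕ) : rp r x ≤ x := rp_le_of_modEq rfl id

theorem rp_eq_zero {r x : ℕ} : rp r x = 0 ↔ x = 0 := by
  unfold rp; split_ifs <;> simp_all

theorem rp_add (r a b : ℕ) : rp r (a + b) ≤ rp r a + rp r b :=
  rp_le_of_modEq ((rp_modEq r a).add (rp_modEq r b)) fun h hh => h (by
    obtain ⟨h1, h2⟩ := Nat.add_eq_zero_iff.mp hh
    rw [rp_eq_zero.mp h1, rp_eq_zero.mp h2])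

theorem rp_nsmul (r x : ℕ) : ∀ a : ℕ, rp r (a * x) ≤ a * rp r x := by
  intro a
  induction a with
  | zero => simp [rp]
  | succ a ih => rw [add_mul, one_mul, add_mul, one_mul]; exact (rp_add r _ _).trans (Nat.add_le_add_right ih _)

theorem rp_pow_le {p f : ℕ} (hp : 1 < p) (x : ℕ) : rp (p ^ f - 1) (p ^ x) ≤ p ^ (x % f) := by
  refine rp_le_of_modEq ?_ fun _ => pow_ne_zero _ (by omega)
  have h1 : p ^ f ≡ 1 [MOD p ^ f - 1] := by
    rw [Nat.ModEq.comm, Nat.modEq_iff_dvd' (Nat.one_le_pow _ _ (by omega))]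
  conv_rhs => rw [← Nat.mod_add_div x f, pow_add, pow_mul]
  simpa using ((h1.pow (x / f)).mul_left (p ^ (x % f))).symm

theorem sum_pow_mod {p f : ℕ} (hf : 0 < f) (j : ℕ) :
    ∑ l ∈ range f, p ^ ((l + j) % f) = ∑ l ∈ range f, p ^ l := by
  induction j with
  | zero => exact Finset.sum_congr rfl fun l hl => by rw [add_zero, Nat.mod_eq_of_lt (Finset.mem_range.mp hl)]
  | succ j ih =>
    rw [← ih]
    have h := Finset.sum_range_succ' (fun l => p ^ ((l + j) % f)) f
    rw [Finset.sum_range_succ] at h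
    rw [show ((f + j) % f) = j % f by rw [Nat.add_mod_left]] at h
    simp only [zero_add] at h
    have := Nat.add_right_cancel h
    rw [this]
    exact Finset.sum_congr rfl fun l _ => by ring_nf

theorem sum_rp_le {p f : ℕ} (hp : 1 < p) (hf : 0 < f) (k : ℕ) :
    (∑ l ∈ range f, rp (p ^ f - 1) (p ^ l * k)) ≤ (Nat.digits p k).sum * ∑ l ∈ range f, p ^ l := by
  suffices h : ∀ j, (∑ l ∈ range f, rp (p ^ f - 1) (p ^ (l + j) * k)) ≤ (Nat.digits p k).sum * ∑ l ∈ range f, p ^ l by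
    simpa using h 0
  induction k using Nat.strongRecOn with
  | ind k ih =>
    intro j
    rcases Nat.eq_zero_or_pos k with rfl | hk
    · simp [rp]
    rw [Nat.digits_def' hp hk, List.sum_cons, add_mul]
    calc ∑ l ∈ range f, rp (p ^ f - 1) (p ^ (l + j) * k)
        ≤ ∑ l ∈ range f, ((k % p) * p ^ ((l + j) % f) + rp (p ^ f - 1) (p ^ (l + (j + 1)) * (k / p))) := by
          refine Finset.sum_le_sum fun l _ => ?_
          rw [show p ^ (l + j) * k = (k % p) * p ^ (l + j) + p ^ (l + (j + 1)) * (k / p) by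
            conv_lhs => rw [← Nat.mod_add_div k p]
            ring]
          exact (rp_add _ _ _).trans (Nat.add_le_add_right
            ((rp_nsmul _ _ _).trans (Nat.mul_le_mul_left _ (rp_pow_le hp _))) _)
      _ ≤ _ := by
          rw [Finset.sum_add_distrib, ← Finset.mul_sum, sum_pow_mod hf]
          exact Nat.add_le_add_left (ih _ (Nat.div_lt_self hk hp) (j + 1)) _

/-- The digit bound for exponent vectors. -/
theorem digits_bound {p f N d : ℕ} (hp : 1 < p) (hf : 0 < f) {ι : Type*} (s : Finset ι) (α : ι → Fin N → ℕ)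
    (hα : ∀ a ∈ s, ∑ i, α a i = d) (k : ι → ℕ) (hk : (p ^ f - 1) ∣ ∑ a ∈ s, k a) (P : Finset (Fin N))
    (hdiv : ∀ i, (p ^ f - 1) ∣ ∑ a ∈ s, α a i * k a) (hP : ∀ i ∈ P, ∑ a ∈ s, α a i * k a ≠ 0) :
    ∃ c, P.card ≤ d * c ∧ (p - 1) * (f * c) ≤ ∑ a ∈ s, (Nat.digits p (k a)).sum := by
  set r := p ^ f - 1 with hr
  have hrpos : 0 < r := by
    have : 1 < p ^ f := Nat.one_lt_pow hf.ne' hp
    omega
  have hm : ∀ l, ∃ m, ∑ a ∈ s, rp r (p ^ l * k a) = r * m := fun l => by
    refine (Nat.modEq_zero_iff_dvd.mp ?_)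
    have h : ∑ a ∈ s, rp r (p ^ l * k a) ≡ ∑ a ∈ s, p ^ l * k a [MOD r] := modEq_sum fun a _ => rp_modEq _ _
    refine h.trans (Nat.modEq_zero_iff_dvd.mpr ?_)
    rw [← Finset.mul_sum]
    exact Dvd.dvd.mul_left hk _
  choose m hm using hm
  have hge : ∀ l, P.card ≤ d * m l := fun l => by
    have hi : ∀ i ∈ P, r ≤ ∑ a ∈ s, α a i * rp r (p ^ l * k a) := fun i hi => by
      refine Nat.le_of_dvd (Nat.pos_of_ne_zero fun h0 => hP i hi (Finset.sum_eq_zero fun a ha => ?_)) ?_
      · rcases mul_eq_zero.mp (Finset.sum_eq_zero_iff.mp h0 a ha) with h | h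
        · rw [h, zero_mul]
        · rw [(mul_eq_zero.mp (rp_eq_zero.mp h)).resolve_left (pow_ne_zero _ (by omega)), mul_zero]
      · refine Nat.modEq_zero_iff_dvd.mp ?_
        have h : ∑ a ∈ s, α a i * rp r (p ^ l * k a) ≡ ∑ a ∈ s, α a i * (p ^ l * k a) [MOD r] :=
          modEq_sum fun a _ => (rp_modEq _ _).mul_left _
        refine h.trans (Nat.modEq_zero_iff_dvd.mpr ?_)
        rw [show ∑ a ∈ s, α a i * (p ^ l * k a) = p ^ l * ∑ a ∈ s, α a i * k a by
          rw [Finset.mul_sum]; exact Finset.sum_congr rfl fun a _ => by ring]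
        exact Dvd.dvd.mul_left (hdiv i) _
    have h2 : P.card * r ≤ d * m l * r := by
      calc P.card * r = ∑ _i ∈ P, r := by simp
        _ ≤ ∑ i ∈ P, ∑ a ∈ s, α a i * rp r (p ^ l * k a) := Finset.sum_le_sum hi
        _ ≤ ∑ i, ∑ a ∈ s, α a i * rp r (p ^ l * k a) :=
          Finset.sum_le_sum_of_subset_of_nonneg (Finset.subset_univ _) fun _ _ _ => Nat.zero_le _
        _ = d * m l * r := by
          rw [Finset.sum_comm, mul_assoc, mul_comm (m l), ← hm, Finset.mul_sum]
          exact Finset.sum_congr rfl fun a ha => by rw [← Finset.sum_mul, hα a ha]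
    exact Nat.le_of_mul_le_mul_right h2 hrpos
  obtain ⟨l₀, -, hl₀⟩ := Finset.exists_min_image (range f) m ⟨0, Finset.mem_range.mpr hf⟩
  refine ⟨m l₀, hge l₀, Nat.le_of_mul_le_mul_right (?_ : _ * r ≤ _) hrpos⟩
  calc (p - 1) * (f * m l₀) * r ≤ (p - 1) * ∑ l ∈ range f, r * m l := by
        rw [mul_assoc]
        refine Nat.mul_le_mul_left _ ?_
        rw [show f * m l₀ * r = ∑ _l ∈ range f, r * m l₀ by simp; ring]
        exact Finset.sum_le_sum fun l hl => Nat.mul_le_mul_left _ (hl₀ l hl)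
    _ = (p - 1) * ∑ a ∈ s, ∑ l ∈ range f, rp r (p ^ l * k a) := by
        rw [Finset.sum_comm]; simp only [hm]
    _ ≤ (p - 1) * ∑ a ∈ s, (Nat.digits p (k a)).sum * ∑ l ∈ range f, p ^ l :=
        Nat.mul_le_mul_left _ (Finset.sum_le_sum fun a _ => sum_rp_le hp hf (k a))
    _ = (∑ a ∈ s, (Nat.digits p (k a)).sum) * r := by
        rw [← Finset.sum_mul]
        have hg : (p - 1) * ∑ l ∈ range f, p ^ l = r := by
          have := geom_sum_mul_of_one_le (show 1 ≤ p by omega) f
          rw [mul_comm] at this; exact this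
        rw [← hg]; ring

theorem digits_K_le {p f M : ℕ} (hp : 1 < p) (hf : 0 < f) :
    (Nat.digits p (p ^ M * (p ^ f - 1))).sum ≤ f * (p - 1) := by
  have hpos : 0 < p ^ f - 1 := by
    have : 1 < p ^ f := Nat.one_lt_pow hf.ne' hp
    omega
  rw [Nat.digits_base_pow_mul hp hpos, List.sum_append, List.sum_replicate, smul_zero, zero_add]
  refine (List.sum_le_card_nsmul _ (p - 1) fun x hx => ?_).trans ?_
  · have := Nat.digits_lt_base hp hx; omega
  · rw [smul_eq_mul]
    exact Nat.mul_le_mul_right _ ((Nat.digits_length_le_iff hp _).mpr (Nat.sub_lt (Nat.pow_pos (by omega)) one_pos))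

theorem pow_dvd_multinomial {p f N d : ℕ} [hp : Fact p.Prime] (hf : 0 < f) {ι : Type*} (s : Finset ι) (α : ι → Fin N → ℕ)
    (hα : ∀ a ∈ s, ∑ i, α a i = d) (M : ℕ) (k : ι → ℕ) (hk : ∑ a ∈ s, k a = p ^ M * (p ^ f - 1)) (P : Finset (Fin N))
    (hdiv : ∀ i, (p ^ f - 1) ∣ ∑ a ∈ s, α a i * k a) (hP : ∀ i ∈ P, ∑ a ∈ s, α a i * k a ≠ 0) :
    ∃ c, P.card ≤ d * c ∧ p ^ (f * (c - 1)) ∣ Nat.multinomial s k := by
  obtain ⟨c, hc, hc'⟩ := digits_bound hp.out.one_lt hf s α hα k (hk ▸ Dvd.dvd.mul_left (dvd_refl _) _) P hdiv hP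
  refine ⟨c, hc, ?_⟩
  have hne : Nat.multinomial s k ≠ 0 := fun h => by
    have := Nat.multinomial_spec s k
    rw [h, mul_zero] at this
    exact Nat.factorial_ne_zero _ this.symm
  rw [padicValNat_dvd_iff_le hne]
  have hv : padicValNat p (∑ a ∈ s, k a).factorial =
      (∑ a ∈ s, padicValNat p (k a).factorial) + padicValNat p (Nat.multinomial s k) := by
    rw [← Nat.multinomial_spec s k, padicValNat.mul (Finset.prod_ne_zero_iff.mpr fun a _ => Nat.factorial_ne_zero _) hne]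
    congr 1
    clear hc hc' hk hdiv hP hne hα
    classical
    induction s using Finset.induction_on with
    | empty => simp
    | insert a t ha ih =>
      rw [Finset.prod_insert ha, Finset.sum_insert ha, padicValNat.mul (Nat.factorial_ne_zero _)
        (Finset.prod_ne_zero_iff.mpr fun a _ => Nat.factorial_ne_zero _), ih]
  have h1 := congrArg ((p - 1) * ·) hv
  simp only [mul_add, Finset.mul_sum, sub_one_mul_padicValNat_factorial] at h1
  rw [Finset.sum_tsub_distrib _ (fun a _ => Nat.digit_sum_le p (k a)), hk] at h1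
  have h2 := digits_K_le (M := M) hp.out.one_lt hf
  have h3 : ∑ a ∈ s, (Nat.digits p (k a)).sum ≤ p ^ M * (p ^ f - 1) :=
    hk ▸ Finset.sum_le_sum fun a _ => Nat.digit_sum_le p (k a)
  refine Nat.le_of_mul_le_mul_left (?_ : (p - 1) * _ ≤ (p - 1) * _) (by have := hp.out.one_lt; omega)
  rw [show (p - 1) * (f * (c - 1)) = (p - 1) * (f * c) - f * (p - 1) by
    rw [Nat.mul_sub_one, Nat.mul_sub, mul_comm f (p - 1)]]
  have h4 := Nat.digit_sum_le p (p ^ M * (p ^ f - 1))
  omega

variable {p : ℕ} [Fact p.Prime] {k : Type*} [Field k] [CharP k p]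

local notation "𝕎" => WittVector p k

theorem natCast_dvd {n m : ℕ} [PerfectRing k p] (h : (p : 𝕎) ^ n ∣ (m : 𝕎)) : p ^ n ∣ m := by
  rcases Nat.eq_zero_or_pos m with rfl | hm
  · simp
  obtain ⟨v, u, hu, rfl⟩ := Nat.exists_eq_pow_mul_and_not_dvd hm.ne' p (Fact.out : p.Prime).ne_one
  have hun : IsUnit (u : 𝕎) := WittVector.isUnit_of_coeff_zero_ne_zero _ (by
    rw [← WittVector.constantCoeff_apply, map_natCast]
    exact fun h0 => hu ((CharP.cast_eq_zero_iff k p u).mp h0))
  rw [Nat.cast_mul, Nat.cast_pow, hun.dvd_mul_right] at h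
  exact Dvd.dvd.mul_right (pow_dvd_pow p
    ((pow_dvd_pow_iff (WittVector.irreducible p).ne_zero (WittVector.irreducible p).not_isUnit).mp h)) u

theorem p_dvd_of_constantCoeff [PerfectRing k p] {y : 𝕎} (h : WittVector.constantCoeff y = 0) : (p : 𝕎) ∣ y := by
  rcases eq_or_ne y 0 with rfl | hy
  · exact dvd_zero _
  obtain ⟨m, b, hb, rfl⟩ := WittVector.exists_eq_pow_p_mul y hy
  rcases Nat.eq_zero_or_pos m with rfl | hm
  · rw [pow_zero, one_mul, WittVector.constantCoeff_apply] at h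
    exact absurd h hb
  · exact (dvd_pow_self _ hm.ne').mul_right _

/-- Ax's theorem. -/
theorem main [Fintype k] [DecidableEq k] {f : ℕ} (hf : 0 < f) (hcard : Fintype.card k = p ^ f) {N d j : ℕ} (hd : 0 < d)
    (F : MvPolynomial (Fin N) k) (hF : F.IsHomogeneous d) (hj : j * d < N) :
    (p ^ f) ^ j ∣ Fintype.card {x : Fin N → k // MvPolynomial.eval x F = 0} := by
  classical
  haveI : PerfectRing k p := PerfectRing.ofFiniteOfIsReduced _ _
  set r := p ^ f - 1 with hr
  set M := f * j with hM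
  set K := p ^ M * r with hK
  have hp : 1 < p := (Fact.out : p.Prime).one_lt
  have hrpos : 0 < r := by
    have : 1 < p ^ f := Nat.one_lt_pow hf.ne' hp
    omega
  let τ : k →* 𝕎 := WittVector.teichmuller p
  have hτ : ∀ a, WittVector.constantCoeff (τ a) = a := fun a => WittVector.teichmuller_coeff_zero p a
  let G : (Fin N → k) → 𝕎 := fun x => ∑ e ∈ F.support, τ (F.coeff e) * ∏ i, τ (x i) ^ e i
  have hG : ∀ x, WittVector.constantCoeff (G x) = MvPolynomial.eval x F := fun x => by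
    simp only [G, map_sum, map_mul, map_prod, map_pow, hτ, MvPolynomial.eval_eq']
  have hind : ∀ x, (p : 𝕎) ^ M ∣ (if MvPolynomial.eval x F = 0 then (1 : 𝕎) else 0) - (1 - G x ^ K) := fun x => by
    split_ifs with h
    · rw [sub_sub_cancel]
      refine dvd_trans (pow_dvd_pow _ ?_) (pow_dvd_pow_of_dvd (p_dvd_of_constantCoeff (by rw [hG]; exact h)) K)
      calc M ≤ p ^ M := (Nat.lt_pow_self hp).le
        _ ≤ K := Nat.le_mul_of_pos_right _ hrpos
    · have h1 : (p : 𝕎) ∣ G x ^ r - 1 := p_dvd_of_constantCoeff (by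
        rw [map_sub, map_pow, hG, map_one, hr, ← hcard, FiniteField.pow_card_sub_one_eq_one _ h, sub_self])
      have h2 := dvd_sub_pow_of_dvd_sub h1 M
      rw [one_pow, ← pow_mul, mul_comm r, ← hK, pow_succ] at h2
      rw [zero_sub, neg_sub]
      exact dvd_of_mul_right_dvd h2
  rw [← pow_mul, ← hM]
  apply natCast_dvd (k := k)
  have hcount : ((Fintype.card {x : Fin N → k // MvPolynomial.eval x F = 0} : ℕ) : 𝕎) =
      ∑ x, if MvPolynomial.eval x F = 0 then (1 : 𝕎) else 0 := by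
    rw [Fintype.card_subtype, Finset.sum_boole]
  rw [hcount]
  suffices h : (p : 𝕎) ^ M ∣ ∑ x, (1 - G x ^ K) by
    have h' := Finset.dvd_sum (s := Finset.univ) fun x _ => hind x
    rw [Finset.sum_sub_distrib] at h'
    exact (dvd_sub_left h).mp h'
  rw [Finset.sum_sub_distrib]
  refine dvd_sub ?_ ?_
  · rw [Finset.sum_const, Finset.card_univ, Fintype.card_fun, hcard, Fintype.card_fin, nsmul_one, ← pow_mul,
      Nat.cast_pow]
    exact pow_dvd_pow _ (Nat.mul_le_mul_left _ (le_of_lt (lt_of_le_of_lt (Nat.le_mul_of_pos_right j hd) hj)))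
  -- expansion
  simp only [G, Finset.sum_pow_eq_sum_piAntidiag]
  rw [Finset.sum_comm]
  refine Finset.dvd_sum fun κ hκ => ?_
  rw [← Finset.mul_sum]
  rw [Finset.mem_piAntidiag] at hκ
  let E : Fin N → ℕ := fun i => ∑ e ∈ F.support, e i * κ e
  have hprod : ∀ x : Fin N → k, ∏ e ∈ F.support, (τ (F.coeff e) * ∏ i, τ (x i) ^ e i) ^ κ e =
      (∏ e ∈ F.support, τ (F.coeff e) ^ κ e) * ∏ i, τ (x i) ^ E i := fun x => by
    simp only [mul_pow, Finset.prod_mul_distrib, ← Finset.prod_pow, ← pow_mul, E, ← Finset.prod_pow_eq_pow_sum]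
    rw [Finset.prod_comm (γ := Fin N →₀ ℕ)]
  simp only [hprod]
  rw [← Finset.mul_sum, ← Fintype.prod_sum fun i (a : k) => τ a ^ E i]
  have hzero : ∀ e : ℕ, ¬ r ∣ e → ∑ a : k, τ a ^ e = 0 := by
    intro e he
    obtain ⟨u, hu⟩ := IsCyclic.exists_ofOrder_eq_natCard (α := kˣ)
    rw [Nat.card_eq_fintype_card, Fintype.card_units, hcard, ← hr] at hu
    have h1 : τ u ^ e * (∑ a : k, τ a ^ e) = ∑ a : k, τ a ^ e := by
      rw [Finset.mul_sum]
      simp only [← mul_pow, ← map_mul]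
      exact Fintype.sum_equiv (Equiv.mulLeft₀ (u : k) u.ne_zero) _ _ fun a => rfl
    have hne : τ u ^ e ≠ 1 := fun h => he (by
      rw [← hu, orderOf_dvd_iff_pow_eq_one]
      refine Units.ext ?_
      rw [Units.val_pow_eq_pow_val, Units.val_one, ← hτ (((u : k)) ^ e), map_pow τ, h, map_one])
    by_contra hs
    exact hne (mul_right_cancel₀ hs (h1.trans (one_mul _).symm))
  by_cases hdiv : ∀ i, r ∣ E i
  swap
  · push Not at hdiv
    obtain ⟨i, hi⟩ := hdiv
    rw [Finset.prod_eq_zero (Finset.mem_univ i) (hzero _ hi), mul_zero, mul_zero]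
    exact dvd_zero _
  set P := Finset.univ.filter fun i => E i ≠ 0 with hP
  have hα : ∀ e ∈ F.support, ∑ i, e i = d := fun e he => by
    have := hF (MvPolynomial.mem_support_iff.mp he)
    rw [← this]
    simp [Finsupp.weight_apply, Finsupp.sum_fintype]
  obtain ⟨c, hc, hmul⟩ := pow_dvd_multinomial (p := p) hf F.support (fun e i => e i) hα M κ (by rw [hκ.1, hK]) P hdiv
    (fun i hi => (Finset.mem_filter.mp hi).2)
  have hz : (p : 𝕎) ^ (f * (N - P.card)) ∣ ∏ i, ∑ a : k, τ a ^ E i := by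
    refine dvd_trans ?_ (Finset.prod_dvd_prod_of_subset Pᶜ Finset.univ _ (Finset.subset_univ _))
    rw [Finset.prod_congr rfl fun i hi => by
      rw [show E i = 0 by simpa [hP] using hi]]
    simp [Finset.card_compl, ← pow_mul, hcard]
  have hbound : M ≤ f * (c - 1) + f * (N - P.card) := by
    rw [hM, ← mul_add]
    refine Nat.mul_le_mul_left _ ?_
    have hPN : P.card ≤ N := (Finset.card_le_univ _).trans (Fintype.card_fin N).le
    by_contra hlt
    push Not at hlt
    rcases Nat.eq_zero_or_pos c with rfl | hc0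
    · simp at hc
      simp [hc] at hlt
      have := lt_of_le_of_lt (Nat.le_mul_of_pos_right j hd) hj
      omega
    have h5 : c + (N - P.card) ≤ j := by omega
    have h6 := Nat.mul_le_mul_right d h5
    have h7 : N - P.card ≤ (N - P.card) * d := Nat.le_mul_of_pos_right _ hd
    have h8 : P.card ≤ c * d := by rw [mul_comm]; exact hc
    rw [add_mul] at h6
    omega
  calc (p : 𝕎) ^ M ∣ (p : 𝕎) ^ (f * (c - 1)) * (p : 𝕎) ^ (f * (N - P.card)) := by
        rw [← pow_add]; exact pow_dvd_pow _ hbound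
    _ ∣ _ := mul_dvd_mul (by rw [← Nat.cast_pow]; exact Nat.cast_dvd_cast hmul) (dvd_mul_of_dvd_right hz _)

end Groth.SGA7.Ax
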