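import Mathlib.NumberTheory.Padics.RingHoms
import Mathlib.LinearAlgebra.Matrix.GeneralLinearGroup.Defs
import Mathlib.Topology.Algebra.OpenSubgroup
import Mathlib.Topology.Instances.Matrix
import Mathlib.NumberTheory.Basic
import Mathlib.Tactic

/-! Congruence subgroups of `GL_n(ℚ_p)`. -/

set_option autoImplicit false

namespace Groth.SGA7.GLPadic

variable {p : ℕ} [Fact p.Prime] {n : ℕ}

/-- The inclusion of integral matrices. -/
noncomputable def ι : GL (Fin n) ℤ_[p] →* GL (Fin n) ℚ_[p] :=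
  Units.map ((PadicInt.Coe.ringHom (p := p)).mapMatrix : Matrix (Fin n) (Fin n) ℤ_[p] →+* Matrix (Fin n) (Fin n) ℚ_[p]).toMonoidHom

theorem ι_apply (X : GL (Fin n) ℤ_[p]) (i j : Fin n) :
    (ι X : Matrix (Fin n) (Fin n) ℚ_[p]) i j = ((X : Matrix (Fin n) (Fin n) ℤ_[p]) i j : ℚ_[p]) := rfl

theorem ι_injective : Function.Injective (ι (p := p) (n := n)) := fun X Y h =>
  Units.ext (Matrix.ext fun i j => Subtype.ext (congrArg (fun g : GL (Fin n) ℚ_[p] => (g : Matrix (Fin n) (Fin n) ℚ_[p]) i j) h))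

/-- Reduction modulo `p^k`. -/
noncomputable def red (k : ℕ) : GL (Fin n) ℤ_[p] →* GL (Fin n) (ZMod (p ^ k)) :=
  Units.map ((PadicInt.toZModPow k).mapMatrix : Matrix (Fin n) (Fin n) ℤ_[p] →+* Matrix (Fin n) (Fin n) (ZMod (p ^ k))).toMonoidHom

theorem red_eq_iff (k : ℕ) (X Y : GL (Fin n) ℤ_[p]) :
    red k X = red k Y ↔ (X : Matrix (Fin n) (Fin n) ℤ_[p]).map (PadicInt.toZModPow k) =
      (Y : Matrix (Fin n) (Fin n) ℤ_[p]).map (PadicInt.toZModPow k) := Units.ext_iff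

/-- The congruence subgroup of level `p^k`. -/
noncomputable def cong (k : ℕ) : Subgroup (GL (Fin n) ℚ_[p]) := (red k).ker.map ι

theorem norm_le_iff (x : ℤ_[p]) (k : ℕ) : PadicInt.toZModPow k x = 0 ↔ ‖x‖ ≤ ((p : ℝ) ^ k)⁻¹ := by
  rw [← RingHom.mem_ker, PadicInt.ker_toZModPow, ← PadicInt.norm_le_pow_iff_mem_span_pow, zpow_neg, zpow_natCast]

theorem mem_cong_of_close {k : ℕ} (hk : 0 < k) {g : GL (Fin n) ℚ_[p]}
    (h : ∀ i j, ‖(g : Matrix (Fin n) (Fin n) ℚ_[p]) i j - (1 : Matrix (Fin n) (Fin n) ℚ_[p]) i j‖ ≤ ((p : ℝ) ^ k)⁻¹) :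
    g ∈ cong k := by
  classical
  have hp : (1 : ℝ) < p := by exact_mod_cast (Fact.out : p.Prime).one_lt
  have hk1 : ((p : ℝ) ^ k)⁻¹ < 1 := inv_lt_one_of_one_lt₀ (one_lt_pow₀ hp hk.ne')
  let E : Matrix (Fin n) (Fin n) ℤ_[p] := Matrix.of fun i j => ⟨_, (h i j).trans hk1.le⟩
  let X := 1 + E
  have hX : X.map (PadicInt.toZModPow k) = 1 := by
    ext i j
    have h0 : PadicInt.toZModPow k (E i j) = 0 := (norm_le_iff _ _).mpr (h i j)
    simp [X, h0, Matrix.one_apply, apply_ite (PadicInt.toZModPow (p := p) k)]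
  have hu : IsUnit X.det := by
    have h0 : PadicInt.toZModPow k (X.det - 1) = 0 := by
      rw [map_sub, RingHom.map_det, RingHom.mapMatrix_apply, hX, Matrix.det_one, map_one, sub_self]
    have h1 : X.det - 1 ∈ IsLocalRing.maximalIdeal ℤ_[p] := by
      rw [IsLocalRing.mem_maximalIdeal, mem_nonunits_iff, PadicInt.isUnit_iff]
      exact (lt_of_le_of_lt ((norm_le_iff _ _).mp h0) hk1).ne
    by_contra hnu
    have h2 := sub_mem ((IsLocalRing.mem_maximalIdeal _).mpr hnu) h1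
    rw [sub_sub_cancel] at h2
    exact (IsLocalRing.mem_maximalIdeal _).mp h2 isUnit_one
  refine ⟨((Matrix.isUnit_iff_isUnit_det X).mpr hu).unit, ?_, ?_⟩
  · exact Units.ext (hX.trans rfl)
  · refine Units.ext (Matrix.ext fun i j => ?_)
    rw [ι_apply]
    simp [X, E, Matrix.one_apply, apply_ite (fun z : ℤ_[p] => (z : ℚ_[p]))]

theorem isOpen_cong {k : ℕ} (hk : 0 < k) : IsOpen (cong (p := p) (n := n) k : Set (GL (Fin n) ℚ_[p])) := by
  refine Subgroup.isOpen_of_mem_nhds _ (g := 1) ?_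
  have hp : (0 : ℝ) < p := by exact_mod_cast (Fact.out : p.Prime).pos
  have hopen : IsOpen (⋂ (i : Fin n) (j : Fin n), {g : GL (Fin n) ℚ_[p] |
      ‖(g : Matrix (Fin n) (Fin n) ℚ_[p]) i j - (1 : Matrix (Fin n) (Fin n) ℚ_[p]) i j‖ < ((p : ℝ) ^ k)⁻¹}) :=
    isOpen_iInter_of_finite fun i => isOpen_iInter_of_finite fun j =>
      isOpen_lt (((Units.continuous_val.matrix_elem i j).sub continuous_const).norm) continuous_const
  refine Filter.mem_of_superset (hopen.mem_nhds ?_) fun g hg => mem_cong_of_close hk fun i j => ?_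
  · simp only [Set.mem_iInter, Set.mem_ofPred_eq, Units.val_one, sub_self, norm_zero]
    exact fun _ _ => inv_pos.mpr (pow_pos hp k)
  · simp only [Set.mem_iInter, Set.mem_ofPred_eq] at hg
    exact (hg i j).le

theorem red_pow (X : GL (Fin n) ℤ_[p]) (hX : red 1 X = 1) (k : ℕ) : red k (X ^ p ^ k) = 1 := by
  classical
  rw [← map_one (red 1), red_eq_iff] at hX
  have hd : ∀ i j, ∃ e : ℤ_[p], ((X : Matrix (Fin n) (Fin n) ℤ_[p]) - 1) i j = (p : ℤ_[p]) * e := by
    intro i j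
    have := congrFun (congrFun hX i) j
    rw [Matrix.map_apply, Matrix.map_apply, Units.val_one, ← sub_eq_zero, ← map_sub, ← Matrix.sub_apply,
      ← RingHom.mem_ker, PadicInt.ker_toZModPow, pow_one, Ideal.mem_span_singleton] at this
    exact this
  choose E hE using hd
  have hXE : (X : Matrix (Fin n) (Fin n) ℤ_[p]) = Polynomial.aeval (Matrix.of E) (1 + Polynomial.C (p : ℤ_[p]) * Polynomial.X) := by
    rw [map_add, map_one, map_mul, Polynomial.aeval_C, Polynomial.aeval_X, ← Algebra.smul_def]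
    ext i j
    rw [Matrix.add_apply, Matrix.smul_apply, Matrix.of_apply, smul_eq_mul, ← hE, Matrix.sub_apply, add_sub_cancel]
  obtain ⟨Q, hQ⟩ := dvd_sub_pow_of_dvd_sub (p := p) (a := (1 + Polynomial.C (p : ℤ_[p]) * Polynomial.X)) (b := 1)
    (by rw [add_sub_cancel_left, map_natCast]; exact dvd_mul_right _ _) k
  rw [← map_one (red k), red_eq_iff, Units.val_pow_eq_pow_val, hXE, ← map_pow,
    ← sub_add_cancel ((1 + Polynomial.C (p : ℤ_[p]) * Polynomial.X) ^ p ^ k) ((1 : Polynomial ℤ_[p]) ^ p ^ k), hQ,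
    one_pow, map_add, map_one, map_mul, map_pow, map_natCast]
  ext i j
  simp only [Matrix.map_apply, Units.val_one, Matrix.add_apply, map_add, ← Nat.cast_pow, ← nsmul_eq_mul,
    Matrix.smul_apply]
  rw [map_nsmul, nsmul_eq_mul, pow_succ, Nat.cast_mul, ZMod.natCast_self, zero_mul, zero_mul, zero_add]

end Groth.SGA7.GLPadic
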