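import Groth.Agent.SGA7.HenselVal
import Mathlib.FieldTheory.Galois.Infinite
import Mathlib.FieldTheory.KrullTopology

/-! Conjugation acts on tame `ℓ`-power inertia through the cyclotomic character. -/

set_option autoImplicit false

namespace Groth.SGA7.Inertia

open IsLocalRing Groth.SGA7.HenselVal
open _root_.SGA7 (IsInertia LiesOver)

universe u

variable {R K Ω : Type u} [CommRing R] [IsDomain R] [IsDiscreteValuationRing R] [HenselianLocalRing R]
  [Field K] [Algebra R K] [IsFractionRing R K] [Field Ω] [Algebra K Ω] [Algebra R Ω] [IsScalarTower R K Ω]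
  [Algebra.IsSeparable K Ω] {W : ValuationSubring Ω}

open Classical in
/-- Residue of an element of `Ω`, zero outside of `W`. -/
noncomputable def res (W : ValuationSubring Ω) (x : Ω) : ResidueField W :=
  if h : x ∈ W then residue W ⟨x, h⟩ else 0

theorem res_of_mem {x : Ω} (h : x ∈ W) : res W x = residue W ⟨x, h⟩ := dif_pos h

theorem res_mul {x y : Ω} (hx : x ∈ W) (hy : y ∈ W) : res W (x * y) = res W x * res W y := by
  rw [res_of_mem hx, res_of_mem hy, res_of_mem (W.mul_mem _ _ hx hy), ← map_mul]; rfl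

theorem res_one : res W (1 : Ω) = 1 := by rw [res_of_mem W.one_mem]; exact map_one _

theorem res_pow {x : Ω} (hx : x ∈ W) (k : ℕ) : res W (x ^ k) = res W x ^ k := by
  induction k with
  | zero => simp [res_one]
  | succ k ih => rw [pow_succ, res_mul (pow_mem hx k) hx, ih, pow_succ]

theorem res_eq_iff {x y : Ω} (hx : x ∈ W) (hy : y ∈ W) : res W x = res W y ↔ W.valuation (x - y) < 1 := by
  rw [res_of_mem hx, res_of_mem hy, ← sub_eq_zero, ← map_sub, residue_eq_zero_iff,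
    ValuationSubring.valuation_lt_one_iff]
  rfl

theorem mem_of_val_eq_one {x : Ω} (h : W.valuation x = 1) : x ∈ W :=
  (W.valuation_le_one_iff x).mp h.le

theorem res_ne_zero {x : Ω} (h : W.valuation x = 1) : res W x ≠ 0 := by
  rw [res_of_mem (mem_of_val_eq_one h), Ne, residue_eq_zero_iff, ValuationSubring.valuation_lt_one_iff]
  exact fun h' => h'.ne h

theorem inertia_mul {σ τ : Ω ≃ₐ[K] Ω} (hσ : IsInertia W σ) (hτ : IsInertia W τ) : IsInertia W (σ * τ) := by
  intro x hx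
  refine ⟨(hσ _ (hτ x hx).1).1, ?_⟩
  rw [show (σ * τ) x - x = (σ (τ x) - τ x) + (τ x - x) by simp]
  exact Valuation.map_add_lt _ (hσ _ (hτ x hx).1).2 (hτ x hx).2

theorem inertia_one : IsInertia W (1 : Ω ≃ₐ[K] Ω) := fun x hx => ⟨hx, by simp⟩

theorem inertia_pow {σ : Ω ≃ₐ[K] Ω} (hσ : IsInertia W σ) (k : ℕ) : IsInertia W (σ ^ k) := by
  induction k with
  | zero => rw [pow_zero]; exact inertia_one
  | succ k ih => rw [pow_succ]; exact inertia_mul ih hσ

theorem res_inertia {σ : Ω ≃ₐ[K] Ω} (hσ : IsInertia W σ) {u : Ω} (hu : u ∈ W) : res W (σ u) = res W u :=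
  (res_eq_iff (hσ u hu).1 hu).mpr (hσ u hu).2

variable (hW : LiesOver K R W)

include hW

theorem inertia_inv {σ : Ω ≃ₐ[K] Ω} (hσ : IsInertia W σ) : IsInertia W σ⁻¹ := by
  intro x hx
  have hz := gal_mem hW σ⁻¹ hx
  refine ⟨hz, ?_⟩
  have h := (hσ _ hz).2
  rw [← Valuation.map_neg, neg_sub] at h
  rwa [← AlgEquiv.mul_apply, mul_inv_cancel, AlgEquiv.one_apply] at h

theorem inertia_conj {σ : Ω ≃ₐ[K] Ω} (hσ : IsInertia W σ) (g : Ω ≃ₐ[K] Ω) : IsInertia W (g * σ * g⁻¹) := by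
  intro x hx
  refine ⟨gal_mem hW _ hx, ?_⟩
  have h := gal_val_lt_one hW g (hσ _ (gal_mem hW g⁻¹ hx)).2
  have e : g (g⁻¹ x) = x := by rw [← AlgEquiv.mul_apply, mul_inv_cancel, AlgEquiv.one_apply]
  rw [map_sub, e] at h
  exact h

theorem val_div {σ : Ω ≃ₐ[K] Ω} {y : Ω} (hy : y ≠ 0) : W.valuation (σ y / y) = 1 := by
  rw [map_div₀, gal_val_eq hW σ y, div_self ((Valuation.ne_zero_iff _).mpr hy)]

theorem res_div_mul {σ τ : Ω ≃ₐ[K] Ω} (hσ : IsInertia W σ) {y : Ω} (hy : y ≠ 0) :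
    res W ((σ * τ) y / y) = res W (τ y / y) * res W (σ y / y) := by
  have hm : τ y / y ∈ W := mem_of_val_eq_one (val_div hW hy)
  have hσy : σ y ≠ 0 := by simpa using hy
  have e : (σ * τ) y / y = σ (τ y / y) * (σ y / y) := by
    rw [map_div₀, AlgEquiv.mul_apply]; field_simp
  rw [e, res_mul (hσ _ hm).1 (mem_of_val_eq_one (val_div hW hy)), res_inertia hσ hm]

theorem res_div_pow {σ : Ω ≃ₐ[K] Ω} (hσ : IsInertia W σ) {y : Ω} (hy : y ≠ 0) (k : ℕ) :
    res W ((σ ^ k) y / y) = res W (σ y / y) ^ k := by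
  induction k with
  | zero => simp [hy, res_one]
  | succ k ih => rw [pow_succ' σ k, res_div_mul hW hσ hy, ih, pow_succ]

/-- An element fixing a finite-order orbit wildly is trivial on it. -/
theorem fix_of_wild {τ : Ω ≃ₐ[K] Ω} {N : ℕ} (hN : res W (N : Ω) ≠ 0) (L : IntermediateField K Ω)
    (hL : ∀ x ∈ L, τ x ∈ L) (hpow : ∀ x ∈ L, (τ ^ N) x = x)
    (hw : ∀ x ∈ L, x ≠ 0 → res W (τ x / x) = 1) {x : Ω} (hx : x ∈ L) : τ x = x := by
  have hNW : ∀ k : ℕ, (k : Ω) ∈ W := fun k => natCast_mem W k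
  have hN0 : (N : Ω) ≠ 0 := fun h => hN (by rw [h, res_of_mem W.zero_mem]; exact map_zero _)
  have hLt : ∀ (k : ℕ) y, y ∈ L → (τ ^ k) y ∈ L := by
    intro k
    induction k with
    | zero => intro y hy; simpa
    | succ k ih => intro y hy; rw [pow_succ', AlgEquiv.mul_apply]; exact hL _ (ih y hy)
  set S := ∑ i ∈ Finset.range N, (τ ^ i) x with hS
  have hτS : τ S = S := by
    rw [hS, map_sum]
    simp only [← AlgEquiv.mul_apply, ← pow_succ']
    have h1 := Finset.sum_range_succ' (fun i => (τ ^ i) x) N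
    rw [Finset.sum_range_succ, hpow x hx] at h1
    simpa using h1.symm
  set z := (N : Ω) * x - S with hz
  have hzL : z ∈ L := L.sub_mem (L.mul_mem (natCast_mem L N) hx) (L.sum_mem fun i _ => hLt i x hx)
  rcases eq_or_ne z 0 with h0 | h0
  · rw [hz, sub_eq_zero] at h0
    have := congrArg τ h0
    rw [map_mul, map_natCast, hτS, ← h0] at this
    exact mul_left_cancel₀ hN0 this
  exfalso
  have hτi : ∀ i, (τ ^ i) S = S := by
    intro i
    induction i with
    | zero => simp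
    | succ i ih => rw [pow_succ', AlgEquiv.mul_apply, ih, hτS]
  have hsum : ∑ i ∈ Finset.range N, (τ ^ i) z = 0 := by
    simp only [hz, map_sub, map_mul, map_natCast, Finset.sum_sub_distrib, hτi, ← Finset.mul_sum, ← hS,
      Finset.sum_const, Finset.card_range, nsmul_eq_mul, sub_self]
  have hmem : ∀ i, (τ ^ i) z / z ∈ W := fun i => mem_of_val_eq_one (val_div hW h0)
  have hres : ∀ i, res W ((τ ^ i) z / z) = 1 := by
    intro i
    induction i with
    | zero => simp [h0, res_one]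
    | succ i ih =>
      set y := (τ ^ i) z
      have hy0 : y ≠ 0 := fun h => h0 ((τ ^ i).injective (h.trans (map_zero _).symm))
      have e : (τ ^ (i + 1)) z / z = τ y / y * (y / z) := by
        rw [pow_succ', AlgEquiv.mul_apply, div_mul_div_cancel₀ hy0]
      rw [e, res_mul (mem_of_val_eq_one (val_div hW hy0)) (hmem i), ih, hw y (hLt i z hzL) hy0, mul_one]
  have h1 : ∀ k, res W (∑ i ∈ Finset.range k, (τ ^ i) z / z) = res W (k : Ω) := by
    intro k
    have hm : ∀ k, ∑ i ∈ Finset.range k, (τ ^ i) z / z ∈ W := fun k => sum_mem fun i _ => hmem i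
    rw [res_eq_iff (hm k) (hNW k), show (k : Ω) = ∑ _i ∈ Finset.range k, (1 : Ω) by simp, ← Finset.sum_sub_distrib]
    refine Valuation.map_sum_lt _ one_ne_zero fun i _ => ?_
    exact (res_eq_iff (hmem i) W.one_mem).mp ((hres i).trans res_one.symm)
  apply hN
  rw [← h1 N, ← Finset.sum_div, hsum, zero_div, res_of_mem W.zero_mem]
  exact map_zero _

theorem res_natCast_ne_zero {ℓ : ℕ} (hℓ : (ℓ : ResidueField R) ≠ 0) (m : ℕ) :
    res W ((ℓ ^ m : ℕ) : Ω) ≠ 0 := by
  refine res_ne_zero ?_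
  have hu : IsUnit (ℓ : R) := by
    by_contra h
    exact hℓ (by rw [← map_natCast (residue R)]; exact (residue_eq_zero_iff _).mpr h)
  have h := fun r : R => (W.valuation_le_one_iff _).mpr (algebraMap_mem hW r)
  have h1 : W.valuation (algebraMap R Ω (ℓ : R)) = 1 := by
    obtain ⟨b, hb⟩ := hu.exists_right_inv
    refine le_antisymm (h _) ?_
    have := congrArg (fun r => W.valuation (algebraMap R Ω r)) hb
    simp only [map_mul, map_one] at this
    rw [← this]
    exact mul_le_of_le_one_right' (h b)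
  rw [map_natCast] at h1
  rw [Nat.cast_pow, map_pow, h1, one_pow]

/-- In a finite `ℓ`-power quotient, conjugation of inertia by `g` is `a`-th power, `a` the cyclotomic character. -/
theorem conj_inertia {ℓ : ℕ} (hℓ : (ℓ : ResidueField R) ≠ 0) (M : ℕ) (I₀ : Subgroup (Ω ≃ₐ[K] Ω))
    (L : IntermediateField K Ω) (hL : ∀ τ ∈ I₀, ∀ x ∈ L, τ x ∈ L)
    (hpow : ∀ τ ∈ I₀, ∀ x ∈ L, (τ ^ ℓ ^ M) x = x)
    {σ g : Ω ≃ₐ[K] Ω} (hσ : σ ∈ I₀) (hg : g ∈ I₀) (hin : IsInertia W σ) {ζ : Ω}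
    (hζ : IsPrimitiveRoot ζ (ℓ ^ M)) (a : ℕ) (hga : g ζ = ζ ^ a) :
    ∀ x ∈ L, (g * σ * g⁻¹ * (σ ^ a)⁻¹) x = x := by
  intro x₁ hx₁
  set τ := g * σ * g⁻¹ * (σ ^ a)⁻¹ with hτdef
  have hτ : τ ∈ I₀ := mul_mem (mul_mem (mul_mem hg hσ) (inv_mem hg)) (inv_mem (pow_mem hσ a))
  have hτin : IsInertia W τ := inertia_mul (inertia_conj hW hin g) (inertia_inv hW (inertia_pow hin a))
  have hℓ0 : 0 < ℓ ^ M := pow_pos (Nat.pos_of_ne_zero fun h => hℓ (by simp [h])) M
  have hζW : ζ ∈ W := mem_of_isIntegral hW (IsIntegral.of_pow hℓ0 (by rw [hζ.pow_eq_one]; exact isIntegral_one))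
  have hne := res_natCast_ne_zero hW hℓ M
  haveI : NeZero (ℓ ^ M) := ⟨hℓ0.ne'⟩
  have hres : IsPrimitiveRoot (res W ζ) (ℓ ^ M) := by
    refine (IsPrimitiveRoot.iff_def _ _).mpr ⟨?_, fun i hi => hζ.dvd_of_pow_eq_one i ?_⟩
    · rw [← res_pow hζW, hζ.pow_eq_one, res_one]
    · have hN : ((ℓ ^ M : ℕ) : ResidueField W) ≠ 0 := by
        rw [res_of_mem (natCast_mem W _)] at hne
        rw [← map_natCast (residue W)]
        exact hne
      have := eq_one_of_map_eq_one (residue W) (η := (⟨ζ ^ i, pow_mem hζW i⟩ : W)) (N := ℓ ^ M)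
        (Subtype.ext (show (ζ ^ i) ^ (ℓ ^ M) = 1 by rw [← pow_mul, mul_comm, pow_mul, hζ.pow_eq_one, one_pow])) hN
        (by rw [← res_pow hζW, res_of_mem (pow_mem hζW i)] at hi; exact hi)
      exact congrArg Subtype.val this
  refine fix_of_wild hW hne L (hL τ hτ) (hpow τ hτ) (fun x hx hx0 => ?_) hx₁
  set y := g⁻¹ x with hy
  have hy0 : y ≠ 0 := by simpa [hy] using hx0
  have hyL : y ∈ L := hL _ (inv_mem hg) x hx
  set η := res W (σ x / x) with hη
  have hηy : res W (σ y / y) = η := by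
    set u := y / x with hu
    have hu1 : W.valuation u = 1 := by rw [hu, hy]; exact val_div hW hx0
    have huW : u ∈ W := mem_of_val_eq_one hu1
    have hu0 : u ≠ 0 := div_ne_zero hy0 hx0
    have hyu : y = u * x := (div_mul_cancel₀ y hx0).symm
    have hsu : σ u / u ∈ W := mem_of_val_eq_one (val_div hW hu0)
    have h1 : res W (σ u / u) = 1 := by
      have h2 := res_mul hsu huW
      rw [div_mul_cancel₀ _ hu0, res_inertia hin huW] at h2
      exact mul_right_cancel₀ (res_ne_zero hu1) (h2.symm.trans (one_mul _).symm)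
    rw [hyu, map_mul, mul_div_mul_comm, res_mul hsu (mem_of_val_eq_one (val_div hW hx0)), h1, one_mul]
  have hηN : η ^ (ℓ ^ M) = 1 := by
    rw [hη, ← res_div_pow hW hin hx0, hpow σ hσ x hx, div_self hx0, res_one]
  obtain ⟨i, -, hi⟩ := hres.eq_pow_of_pow_eq_one hηN
  -- the conjugate
  have hgy : g y = x := by rw [hy, ← AlgEquiv.mul_apply, mul_inv_cancel, AlgEquiv.one_apply]
  have hconj : res W ((g * σ * g⁻¹) x / x) = η ^ a := by
    have e : (g * σ * g⁻¹) x / x = g (σ y / y) := by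
      rw [map_div₀, hgy, hy, AlgEquiv.mul_apply, AlgEquiv.mul_apply]
    have hsy : σ y / y ∈ W := mem_of_val_eq_one (val_div hW hy0)
    have hclose : W.valuation (σ y / y - ζ ^ i) < 1 :=
      (res_eq_iff hsy (pow_mem hζW i)).mp (by rw [hηy, res_pow hζW, hi])
    have h2 := gal_val_lt_one hW g hclose
    rw [map_sub, map_pow, hga, ← res_eq_iff (gal_mem hW g hsy) (pow_mem (pow_mem hζW a) i), ← e,
      res_pow (pow_mem hζW a), res_pow hζW, pow_right_comm, hi] at h2
    exact h2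
  have h3 : res W ((g * σ * g⁻¹) x / x) = res W ((σ ^ a) x / x) * res W (τ x / x) := by
    rw [← res_div_mul hW hτin hx0]
    congr 2
    rw [hτdef, inv_mul_cancel_right]
  rw [hconj, res_div_pow hW hin hx0, ← hη] at h3
  have hη0 : η ^ a ≠ 0 := pow_ne_zero _ (res_ne_zero (val_div hW hx0))
  exact (mul_left_cancel₀ hη0 ((mul_one _).trans h3)).symm

end Groth.SGA7.Inertia
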