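import Mathlib.NumberTheory.Padics.Complex
import Mathlib.NumberTheory.Padics.RingHoms
import Mathlib.Analysis.Normed.Group.Ultra
import Mathlib.Analysis.Normed.Ring.Ultra
import Mathlib.LinearAlgebra.Eigenspace.Charpoly
import Mathlib.LinearAlgebra.Matrix.Charpoly.Eigs
import Mathlib.FieldTheory.IsAlgClosed.Basic
import Mathlib.FieldTheory.IsAlgClosed.Spectrum
import Mathlib.Tactic

/-! A `p`-adic matrix congruent to one mod `p²` that is approximately conjugate to a proper power of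
itself is unipotent. -/

set_option autoImplicit false

namespace Groth.SGA7.PadicUni

open Polynomial

variable {p : ℕ} [Fact p.Prime]

local notation "Ω" => PadicAlgCl p

theorem norm_natCast (n : ℕ) : ‖(n : Ω)‖ = ‖(n : ℚ_[p])‖ := by
  rw [← PadicAlgCl.norm_extends p (n : ℚ_[p]), map_natCast]

theorem norm_prime_ge (q : ℕ) (hq : q.Prime) : ((p : ℝ) ^ 1)⁻¹ ≤ ‖(q : Ω)‖ := by
  rw [norm_natCast, pow_one]
  by_cases h : q = p
  · subst h; rw [Padic.norm_p]
  · rw [Padic.norm_natCast_eq_one_iff.mpr ((Nat.coprime_primes (Fact.out) hq).mpr (Ne.symm h))]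
    exact inv_le_one_of_one_le₀ (by exact_mod_cast (Fact.out : p.Prime).one_le)

theorem norm_le_one_of_sub_one {x : Ω} (hx : ‖x - 1‖ ≤ 1) : ‖x‖ ≤ 1 := by
  have h := IsUltrametricDist.norm_add_le_max (x - 1) (1 : Ω)
  simp only [sub_add_cancel, norm_one] at h
  exact h.trans (max_le hx le_rfl)

theorem norm_pow_sub_pow_le {u v : Ω} (hu : ‖u‖ ≤ 1) (hv : ‖v‖ ≤ 1) (a : ℕ) : ‖u ^ a - v ^ a‖ ≤ ‖u - v‖ := by
  induction a with
  | zero => simp
  | succ a ih =>
    rw [show u ^ (a + 1) - v ^ (a + 1) = (u ^ a - v ^ a) * u + v ^ a * (u - v) by ring]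
    refine (IsUltrametricDist.norm_add_le_max _ _).trans (max_le ?_ ?_)
    · rw [norm_mul]
      exact le_trans (mul_le_of_le_one_right (norm_nonneg _) hu) ih
    · rw [norm_mul, norm_pow]
      exact mul_le_of_le_one_left (norm_nonneg _) (pow_le_one₀ (norm_nonneg _) hv)

theorem inv_pow_two_le_one : ((p : ℝ) ^ 2)⁻¹ ≤ 1 :=
  inv_le_one_of_one_le₀ (one_le_pow₀ (by exact_mod_cast (Fact.out : p.Prime).one_le))

theorem norm_pow_sub_one (k : ℕ) {x : Ω} (hx : ‖x - 1‖ ≤ ((p : ℝ) ^ 2)⁻¹) :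
    ‖x ^ k - 1‖ = ‖(k : Ω)‖ * ‖x - 1‖ := by
  induction k using Nat.recOnMul generalizing x with
  | zero => simp
  | one => simp
  | prime q hq =>
    rw [← geom_sum_mul, norm_mul]
    congr 1
    have hx1 : ‖x‖ ≤ 1 := norm_le_one_of_sub_one (hx.trans inv_pow_two_le_one)
    have hsum : ‖∑ i ∈ Finset.range q, x ^ i - (q : Ω)‖ ≤ ((p : ℝ) ^ 2)⁻¹ := by
      rw [show (q : Ω) = ∑ _i ∈ Finset.range q, (1 : Ω) by simp, ← Finset.sum_sub_distrib]
      refine IsUltrametricDist.norm_sum_le_of_forall_le_of_nonneg (by positivity) fun i _ => ?_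
      have := norm_pow_sub_pow_le hx1 (norm_one (α := Ω)).le i
      rw [one_pow] at this
      exact this.trans hx
    have hlt : ((p : ℝ) ^ 2)⁻¹ < ‖(q : Ω)‖ := lt_of_lt_of_le (by
      have hp : (1 : ℝ) < p := by exact_mod_cast (Fact.out : p.Prime).one_lt
      exact inv_strictAnti₀ (by positivity) (pow_lt_pow_right₀ hp (by norm_num))) (norm_prime_ge q hq)
    have hne : ‖(q : Ω)‖ ≠ ‖∑ i ∈ Finset.range q, x ^ i - (q : Ω)‖ := (lt_of_le_of_lt hsum hlt).ne'
    have := IsUltrametricDist.norm_add_eq_max_of_norm_ne_norm hne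
    rw [add_sub_cancel] at this
    rw [this, max_eq_left (lt_of_le_of_lt hsum hlt).le]
  | mul a b ha hb =>
    have h1 : ‖x ^ a - 1‖ ≤ ((p : ℝ) ^ 2)⁻¹ := by
      have hx1 : ‖x‖ ≤ 1 := norm_le_one_of_sub_one (hx.trans inv_pow_two_le_one)
      have := norm_pow_sub_pow_le hx1 (norm_one (α := Ω)).le a
      rw [one_pow] at this
      exact this.trans hx
    rw [pow_mul, hb h1, ha hx, Nat.cast_mul, norm_mul]
    ring

/-- The scalar statement: approximately `a`-power stable finite families near one consist of ones. -/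
theorem scalar {ι : Type*} [Fintype ι] (r : ι → Ω) (hr : ∀ i, ‖r i - 1‖ ≤ ((p : ℝ) ^ 2)⁻¹) (m₀ : ℕ)
    (h : ∀ ε : ℝ, 0 < ε → ∃ a : ℕ, ‖(a : Ω) - 1‖ ≤ ((p : ℝ) ^ 2)⁻¹ ∧ ((p : ℝ) ^ m₀)⁻¹ ≤ ‖(a : Ω) - 1‖ ∧
      ∀ i, ∃ j, ‖r i ^ a - r j‖ ≤ ε) (i : ι) : r i = 1 := by
  classical
  have hp : (1 : ℝ) < p := by exact_mod_cast (Fact.out : p.Prime).one_lt
  by_contra hne
  have hpos : 0 < ‖r i - 1‖ := norm_pos_iff.mpr (sub_ne_zero.mpr hne)
  set c : ℝ := ((p : ℝ) ^ (Fintype.card ι))⁻¹ * ((p : ℝ) ^ m₀)⁻¹ with hc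
  have hc0 : 0 < c := by positivity
  have hc1 : c ≤ 1 := mul_le_one₀ (inv_le_one_of_one_le₀ (one_le_pow₀ hp.le)) (by positivity)
    (inv_le_one_of_one_le₀ (one_le_pow₀ hp.le))
  obtain ⟨a, ha, ha', hf⟩ := h (c * ‖r i - 1‖ / 2) (by positivity)
  set ε := c * ‖r i - 1‖ / 2 with hε
  have hεpos : 0 < ε := by positivity
  choose f hf using hf
  have hr1 : ∀ j, ‖r j‖ ≤ 1 := fun j => norm_le_one_of_sub_one ((hr j).trans inv_pow_two_le_one)
  have hchain : ∀ t j, ‖r j ^ (a ^ t) - r (f^[t] j)‖ ≤ ε := by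
    intro t
    induction t with
    | zero => intro j; simpa using hεpos.le
    | succ t ih =>
      intro j
      rw [Function.iterate_succ_apply']
      have e : r j ^ a ^ (t + 1) - r (f (f^[t] j)) =
          ((r j ^ a ^ t) ^ a - r (f^[t] j) ^ a) + (r (f^[t] j) ^ a - r (f (f^[t] j))) := by
        rw [← pow_mul, ← pow_succ]; ring
      rw [e]
      refine (IsUltrametricDist.norm_add_le_max _ _).trans (max_le ?_ (hf _))
      exact (norm_pow_sub_pow_le (by rw [norm_pow]; exact pow_le_one₀ (norm_nonneg _) (hr1 j)) (hr1 _) a).trans (ih j)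
  have ha1 : ‖(a : Ω)‖ = 1 := by
    have h' : ‖(a : Ω) - 1‖ < ‖(1 : Ω)‖ := by
      rw [norm_one]
      exact lt_of_le_of_lt ha (inv_lt_one_of_one_lt₀ (one_lt_pow₀ hp (by norm_num)))
    have := IsUltrametricDist.norm_add_eq_max_of_norm_ne_norm h'.ne
    rw [sub_add_cancel, max_eq_right h'.le, norm_one] at this
    exact this
  -- a repetition in the orbit of `i`
  obtain ⟨u, v, huv, hrep⟩ := Fintype.exists_ne_map_eq_of_card_lt (fun t : Fin (Fintype.card ι + 1) => f^[(t : ℕ)] i)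
    (by simp)
  wlog hlt : (u : ℕ) < v generalizing u v
  · exact this v u huv.symm hrep.symm (lt_of_le_of_ne (not_lt.mp hlt) fun hh => huv.symm (Fin.ext hh))
  set d := (v : ℕ) - u with hd
  set j := f^[(u : ℕ)] i with hj
  have hper : f^[d] j = j := by
    rw [hj, ← Function.iterate_add_apply, hd, Nat.sub_add_cancel hlt.le]; exact hrep.symm
  have hdle : d ≤ Fintype.card ι := by omega
  have hdnorm : ((p : ℝ) ^ (Fintype.card ι))⁻¹ ≤ ‖(d : Ω)‖ := by
    rw [norm_natCast, Padic.norm_eq_zpow_neg_valuation (by norm_cast; omega), zpow_neg, ← zpow_natCast]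
    refine inv_anti₀ (by positivity) (zpow_le_zpow_right₀ hp.le ?_)
    rw [Padic.valuation_natCast]
    have := padicValNat_le_nat_log (p := p) d
    have h2 : Nat.log p d ≤ d := Nat.log_le_self p d
    exact_mod_cast (by omega)
  have hapos : 1 ≤ a := by
    rcases Nat.eq_zero_or_pos a with h0 | h0
    · exfalso; rw [h0, Nat.cast_zero, zero_sub, norm_neg, norm_one] at ha
      exact absurd ha (not_le.mpr (inv_lt_one_of_one_lt₀ (one_lt_pow₀ hp (by norm_num))))
    · exact h0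
  have hkey : ‖r j ^ (a ^ d) - r j‖ = ‖((a : Ω)) ^ d - 1‖ * ‖r j - 1‖ := by
    have hpos' : 1 ≤ a ^ d := Nat.one_le_pow _ _ hapos
    have e : r j ^ (a ^ d) - r j = r j * (r j ^ (a ^ d - 1) - 1) := by
      rw [mul_sub, ← pow_succ', Nat.sub_add_cancel hpos', mul_one]
    have hrj : ‖r j‖ = 1 := by
      have h' : ‖r j - 1‖ < ‖(1 : Ω)‖ := by
        rw [norm_one]
        exact lt_of_le_of_lt (hr j) (inv_lt_one_of_one_lt₀ (one_lt_pow₀ hp (by norm_num)))
      have := IsUltrametricDist.norm_add_eq_max_of_norm_ne_norm h'.ne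
      rw [sub_add_cancel, max_eq_right h'.le, norm_one] at this
      exact this
    rw [e, norm_mul, hrj, one_mul, norm_pow_sub_one _ (hr j), Nat.cast_sub hpos', Nat.cast_pow, Nat.cast_one]
  rw [norm_pow_sub_one d ha] at hkey
  have hsmall : c * ‖r j - 1‖ ≤ ε := by
    refine le_trans ?_ (le_trans hkey.ge (by simpa [hper] using hchain d j))
    refine mul_le_mul_of_nonneg_right ?_ (norm_nonneg _)
    exact mul_le_mul hdnorm ha' (by positivity) (norm_nonneg _)
  have hi : ‖r i ^ (a ^ (u : ℕ)) - 1‖ = ‖r i - 1‖ := by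
    rw [norm_pow_sub_one _ (hr i), Nat.cast_pow, norm_pow, ha1, one_pow, one_mul]
  have h2 : ‖r i - 1‖ ≤ max ε ‖r j - 1‖ := by
    rw [← hi, show r i ^ (a ^ (u : ℕ)) - 1 = (r i ^ (a ^ (u : ℕ)) - r j) + (r j - 1) by ring]
    exact (IsUltrametricDist.norm_add_le_max _ _).trans (max_le_max (hchain _ i) le_rfl)
  have h3 : c * ‖r i - 1‖ ≤ ε := by
    rcases le_max_iff.mp h2 with h2 | h2
    · exact le_trans (le_trans (mul_le_of_le_one_left (norm_nonneg _) hc1) h2) le_rfl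
    · exact le_trans (mul_le_mul_of_nonneg_left h2 hc0.le) hsmall
  have : 0 < c * ‖r i - 1‖ := mul_pos hc0 hpos
  linarith [hε]

theorem norm_algebraMap (x : ℤ_[p]) : ‖algebraMap ℤ_[p] Ω x‖ = ‖x‖ := by
  rw [IsScalarTower.algebraMap_apply ℤ_[p] ℚ_[p] Ω, PadicAlgCl.norm_extends p]
  rfl

theorem norm_root_le_one (P : ℤ_[p][X]) (hP : P.Monic) (y : Ω) (hy : aeval y P = 0) : ‖y‖ ≤ 1 := by
  by_contra hgt
  push Not at hgt
  have h0 : P.natDegree ≠ 0 := fun h => by
    rw [(hP.natDegree_eq_zero).mp h, map_one] at hy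
    exact one_ne_zero hy
  rw [aeval_eq_sum_range, Finset.sum_range_succ, coeff_natDegree, hP.leadingCoeff, one_smul] at hy
  have hle : ‖y ^ P.natDegree‖ ≤ ‖y‖ ^ (P.natDegree - 1) := by
    rw [eq_neg_of_add_eq_zero_right hy, norm_neg]
    refine IsUltrametricDist.norm_sum_le_of_forall_le_of_nonneg (by positivity) fun i hi => ?_
    rw [Algebra.smul_def, norm_mul, norm_algebraMap, norm_pow]
    refine le_trans (mul_le_of_le_one_left (by positivity) (PadicInt.norm_le_one _)) ?_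
    exact pow_le_pow_right₀ hgt.le (by simp at hi; omega)
  rw [norm_pow] at hle
  exact absurd hle (not_le.mpr (pow_lt_pow_right₀ hgt (by omega)))

theorem norm_aeval_le (P : ℤ_[p][X]) (c : ℝ) (hc : 0 ≤ c) (hP : ∀ i, ‖P.coeff i‖ ≤ c) (y : Ω) (hy : ‖y‖ ≤ 1) :
    ‖aeval y P‖ ≤ c := by
  rw [aeval_eq_sum_range]
  refine IsUltrametricDist.norm_sum_le_of_forall_le_of_nonneg hc fun i _ => ?_
  rw [Algebra.smul_def, norm_mul, norm_algebraMap, norm_pow]
  exact le_trans (mul_le_of_le_one_right (norm_nonneg _) (pow_le_one₀ (norm_nonneg _) hy)) (hP i)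

theorem exists_root_near (P : Ω[X]) (hP : P.Monic) (y : Ω) {ε : ℝ} (hε : 0 < ε) (h : ‖P.eval y‖ < ε ^ P.natDegree) :
    ∃ μ, P.IsRoot μ ∧ ‖y - μ‖ ≤ ε := by
  by_contra hcon
  push Not at hcon
  have hsp : P.Splits := IsAlgClosed.splits P
  rw [hsp.natDegree_eq_card_roots] at h
  have e := congrArg (eval y) (hsp.eq_prod_roots_of_monic hP)
  rw [eval_multiset_prod, Multiset.map_map] at e
  simp only [Function.comp_def, eval_sub, eval_X, eval_C] at e
  rw [e] at h
  have hroot : ∀ μ ∈ P.roots, ε ≤ ‖y - μ‖ := fun μ hμ => (hcon μ (isRoot_of_mem_roots hμ)).le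
  have key : ∀ s : Multiset Ω, (∀ μ ∈ s, ε ≤ ‖y - μ‖) → ε ^ s.card ≤ ‖(s.map fun μ => y - μ).prod‖ := by
    intro s hs
    induction s using Multiset.induction_on with
    | empty => simp
    | cons a t ih =>
      rw [Multiset.card_cons, pow_succ', Multiset.map_cons, Multiset.prod_cons, norm_mul]
      exact mul_le_mul (hs a (Multiset.mem_cons_self a t)) (ih fun μ hμ => hs μ (Multiset.mem_cons_of_mem hμ))
        (pow_nonneg hε.le _) (norm_nonneg _)
  exact absurd (key _ hroot) (not_le.mpr h)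

variable {n : ℕ}

/-- Main criterion. -/
theorem isNilpotent_sub_one (X : Matrix (Fin n) (Fin n) ℤ_[p])
    (hX : X.map (PadicInt.toZModPow 2) = 1) (m₀ : ℕ)
    (h : ∀ M : ℕ, ∃ (a : ℕ) (g : (Matrix (Fin n) (Fin n) ℤ_[p])ˣ),
      (a : ZMod (p ^ 2)) = 1 ∧ (a : ZMod (p ^ m₀)) ≠ 1 ∧
      ((g : Matrix (Fin n) (Fin n) ℤ_[p]) * X * ((g⁻¹ : (Matrix (Fin n) (Fin n) ℤ_[p])ˣ) : Matrix (Fin n) (Fin n) ℤ_[p])).map (PadicInt.toZModPow M) =
        (X ^ a).map (PadicInt.toZModPow M)) :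
    IsNilpotent (X - 1) := by
  classical
  have hp : (1 : ℝ) < p := by exact_mod_cast (Fact.out : p.Prime).one_lt
  have hnorm : ∀ (x : ℤ_[p]) (M : ℕ), PadicInt.toZModPow M x = 0 ↔ ‖x‖ ≤ ((p : ℝ) ^ M)⁻¹ := fun x M => by
    rw [← RingHom.mem_ker, PadicInt.ker_toZModPow, ← PadicInt.norm_le_pow_iff_mem_span_pow, zpow_neg, zpow_natCast]
  set φ : ℤ_[p] →+* Ω := algebraMap ℤ_[p] Ω
  set P := (X.map φ).charpoly with hP
  have hPX : P = X.charpoly.map φ := Matrix.charpoly_map X φ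
  -- every eigenvalue is near one
  have hpq : (p : Ω) ^ 2 ≠ 0 := pow_ne_zero _ (by exact_mod_cast (Fact.out : p.Prime).ne_zero)
  have hnear : ∀ μ : Ω, P.IsRoot μ → ‖μ - 1‖ ≤ ((p : ℝ) ^ 2)⁻¹ := by
    intro μ hμ
    have hdiv : ∀ i j, ∃ e : ℤ_[p], (X - 1) i j = (p : ℤ_[p]) ^ 2 * e := by
      intro i j
      have h0 : PadicInt.toZModPow 2 ((X - 1) i j) = 0 := by
        have := congrFun (congrFun hX i) j
        rw [Matrix.map_apply] at this
        rw [Matrix.sub_apply, map_sub, this, Matrix.one_apply, Matrix.one_apply, apply_ite (PadicInt.toZModPow 2),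
          map_one, map_zero, sub_self]
      rw [← RingHom.mem_ker, PadicInt.ker_toZModPow, Ideal.mem_span_singleton] at h0
      exact h0
    choose E hE using hdiv
    have hXE : X.map φ = ((p : Ω) ^ 2) • ((Matrix.of E).map φ) + 1 := by
      ext i j
      have : X i j = (p : ℤ_[p]) ^ 2 * E i j + (1 : Matrix (Fin n) (Fin n) ℤ_[p]) i j := by
        rw [← hE, Matrix.sub_apply, sub_add_cancel]
      simp [this, Matrix.one_apply, apply_ite φ]
    obtain ⟨v, hv⟩ : ∃ v, v ≠ 0 ∧ (X.map φ).mulVec v = μ • v := by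
      obtain ⟨v, hv, hv0⟩ := ((Module.End.hasEigenvalue_iff_isRoot_charpoly (Matrix.toLin' (X.map φ)) μ).mpr
        (by rw [Matrix.charpoly_toLin']; exact hμ)).exists_hasEigenvector
      exact ⟨v, hv0, by simpa [Matrix.toLin'_apply] using Module.End.mem_eigenspace_iff.mp hv⟩
    obtain ⟨hv0, hv⟩ := hv
    have hev : ((Matrix.of E).map φ).mulVec v = ((μ - 1) / (p : Ω) ^ 2) • v := by
      rw [hXE, Matrix.add_mulVec, Matrix.smul_mulVec, Matrix.one_mulVec] at hv
      rw [div_eq_inv_mul, ← smul_smul, sub_smul, one_smul, ← hv, add_sub_cancel_right, inv_smul_smul₀ hpq]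
    have hroot : ((Matrix.of E).map φ).charpoly.IsRoot ((μ - 1) / (p : Ω) ^ 2) := by
      rw [← Matrix.charpoly_toLin', ← Module.End.hasEigenvalue_iff_isRoot_charpoly]
      exact Module.End.hasEigenvalue_of_hasEigenvector
        (x := v) ⟨Module.End.mem_eigenspace_iff.mpr (by simpa [Matrix.toLin'_apply] using hev), hv0⟩
    rw [Matrix.charpoly_map, IsRoot, eval_map, ← aeval_def] at hroot
    have h1 := norm_root_le_one _ (Matrix.charpoly_monic (Matrix.of E)) _ hroot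
    rw [norm_div, norm_pow, norm_natCast, Padic.norm_p, inv_pow, div_le_one (by positivity)] at h1
    exact h1
  have hone : ∀ μ : Ω, P.IsRoot μ → μ = 1 := by
    have hfin : (P.rootSet Ω).Finite := Polynomial.rootSet_finite _ _
    let ι := {μ : Ω // P.IsRoot μ}
    haveI : Finite ι := (P.finite_setOf_isRoot (Matrix.charpoly_monic _).ne_zero).to_subtype
    haveI : Fintype ι := Fintype.ofFinite _
    intro μ hμ
    refine scalar (fun i : ι => i.1) (fun i => hnear i.1 i.2) m₀ (fun ε hε => ?_) ⟨μ, hμ⟩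
    obtain ⟨M, hM⟩ := exists_pow_lt_of_lt_one (pow_pos hε P.natDegree) (inv_lt_one_of_one_lt₀ hp)
    rw [inv_pow] at hM
    obtain ⟨a, g, ha2, ham, hconj⟩ := h M
    have hcast : ∀ k, PadicInt.toZModPow k ((a : ℤ_[p]) - 1) = (a : ZMod (p ^ k)) - 1 := fun k => by simp
    have hae : ‖(a : Ω) - 1‖ = ‖(a : ℤ_[p]) - 1‖ := by rw [← norm_algebraMap]; simp
    refine ⟨a, ?_, ?_, ?_⟩
    · rw [hae, ← hnorm, hcast, ha2, sub_self]
    · rw [hae]
      by_contra hlt
      push Not at hlt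
      exact ham (sub_eq_zero.mp (by rw [← hcast]; exact (hnorm _ _).mpr hlt.le))
    rintro ⟨μ, hμ⟩
    have hmap : X.charpoly.map (PadicInt.toZModPow M) = (X ^ a).charpoly.map (PadicInt.toZModPow M) := by
      rw [← Matrix.charpoly_units_conj g X, ← Matrix.charpoly_map, ← Matrix.charpoly_map]
      rw [Matrix.coe_units_inv] at hconj
      exact congrArg Matrix.charpoly hconj
    have hroot : ((X ^ a).map φ).charpoly.IsRoot (μ ^ a) := by
      rw [show (X ^ a).map φ = (X.map φ) ^ a from map_pow φ.mapMatrix X a, ← Matrix.mem_spectrum_iff_isRoot_charpoly]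
      exact spectrum.pow_mem_pow _ _ (Matrix.mem_spectrum_iff_isRoot_charpoly.mpr hμ)
    rw [Matrix.charpoly_map, IsRoot, eval_map, ← aeval_def] at hroot
    have hμ1 : ‖μ ^ a‖ ≤ 1 := by
      rw [norm_pow]; exact pow_le_one₀ (norm_nonneg _) (norm_le_one_of_sub_one ((hnear μ hμ).trans inv_pow_two_le_one))
    have hsmall : ‖P.eval (μ ^ a)‖ ≤ ((p : ℝ) ^ M)⁻¹ := by
      rw [hPX, eval_map, ← aeval_def, ← sub_zero (aeval (μ ^ a) X.charpoly), ← hroot, ← map_sub]
      refine norm_aeval_le _ _ (by positivity) (fun i => ?_) _ hμ1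
      rw [← hnorm, coeff_sub, map_sub, sub_eq_zero, ← coeff_map, ← coeff_map, hmap]
    obtain ⟨ν, hν, hd⟩ := exists_root_near P (Matrix.charpoly_monic _) (μ ^ a) hε (lt_of_le_of_lt hsmall hM)
    exact ⟨⟨ν, hν⟩, hd⟩
  have hpoly : P = (Polynomial.X - C 1) ^ P.natDegree := by
    have hsp : P.Splits := IsAlgClosed.splits P
    conv_lhs => rw [hsp.eq_prod_roots_of_monic (Matrix.charpoly_monic _)]
    rw [Multiset.eq_replicate_card.mpr (fun μ hμ => hone μ (isRoot_of_mem_roots hμ)), Multiset.map_replicate,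
      Multiset.prod_replicate, hsp.natDegree_eq_card_roots]
  have hinj : Function.Injective φ := by
    rw [injective_iff_map_eq_zero]
    intro x hx
    rw [← norm_eq_zero, ← norm_algebraMap]
    simp [φ] at hx
    simp [hx]
  refine ⟨P.natDegree, ?_⟩
  have hch := Matrix.aeval_self_charpoly (X.map φ)
  rw [← hP, hpoly, map_pow, map_sub, aeval_X, map_one, map_one] at hch
  apply Matrix.map_injective hinj
  show ((X - 1) ^ P.natDegree).map φ = (0 : Matrix (Fin n) (Fin n) ℤ_[p]).map φ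
  have e : ((X - 1) ^ P.natDegree).map φ = (X.map φ - 1) ^ P.natDegree := by
    show φ.mapMatrix ((X - 1) ^ P.natDegree) = _
    rw [map_pow, map_sub, map_one]; rfl
  rw [e, hch]
  simp

end Groth.SGA7.PadicUni
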