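import Groth.Agent.SGA7.HenselVal
import Groth.Agent.EtaleAlgebra.FlatUnramFP
import Mathlib

/-! Finite extensions fixed by inertia are étale over a henselian discrete valuation ring. -/

universe u

open IsLocalRing
open scoped Pointwise

set_option synthInstance.maxHeartbeats 400000

namespace Groth.SGA7.InertiaFixed

attribute [local instance] Ideal.Quotient.field

theorem card_aut_eq_finSepDegree (F E : Type*) [Field F] [Field E] [Algebra F E] [Normal F E] :
    Nat.card (E ≃ₐ[F] E) = Field.finSepDegree F E :=
  (Nat.card_congr (Normal.algHomEquivAut F (AlgebraicClosure E) E)).symm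

section Core

variable {R S₀ S : Type u} [CommRing R] [IsLocalRing R] [CommRing S₀] [IsLocalRing S₀] [CommRing S] [IsLocalRing S]
  [Algebra R S₀] [Algebra R S] [Algebra S₀ S] [IsScalarTower R S₀ S]

theorem stabilizer_maximal {G : Type u} [Group G] [MulSemiringAction G S] (g : G) :
    g ∈ MulAction.stabilizer G (maximalIdeal S) := by
  have : (g • maximalIdeal S).IsMaximal := by
    rw [Ideal.pointwise_smul_eq_comap]
    exact Ideal.comap_isMaximal_of_surjective _ (MulSemiringAction.toRingEquiv G S g⁻¹).surjective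
  exact IsLocalRing.eq_maximalIdeal this

variable (R S) in
/-- The action on the residue field. -/
noncomputable def resAct (G : Type u) [Group G] [MulSemiringAction G S] [SMulCommClass G R S]
    [(maximalIdeal S).LiesOver (maximalIdeal R)] :
    G →* ((S ⧸ maximalIdeal S) ≃ₐ[R ⧸ maximalIdeal R] (S ⧸ maximalIdeal S)) :=
  (Ideal.Quotient.stabilizerHom (maximalIdeal S) (maximalIdeal R) G).comp
    ((MonoidHom.id G).codRestrict (MulAction.stabilizer G (maximalIdeal S)) stabilizer_maximal)

theorem resAct_mk (G : Type u) [Group G] [MulSemiringAction G S] [SMulCommClass G R S]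
    [(maximalIdeal S).LiesOver (maximalIdeal R)] (g : G) (x : S) :
    resAct R S G g (Ideal.Quotient.mk _ x) = Ideal.Quotient.mk _ (g • x) := rfl

theorem resAct_surjective (G : Type u) [Group G] [Finite G] [MulSemiringAction G S] [SMulCommClass G R S]
    [Algebra.IsInvariant R S G] [(maximalIdeal S).LiesOver (maximalIdeal R)] :
    Function.Surjective (resAct R S G) := fun τ => by
  obtain ⟨⟨g, hg⟩, e⟩ := Ideal.Quotient.stabilizerHom_surjective G (maximalIdeal R) (maximalIdeal S) τ
  exact ⟨g, e⟩

theorem resAct_ker (G : Type u) [Group G] [MulSemiringAction G S] [SMulCommClass G R S]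
    [(maximalIdeal S).LiesOver (maximalIdeal R)] : (resAct R S G).ker = (maximalIdeal S).inertia G := by
  ext g
  rw [MonoidHom.mem_ker]
  refine ⟨fun h x => Ideal.Quotient.eq.mp ?_, fun h => AlgEquiv.ext fun z => ?_⟩
  · rw [← resAct_mk (R := R) G g x, h]
    rfl
  · obtain ⟨x, rfl⟩ := Ideal.Quotient.mk_surjective z
    rw [resAct_mk]
    exact Ideal.Quotient.eq.mpr (h x)

theorem formallyUnramified_core [Module.Free R S₀] [Module.Finite R S₀] [Algebra.IsIntegral R S]
    (G : Type u) [Group G] [Finite G] [MulSemiringAction G S] [SMulCommClass G R S] [Algebra.IsInvariant R S G]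
    (H : Subgroup G) (hH : H = (maximalIdeal S).inertia G) [SMulCommClass H S₀ S] [Algebra.IsInvariant S₀ S H]
    (hrank : Module.finrank R S₀ = H.index)
    [IsLocalHom (algebraMap R S₀)] [IsLocalHom (algebraMap R S)] [IsLocalHom (algebraMap S₀ S)]
    [(maximalIdeal S).LiesOver (maximalIdeal R)] [(maximalIdeal S).LiesOver (maximalIdeal S₀)]
    [(maximalIdeal S₀).LiesOver (maximalIdeal R)] :
    Algebra.FormallyUnramified R S₀ := by
  let k := R ⧸ maximalIdeal R
  let κ := S ⧸ maximalIdeal S
  let κ₀ := S₀ ⧸ maximalIdeal S₀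
  have : Normal k κ := Ideal.Quotient.normal G (maximalIdeal R) (maximalIdeal S)
  have : Normal κ₀ κ := Ideal.Quotient.normal H (maximalIdeal S₀) (maximalIdeal S)
  have : IsScalarTower k κ₀ κ := IsScalarTower.of_algebraMap_eq (by
    intro z
    obtain ⟨r, rfl⟩ := Ideal.Quotient.mk_surjective z
    exact congrArg (Ideal.Quotient.mk (maximalIdeal S)) (IsScalarTower.algebraMap_apply R S₀ S r))
  have hfin : Module.Finite k κ₀ := Module.Finite.of_restrictScalars_finite R _ _
  have h1 : Nat.card (κ ≃ₐ[κ₀] κ) = 1 := by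
    have : Unique (κ ≃ₐ[κ₀] κ) :=
      { default := AlgEquiv.refl
        uniq := fun τ => by
          obtain ⟨⟨g, hg⟩, rfl⟩ := resAct_surjective (R := S₀) (S := S) H τ
          refine AlgEquiv.ext fun z => ?_
          obtain ⟨x, rfl⟩ := Ideal.Quotient.mk_surjective z
          rw [resAct_mk]
          exact Ideal.Quotient.eq.mpr ((hH ▸ hg : g ∈ (maximalIdeal S).inertia G) x) }
    exact Nat.card_unique
  have h2 : Nat.card (κ ≃ₐ[k] κ) = H.index := by
    rw [hH, ← resAct_ker (R := R) G, Subgroup.index_ker,
      MonoidHom.range_eq_top.mpr (resAct_surjective G), Subgroup.card_top]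
  have h3 : Field.finSepDegree k κ₀ = Module.finrank R S₀ := by
    rw [hrank, ← h2, card_aut_eq_finSepDegree, ← Field.finSepDegree_mul_finSepDegree_of_isAlgebraic k κ₀ κ,
      ← card_aut_eq_finSepDegree κ₀ κ, h1, mul_one]
  have hle : (maximalIdeal R).map (algebraMap R S₀) ≤ maximalIdeal S₀ :=
    ((local_hom_TFAE (algebraMap R S₀)).out 0 2 rfl rfl).mp inferInstance
  let M := S₀ ⧸ (maximalIdeal R).map (algebraMap R S₀)
  let q : M →ₗ[k] κ₀ :=
    { toFun := Ideal.Quotient.factor hle
      map_add' := map_add _
      map_smul' := fun c z => by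
        obtain ⟨r, rfl⟩ := Ideal.Quotient.mk_surjective c
        obtain ⟨s, rfl⟩ := Ideal.Quotient.mk_surjective z
        show Ideal.Quotient.factor hle (Ideal.Quotient.mk _ (r • s)) =
          Ideal.Quotient.mk (maximalIdeal R) r • Ideal.Quotient.factor hle (Ideal.Quotient.mk _ s)
        rw [Ideal.Quotient.factor_mk, Ideal.Quotient.factor_mk, Algebra.smul_def, Algebra.smul_def]
        rfl }
  have hqs : Function.Surjective q := Ideal.Quotient.factor_surjective hle
  have hdim : Module.finrank k M = Module.finrank R S₀ := IsLocalRing.finrank_quotient_map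
  have : Module.Finite k M := Module.Finite.of_restrictScalars_finite R _ _
  have hle' : Module.finrank k κ₀ ≤ Module.finrank k M := LinearMap.finrank_le_finrank_of_surjective hqs
  have h4 : Field.finSepDegree k κ₀ = Module.finrank k κ₀ :=
    le_antisymm (Field.finSepDegree_le_finrank k κ₀) (by rw [h3, ← hdim]; exact hle')
  have hsep : Algebra.IsSeparable k κ₀ := (Field.finSepDegree_eq_finrank_iff k κ₀).mp h4
  have hqi : Function.Injective q :=
    (LinearMap.injective_iff_surjective_of_finrank_eq_finrank (by rw [hdim, ← h3, h4])).mpr hqs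
  have hmap : (maximalIdeal R).map (algebraMap R S₀) = maximalIdeal S₀ := le_antisymm hle fun s hs => by
    refine Ideal.Quotient.eq_zero_iff_mem.mp (hqi ?_)
    rw [map_zero]
    exact Ideal.Quotient.eq_zero_iff_mem.mpr hs
  have : Algebra.IsSeparable (ResidueField R) (ResidueField S₀) := hsep
  exact Algebra.FormallyUnramified.of_map_maximalIdeal hmap

end Core

section Extension

variable {R K Ω : Type u} [CommRing R] [IsDomain R] [IsDiscreteValuationRing R] [HenselianLocalRing R]
  [Field K] [Algebra R K] [IsFractionRing R K] [Field Ω] [Algebra K Ω] [Algebra R Ω] [IsScalarTower R K Ω]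
  [IsGalois K Ω] {W : ValuationSubring Ω} (hW : _root_.SGA7.LiesOver K R W)

/-- Galois action on the integral closure. -/
@[reducible] noncomputable def intAction (L : Type u) [Field L] [Algebra R L] [Algebra K L] [IsScalarTower R K L]
    (G : Type u) [Group G] [MulSemiringAction G L] [SMulCommClass G K L] :
    MulSemiringAction G (integralClosure R L) where
  smul g s := ⟨g • (s : L), by
    have := s.2.map ((MulSemiringAction.toAlgHom K L g).restrictScalars R)
    exact this⟩
  one_smul s := Subtype.ext (one_smul G (s : L))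
  mul_smul g h s := Subtype.ext (mul_smul g h (s : L))
  smul_zero g := Subtype.ext (smul_zero g)
  smul_add g a b := Subtype.ext (smul_add g (a : L) (b : L))
  smul_one g := Subtype.ext (MulSemiringAction.smul_one g)
  smul_mul g a b := Subtype.ext (MulSemiringAction.smul_mul g (a : L) (b : L))

include hW in
theorem valuation_lt_one_iff_mem_maximal (x : integralClosure R Ω) :
    haveI := HenselVal.isLocalRing_integralClosure R Ω
    x ∈ maximalIdeal (integralClosure R Ω) ↔ W.valuation (x : Ω) < 1 := by
  have := HenselVal.isLocalRing_integralClosure R Ω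
  let e : integralClosure R Ω ≃+* W :=
    { toFun := fun s => ⟨s, HenselVal.mem_of_isIntegral (K := K) hW s.2⟩
      invFun := fun w => ⟨w, HenselVal.isIntegral_of_mem (K := K) hW w.2⟩
      left_inv := fun _ => rfl
      right_inv := fun _ => rfl
      map_mul' := fun _ _ => rfl
      map_add' := fun _ _ => rfl }
  rw [mem_maximalIdeal, mem_nonunits_iff, ← MulEquiv.isUnit_map e, ← mem_nonunits_iff, ← mem_maximalIdeal]
  exact W.valuation_lt_one_iff (e x)

include hW in
/-- Inertia of a finite layer lifts to inertia. -/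
theorem exists_inertia_lift (L : IntermediateField K Ω) [Normal K L] [FiniteDimensional K L] (σ : L ≃ₐ[K] L)
    (hσ : ∀ x : L, (x : Ω) ∈ W → W.valuation ((σ x : Ω) - x) < 1) :
    ∃ g : Ω ≃ₐ[K] Ω, _root_.SGA7.IsInertia W g ∧ ∀ x : L, g x = (σ x : Ω) := by
  classical
  have hlocΩ := HenselVal.isLocalRing_integralClosure R Ω
  have hlocL := HenselVal.isLocalRing_integralClosure R L
  let A := integralClosure R L
  let B := integralClosure R Ω
  let : Algebra A B := (((L.val.restrictScalars R).comp (integralClosure R L).val).codRestrict (integralClosure R Ω)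
    fun a => a.2.map (L.val.restrictScalars R)).toRingHom.toAlgebra
  let G := Ω ≃ₐ[L] Ω
  have : IsScalarTower R L Ω := IsScalarTower.of_algebraMap_eq fun r => by
    rw [IsScalarTower.algebraMap_apply R K Ω, IsScalarTower.algebraMap_apply R K L]; rfl
  let := intAction (R := R) (K := L) Ω G
  have : SMulCommClass G A B := ⟨fun g a b => Subtype.ext (by
    show g ((a : L) * (b : Ω)) = (a : L) * g (b : Ω)
    rw [map_mul]
    exact congrArg (· * _) (g.commutes (a : L)))⟩
  have : IsGalois L Ω := IsGalois.tower_top_of_isGalois K L Ω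
  have : Algebra.IsInvariant A B G := ⟨fun b hb => by
    have h1 : (b : Ω) ∈ IntermediateField.fixedField (⊤ : Subgroup G) := fun g => congrArg Subtype.val (hb g.1)
    rw [← IntermediateField.fixingSubgroup_bot, InfiniteGalois.fixedField_fixingSubgroup,
      IntermediateField.mem_bot] at h1
    obtain ⟨c, hc⟩ := h1
    refine ⟨⟨c, (isIntegral_algHom_iff (L.val.restrictScalars R) L.val.injective).mp ?_⟩, Subtype.ext hc⟩
    show IsIntegral R (c : Ω)
    rw [show (c : Ω) = (b : Ω) from hc]
    exact b.2⟩
  let : TopologicalSpace B := ⊥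
  have : DiscreteTopology B := ⟨rfl⟩
  have : ContinuousSMul G B := continuousSMul_iff_stabilizer_isOpen.mpr fun b => by
    have h := stabilizer_isOpen_of_isIntegral (K := L) (b : Ω)
    have e : MulAction.stabilizer G b = MulAction.stabilizer G (b : Ω) := by
      ext g; exact ⟨fun h => congrArg Subtype.val h, fun h => Subtype.ext h⟩
    rw [e]
    exact h
  obtain ⟨σ', hσ'⟩ : ∃ σ' : Ω ≃ₐ[K] Ω, ∀ x : L, σ' x = (σ x : Ω) :=
    ⟨σ.liftNormal Ω, fun x => AlgEquiv.liftNormal_commutes σ Ω x⟩
  let Q := maximalIdeal B
  let P := Q.under A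
  have hv := valuation_lt_one_iff_mem_maximal (K := K) hW
  have hQ : ∀ b : B, b ∈ Q → (⟨σ' b, b.2.map (σ'.toAlgHom.restrictScalars R)⟩ : B) ∈ Q := fun b hb =>
    (hv _).mpr (HenselVal.gal_val_lt_one hW σ' ((hv b).mp hb))
  let f : B →+* B := ((σ'.toAlgHom.restrictScalars R).comp (integralClosure R Ω).val).toRingHom.codRestrict
    (integralClosure R Ω).toSubring fun b => b.2.map (σ'.toAlgHom.restrictScalars R)
  let f' : B →+* B := ((σ'.symm.toAlgHom.restrictScalars R).comp (integralClosure R Ω).val).toRingHom.codRestrict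
    (integralClosure R Ω).toSubring fun b => b.2.map (σ'.symm.toAlgHom.restrictScalars R)
  have hf : ∀ b ∈ Q, f b ∈ Q := fun b hb => hQ b hb
  have hf' : ∀ b ∈ Q, f' b ∈ Q := fun b hb => (hv _).mpr (HenselVal.gal_val_lt_one hW σ'.symm ((hv b).mp hb))
  let τ : (B ⧸ Q) ≃ₐ[A ⧸ P] (B ⧸ Q) :=
    AlgEquiv.ofRingEquiv (f := RingEquiv.ofRingHom (Ideal.quotientMap Q f hf) (Ideal.quotientMap Q f' hf')
      (Ideal.Quotient.ringHom_ext (RingHom.ext fun b => congrArg (Ideal.Quotient.mk Q)
        (Subtype.ext (σ'.apply_symm_apply (b : Ω)))))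
      (Ideal.Quotient.ringHom_ext (RingHom.ext fun b => congrArg (Ideal.Quotient.mk Q)
        (Subtype.ext (σ'.symm_apply_apply (b : Ω)))))) (fun z => by
      obtain ⟨a, rfl⟩ := Ideal.Quotient.mk_surjective z
      refine Ideal.Quotient.eq.mpr ((hv _).mpr ?_)
      show W.valuation (σ' (((a : L)) : Ω) - ((a : L) : Ω)) < 1
      rw [hσ']
      exact hσ a (HenselVal.mem_of_isIntegral (K := K) hW (a.2.map (L.val.restrictScalars R))))
  obtain ⟨⟨h, hh⟩, e⟩ := Ideal.Quotient.stabilizerHom_surjective_of_profinite P Q (G := G) τ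
  refine ⟨σ' * (h⁻¹).restrictScalars K, fun x hx => ?_, fun x => ?_⟩
  · refine ⟨HenselVal.gal_mem hW _ hx, ?_⟩
    let y : Ω := h⁻¹ x
    have hy : y ∈ W := HenselVal.gal_mem hW (h⁻¹.restrictScalars K) hx
    have h2 : Ideal.Quotient.mk Q (h • (⟨y, HenselVal.isIntegral_of_mem (K := K) hW hy⟩ : B)) =
        Ideal.Quotient.mk Q (f ⟨y, HenselVal.isIntegral_of_mem (K := K) hW hy⟩) :=
      DFunLike.congr_fun e (Ideal.Quotient.mk Q _)
    have h3 := (hv _).mp (Ideal.Quotient.eq.mp h2.symm)
    have hxy : h y = x := h.apply_symm_apply x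
    change W.valuation (σ' y - h y) < 1 at h3
    rw [hxy] at h3
    exact h3
  · show σ' ((h⁻¹) (x : Ω)) = _
    rw [show (h⁻¹) (x : Ω) = x from (h⁻¹).commutes x, hσ']

include hW in
/-- A finite extension fixed by inertia is contained in an étale one. -/
theorem exists_etale_layer (F : IntermediateField K Ω) [FiniteDimensional K F]
    (hF : ∀ g : Ω ≃ₐ[K] Ω, _root_.SGA7.IsInertia W g → ∀ x ∈ F, g x = x) :
    ∃ L₀ : IntermediateField K Ω, F ≤ L₀ ∧ FiniteDimensional K L₀ ∧
      Algebra.Etale R (integralClosure R L₀) ∧ IsLocalRing (integralClosure R L₀) := by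
  classical
  let L : IntermediateField K Ω := IntermediateField.normalClosure K F Ω
  have : IsGalois K L :=
    { to_isSeparable := Algebra.isSeparable_tower_bot_of_isSeparable K L Ω }
  have : IsScalarTower R K L := IsScalarTower.of_algebraMap_eq fun r => Subtype.ext (IsScalarTower.algebraMap_apply R K Ω r)
  have hlocL := HenselVal.isLocalRing_integralClosure R L
  let G := L ≃ₐ[K] L
  let := intAction (R := R) (K := K) L G
  let S := integralClosure R L
  let H : Subgroup G := (maximalIdeal S).inertia G
  let L' : IntermediateField K L := IntermediateField.fixedField H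
  have hFL : F ≤ L := IntermediateField.le_normalClosure F
  have hv : ∀ s : S, s ∈ maximalIdeal S ↔ W.valuation ((s : L) : Ω) < 1 := fun s => by
    have := HenselVal.isLocalRing_integralClosure R Ω
    rw [← valuation_lt_one_iff_mem_maximal (K := K) hW ⟨((s : L) : Ω), s.2.map (L.val.restrictScalars R)⟩,
      mem_maximalIdeal, mem_maximalIdeal, mem_nonunits_iff, mem_nonunits_iff]
    refine not_congr ⟨fun h => h.map (((L.val.restrictScalars R).comp S.val).codRestrict (integralClosure R Ω)
      fun a => a.2.map (L.val.restrictScalars R)), fun h => ?_⟩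
    obtain ⟨t, ht⟩ := h.exists_right_inv
    have h1 : ((s : L) : Ω) * (t : Ω) = 1 := congrArg Subtype.val ht
    have hs0 : (s : L) ≠ 0 := fun h0 => by simp [h0] at h1
    have h2 : (((s : L)⁻¹ : L) : Ω) = t := by
      rw [IntermediateField.coe_inv]; exact (eq_inv_of_mul_eq_one_right h1).symm
    have hint : IsIntegral R ((s : L)⁻¹) :=
      (isIntegral_algHom_iff (L.val.restrictScalars R) L.val.injective).mp (by
        show IsIntegral R (((s : L)⁻¹ : L) : Ω)
        rw [h2]; exact t.2)
    exact IsUnit.of_mul_eq_one (⟨_, hint⟩ : S) (Subtype.ext (mul_inv_cancel₀ hs0))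
  refine ⟨IntermediateField.lift L', ?_, ?_, ?_⟩
  · intro x hx
    refine (IntermediateField.mem_lift (⟨x, hFL hx⟩ : L)).mpr fun g => ?_
    obtain ⟨σ, hσ⟩ := g
    obtain ⟨g', hg', hgσ⟩ := exists_inertia_lift (K := K) hW L σ (fun y hy => by
      have hy' : IsIntegral R y := (isIntegral_algHom_iff (L.val.restrictScalars R) L.val.injective).mp
        (HenselVal.isIntegral_of_mem (K := K) hW hy)
      exact (hv _).mp (hσ (⟨y, hy'⟩ : S)))
    apply Subtype.ext
    show ((σ ⟨x, hFL hx⟩ : L) : Ω) = x
    rw [← hgσ]
    exact hF g' hg' x hx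
  · exact (IntermediateField.liftAlgEquiv L').toLinearEquiv.finiteDimensional
  let S₀ := integralClosure R L'
  have : IsScalarTower R K L' := IsScalarTower.of_algebraMap_eq fun r => Subtype.ext (IsScalarTower.algebraMap_apply R K L r)
  have : FaithfulSMul R L' := (faithfulSMul_iff_algebraMap_injective R L').mpr (by
    rw [IsScalarTower.algebraMap_eq R K L']
    exact (algebraMap K L').injective.comp (IsFractionRing.injective R K))
  have : Module.IsTorsionFree R L' := Module.isTorsionFree_iff_faithfulSMul.mpr inferInstance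
  have : Module.Finite R S₀ := IsIntegralClosure.finite R K L' S₀
  have : Module.Free R S₀ := IsIntegralClosure.module_free R K L' S₀
  have hloc₀ := HenselVal.isLocalRing_integralClosure R L'
  let iota : S₀ →ₐ[R] S := ((L'.val.restrictScalars R).comp S₀.val).codRestrict S fun a => a.2.map (L'.val.restrictScalars R)
  let : Algebra S₀ S := iota.toRingHom.toAlgebra
  have : IsScalarTower R S₀ S := IsScalarTower.of_algebraMap_eq fun r => (iota.commutes r).symm
  have : Algebra.IsInvariant R S G := ⟨fun b hb => by
    obtain ⟨c, hc⟩ := IntermediateField.mem_bot.mp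
      ((IsGalois.mem_bot_iff_fixed (F := K) (E := L) (b : L)).mpr fun g => congrArg Subtype.val (hb g))
    have hci : IsIntegral R c := (isIntegral_algebraMap_iff (algebraMap K L).injective).mp (hc ▸ b.2)
    obtain ⟨r, hr⟩ := IsIntegrallyClosed.isIntegral_iff.mp hci
    exact ⟨r, Subtype.ext (by rw [← hc, ← hr, ← IsScalarTower.algebraMap_apply]; rfl)⟩⟩
  have : SMulCommClass G R S := ⟨fun g r b => Subtype.ext (by
    show g (r • (b : L)) = r • g (b : L)
    exact map_smul (g.toAlgHom.restrictScalars R) r (b : L))⟩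
  have : SMulCommClass H S₀ S := ⟨fun g a b => Subtype.ext (by
    show g.1 (((a : L') : L) * (b : L)) = ((a : L') : L) * g.1 (b : L)
    rw [map_mul]
    exact congrArg (· * _) ((a : L').2 g)
    )⟩
  have : Algebra.IsInvariant S₀ S H := ⟨fun b hb => by
    have hm : (b : L) ∈ L' := fun g => congrArg Subtype.val (hb g)
    exact ⟨⟨⟨b, hm⟩, (isIntegral_algHom_iff (L'.val.restrictScalars R) L'.val.injective).mp b.2⟩, rfl⟩⟩
  have hrank : Module.finrank R S₀ = H.index := by
    rw [IsIntegralClosure.rank R K L' S₀]
    have h1 := IntermediateField.finrank_fixedField_eq_card H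
    have h2 := Module.finrank_mul_finrank K L' L
    rw [h1, ← IsGalois.card_aut_eq_finrank K L, ← Subgroup.index_mul_card H] at h2
    exact Nat.eq_of_mul_eq_mul_right Nat.card_pos h2
  have hinjS₀ : Function.Injective (algebraMap R S₀) := fun a b h => IsFractionRing.injective R K
    ((algebraMap K L').injective (by
      rw [← IsScalarTower.algebraMap_apply, ← IsScalarTower.algebraMap_apply]; exact congrArg Subtype.val h))
  have hiota : Function.Injective (algebraMap S₀ S) := fun a b h =>
    Subtype.ext (Subtype.ext (congrArg (fun z : S => (z : L)) h))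
  have : Algebra.IsIntegral S₀ S := Algebra.IsIntegral.tower_top R
  have lhom : ∀ {A B : Type u} [CommRing A] [CommRing B] [Algebra A B] [Algebra.IsIntegral A B],
      Function.Injective (algebraMap A B) → IsLocalHom (algebraMap A B) := fun {A B} _ _ _ _ h =>
    (algebraMap_isIntegral_iff.mpr inferInstance).isLocalHom h
  have := lhom hinjS₀
  have := lhom hiota
  have : IsLocalHom (algebraMap R S) := by
    rw [IsScalarTower.algebraMap_eq R S₀ S]; exact RingHom.isLocalHom_comp _ _
  have hfu : Algebra.FormallyUnramified R S₀ := formallyUnramified_core G H rfl hrank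
  have het : Algebra.Etale R S₀ := by
    refine Groth.EtaleAlgebra.etale_of_flat_of_formallyUnramified ?_
    exact minimalPrimes.finite_of_isNoetherianRing R
  let eL : L' ≃ₐ[R] IntermediateField.lift L' := (IntermediateField.liftAlgEquiv L').restrictScalars R
  let eS : S₀ ≃ₐ[R] integralClosure R (IntermediateField.lift L') := eL.mapIntegralClosure
  exact ⟨Algebra.Etale.of_equiv eS, eS.toRingEquiv.isLocalRing⟩

end Extension

end Groth.SGA7.InertiaFixed
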