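import Groth.Prelude.Def_SGA7IX
import Groth.Agent.SGA7.GoodReductionTorsion
import Groth.Agent.SGA7.InertiaFixed

/-! The inertia invariant torsion of a Néron model is the part extending over the valuation ring. -/

universe u

open CategoryTheory CategoryTheory.Limits MonoidalCategory CartesianMonoidalCategory MonObj AlgebraicGeometry
open Groth.SGA7.TorsionRigid Groth.SGA7.GoodReductionTorsion

namespace Groth.SGA7.FixedPart

/-- A point over the fraction field with an integral model is fixed by inertia when killed by `n`. -/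
theorem galois_fix_of_lift {R Ω : Type u} [CommRing R] [Field Ω] [Algebra R Ω] (W : ValuationSubring Ω)
    [Algebra R W] [IsScalarTower R W Ω] (σ : Ω →ₐ[R] Ω)
    (hσ : ∀ x : Ω, x ∈ W → σ x ∈ W ∧ W.valuation (σ x - x) < 1)
    (B : Over (Spec (CommRingCat.of R))) [GrpObj B] [LocallyOfFiniteType B.hom] [IsSeparated B.hom]
    (n : ℕ) (hn : IsUnit (n : W)) (a' : tS R W ⟶ B) (a : tS R Ω ⟶ B)
    (ha' : sm (IsScalarTower.toAlgHom R W Ω) ≫ a' = a) (ha : ((sm σ ≫ a) * a⁻¹) ^ n = 1) : sm σ ≫ a = a := by
  subst ha'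
  let j : tS R Ω ⟶ tS R W := sm (IsScalarTower.toAlgHom R W Ω)
  have inj : ∀ a b : tS R W ⟶ B, j ≫ a = j ≫ b → a = b := by
    intro a b h
    have hu : ValuativeCriterion.Uniqueness B.hom := by
      have : IsSeparated B.hom := inferInstance
      rw [IsSeparated.eq_valuativeCriterion] at this
      exact this.1
    let sq : ValuativeCommSq B.hom :=
      { R := W, K := Ω
        i₁ := j.left ≫ b.left
        i₂ := Spec.map (CommRingCat.ofHom (algebraMap R W))
        commSq := ⟨by rw [Category.assoc, Over.w b]; rfl⟩ }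
    have hss := hu sq
    let la : sq.commSq.LiftStruct := ⟨a.left, congrArg Over.Hom.left h, Over.w a⟩
    let lb : sq.commSq.LiftStruct := ⟨b.left, rfl, Over.w b⟩
    exact Over.OverMorphism.ext (congrArg CommSq.LiftStruct.l (Subsingleton.elim la lb))
  let σW : W →ₐ[R] W :=
    { toFun := fun x => ⟨σ x, (hσ x x.2).1⟩
      map_one' := Subtype.ext (map_one σ)
      map_zero' := Subtype.ext (map_zero σ)
      map_add' := fun x y => Subtype.ext (map_add σ (x : Ω) y)
      map_mul' := fun x y => Subtype.ext (map_mul σ (x : Ω) y)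
      commutes' := fun r => Subtype.ext (by
        show σ ((algebraMap R W r : W) : Ω) = _
        have e : ((algebraMap R W r : W) : Ω) = algebraMap R Ω r := (IsScalarTower.algebraMap_apply R W Ω r).symm
        rw [e, σ.commutes]) }
  have hsq : sm σ ≫ j = j ≫ sm σW := by
    rw [sm_comp, sm_comp]
    exact congrArg sm (AlgHom.ext fun x => rfl)
  have key : (sm σW ≫ a') * a'⁻¹ = 1 := by
    refine eq_one_of_pow_eq_one n hn _ (inj _ _ ?_) ?_
    · rw [MonObj.comp_pow, MonObj.comp_mul, MonObj.comp_one, ← Category.assoc, ← hsq, GrpObj.comp_inv,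
        Category.assoc, ha]
    · have hres : (IsScalarTower.toAlgHom R W (IsLocalRing.ResidueField W)).comp σW =
          IsScalarTower.toAlgHom R W (IsLocalRing.ResidueField W) := AlgHom.ext fun x => by
        refine Ideal.Quotient.eq.mpr ?_
        exact (W.valuation_lt_one_iff (σW x - x)).mpr (hσ x x.2).2
      rw [MonObj.comp_mul, GrpObj.comp_inv, ← Category.assoc, sm_comp, hres, mul_inv_cancel]
  rw [← Category.assoc, hsq, Category.assoc, mul_inv_eq_one.mp key]

variable {R K Ω : Type u} [CommRing R] [IsDomain R] [IsDiscreteValuationRing R] [HenselianLocalRing R]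
  [Field K] [Algebra R K] [IsFractionRing R K] [Field Ω] [Algebra K Ω]
  (W : ValuationSubring Ω) (hW : _root_.SGA7.LiesOver K R W)
  (N : Over (Spec (CommRingCat.of R))) [GrpObj N]
  [IsProper ((_root_.SGA7.genFib R K).obj N).hom] [GeometricallyIntegral ((_root_.SGA7.genFib R K).obj N).hom]

include hW in
theorem fixed_of_specializes [Algebra.IsSeparable K Ω] [LocallyOfFiniteType N.hom] [IsSeparated N.hom]
    (m : ℕ) (hm : (m : IsLocalRing.ResidueField R) ≠ 0)
    (x : _root_.SGA7.Pts Ω ((_root_.SGA7.genFib R K).obj N)) (hx : x ^ m = 1)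
    {z : N.left} (hz : z ∈ _root_.SGA7.specialFibreSet R N)
    (hsp : (x.left ≫ pullback.fst N.hom (Spec.map (CommRingCat.ofHom (algebraMap R K)))).base
      (IsLocalRing.closedPoint Ω) ⤳ z)
    (σ : Ω ≃ₐ[K] Ω) (hσ : _root_.SGA7.IsInertia W σ) : _root_.SGA7.galAct σ x = x := by
  let : Algebra R Ω := ((algebraMap K Ω).comp (algebraMap R K)).toAlgebra
  have : IsScalarTower R K Ω := IsScalarTower.of_algebraMap_eq fun _ => rfl
  obtain ⟨a, rfl⟩ := toGen_surjective (K := K) N x
  rw [toGen_fst] at hsp
  let φ : (tS R Ω ⟶ N) →* (_root_.SGA7.pt Ω ⟶ (_root_.SGA7.genFib R K).obj N) :=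
    { toFun := toGen N
      map_one' := by rw [toGen, Functor.map_one, MonObj.comp_one]
      map_mul' := fun p q => by rw [toGen, Functor.map_mul, MonObj.comp_mul]; rfl }
  let σR : Ω →ₐ[R] Ω := σ.toAlgHom.restrictScalars R
  have hgal : toGen (K := K) N (sm σR ≫ a) = _root_.SGA7.galAct σ (toGen (K := K) N a) := by
    apply Over.OverMorphism.ext
    apply pullback.hom_ext
    · rw [toGen_fst, _root_.SGA7.galAct, Over.comp_left, Over.comp_left, Category.assoc, toGen_fst]
      rfl
    · exact (Over.w (toGen (K := K) N (sm σR ≫ a))).trans (Over.w (_root_.SGA7.specAut σ ≫ toGen (K := K) N a)).symm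
  -- the valuation ring through which the point extends
  let e := N.left.presheaf.stalkSpecializes hsp ≫ Scheme.stalkClosedPointTo a.left
  have he : Spec.map e ≫ N.left.fromSpecStalk z = a.left := by
    rw [Spec.map_comp, Category.assoc, Scheme.SpecMap_stalkSpecializes_fromSpecStalk]
    exact Scheme.Spec_stalkClosedPointTo_fromSpecStalk a.left
  let ψ := Spec.preimage (N.left.fromSpecStalk z ≫ N.hom)
  have hψe : ψ ≫ e = CommRingCat.ofHom (algebraMap R Ω) := Spec.map_injective (by
    rw [Spec.map_comp, Spec.map_preimage, ← Category.assoc, he]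
    exact Over.w a)
  obtain ⟨V, hV⟩ := LocalSubring.exists_le_valuationSubring (LocalSubring.range e.hom)
  have hVmem : ∀ s, e.hom s ∈ V := fun s => hV.1 ⟨s, rfl⟩
  let ev : (N.left.presheaf.stalk z : CommRingCat) →+* V := e.hom.codRestrict V.toSubring hVmem
  have hev : IsLocalHom ev := by
    have hle : e.hom.range ≤ V.toSubring := hV.1
    have hloc : IsLocalHom (Subring.inclusion hle) := hV.2
    constructor
    intro s hs
    have h1 : IsUnit (Subring.inclusion hle (e.hom.rangeRestrict s)) := hs
    have h2 : IsUnit (e.hom.rangeRestrict s) := hloc.map_nonunit _ h1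
    have : IsLocalHom e.hom.rangeRestrict := .of_surjective _ e.hom.rangeRestrict_surjective
    exact IsLocalHom.map_nonunit s h2
  have hVR : ∀ r : R, algebraMap R Ω r ∈ V := fun r => by
    exact (show e.hom (ψ.hom r) = algebraMap R Ω r from congr($hψe r)) ▸ hVmem _
  have hVlies : _root_.SGA7.LiesOver K R V := by
    refine ⟨hVR, fun r hr => ?_⟩
    have h1 : ψ.hom r ∈ IsLocalRing.maximalIdeal (N.left.presheaf.stalk z) := by
      have hc : (Spec.map ψ).base (IsLocalRing.closedPoint _) = IsLocalRing.closedPoint R := by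
        rw [Spec.map_preimage, Scheme.Hom.comp_apply, Scheme.fromSpecStalk_closedPoint]
        exact hz
      have : (IsLocalRing.maximalIdeal (N.left.presheaf.stalk z)).comap ψ.hom = IsLocalRing.maximalIdeal R :=
        congrArg PrimeSpectrum.asIdeal hc
      exact this.ge hr
    have h2 : ev (ψ.hom r) ∈ IsLocalRing.maximalIdeal V :=
      (IsLocalRing.mem_maximalIdeal _).mpr fun h => h1 (hev.map_nonunit _ h)
    have h3 := (V.valuation_lt_one_iff _).mp h2
    rw [show (algebraMap K Ω (algebraMap R K r)) = e.hom (ψ.hom r) from (congr($hψe r)).symm]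
    exact h3
  have hWV : V = W := by
    ext y
    exact ⟨fun hy => HenselVal.mem_of_isIntegral (K := K) hW (HenselVal.isIntegral_of_mem (K := K) hVlies hy),
      fun hy => HenselVal.mem_of_isIntegral (K := K) hVlies (HenselVal.isIntegral_of_mem (K := K) hW hy)⟩
  subst hWV
  let : Algebra R V := ((algebraMap R Ω).codRestrict V.toSubring hVR).toAlgebra
  have : IsScalarTower R V Ω := IsScalarTower.of_algebraMap_eq fun _ => rfl
  let a' : tS R V ⟶ N := Over.homMk (Spec.map (CommRingCat.ofHom ev) ≫ N.left.fromSpecStalk z) (by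
    show (Spec.map _ ≫ _) ≫ N.hom = Spec.map (CommRingCat.ofHom (algebraMap R V))
    rw [Category.assoc, ← Spec.map_preimage (N.left.fromSpecStalk z ≫ N.hom), ← Spec.map_comp]
    congr 1
    ext r
    exact congr($hψe r))
  have ha' : sm (IsScalarTower.toAlgHom R V Ω) ≫ a' = a := by
    apply Over.OverMorphism.ext
    show Spec.map _ ≫ Spec.map _ ≫ N.left.fromSpecStalk z = a.left
    rw [← Spec.map_comp_assoc]
    exact he
  have hnW : IsUnit ((m : ℕ) : V) := by
    have hu : IsUnit ((m : ℕ) : R) := IsLocalRing.notMem_maximalIdeal.mp fun h => hm (by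
      rw [← map_natCast (IsLocalRing.residue R)]
      exact Ideal.Quotient.eq_zero_iff_mem.mpr h)
    simpa using hu.map (algebraMap R V)
  have hpow : ((sm σR ≫ a) * a⁻¹) ^ m = 1 := by
    apply toGen_injective (K := K) N
    show φ (((sm σR ≫ a) * a⁻¹) ^ m) = φ 1
    rw [map_pow, map_mul, map_inv, map_one]
    show (toGen N (sm σR ≫ a) * (toGen N a)⁻¹) ^ m = 1
    have := AlgebraicGeometry.isCommMonObj_of_isProper_of_geometricallyIntegral ((_root_.SGA7.genFib R K).obj N)
    rw [hgal, mul_pow, inv_pow]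
    have h1 : (_root_.SGA7.galAct σ (toGen (K := K) N a)) ^ m = 1 := by
      rw [_root_.SGA7.galAct, ← MonObj.comp_pow, hx, MonObj.comp_one]
    rw [h1, hx, inv_one, _root_.mul_one]
  have hfix := galois_fix_of_lift V σR hσ N m hnW a' a ha' hpow
  rw [← hgal, hfix]

include hW in
theorem specializes_of_fixed [IsGalois K Ω] (hN : _root_.SGA7.IsNeron R K N)
    (x : _root_.SGA7.Pts Ω ((_root_.SGA7.genFib R K).obj N))
    (hfix : ∀ σ : Ω ≃ₐ[K] Ω, _root_.SGA7.IsInertia W σ → _root_.SGA7.galAct σ x = x) :
    ∃ z ∈ _root_.SGA7.specialFibreSet R N,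
      (x.left ≫ pullback.fst N.hom (Spec.map (CommRingCat.ofHom (algebraMap R K)))).base
        (IsLocalRing.closedPoint Ω) ⤳ z := by
  classical
  let : Algebra R Ω := ((algebraMap K Ω).comp (algebraMap R K)).toAlgebra
  have : IsScalarTower R K Ω := IsScalarTower.of_algebraMap_eq fun _ => rfl
  let A := (_root_.SGA7.genFib R K).obj N
  obtain ⟨U, hU, hxU, -⟩ := exists_isAffineOpen_mem_and_subset
    (x := x.left.base (IsLocalRing.closedPoint Ω)) (U := ⊤) trivial
  have hrange : Set.range x.left.base ⊆ Set.range hU.fromSpec.base := by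
    rw [hU.range_fromSpec]
    rintro _ ⟨y, rfl⟩
    rw [Subsingleton.elim (α := PrimeSpectrum Ω) y (IsLocalRing.closedPoint Ω)]
    exact hxU
  let χ := Spec.preimage (IsOpenImmersion.lift hU.fromSpec x.left hrange)
  have hχ : Spec.map χ ≫ hU.fromSpec = x.left := by
    rw [Spec.map_preimage]; exact IsOpenImmersion.lift_fac _ _ hrange
  let ψ := Spec.preimage (hU.fromSpec ≫ A.hom)
  have hψ : ψ.hom.FiniteType := by
    refine (HasRingHomProperty.Spec_iff (P := @LocallyOfFiniteType)).mp ?_
    rw [Spec.map_preimage]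
    infer_instance
  have hψχ : ψ ≫ χ = CommRingCat.ofHom (algebraMap K Ω) := Spec.map_injective (by
    rw [Spec.map_comp, Spec.map_preimage (hU.fromSpec ≫ A.hom), ← Category.assoc, hχ]
    exact Over.w x)
  let : Algebra K Γ(A.left, U) := ψ.hom.toAlgebra
  have : Algebra.FiniteType K Γ(A.left, U) := hψ
  let χA : Γ(A.left, U) →ₐ[K] Ω := { χ.hom with commutes' := fun c => congr($hψχ c) }
  obtain ⟨s, hs⟩ := (Algebra.FiniteType.out : (⊤ : Subalgebra K Γ(A.left, U)).FG)
  let F : IntermediateField K Ω := IntermediateField.adjoin K ((s.image χA : Finset Ω) : Set Ω)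
  have : FiniteDimensional K F := IntermediateField.finiteDimensional_adjoin
    fun y _ => Algebra.IsIntegral.isIntegral y
  have hmemF : ∀ c, χA c ∈ F := by
    intro c
    have hc : c ∈ Algebra.adjoin K (s : Set Γ(A.left, U)) := hs ▸ trivial
    have h2 : χA c ∈ (Algebra.adjoin K (s : Set Γ(A.left, U))).map χA := ⟨c, hc, rfl⟩
    rw [← Algebra.adjoin_image, ← Finset.coe_image] at h2
    exact IntermediateField.algebra_adjoin_le_adjoin K _ h2
  have hFfix : ∀ g : Ω ≃ₐ[K] Ω, _root_.SGA7.IsInertia W g → ∀ y ∈ F, g y = y := by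
    intro g hg y hy
    have hgχ : ∀ c, g (χA c) = χA c := by
      have h1 : Spec.map (CommRingCat.ofHom (g : Ω →+* Ω)) ≫ Spec.map χ = Spec.map χ := by
        rw [← cancel_mono hU.fromSpec, Category.assoc, hχ]
        exact congrArg Over.Hom.left (hfix g hg)
      rw [← Spec.map_comp] at h1
      intro c
      exact congr($(Spec.map_injective h1) c)
    induction hy using IntermediateField.adjoin_induction with
    | mem y hy =>
      obtain ⟨c, -, rfl⟩ := Finset.mem_image.mp (Finset.mem_coe.mp hy)
      exact hgχ c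
    | algebraMap c => exact g.commutes c
    | add a b _ _ ha hb => rw [map_add, ha, hb]
    | inv a _ ha => rw [map_inv₀, ha]
    | mul a b _ _ ha hb => rw [map_mul, ha, hb]
  obtain ⟨L₀, hFL, hfd, het, hloc⟩ := InertiaFixed.exists_etale_layer (K := K) hW F hFfix
  have : IsScalarTower R K L₀ := IsScalarTower.of_algebraMap_eq fun r => Subtype.ext (IsScalarTower.algebraMap_apply R K Ω r)
  let S₀ := integralClosure R L₀
  have : IsLocalization (Algebra.algebraMapSubmonoid S₀ (nonZeroDivisors R)) L₀ :=
    IsIntegralClosure.isLocalization R K L₀ S₀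
  have : Algebra.IsPushout R K S₀ L₀ := (Algebra.isPushout_of_isLocalization (nonZeroDivisors R) K S₀ L₀).symm
  let Y : Over (Spec (CommRingCat.of R)) := tS R S₀
  have hY : Smooth Y.hom := by
    have : Etale Y.hom := HasRingHomProperty.Spec_iff.mpr (RingHom.etale_algebraMap.mpr het)
    infer_instance
  have hpb : IsPullback (Spec.map (CommRingCat.ofHom (algebraMap S₀ L₀)))
      (Spec.map (CommRingCat.ofHom (algebraMap K L₀))) (Spec.map (CommRingCat.ofHom (algebraMap R S₀)))
      (Spec.map (CommRingCat.ofHom (algebraMap R K))) :=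
    isPullback_SpecMap_of_isPushout _ _ _ _
      (CommRingCat.isPushout_of_isPushout R K S₀ L₀).flip
  let χ₀ : Γ(A.left, U) →+* L₀ := χA.toRingHom.codRestrict L₀.toSubfield fun c => hFL (hmemF c)
  let y : (_root_.SGA7.genFib R K).obj Y ⟶ A :=
    Over.homMk (hpb.isoPullback.inv ≫ Spec.map (CommRingCat.ofHom χ₀) ≫ hU.fromSpec) (by
      show (_ ≫ _ ≫ _) ≫ A.hom = pullback.snd _ _
      rw [Category.assoc, Category.assoc, ← Spec.map_preimage (hU.fromSpec ≫ A.hom), ← Spec.map_comp]
      have e : ψ ≫ CommRingCat.ofHom χ₀ = CommRingCat.ofHom (algebraMap K L₀) := by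
        apply CommRingCat.hom_ext
        refine RingHom.ext fun c => Subtype.ext ?_
        exact χA.commutes c
      rw [e, hpb.isoPullback_inv_snd])
  obtain ⟨g, hg⟩ := (hN.2.2.2 Y hY).2 y
  have hgfst : pullback.fst Y.hom (Spec.map (CommRingCat.ofHom (algebraMap R K))) ≫ g.left =
      y.left ≫ pullback.fst N.hom (Spec.map (CommRingCat.ofHom (algebraMap R K))) := by
    rw [← hg]
    exact (pullback.lift_fst _ _ _).symm
  have hxg : x.left ≫ pullback.fst N.hom (Spec.map (CommRingCat.ofHom (algebraMap R K))) =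
      Spec.map (CommRingCat.ofHom ((algebraMap L₀ Ω).comp (algebraMap S₀ L₀))) ≫ g.left := by
    rw [CommRingCat.ofHom_comp, Spec.map_comp, Category.assoc, ← hpb.isoPullback_hom_fst, Category.assoc,
      show pullback.fst (Spec.map (CommRingCat.ofHom (algebraMap R S₀))) (Spec.map (CommRingCat.ofHom (algebraMap R K))) ≫
        g.left = y.left ≫ pullback.fst N.hom (Spec.map (CommRingCat.ofHom (algebraMap R K))) from hgfst,
      ← Category.assoc hpb.isoPullback.hom]
    show _ = _ ≫ (hpb.isoPullback.hom ≫ hpb.isoPullback.inv ≫ _ ≫ _) ≫ _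
    rw [Iso.hom_inv_id_assoc, ← hχ, ← Category.assoc (Spec.map (CommRingCat.ofHom (algebraMap L₀ Ω))),
      ← Category.assoc (Spec.map (CommRingCat.ofHom (algebraMap L₀ Ω))), ← Spec.map_comp]
    rfl
  refine ⟨g.left.base (IsLocalRing.closedPoint S₀), ?_, ?_⟩
  · show (g.left ≫ N.hom).base (IsLocalRing.closedPoint S₀) = IsLocalRing.closedPoint R
    rw [Over.w g]
    have : IsLocalHom (algebraMap R S₀) := (algebraMap_isIntegral_iff.mpr inferInstance).isLocalHom fun a b h =>
      IsFractionRing.injective R K ((algebraMap K L₀).injective (by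
        rw [← IsScalarTower.algebraMap_apply, ← IsScalarTower.algebraMap_apply]; exact congrArg Subtype.val h))
    exact IsLocalRing.comap_closedPoint (algebraMap R S₀)
  · rw [hxg]
    refine Specializes.map ?_ g.left.continuous
    exact (PrimeSpectrum.le_iff_specializes (R := S₀) _ _).mp (IsLocalRing.le_maximalIdeal (Ideal.IsPrime.ne_top inferInstance))

end Groth.SGA7.FixedPart
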