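import Mathlib.RingTheory.MvPowerSeries.Basic
import Mathlib.Tactic

/-! Support of the generating series of Hodge numbers of complete intersections. -/

set_option autoImplicit false

namespace Groth.SGA7.HodgeSeries

open MvPowerSeries Finset

abbrev PS2 := MvPowerSeries (Fin 2) ℤ

/-- The exponent `(p, q)`. -/
noncomputable abbrev E (p q : ℕ) : Fin 2 →₀ ℕ := Finsupp.single 0 p + Finsupp.single 1 q

theorem E_zero (p q : ℕ) : E p q 0 = p := by simp [E]
theorem E_one (p q : ℕ) : E p q 1 = q := by simp [E]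

theorem E_inj {p q p' q' : ℕ} : E p q = E p' q' ↔ p = p' ∧ q = q' := by
  refine ⟨fun h => ?_, fun h => by rw [h.1, h.2]⟩
  exact ⟨by rw [← E_zero p q, h, E_zero], by rw [← E_one p q, h, E_one]⟩

theorem eq_E (e : Fin 2 →₀ ℕ) : e = E (e 0) (e 1) := by
  ext i; fin_cases i <;> simp [E]

theorem E_add (p q p' q' : ℕ) : E p q + E p' q' = E (p + p') (q + q') := by
  ext i; fin_cases i <;> simp [E]

/-- Series with nonnegative coefficients. -/
def NN (f : PS2) : Prop := ∀ e, 0 ≤ coeff e f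

theorem NN.one : NN (1 : PS2) := fun e => by
  classical
  rw [coeff_one]; split_ifs <;> simp

theorem NN.mul {f g : PS2} (hf : NN f) (hg : NN g) : NN (f * g) := fun e => by
  classical
  rw [coeff_mul]
  exact Finset.sum_nonneg fun x _ => mul_nonneg (hf _) (hg _)

theorem NN.pow {f : PS2} (hf : NN f) : ∀ m : ℕ, NN (f ^ m)
  | 0 => by rw [pow_zero]; exact NN.one
  | m + 1 => by rw [pow_succ]; exact (NN.pow hf m).mul hf

theorem NN.prod {ι : Type*} (s : Finset ι) (f : ι → PS2) (h : ∀ i ∈ s, NN (f i)) : NN (∏ i ∈ s, f i) :=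
  Finset.prod_induction f NN (fun _ _ => NN.mul) NN.one h

theorem exists_of_mul_ne_zero {f g : PS2} {p q : ℕ} (h : coeff (E p q) (f * g) ≠ 0) :
    ∃ p₁ q₁ p₂ q₂, p = p₁ + p₂ ∧ q = q₁ + q₂ ∧ coeff (E p₁ q₁) f ≠ 0 ∧ coeff (E p₂ q₂) g ≠ 0 := by
  classical
  rw [coeff_mul] at h
  obtain ⟨⟨e₁, e₂⟩, he, hne⟩ := Finset.exists_ne_zero_of_sum_ne_zero h
  rw [Finset.HasAntidiagonal.mem_antidiagonal] at he
  rw [eq_E e₁, eq_E e₂, E_add, E_inj] at he
  refine ⟨e₁ 0, e₁ 1, e₂ 0, e₂ 1, he.1.symm, he.2.symm, ?_, ?_⟩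
  · rw [← eq_E]; exact left_ne_zero_of_mul hne
  · rw [← eq_E]; exact right_ne_zero_of_mul hne

theorem mul_pos_of_pos {f g : PS2} (hf : NN f) (hg : NN g) {p₁ q₁ p₂ q₂ : ℕ}
    (h₁ : 0 < coeff (E p₁ q₁) f) (h₂ : 0 < coeff (E p₂ q₂) g) : 0 < coeff (E (p₁ + p₂) (q₁ + q₂)) (f * g) := by
  classical
  rw [coeff_mul]
  exact Finset.sum_pos' (fun x _ => mul_nonneg (hf _) (hg _))
    ⟨(E p₁ q₁, E p₂ q₂), by rw [Finset.HasAntidiagonal.mem_antidiagonal, E_add], mul_pos h₁ h₂⟩

theorem coeff_term (c : ℕ) (u v p q : ℕ) :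
    coeff (E p q) ((c : PS2) * X 0 ^ u * X 1 ^ v) = if p = u ∧ q = v then (c : ℤ) else 0 := by
  classical
  rw [X_pow_eq, X_pow_eq, ← map_natCast (C : ℤ →+* PS2), mul_assoc, coeff_C_mul, monomial_mul_monomial, coeff_monomial,
    one_mul, show Finsupp.single (0 : Fin 2) u + Finsupp.single 1 v = E u v from rfl, mul_ite, mul_one, mul_zero]
  simp only [E_inj]

/-- The denominator series. -/
noncomputable def Pser (b : ℕ) : PS2 := ∑ u ∈ Finset.range (b + 1), ∑ v ∈ Finset.range (b + 1),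
  if 1 ≤ u ∧ 1 ≤ v ∧ u + v ≤ b then (b.choose (u + v) : PS2) * X 0 ^ u * X 1 ^ v else 0

/-- The numerator series. -/
noncomputable def Nser (b : ℕ) : PS2 := ∑ u ∈ Finset.range b, ∑ v ∈ Finset.range b,
  if u + v + 1 ≤ b - 1 then ((b - 1).choose (u + v + 1) : PS2) * X 0 ^ u * X 1 ^ v else 0

theorem coeff_sum_term (B : ℕ) (c : ℕ → ℕ → ℕ) (cond : ℕ → ℕ → Prop) [∀ u v, Decidable (cond u v)]
    (hc : ∀ u v, cond u v → u < B ∧ v < B) (p q : ℕ) :
    coeff (E p q) (∑ u ∈ Finset.range B, ∑ v ∈ Finset.range B, if cond u v then (c u v : PS2) * X 0 ^ u * X 1 ^ v else 0) =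
      if cond p q then (c p q : ℤ) else 0 := by
  classical
  simp only [map_sum, apply_ite (coeff (E p q)), map_zero, coeff_term]
  by_cases h : cond p q
  · obtain ⟨hp, hq⟩ := hc p q h
    rw [if_pos h, Finset.sum_eq_single p, Finset.sum_eq_single q, if_pos h, if_pos ⟨rfl, rfl⟩]
    · intro v _ hv
      split_ifs with h1 h2
      · exact absurd h2.2.symm hv
      · rfl
      · rfl
    · exact fun hn => absurd (Finset.mem_range.mpr hq) hn
    · intro u _ hu
      refine Finset.sum_eq_zero fun v _ => ?_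
      split_ifs with h1 h2
      · exact absurd h2.1.symm hu
      · rfl
      · rfl
    · exact fun hn => absurd (Finset.mem_range.mpr hp) hn
  · rw [if_neg h]
    refine Finset.sum_eq_zero fun u _ => Finset.sum_eq_zero fun v _ => ?_
    split_ifs with h1 h2
    · obtain ⟨rfl, rfl⟩ := h2; exact absurd h1 h
    · rfl
    · rfl

theorem coeff_Pser (b p q : ℕ) :
    coeff (E p q) (Pser b) = if 1 ≤ p ∧ 1 ≤ q ∧ p + q ≤ b then (b.choose (p + q) : ℤ) else 0 :=
  coeff_sum_term (b + 1) (fun u v => b.choose (u + v)) (fun u v => 1 ≤ u ∧ 1 ≤ v ∧ u + v ≤ b)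
    (fun u v h => ⟨by omega, by omega⟩) p q

theorem coeff_Nser (b p q : ℕ) :
    coeff (E p q) (Nser b) = if p + q + 1 ≤ b - 1 then ((b - 1).choose (p + q + 1) : ℤ) else 0 :=
  coeff_sum_term b (fun u v => (b - 1).choose (u + v + 1)) (fun u v => u + v + 1 ≤ b - 1)
    (fun u v h => ⟨by omega, by omega⟩) p q

theorem nn_Pser (b : ℕ) : NN (Pser b) := fun e => by
  rw [eq_E e, coeff_Pser]; split_ifs <;> simp

section Hyp

variable {a : ℕ} {h : PS2} (hh : (1 - Pser a) * h = Nser a)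

include hh

theorem rec_eq : h = Nser a + Pser a * h := by linear_combination hh

theorem nn_hyp : NN h := by
  intro e
  obtain ⟨n, hn⟩ : ∃ n, e 0 + e 1 = n := ⟨_, rfl⟩
  induction n using Nat.strongRecOn generalizing e with
  | ind n ih =>
    classical
    rw [rec_eq hh, map_add]
    refine add_nonneg (by rw [eq_E e, coeff_Nser]; split_ifs <;> simp) ?_
    rw [coeff_mul]
    refine Finset.sum_nonneg fun x hx => ?_
    by_cases h0 : coeff x.1 (Pser a) = 0
    · rw [h0, zero_mul]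
    refine mul_nonneg (nn_Pser a _) ?_
    rw [Finset.HasAntidiagonal.mem_antidiagonal] at hx
    have h1 := DFunLike.congr_fun hx 0
    have h2 := DFunLike.congr_fun hx 1
    simp only [Finsupp.coe_add, Pi.add_apply] at h1 h2
    rw [eq_E x.1, coeff_Pser] at h0
    split_ifs at h0 with hc
    · exact ih _ (by omega) x.2 rfl
    · exact absurd rfl h0

theorem upper_hyp {p q : ℕ} (hne : coeff (E p q) h ≠ 0) : p + q + 2 ≤ (min p q + 1) * a := by
  obtain ⟨n, hn⟩ : ∃ n, p + q = n := ⟨_, rfl⟩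
  induction n using Nat.strongRecOn generalizing p q with
  | ind n ih =>
    rw [rec_eq hh, map_add, coeff_Nser] at hne
    split_ifs at hne with hN
    · calc p + q + 2 ≤ 1 * a := by omega
        _ ≤ _ := Nat.mul_le_mul_right _ (by omega)
    · rw [zero_add] at hne
      obtain ⟨p₁, q₁, p₂, q₂, rfl, rfl, h₁, h₂⟩ := exists_of_mul_ne_zero hne
      rw [coeff_Pser] at h₁
      split_ifs at h₁ with hc
      · have h3 := ih _ (by omega) h₂ rfl
        have h4 : min p₂ q₂ + 1 ≤ min (p₁ + p₂) (q₁ + q₂) := by omega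
        have h5 := Nat.mul_le_mul_right a h4
        rw [add_mul, one_mul]
        omega
      · exact absurd rfl h₁

theorem pos_hyp {p q : ℕ} (hpq : p ≤ q) (hb : p + q + 2 ≤ (p + 1) * a) : 0 < coeff (E p q) h := by
  induction p generalizing q with
  | zero =>
    rw [rec_eq hh, map_add]
    refine add_pos_of_pos_of_nonneg ?_ (NN.mul (nn_Pser a) (nn_hyp hh) _)
    rw [coeff_Nser, if_pos (by omega)]
    exact_mod_cast Nat.choose_pos (by omega)
  | succ p ih =>
    rw [rec_eq hh, map_add]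
    refine add_pos_of_nonneg_of_pos (by rw [coeff_Nser]; split_ifs <;> simp) ?_
    have ha : 2 ≤ a := by
      by_contra hlt
      have : (p + 1 + 1) * a ≤ (p + 1 + 1) * 1 := Nat.mul_le_mul_left _ (by omega)
      omega
    have hexp : (p + 1 + 1) * a = (p + 1) * a + a := by ring
    set v := min (a - 1) (q - p) with hv
    have hpa : (p + 1) * 2 ≤ (p + 1) * a := Nat.mul_le_mul_left _ ha
    have h2 : 0 < coeff (E p (q - v)) h := ih (by omega) (by omega)
    have h1 : 0 < coeff (E 1 v) (Pser a) := by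
      rw [coeff_Pser, if_pos ⟨le_rfl, by omega, by omega⟩]
      exact_mod_cast Nat.choose_pos (by omega)
    have h3 := mul_pos_of_pos (nn_Pser a) (nn_hyp hh) h1 h2
    rwa [show 1 + p = p + 1 by omega, show v + (q - v) = q by omega] at h3

end Hyp

theorem coeff_square (p q : ℕ) :
    coeff (E p q) ((1 + X 0) * (1 + X 1) : PS2) = if p ≤ 1 ∧ q ≤ 1 then 1 else 0 := by
  classical
  have e : ((1 + X 0) * (1 + X 1) : PS2) =
      ((1 : ℕ) : PS2) * X 0 ^ 0 * X 1 ^ 0 + ((1 : ℕ) : PS2) * X 0 ^ 1 * X 1 ^ 0 +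
        ((1 : ℕ) : PS2) * X 0 ^ 0 * X 1 ^ 1 + ((1 : ℕ) : PS2) * X 0 ^ 1 * X 1 ^ 1 := by
    push_cast; ring
  rw [e, map_add, map_add, map_add, coeff_term, coeff_term, coeff_term, coeff_term]
  split_ifs <;> first | omega | simp_all

theorem nn_square : NN ((1 + X 0) * (1 + X 1) : PS2) := fun e => by
  rw [eq_E e, coeff_square]; split_ifs <;> simp

theorem upper_square (m : ℕ) {p q : ℕ} (hne : coeff (E p q) (((1 + X 0) * (1 + X 1) : PS2) ^ m) ≠ 0) :
    p ≤ m ∧ q ≤ m := by
  classical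
  induction m generalizing p q with
  | zero =>
    rw [pow_zero, coeff_one] at hne
    split_ifs at hne with h
    · rw [show (0 : Fin 2 →₀ ℕ) = E 0 0 by simp [E], E_inj] at h; omega
    · exact absurd rfl hne
  | succ m ih =>
    rw [pow_succ] at hne
    obtain ⟨p₁, q₁, p₂, q₂, rfl, rfl, h₁, h₂⟩ := exists_of_mul_ne_zero hne
    have := ih h₁
    rw [coeff_square] at h₂
    split_ifs at h₂ with hc
    · omega
    · exact absurd rfl h₂

theorem pos_square (m j : ℕ) (hj : j ≤ m) : 0 < coeff (E 0 j) (((1 + X 0) * (1 + X 1) : PS2) ^ m) := by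
  classical
  induction m generalizing j with
  | zero =>
    rw [Nat.le_zero.mp hj, show E 0 0 = (0 : Fin 2 →₀ ℕ) by simp [E], pow_zero, coeff_one, if_pos rfl]
    exact one_pos
  | succ m ih =>
    rw [pow_succ]
    have h1 := ih (min j m) (by omega)
    have h2 : 0 < coeff (E 0 (j - min j m)) ((1 + X 0) * (1 + X 1) : PS2) := by
      rw [coeff_square, if_pos ⟨by omega, by omega⟩]; exact one_pos
    have := mul_pos_of_pos (nn_square.pow m) nn_square h1 h2
    rwa [add_zero, show min j m + (j - min j m) = j by omega] at this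

section Prod

variable {ι : Type*} (a : ι → ℕ) (h : ι → PS2) (hh : ∀ i, (1 - Pser (a i)) * h i = Nser (a i))

include hh

theorem upper_prod (P : Finset ι) (A : ℕ) (hA : ∀ i ∈ P, a i ≤ A) {p q : ℕ}
    (hne : coeff (E p q) (∏ i ∈ P, h i) ≠ 0) : p + q + 2 * P.card ≤ p * A + ∑ i ∈ P, a i := by
  classical
  induction P using Finset.induction_on generalizing p q with
  | empty =>
    rw [Finset.prod_empty, coeff_one] at hne
    split_ifs at hne with h0
    · rw [show (0 : Fin 2 →₀ ℕ) = E 0 0 by simp [E], E_inj] at h0; simp [h0.1, h0.2]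
    · exact absurd rfl hne
  | insert i P hi ih =>
    rw [Finset.prod_insert hi] at hne
    obtain ⟨p₁, q₁, p₂, q₂, rfl, rfl, h₁, h₂⟩ := exists_of_mul_ne_zero hne
    have e1 := upper_hyp (hh i) h₁
    have e2 := ih (fun j hj => hA j (Finset.mem_insert_of_mem hj)) h₂
    have e3 : min p₁ q₁ * a i ≤ p₁ * A := Nat.mul_le_mul (by omega) (hA i (Finset.mem_insert_self i P))
    rw [Finset.card_insert_of_notMem hi, Finset.sum_insert hi, add_mul]
    rw [add_mul, one_mul] at e1
    omega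

theorem pos_prod (P : Finset ι) (hP : ∀ i ∈ P, 2 ≤ a i) {q : ℕ} (hq : q + 2 * P.card ≤ ∑ i ∈ P, a i) :
    0 < coeff (E 0 q) (∏ i ∈ P, h i) := by
  classical
  induction P using Finset.induction_on generalizing q with
  | empty =>
    simp at hq
    rw [hq, show E 0 0 = (0 : Fin 2 →₀ ℕ) by simp [E], Finset.prod_empty, coeff_one, if_pos rfl]
    exact one_pos
  | insert i P hi ih =>
    rw [Finset.card_insert_of_notMem hi, Finset.sum_insert hi] at hq
    have hi2 := hP i (Finset.mem_insert_self i P)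
    rw [Finset.prod_insert hi]
    have hs : 2 * P.card ≤ ∑ j ∈ P, a j := by
      calc 2 * P.card = ∑ _j ∈ P, 2 := by simp [mul_comm]
        _ ≤ _ := Finset.sum_le_sum fun j hj => hP j (Finset.mem_insert_of_mem hj)
    have h1 := pos_hyp (hh i) (p := 0) (q := min q (a i - 2)) (Nat.zero_le _) (by omega)
    have h2 := ih (fun j hj => hP j (Finset.mem_insert_of_mem hj)) (q := q - min q (a i - 2)) (by omega)
    have := mul_pos_of_pos (nn_hyp (hh i)) (NN.prod P h fun j _ => nn_hyp (hh j)) h1 h2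
    rwa [add_zero, show min q (a i - 2) + (q - min q (a i - 2)) = q by omega] at this

theorem main [Fintype ι] [DecidableEq ι] (ha : ∀ i, 1 ≤ a i) {p q : ℕ} (hpq : p ≤ q) :
    coeff (E p q) (∑ P ∈ (Finset.univ : Finset ι).powerset with P.Nonempty,
      ((1 + X 0) * (1 + X 1) : PS2) ^ (P.card - 1) * ∏ i ∈ P, h i) ≠ 0 ↔
      p + q + Fintype.card ι < p * Finset.univ.sup a + ∑ i, a i := by
  set A := Finset.univ.sup a
  have hA : ∀ i, a i ≤ A := fun i => Finset.le_sup (Finset.mem_univ i)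
  rw [map_sum]
  constructor
  · intro hne
    obtain ⟨P, hP, hne⟩ := Finset.exists_ne_zero_of_sum_ne_zero hne
    obtain ⟨i₁, hi₁⟩ := (Finset.mem_filter.mp hP).2
    obtain ⟨e, f, p₂, q₂, rfl, rfl, h₁, h₂⟩ := exists_of_mul_ne_zero hne
    obtain ⟨he, hf⟩ := upper_square _ h₁
    have h3 := upper_prod a h hh P A (fun i _ => hA i) h₂
    have h4 : e ≤ e * A := Nat.le_mul_of_pos_right _ (lt_of_lt_of_le (ha i₁) (hA i₁))
    have h5 : Pᶜ.card ≤ ∑ i ∈ Pᶜ, a i := by
      simpa using Finset.card_nsmul_le_sum Pᶜ a 1 fun i _ => ha i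
    have h6 := Finset.sum_add_sum_compl P a
    have h7 := Finset.card_compl_add_card P
    have h8 : 0 < P.card := Finset.card_pos.mpr ⟨i₁, hi₁⟩
    rw [add_mul]
    omega
  · intro hlt
    set P₀ := Finset.univ.filter fun i => 2 ≤ a i with hP₀
    have hone : ∀ i ∈ P₀ᶜ, a i = 1 := fun i hi => by
      have := ha i; simp [hP₀] at hi; omega
    have h6 := Finset.sum_add_sum_compl P₀ a
    rw [Finset.sum_congr rfl hone, Finset.sum_const, smul_eq_mul, mul_one] at h6
    have h7 := Finset.card_compl_add_card P₀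
    rcases P₀.eq_empty_or_nonempty with h0 | hne
    · exfalso
      rw [h0] at h6 h7
      simp at h6 h7
      have hA1 : A ≤ 1 := Finset.sup_le fun i _ => by
        have : i ∈ P₀ᶜ := by rw [h0]; simp
        exact (hone i this).le
      have := Nat.mul_le_mul_left p hA1
      omega
    obtain ⟨i₀, hi₀, hmax⟩ := Finset.exists_max_image P₀ a hne
    have hAeq : A = a i₀ := le_antisymm (Finset.sup_le fun i _ => by
      by_cases hi : i ∈ P₀
      · exact hmax i hi
      · have := hone i (Finset.mem_compl.mpr hi); have := ha i₀; omega) (hA i₀)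
    have ha2 : 2 ≤ a i₀ := (Finset.mem_filter.mp hi₀).2
    set P' := P₀.erase i₀ with hP'
    have hs : a i₀ + ∑ i ∈ P', a i = ∑ i ∈ P₀, a i := Finset.add_sum_erase P₀ a hi₀
    have hc : P'.card + 1 = P₀.card := Finset.card_erase_add_one hi₀
    have hs2 : 2 * P'.card ≤ ∑ i ∈ P', a i := by
      calc 2 * P'.card = ∑ _j ∈ P', 2 := by simp [mul_comm]
        _ ≤ _ := Finset.sum_le_sum fun j hj => (Finset.mem_filter.mp (Finset.mem_of_mem_erase hj)).2
    have hexp : (p + 1) * a i₀ = p * a i₀ + a i₀ := by ring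
    have hpa : p * 2 ≤ p * a i₀ := Nat.mul_le_mul_left _ ha2
    rw [hAeq] at hlt
    set q₀ := min q ((p + 1) * a i₀ - 2 - p) with hq₀
    set q₁ := min (q - q₀) ((∑ i ∈ P', a i) - 2 * P'.card) with hq₁
    set j := q - q₀ - q₁ with hj
    have hterm : 0 < coeff (E p q) (((1 + X 0) * (1 + X 1) : PS2) ^ (P₀.card - 1) * ∏ i ∈ P₀, h i) := by
      rw [← Finset.mul_prod_erase P₀ h hi₀]
      have h1 := pos_square (P₀.card - 1) j (by omega)
      have h2 := pos_hyp (hh i₀) (p := p) (q := q₀) (by omega) (by omega)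
      have h3 := pos_prod a h hh P' (fun i hi => (Finset.mem_filter.mp (Finset.mem_of_mem_erase hi)).2) (q := q₁) (by omega)
      have h23 := mul_pos_of_pos (nn_hyp (hh i₀)) (NN.prod P' h fun i _ => nn_hyp (hh i)) h2 h3
      have := mul_pos_of_pos (nn_square.pow (P₀.card - 1)) ((nn_hyp (hh i₀)).mul (NN.prod P' h fun i _ => nn_hyp (hh i))) h1 h23
      rwa [zero_add, add_zero, show j + (q₀ + q₁) = q by omega] at this
    refine (Finset.sum_pos' (fun P _ => ((nn_square.pow (P.card - 1)).mul (NN.prod P h fun i _ => nn_hyp (hh i))) _)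
      ⟨P₀, Finset.mem_filter.mpr ⟨Finset.mem_powerset.mpr (Finset.subset_univ _), hne⟩, hterm⟩).ne'

end Prod

end Groth.SGA7.HodgeSeries
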