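import Groth.Agent.ArtfunDeform.AlgDef.Rigid

/-!
Gluing of deformations of an affine scheme over fibre products of Artin rings.

* `DefAlg.bijective_linComb`: lifts of a `k`-basis of `B₀` form a basis of any deformation;
* `DefAlg.glue`: the fibre product `D' ×_D D''` is a deformation over `A' ×_A A''` when `A'' → A` is onto;
* `SGA7Def.h0_spec`, `s1_spec`, `heps_spec`: `H0`, `S1`, `Heps` for the deformation functor of `Spec B₀`.
-/

set_option linter.style.haveILetI false
set_option linter.style.longLine false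
set_option linter.unusedSectionVars false

noncomputable section

universe u

open CategoryTheory AlgebraicGeometry

namespace Groth.SGA7Def

open ArtFun Groth.ArtfunDeform

local notation "𝔪" => IsLocalRing.maximalIdeal

variable {Λ k : Type u} [CommRing Λ] [Field k] [Algebra Λ k]
variable {B₀ : Type u} [CommRing B₀] [Algebra k B₀]
variable {A A' A'' B : Art Λ k}

/-- The index type of the chosen `k`-basis of `B₀`. -/
abbrev Idx (k B₀ : Type u) [Field k] [CommRing B₀] [Algebra k B₀] : Type u := Module.Free.ChooseBasisIndex k B₀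

lemma π_smul (D : DefAlg B₀ A) (a : A) (d : D.carrier) :
    D.π (a • d) = A.res a • D.π d := by
  rw [Algebra.smul_def, map_mul, D.π_algebraMap, Algebra.smul_def]

lemma π_linComb (D : DefAlg B₀ A) (e : Idx k B₀ → D.carrier) (x : Idx k B₀ →₀ A) :
    D.π (Finsupp.linearCombination A e x) =
      Finsupp.linearCombination k (fun i => D.π (e i)) (x.mapRange A.res (map_zero _)) := by
  induction x using Finsupp.induction_linear with
  | zero => simp
  | add x y hx hy => rw [Finsupp.mapRange_add (map_add A.res), map_add, map_add, map_add, hx, hy]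
  | single i a => rw [Finsupp.mapRange_single, Finsupp.linearCombination_single, Finsupp.linearCombination_single, π_smul]

lemma map_linComb {g : A ⟶ A'} {D : DefAlg B₀ A} {D' : DefAlg B₀ A'} (φ : DefAlg.Map g D D')
    (e : Idx k B₀ → D.carrier) (x : Idx k B₀ →₀ A) :
    φ.hom (Finsupp.linearCombination A e x) =
      Finsupp.linearCombination A' (fun i => φ.hom (e i)) (x.mapRange g.toAlgHom (map_zero _)) := by
  induction x using Finsupp.induction_linear with
  | zero => simp
  | add x y hx hy => rw [Finsupp.mapRange_add (map_add g.toAlgHom), map_add, map_add, map_add, hx, hy]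
  | single i a =>
    rw [Finsupp.mapRange_single, Finsupp.linearCombination_single, Finsupp.linearCombination_single, φ.hom_smul]

lemma mem_smul_top_of_forall (x : Idx k B₀ →₀ A) (h : ∀ i, x i ∈ 𝔪 A) :
    x ∈ 𝔪 A • (⊤ : Submodule A (Idx k B₀ →₀ A)) := by
  rw [← Finsupp.sum_single x]
  refine Submodule.sum_mem _ fun i _ => ?_
  rw [← Finsupp.smul_single_one]
  exact Submodule.smul_mem_smul (h i) trivial

/-- Lifts of a basis of `B₀` form a basis. -/
theorem bijective_linComb (D : DefAlg B₀ A) (e : Idx k B₀ → D.carrier)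
    (he : ∀ i, D.π (e i) = Module.Free.chooseBasis k B₀ i) :
    Function.Bijective (Finsupp.linearCombination A e) := by
  refine bijective_of_mod_nilpotent (isNilpotent_maximalIdeal A) _ (fun y _ => ?_) fun x hx => ?_
  · classical
    let c := (Module.Free.chooseBasis k B₀).repr (D.π y)
    let x : Idx k B₀ →₀ A := c.mapRange (fun t => if t = 0 then 0 else Function.surjInv A.res_surjective t) (if_pos rfl)
    have hx : x.mapRange A.res (map_zero _) = c := Finsupp.ext fun i => by
      rw [Finsupp.mapRange_apply, Finsupp.mapRange_apply]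
      by_cases h : c i = 0
      · rw [if_pos h, map_zero, h]
      · rw [if_neg h]
        exact Function.surjInv_eq A.res_surjective _
    refine Submodule.mem_sup.2 ⟨_, ⟨x, rfl⟩, y - Finsupp.linearCombination A e x, ?_, add_sub_cancel _ _⟩
    rw [← DefAlg.π_eq_zero_iff, map_sub, π_linComb, hx, funext he, Module.Basis.linearCombination_repr, sub_self]
  · rw [← DefAlg.π_eq_zero_iff, π_linComb, funext he] at hx
    refine mem_smul_top_of_forall x fun i => (A.mem_maximalIdeal_iff _).2 ?_
    have h0 := linearIndependent_iff.1 (Module.Free.chooseBasis k B₀).linearIndependent _ hx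
    exact DFunLike.congr_fun h0 i

section Glue

variable {p' : B ⟶ A'} {p'' : B ⟶ A''} {f' : A' ⟶ A} {f'' : A'' ⟶ A}
variable {D : DefAlg B₀ A} {D' : DefAlg B₀ A'} {D'' : DefAlg B₀ A''}

/-- The fibre product of rings. -/
abbrev glueRing (φ' : DefAlg.Map f' D' D) (φ'' : DefAlg.Map f'' D'' D) : Subring (D'.carrier × D''.carrier) :=
  (φ'.hom.comp (RingHom.fst D'.carrier D''.carrier)).eqLocus (φ''.hom.comp (RingHom.snd D'.carrier D''.carrier))

variable (h : Art.IsFibreProd p' p'' f' f'') (φ' : DefAlg.Map f' D' D) (φ'' : DefAlg.Map f'' D'' D)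

/-- Its structure map. -/
def glueAlgMap : B →+* glueRing φ' φ'' :=
  RingHom.codRestrict (((algebraMap A' D'.carrier).comp p'.toAlgHom.toRingHom).prod
      ((algebraMap A'' D''.carrier).comp p''.toAlgHom.toRingHom)) _ fun b => by
    change φ'.hom (algebraMap A' D'.carrier (p' b)) = φ''.hom (algebraMap A'' D''.carrier (p'' b))
    rw [φ'.hom_algebraMap, φ''.hom_algebraMap, h.w_apply]

/-- The algebra structure on the fibre product. -/
@[reducible] def glueAlgebra : Algebra B (glueRing φ' φ'') := (glueAlgMap h φ' φ'').toAlgebra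

lemma glue_smul (b : B) (s : glueRing φ' φ'') :
    letI := glueAlgebra h φ' φ''
    (b • s : glueRing φ' φ'').1 = (p' b • s.1.1, p'' b • s.1.2) := by
  refine Prod.ext ?_ ?_
  · exact (Algebra.smul_def (p' b) s.1.1).symm
  · exact (Algebra.smul_def (p'' b) s.1.2).symm

lemma glue_linComb (c : Idx k B₀ → glueRing φ' φ'') (x : Idx k B₀ →₀ B) :
    letI := glueAlgebra h φ' φ''
    (Finsupp.linearCombination B c x).1 =
      (Finsupp.linearCombination A' (fun i => (c i).1.1) (x.mapRange p'.toAlgHom (map_zero _)),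
        Finsupp.linearCombination A'' (fun i => (c i).1.2) (x.mapRange p''.toAlgHom (map_zero _))) := by
  letI := glueAlgebra h φ' φ''
  induction x using Finsupp.induction_linear with
  | zero => simp; rfl
  | add x y hx hy =>
    rw [Finsupp.mapRange_add (map_add p'.toAlgHom), Finsupp.mapRange_add (map_add p''.toAlgHom), map_add, map_add, map_add,
      ← Prod.mk_add_mk, ← hx, ← hy]
    rfl
  | single i b =>
    rw [Finsupp.mapRange_single, Finsupp.mapRange_single, Finsupp.linearCombination_single,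
      Finsupp.linearCombination_single, Finsupp.linearCombination_single, glue_smul]

variable (hf : Function.Surjective f'')

/-- Compatible lifts of the chosen basis. -/
def glueLift (i : Idx k B₀) : glueRing φ' φ'' :=
  ⟨(Function.surjInv D'.π_surjective (Module.Free.chooseBasis k B₀ i),
      Function.surjInv (φ''.surjective hf) (φ'.hom (Function.surjInv D'.π_surjective (Module.Free.chooseBasis k B₀ i)))),
    (Function.surjInv_eq (φ''.surjective hf) _).symm⟩

lemma π_glueLift_fst (i : Idx k B₀) :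
    D'.π (glueLift φ' φ'' hf i).1.1 = Module.Free.chooseBasis k B₀ i :=
  Function.surjInv_eq D'.π_surjective _

lemma π_glueLift_snd (i : Idx k B₀) :
    D''.π (glueLift φ' φ'' hf i).1.2 = Module.Free.chooseBasis k B₀ i := by
  rw [← φ''.π_hom, show φ''.hom (glueLift φ' φ'' hf i).1.2 = φ'.hom (glueLift φ' φ'' hf i).1.1 from
    Function.surjInv_eq (φ''.surjective hf) _, φ'.π_hom, π_glueLift_fst]

include hf in
theorem bijective_glue_linComb :
    letI := glueAlgebra h φ' φ''
    Function.Bijective (Finsupp.linearCombination B (glueLift φ' φ'' hf)) := by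
  letI := glueAlgebra h φ' φ''
  let c := glueLift φ' φ'' hf
  have b' := bijective_linComb D' (fun i => (c i).1.1) (π_glueLift_fst φ' φ'' hf)
  have b'' := bijective_linComb D'' (fun i => (c i).1.2) (π_glueLift_snd φ' φ'' hf)
  have b := bijective_linComb D (fun i => φ'.hom (c i).1.1) fun i => by
    rw [φ'.π_hom]; exact π_glueLift_fst φ' φ'' hf i
  refine ⟨fun x y hxy => Finsupp.ext fun i => ?_, fun s => ?_⟩
  · have e := congrArg Subtype.val hxy
    rw [glue_linComb, glue_linComb] at e
    exact h.inj _ _ (DFunLike.congr_fun (b'.1 (congrArg Prod.fst e)) i) (DFunLike.congr_fun (b''.1 (congrArg Prod.snd e)) i)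
  · obtain ⟨a', ha'⟩ := b'.2 s.1.1
    obtain ⟨a'', ha''⟩ := b''.2 s.1.2
    have hs : φ'.hom s.1.1 = φ''.hom s.1.2 := s.2
    rw [← ha', ← ha'', map_linComb, map_linComb,
      show (fun i => φ''.hom (c i).1.2) = fun i => φ'.hom (c i).1.1 from funext fun i => ((c i).2).symm] at hs
    have heq : ∀ i, f' (a' i) = f'' (a'' i) := fun i => DFunLike.congr_fun (b.1 hs) i
    choose β hβ' hβ'' using fun i => h.surj (a' i) (a'' i) (heq i)
    let x : Idx k B₀ →₀ B := Finsupp.ofSupportFinite β <| by
      classical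
      refine Set.Finite.subset (a'.support ∪ a''.support).finite_toSet fun i hi => ?_
      by_contra hn
      simp only [Finset.coe_union, Set.mem_union, Finset.mem_coe, Finsupp.mem_support_iff, not_or, not_not] at hn
      refine hi (h.inj _ _ ?_ ?_)
      · rw [hβ', hn.1]; exact (map_zero p'.toAlgHom).symm
      · rw [hβ'', hn.2]; exact (map_zero p''.toAlgHom).symm
    refine ⟨x, Subtype.ext ?_⟩
    rw [glue_linComb, show x.mapRange p'.toAlgHom (map_zero _) = a' from Finsupp.ext hβ',
      show x.mapRange p''.toAlgHom (map_zero _) = a'' from Finsupp.ext hβ'']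
    exact Prod.ext ha' ha''

/-- The glued deformation. -/
@[reducible] def glue : DefAlg B₀ B where
  carrier := glueRing φ' φ''
  algebra := glueAlgebra h φ' φ''
  flat := by
    letI := glueAlgebra h φ' φ''
    exact Module.Flat.of_linearEquiv (LinearEquiv.ofBijective _ (bijective_glue_linComb h φ' φ'' hf)).symm
  π := D'.π.comp ((RingHom.fst D'.carrier D''.carrier).comp (glueRing φ' φ'').subtype)
  π_surjective := fun z => by
    obtain ⟨d', hd'⟩ := D'.π_surjective z
    obtain ⟨d'', hd''⟩ := φ''.surjective hf (φ'.hom d')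
    exact ⟨⟨(d', d''), hd''.symm⟩, hd'⟩
  ker_π := by
    letI := glueAlgebra h φ' φ''
    have hπ : ∀ b : B, D'.π (algebraMap A' D'.carrier (p' b)) = algebraMap k B₀ (B.res b) := fun b => by
      rw [D'.π_algebraMap, Art.res_app]
    refine le_antisymm (fun s hs => ?_) (Ideal.map_le_iff_le_comap.2 fun b hb => ?_)
    · obtain ⟨x, rfl⟩ := (bijective_glue_linComb h φ' φ'' hf).2 s
      change D'.π (Finsupp.linearCombination B (glueLift φ' φ'' hf) x).1.1 = 0 at hs
      rw [glue_linComb] at hs
      dsimp only at hs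
      rw [π_linComb, funext (π_glueLift_fst φ' φ'' hf)] at hs
      have h0 := linearIndependent_iff.1 (Module.Free.chooseBasis k B₀).linearIndependent _ hs
      rw [Finsupp.linearCombination_apply]
      refine Ideal.sum_mem _ fun i _ => ?_
      dsimp only
      rw [Algebra.smul_def]
      refine Ideal.mul_mem_right _ _ (Ideal.mem_map_of_mem _ ((B.mem_maximalIdeal_iff _).2 ?_))
      exact (Art.res_app p' (x i)).symm.trans (DFunLike.congr_fun h0 i)
    · change D'.π (algebraMap A' D'.carrier (p' b)) = 0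
      rw [hπ, (B.mem_maximalIdeal_iff b).1 hb, map_zero]
  π_algebraMap := fun b => by
    change D'.π (algebraMap A' D'.carrier (p' b)) = _
    rw [D'.π_algebraMap, Art.res_app]

/-- The first projection. -/
def glueFst : DefAlg.Map p' (glue h φ' φ'' hf) D' where
  hom := (RingHom.fst D'.carrier D''.carrier).comp (glueRing φ' φ'').subtype
  hom_algebraMap _ := rfl
  π_hom _ := rfl

/-- The second projection. -/
def glueSnd : DefAlg.Map p'' (glue h φ' φ'' hf) D'' where
  hom := (RingHom.snd D'.carrier D''.carrier).comp (glueRing φ' φ'').subtype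
  hom_algebraMap _ := rfl
  π_hom s := ((φ''.π_hom s.1.2).symm.trans (congrArg D.π s.2.symm)).trans (φ'.π_hom s.1.1)

/-- The map into the glued deformation. -/
def toGlue {E : DefAlg B₀ B} (α : DefAlg.Map p' E D') (β : DefAlg.Map p'' E D'')
    (hαβ : ∀ x, φ'.hom (α.hom x) = φ''.hom (β.hom x)) : DefAlg.Map (𝟙 B) E (glue h φ' φ'' hf) where
  hom := RingHom.codRestrict (α.hom.prod β.hom) _ hαβ
  hom_algebraMap b := Subtype.ext (Prod.ext (α.hom_algebraMap b) (β.hom_algebraMap b))
  π_hom x := α.π_hom x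

end Glue

variable (B₀) in
/-- A deformation maps to `B₀` over the residue field. -/
def toSelf (D : DefAlg B₀ A) : DefAlg.Map (Art.toBase A) D (DefAlg.self (Λ := Λ) B₀) where
  hom := D.π
  hom_algebraMap := D.π_algebraMap
  π_hom _ := rfl

theorem h0_spec : ArtFun.H0 (ArtFun.defFunctor (Λ := Λ) (Spec (CommRingCat.of B₀)) (strMap k B₀)) := by
  refine ⟨⟨(DefAlg.self (Λ := Λ) B₀).cl⟩, ⟨fun a b => ?_⟩⟩
  have key : ∀ q : (ArtFun.defFunctor (Λ := Λ) (Spec (CommRingCat.of B₀)) (strMap k B₀)).obj (Art.base Λ k),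
      q = (DefAlg.self (Λ := Λ) B₀).cl := fun q => by
    obtain ⟨D, rfl⟩ := DefAlg.exists_cl q
    exact DefAlg.cl_eq_iff.2 ⟨(toSelf B₀ D).cast (Art.eq_toBase (𝟙 _)).symm⟩
  rw [key a, key b]

theorem s1_spec : ArtFun.S1 (ArtFun.defFunctor (Λ := Λ) (Spec (CommRingCat.of B₀)) (strMap k B₀)) := by
  intro B A A' A'' p' p'' f' f'' h hf z
  obtain ⟨D', hD'⟩ := DefAlg.exists_cl z.1.1
  obtain ⟨D'', hD''⟩ := DefAlg.exists_cl z.1.2
  have hz := z.2
  rw [← hD', ← hD'', DefAlg.map_cl_baseChange] at hz
  obtain ⟨φ''⟩ := DefAlg.map_cl_eq_iff.1 hz.symm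
  refine ⟨(glue h (D'.toBaseChange f') φ'' hf).cl, Subtype.ext (Prod.ext ?_ ?_)⟩
  · exact (DefAlg.map_cl (glueFst h _ φ'' hf)).trans hD'
  · exact (DefAlg.map_cl (glueSnd h _ φ'' hf)).trans hD''

theorem heps_spec : ArtFun.Heps (ArtFun.defFunctor (Λ := Λ) (Spec (CommRingCat.of B₀)) (strMap k B₀)) := by
  intro B A' p' p'' h
  have hf : Function.Surjective (Art.toBase (ArtFun.Art.dual Λ k)) := (ArtFun.Art.dual Λ k).res_surjective
  refine ⟨fun a b hab => ?_, s1_spec p' p'' _ _ h hf⟩
  obtain ⟨D₁, rfl⟩ := DefAlg.exists_cl a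
  obtain ⟨D₂, rfl⟩ := DefAlg.exists_cl b
  obtain ⟨D', hD'⟩ := DefAlg.exists_cl ((ArtFun.defFunctor (Λ := Λ) (Spec (CommRingCat.of B₀)) (strMap k B₀)).map p' D₁.cl)
  obtain ⟨D'', hD''⟩ := DefAlg.exists_cl ((ArtFun.defFunctor (Λ := Λ) (Spec (CommRingCat.of B₀)) (strMap k B₀)).map p'' D₁.cl)
  have e' := congrArg (fun t => t.1.1) hab
  have e'' := congrArg (fun t => t.1.2) hab
  dsimp only [ArtFun.cmp] at e' e''
  obtain ⟨α₁⟩ := DefAlg.map_cl_eq_iff.1 hD'.symm
  obtain ⟨α₂⟩ := DefAlg.map_cl_eq_iff.1 (e'.symm.trans hD'.symm)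
  obtain ⟨β₁⟩ := DefAlg.map_cl_eq_iff.1 hD''.symm
  obtain ⟨β₂⟩ := DefAlg.map_cl_eq_iff.1 (e''.symm.trans hD''.symm)
  let g := glue h (toSelf B₀ D') (toSelf B₀ D'') hf
  have m₁ : DefAlg.Map (𝟙 B) D₁ g :=
    toGlue h _ _ hf α₁ β₁ fun x => (α₁.π_hom x).trans (β₁.π_hom x).symm
  have m₂ : DefAlg.Map (𝟙 B) D₂ g :=
    toGlue h _ _ hf α₂ β₂ fun x => (α₂.π_hom x).trans (β₂.π_hom x).symm
  exact (DefAlg.cl_eq_iff.2 ⟨m₁⟩).trans (DefAlg.cl_eq_iff.2 ⟨m₂⟩).symm

end Groth.SGA7Def
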