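import Groth.Agent.OmegaSheaf.Receptacle
import Groth.Agent.OmegaSheaf.Universal
import Groth.Agent.SGA7.DefSchGlue
import Groth.Prelude.Def_Coh

/-!
`k`-derivations `O_X ⟶ O_X` from their values on affine opens.
-/

set_option linter.style.haveILetI false
set_option linter.style.longLine false
set_option linter.unusedSectionVars false

noncomputable section

universe u

open CategoryTheory AlgebraicGeometry TopologicalSpace Opposite

namespace Groth.SGA7Def

open ArtFun

variable {k : Type u} [Field k] {X : Scheme.{u}} (x : X ⟶ Art.specPt k)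

/-- Restriction of functions. -/
abbrev rs (X : Scheme.{u}) {W' W : X.Opens} (h : W' ≤ W) : Γ(X, W) →+* Γ(X, W') :=
  (X.presheaf.map (homOfLE h).op).hom

lemma rs_rs {A B C : X.Opens} (h : A ≤ B) (h' : B ≤ C) (s : Γ(X, C)) :
    rs X h (rs X h' s) = rs X (h.trans h') s := by
  simp only [rs]
  rw [← ConcreteCategory.comp_apply, ← Functor.map_comp]
  rfl

lemma rs_rfl {A : X.Opens} (h : A ≤ A) (s : Γ(X, A)) : rs X h s = s := by simp [rs]

lemma eq_of_affine_rs {W : X.Opens} (s t : Γ(X, W))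
    (h : ∀ (W' : X.Opens) (_ : IsAffineOpen W') (hle : W' ≤ W), rs X hle s = rs X hle t) : s = t := by
  refine TopCat.Sheaf.eq_of_locally_eq' X.sheaf (fun i : {W' : X.Opens // IsAffineOpen W' ∧ W' ≤ W} => i.1) W
    (fun i => homOfLE i.2.2) ?_ s t (fun i => h i.1 i.2.1 i.2.2)
  intro z hz
  obtain ⟨_, ⟨W', hW', rfl⟩, hzW, hle⟩ := X.isBasis_affineOpens.exists_subset_of_mem_open hz W.2
  exact Opens.mem_iSup.2 ⟨⟨W', hW', hle⟩, hzW⟩

variable (δ : ∀ W : X.Opens, IsAffineOpen W → Γ(X, W) →+ Γ(X, W))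
    (hres : ∀ (W W' : X.Opens) (hW : IsAffineOpen W) (hW' : IsAffineOpen W') (h : W' ≤ W) (a : Γ(X, W)),
      rs X h (δ W hW a) = δ W' hW' (rs X h a))

include hres in
lemma existsUnique_glue (W : X.Opens) (s : Γ(X, W)) :
    ∃! t : Γ(X, W), ∀ (W' : X.Opens) (hW' : IsAffineOpen W') (hle : W' ≤ W), rs X hle t = δ W' hW' (rs X hle s) := by
  let ι := {W' : X.Opens // IsAffineOpen W' ∧ W' ≤ W}
  obtain ⟨t, ht, -⟩ := TopCat.Sheaf.existsUnique_gluing' X.sheaf (fun i : ι => i.1) W (fun i => homOfLE i.2.2)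
    (fun z hz => by
      obtain ⟨_, ⟨W', hW', rfl⟩, hzW, hle⟩ := X.isBasis_affineOpens.exists_subset_of_mem_open hz W.2
      exact Opens.mem_iSup.2 ⟨⟨W', hW', hle⟩, hzW⟩)
    (fun i => δ i.1 i.2.1 (rs X i.2.2 s)) (fun i j => eq_of_affine_rs _ _ fun W' hW' hle => by
      change rs X hle (rs X inf_le_left (δ i.1 i.2.1 _)) = rs X hle (rs X inf_le_right (δ j.1 j.2.1 _))
      rw [rs_rs, rs_rs, hres i.1 W' i.2.1 hW', hres j.1 W' j.2.1 hW', rs_rs, rs_rs])
  refine ⟨t, fun W' hW' hle => ?_, fun t' ht' => eq_of_affine_rs _ _ fun W' hW' hle => ?_⟩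
  · exact ht ⟨W', hW', hle⟩
  · rw [ht' W' hW' hle]
    exact (ht ⟨W', hW', hle⟩).symm

/-- The value of the glued operator. -/
def glueOp (W : X.Opens) (s : Γ(X, W)) : Γ(X, W) := (existsUnique_glue δ hres W s).choose

lemma glueOp_spec (W : X.Opens) (s : Γ(X, W)) (W' : X.Opens) (hW' : IsAffineOpen W') (hle : W' ≤ W) :
    rs X hle (glueOp δ hres W s) = δ W' hW' (rs X hle s) :=
  (existsUnique_glue δ hres W s).choose_spec.1 W' hW' hle

lemma glueOp_of_affine {W : X.Opens} (hW : IsAffineOpen W) (s : Γ(X, W)) : glueOp δ hres W s = δ W hW s := by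
  have := glueOp_spec δ hres W s W hW le_rfl
  rwa [rs_rfl, rs_rfl] at this

variable (hmul : ∀ (W : X.Opens) (hW : IsAffineOpen W) (a b : Γ(X, W)), δ W hW (a * b) = a * δ W hW b + b * δ W hW a)
    (hk : ∀ (W : X.Opens) (hW : IsAffineOpen W) (c : k), δ W hW (strOf x W c) = 0)

include hres hmul hk in
/-- A derivation from compatible values on affine opens. -/
theorem exists_der : ∃ D : OmegaSh.Der x (Coh.structureModule X),
    ∀ (W : X.Opens) (hW : IsAffineOpen W) (a : Γ(X, W)), OmegaSh.fnSect X W (D.app W a) = δ W hW a := by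
  refine ⟨
    { d := fun {U} => AddMonoidHom.mk' (fun s => OmegaSh.strSect X U.unop (glueOp δ hres U.unop s)) fun a b => ?_
      d_mul := fun {U} a b => ?_
      d_map := fun {U U'} i s => ?_
      d_app := fun {V} r => ?_ }, fun W hW a => glueOp_of_affine δ hres hW a⟩
  · change glueOp δ hres U.unop (a + b) = glueOp δ hres U.unop a + glueOp δ hres U.unop b
    exact eq_of_affine_rs _ _ fun W hW hle => by
      rw [map_add, glueOp_spec _ _ _ _ W hW, glueOp_spec _ _ _ _ W hW, glueOp_spec _ _ _ _ W hW, map_add, map_add]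
  · change glueOp δ hres U.unop (a * b) = a * glueOp δ hres U.unop b + b * glueOp δ hres U.unop a
    exact eq_of_affine_rs _ _ fun W hW hle => by
      rw [map_add, map_mul, map_mul, glueOp_spec _ _ _ _ W hW, glueOp_spec _ _ _ _ W hW, glueOp_spec _ _ _ _ W hW,
        map_mul, hmul]
  · have hle' : U'.unop ≤ U.unop := leOfHom i.unop
    change glueOp δ hres U'.unop (rs X hle' s) = rs X hle' (glueOp δ hres U.unop s)
    exact eq_of_affine_rs _ _ fun W hW hle => by
      rw [glueOp_spec _ _ _ _ W hW, rs_rs, rs_rs, glueOp_spec _ _ _ _ W hW]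
  · change glueOp δ hres (x ⁻¹ᵁ V.unop) (x.app V.unop r) = (0 : Γ(X, x ⁻¹ᵁ V.unop))
    refine eq_of_affine_rs _ _ fun W hW hle => ?_
    rw [glueOp_spec _ _ _ _ W hW, map_zero]
    change δ W hW (x.appLE V.unop W hle r) = 0
    rcases isEmpty_or_nonempty W with he | ⟨⟨z, hz⟩⟩
    · haveI : Subsingleton Γ(X, W) := by
        have h0 : W = ⊥ := by
          ext z
          exact ⟨fun hz => (he.false ⟨z, hz⟩).elim, fun hz => hz.elim⟩
        subst h0
        exact CommRingCat.subsingleton_of_isTerminal X.sheaf.isTerminalOfEmpty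
      exact Subsingleton.elim _ _
    · have hV : V.unop = ⊤ := by
        refine eq_top_iff.2 fun y _ => ?_
        rw [show y = x z from Subsingleton.elim (α := PrimeSpectrum k) y (x z)]
        exact hle hz
      obtain rfl : V = op ⊤ := congrArg op hV
      have h := hk W hW ((Scheme.ΓSpecIso (CommRingCat.of k)).hom r)
      rw [strOf] at h
      refine Eq.trans (congrArg (δ W hW) ?_) h
      exact (congrArg (x.appLE ⊤ W le_top) ((Scheme.ΓSpecIso (CommRingCat.of k)).hom_inv_id_apply r)).symm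

end Groth.SGA7Def
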