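import Groth.Agent.SGA7.DerOfAffine
import Groth.Agent.OmegaSheaf.Smooth
import Groth.Agent.RefRank.HomSec

/-!
The tangent sheaf `Hom(Ω, O)` through derivations on affine opens.
-/

set_option linter.style.haveILetI false
set_option linter.style.longLine false
set_option linter.unusedSectionVars false

noncomputable section

universe u

open CategoryTheory AlgebraicGeometry TopologicalSpace Opposite

namespace Groth.SGA7Def

open ArtFun

variable {k : Type u} [Field k] {X : Scheme.{u}} (x : X ⟶ Art.specPt k) [QuasiSeparated x]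

/-- `Hom(Ω, O)`. -/
abbrev tanSh : X.Modules := RefHull.homSh (Omega.sheaf x) (Coh.structureModule X)

theorem isCoh_omega [LocallyOfFiniteType x] : Coh.IsCoh (Omega.sheaf x) :=
  ⟨inferInstance, Groth.OmegaSheaf.isFT_sheaf x⟩

theorem isCoh_tanSh [LocallyOfFiniteType x] [IsLocallyNoetherian X] : Coh.IsCoh (tanSh x) :=
  Groth.RefRank.isCoh_homSh (isCoh_omega x) Groth.QCohMod.isCoh_unit

variable {x}

/-- Value of a section of the tangent sheaf on a function. -/
def evT {W : X.Opens} (g : Γ(tanSh x, W)) (a : Γ(X, W)) : Γ(X, W) :=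
  OmegaSh.fnSect X W (Groth.RefRank.secToLin g ((OmegaSh.dOmega x).app W a))

lemma evT_add_left {W : X.Opens} (g g' : Γ(tanSh x, W)) (a : Γ(X, W)) : evT (g + g') a = evT g a + evT g' a := by
  rw [evT, Groth.RefRank.secToLin_add, LinearMap.add_apply, map_add]
  rfl

lemma evT_zero_left {W : X.Opens} (a : Γ(X, W)) : evT (0 : Γ(tanSh x, W)) a = 0 := by
  have h := evT_add_left (0 : Γ(tanSh x, W)) 0 a
  rwa [add_zero, left_eq_add] at h

lemma evT_neg_left {W : X.Opens} (g : Γ(tanSh x, W)) (a : Γ(X, W)) : evT (-g) a = -evT g a := by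
  rw [eq_neg_iff_add_eq_zero, ← evT_add_left, neg_add_cancel, evT_zero_left]

lemma evT_sub_left {W : X.Opens} (g g' : Γ(tanSh x, W)) (a : Γ(X, W)) : evT (g - g') a = evT g a - evT g' a := by
  rw [sub_eq_add_neg, evT_add_left, evT_neg_left, sub_eq_add_neg]

lemma evT_smul_left {W : X.Opens} (c : Γ(X, W)) (g : Γ(tanSh x, W)) (a : Γ(X, W)) : evT (c • g) a = c * evT g a := by
  rw [evT, Groth.RefRank.secToLin_smul, LinearMap.smul_apply]
  rfl

lemma evT_res {W W' : X.Opens} (h : W' ≤ W) (g : Γ(tanSh x, W)) (a : Γ(X, W)) :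
    evT (Groth.QCohMod.res (tanSh x) h g) (rs X h a) = rs X h (evT g a) := by
  change OmegaSh.fnSect X W' (Groth.RefRank.secToLin (Groth.QCohMod.res _ h g) ((OmegaSh.dOmega x).app W' (X.presheaf.map (homOfLE h).op a))) = _
  rw [← Groth.OmegaSheaf.res_der (f := x) (OmegaSh.dOmega x) h a, Groth.RefRank.secToLin_res]
  rfl

lemma top_le_of_chart (W : X.Opens) : W ≤ x ⁻¹ᵁ (⊤ : (Art.specPt k).Opens) := le_top

lemma evT_ext {W : X.Opens} (hW : IsAffineOpen W) {g g' : Γ(tanSh x, W)} (h : ∀ a, evT g a = evT g' a) : g = g' := by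
  refine Groth.RefRank.secToLin_injective hW (LinearMap.ext fun m => ?_)
  have hm : m ∈ Submodule.span Γ(X, W) (Set.range ((OmegaSh.dOmega x).app W)) := by
    rw [Groth.OmegaSheaf.span_d x (isAffineOpen_top _) hW (top_le_of_chart W)]; trivial
  induction hm using Submodule.span_induction with
  | mem m hm => obtain ⟨a, rfl⟩ := hm; exact h a
  | zero => rw [map_zero, map_zero]
  | add m m' _ _ hm hm' => rw [map_add, map_add, hm, hm']
  | smul c m _ hm => rw [map_smul, map_smul, hm]

/-- Derivations over `k` give sections of the tangent sheaf. -/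
theorem exists_evT_eq {W : X.Opens} (hW : IsAffineOpen W) (δ : Γ(X, W) → Γ(X, W))
    (hadd : ∀ a b, δ (a + b) = δ a + δ b) (hmul : ∀ a b, δ (a * b) = a * δ b + b * δ a)
    (hc : ∀ c, δ (strOf x W c) = 0) : ∃ g : Γ(tanSh x, W), ∀ a, evT g a = δ a := by
  let e := top_le_of_chart (x := x) W
  letI := Groth.OmegaSheaf.chartAlg x e
  have h0 : ∀ r, δ (x.appLE ⊤ W e r) = 0 := fun r => by
    refine (congrArg δ ?_).trans (hc ((Scheme.ΓSpecIso (CommRingCat.of k)).hom r))
    exact (congrArg (x.appLE ⊤ W le_top) ((Scheme.ΓSpecIso (CommRingCat.of k)).hom_inv_id_apply r)).symm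
  let d : Derivation Γ(Art.specPt k, ⊤) Γ(X, W) Γ(X, W) := Derivation.mk'
    { toFun := δ
      map_add' := hadd
      map_smul' := fun r a => by
        change δ (x.appLE ⊤ W e r * a) = x.appLE ⊤ W e r * δ a
        rw [hmul, h0, mul_zero, add_zero] }
    fun a b => hmul a b
  let φ : Γ(Omega.sheaf x, W) →ₗ[Γ(X, W)] Γ(Coh.structureModule X, W) :=
    { toFun := fun m => OmegaSh.strSect X W
        (d.liftKaehlerDifferential ((Groth.OmegaSheaf.chartEquiv x e (isAffineOpen_top _) hW).symm m))
      map_add' := fun m m' => by simp only [map_add]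
      map_smul' := fun c m => by
        simp only [map_smul, RingHom.id_apply, smul_eq_mul]
        rfl }
  obtain ⟨g, hg⟩ := Groth.RefRank.secToLin_surjective hW φ
  refine ⟨g, fun a => ?_⟩
  rw [evT, hg]
  change d.liftKaehlerDifferential _ = δ a
  rw [← Groth.OmegaSheaf.chartEquiv_D x e (isAffineOpen_top _) hW, LinearEquiv.symm_apply_apply,
    Derivation.liftKaehlerDifferential_comp_D]
  rfl

/-- Sections on a smaller open are determined by the functions from an affine open containing it. -/
lemma evT_ext_of_res {V W : X.Opens} (hV : IsAffineOpen V) (h : W ≤ V) {g g' : Γ(tanSh x, W)}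
    (hb : ∀ b : Γ(X, V), evT g (rs X h b) = evT g' (rs X h b)) : g = g' := by
  refine Groth.RefRank.hom_ext_sec fun ⟨z, hz⟩ => Groth.RefRank.stalkHom_ext hV (h hz) fun m => ?_
  have key : Groth.RefRank.secToLin g (Groth.QCohMod.res _ h m) = Groth.RefRank.secToLin g' (Groth.QCohMod.res _ h m) := by
    have hm : m ∈ Submodule.span Γ(X, V) (Set.range ((OmegaSh.dOmega x).app V)) := by
      rw [Groth.OmegaSheaf.span_d x (isAffineOpen_top _) hV (top_le_of_chart V)]; trivial
    induction hm using Submodule.span_induction with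
    | mem m hm =>
      obtain ⟨b, rfl⟩ := hm
      rw [Groth.OmegaSheaf.res_der]
      exact hb b
    | zero => rw [map_zero, map_zero, map_zero]
    | add m m' _ _ hm hm' => simp only [map_add, hm, hm']
    | smul c m _ hm => simp only [Groth.QCohMod.res_smul, map_smul, hm]
  rw [← Groth.QCohMod.germ_res (Omega.sheaf x) h z hz m, ← Groth.RefRank.germ_secToLin g _ z hz,
    ← Groth.RefRank.germ_secToLin g' _ z hz, key]

variable {W₀ : X.Opens}

/-! ### Rules for the values of sections of the tangent sheaf. -/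

lemma evT_add (g : Γ(tanSh x, W₀)) (a b : Γ(X, W₀)) : evT g (a + b) = evT g a + evT g b := by
  rw [evT, map_add, map_add, map_add]
  rfl

lemma evT_mul (g : Γ(tanSh x, W₀)) (a b : Γ(X, W₀)) : evT g (a * b) = a * evT g b + b * evT g a := by
  rw [evT, Groth.OmegaSheaf.der_mul, map_add, LinearMap.map_smul, LinearMap.map_smul, map_add]
  rfl

lemma evT_const (g : Γ(tanSh x, W₀)) (c : k) : evT g (strOf x W₀ c) = 0 := by
  have h : (OmegaSh.dOmega x).app W₀ (strOf x W₀ c) = 0 :=
    Groth.OmegaSheaf.der_appLE (OmegaSh.dOmega x) (top_le_of_chart W₀) _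
  rw [evT, h, map_zero, map_zero]

end Groth.SGA7Def
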