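import Groth.Prelude.Def_QuadSing
import Groth.Agent.SGA7.PowerSeries
import Mathlib

/-! Hypersurfaces near a critical point: Hessian, two-jets and completion. -/

open MvPolynomial Groth.SGA7.PS

namespace Groth.SGA7.Hypersurface

universe u

variable {k : Type u} [Field k] {N : ℕ}

local notation "R" => MvPolynomial (Fin N) k
local notation "m₀" => idealOfVars (Fin N) k

/-- The linear part. -/
noncomputable def lin (p : R) (j : Fin N) : k := constantCoeff (pderiv j p)

/-- The Hessian at the origin. -/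
noncomputable def hess (p : R) : Matrix (Fin N) (Fin N) k := fun i j => constantCoeff (pderiv i (pderiv j p))

theorem coeff_pderiv' (i : Fin N) (p : R) (d : Fin N →₀ ℕ) :
    coeff d (pderiv i p) = (d i + 1 : k) * coeff (d + Finsupp.single i 1) p := by
  induction p using MvPolynomial.induction_on' with
  | monomial u a =>
    classical
    rw [pderiv_monomial, coeff_monomial, coeff_monomial]
    by_cases h : u = d + Finsupp.single i 1
    · subst h
      simp [mul_comm]
    · rw [if_neg h, mul_zero]
      by_cases h' : u - Finsupp.single i 1 = d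
      · rw [if_pos h']
        by_cases hu : u i = 0
        · simp [hu]
        · refine absurd ?_ h
          rw [← h', tsub_add_cancel_of_le (Finsupp.single_le_iff.mpr (Nat.one_le_iff_ne_zero.mpr hu))]
      · rw [if_neg h']
  | add p q hp hq => simp [hp, hq, mul_add]

theorem lin_eq (p : R) (j : Fin N) : lin p j = coeff (Finsupp.single j 1) p := by
  simp [lin, constantCoeff_eq, coeff_pderiv']

theorem hess_eq (p : R) (i j : Fin N) :
    hess p i j = (((Finsupp.single i 1 : Fin N →₀ ℕ) j : k) + 1) * coeff (Finsupp.single i 1 + Finsupp.single j 1) p := by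
  simp [hess, constantCoeff_eq, coeff_pderiv']

theorem hess_eq_polar (p : R) : hess p = VanCyc.polarMatrix (VanCyc.quadPart (p : MvPowerSeries (Fin N) k)) := by
  classical
  refine Matrix.ext fun i j => ?_
  rw [hess_eq]
  simp only [VanCyc.polarMatrix, VanCyc.quadPart, MvPolynomial.coeff_coe]
  rcases lt_trichotomy i j with h | h | h
  · simp [h.ne, h]
  · subst h
    simp [← Finsupp.single_add, one_add_one_eq_two]
  · simp [h.ne', h.ne, h, not_lt.mpr h.le, add_comm]

theorem lin_mul (p q : R) (j : Fin N) (hq : constantCoeff q = 0) :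
    lin (p * q) j = constantCoeff p * lin q j := by
  simp [lin, pderiv_mul, hq]

theorem hess_mul (p g : R) (h0 : constantCoeff g = 0) (h1 : ∀ j, lin g j = 0) :
    hess (p * g) = constantCoeff p • hess g := by
  refine Matrix.ext fun i j => ?_
  have hi := h1 i; have hj := h1 j
  simp only [lin] at hi hj
  simp [hess, pderiv_mul, h0, hi, hj]

theorem lin_eq_zero {p : R} {n : ℕ} (hn : 2 ≤ n) (hp : p ∈ m₀ ^ n) (j : Fin N) : lin p j = 0 := by
  rw [lin_eq, (mem_pow_idealOfVars_iff' n p).mp hp _ (by simp; omega)]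

theorem hess_eq_zero {p : R} {n : ℕ} (hn : 3 ≤ n) (hp : p ∈ m₀ ^ n) : hess p = 0 := by
  refine Matrix.ext fun i j => ?_
  rw [hess_eq, (mem_pow_idealOfVars_iff' n p).mp hp _ (by simp; omega), mul_zero]
  rfl

theorem constantCoeff_aeval (r : Fin N → R) (hr : ∀ a, constantCoeff (r a) = 0) (q : R) :
    constantCoeff (aeval r q) = constantCoeff q := by
  induction q using MvPolynomial.induction_on with
  | C a => rw [aeval_C, algebraMap_eq]
  | add p q hp hq => rw [map_add, map_add, map_add, hp, hq]
  | mul_X p n hp => rw [map_mul, map_mul, map_mul, aeval_X, hr, constantCoeff_X, mul_zero, mul_zero]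

theorem pderiv_aeval (r : Fin N → R) (j : Fin N) (q : R) :
    pderiv j (aeval r q) = ∑ a, aeval r (pderiv a q) * pderiv j (r a) := by
  classical
  induction q using MvPolynomial.induction_on with
  | C a => simp [-aeval_eq_bind₁]
  | add p q hp hq => simp only [map_add, hp, hq, add_mul, Finset.sum_add_distrib]
  | mul_X p n hp =>
    simp only [map_mul, aeval_X, pderiv_mul, hp, map_add, pderiv_X, add_mul, Finset.sum_add_distrib,
      Pi.single_apply, apply_ite (aeval r), map_one, map_zero, mul_ite, mul_one, mul_zero, ite_mul, zero_mul,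
      Finset.sum_ite_eq, Finset.sum_ite_eq', Finset.mem_univ, if_true, Finset.sum_mul]
    congr 1
    exact Finset.sum_congr rfl fun a _ => by ring

theorem lin_aeval (r : Fin N → R) (hr : ∀ a, constantCoeff (r a) = 0) (q : R) (j : Fin N) :
    lin (aeval r q) j = ∑ a, lin q a * lin (r a) j := by
  simp only [lin, pderiv_aeval, map_sum, map_mul, constantCoeff_aeval r hr]

theorem hess_aeval (r : Fin N → R) (hr : ∀ a, constantCoeff (r a) = 0) (q : R) (hq : ∀ a, lin q a = 0) :
    hess (aeval r q) = (Matrix.of fun a j => lin (r a) j).transpose * hess q * Matrix.of fun a j => lin (r a) j := by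
  refine Matrix.ext fun i j => ?_
  simp only [lin] at hq
  simp only [hess, pderiv_aeval, map_sum, pderiv_mul, map_add, map_mul, constantCoeff_aeval r hr, hq, zero_mul, add_zero,
    Matrix.mul_apply, Matrix.transpose_apply, Matrix.of_apply, lin, Finset.sum_mul]
  exact Finset.sum_congr rfl fun a _ => Finset.sum_congr rfl fun b _ => by ring

/-- Two polynomials with the same value and linear part agree modulo `m²`. -/
theorem sub_mem_sq {p q : R} (h0 : constantCoeff p = constantCoeff q) (h1 : ∀ j, lin p j = lin q j) :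
    p - q ∈ m₀ ^ 2 := by
  rw [mem_pow_idealOfVars_iff']
  intro d hd
  rw [coeff_sub, sub_eq_zero]
  by_cases hd0 : d = 0
  · subst hd0; exact h0
  · obtain ⟨i, hi⟩ : ∃ i, d i ≠ 0 := not_forall.mp fun h => hd0 (Finsupp.ext h)
    obtain ⟨e, rfl⟩ := exists_add_of_le (Finsupp.single_le_iff.mpr (Nat.one_le_iff_ne_zero.mpr hi))
    have he : e = 0 := by rw [← Finsupp.degree_eq_zero_iff]; simp at hd ⊢; omega
    subst he
    rw [add_zero, ← lin_eq, ← lin_eq, h1]


/-- `(g) + m^n`. -/
noncomputable def jetIdeal (g : R) (n : ℕ) : Ideal R := Ideal.span {g} ⊔ m₀ ^ n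

theorem jetIdeal_mem (g : R) {n : ℕ} {p : R} (hp : p ∈ jetIdeal g n) : ∃ a w, w ∈ m₀ ^ n ∧ p = a * g + w := by
  obtain ⟨x, hx, w, hw, rfl⟩ := Submodule.mem_sup.mp hp
  obtain ⟨a, rfl⟩ := Ideal.mem_span_singleton'.mp hx
  exact ⟨a, w, hw, rfl⟩


theorem constantCoeff_eq_zero_of_mem {g : R} (h0 : constantCoeff g = (0 : k)) {n : ℕ} (hn : 1 ≤ n) {p : R} (hp : p ∈ jetIdeal g n) : constantCoeff p = 0 := by
  obtain ⟨a, w, hw, rfl⟩ := jetIdeal_mem g hp
  have : constantCoeff w = 0 := (mem_pow_idealOfVars_iff' n w).mp hw 0 (by simp; omega)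
  simp [h0, this]

theorem lin_eq_zero_of_mem {g : R} (h0 : constantCoeff g = (0 : k)) (h1 : ∀ j : Fin N, lin g j = (0 : k)) {n : ℕ} (hn : 2 ≤ n) {p : R} (hp : p ∈ jetIdeal g n) (j : Fin N) : lin p j = 0 := by
  obtain ⟨a, w, hw, rfl⟩ := jetIdeal_mem g hp
  have h2 := lin_mul a g j h0
  have h3 := lin_eq_zero hn hw j
  simp only [lin] at h2 h3 ⊢
  rw [map_add, map_add, h2, h3, add_zero, show constantCoeff (pderiv j g) = 0 from h1 j, mul_zero]

/-- A presentation of the two-jet by a non-degenerate series forces a non-degenerate Hessian. -/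
theorem isUnit_det_hess {g : R} (h0 : constantCoeff g = (0 : k)) (h1 : ∀ j : Fin N, lin g j = (0 : k)) (h : MvPowerSeries (Fin N) k) (hh : VanCyc.NondegQuadSeries h)
    (Φ : MvPowerSeries (Fin N) k →ₐ[k] (R ⧸ jetIdeal g 3)) (hΦ : Function.Surjective Φ) (hΦh : Φ h = 0) :
    IsUnit (hess g).det := by
  classical
  choose r hr using fun i => Ideal.Quotient.mk_surjective (Φ (MvPowerSeries.X i))
  have hJ : jetIdeal g 3 ≤ RingHom.ker constantCoeff := fun p hp =>
    constantCoeff_eq_zero_of_mem h0 (by omega) hp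
  have hr0 : ∀ i, constantCoeff (r i) = 0 := by
    intro i
    by_contra ha
    have hu : IsUnit (MvPowerSeries.X i - MvPowerSeries.C (σ := Fin N) (constantCoeff (r i))) := by
      rw [MvPowerSeries.isUnit_iff_constantCoeff]; simpa using ha
    have hu' := hu.map Φ
    rw [map_sub, ← hr, show (MvPowerSeries.C (constantCoeff (r i)) : MvPowerSeries (Fin N) k) =
      algebraMap k (MvPowerSeries (Fin N) k) (constantCoeff (r i)) from rfl, AlgHom.commutes, ← Ideal.Quotient.mk_algebraMap,
      ← map_sub] at hu'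
    obtain ⟨z, hz⟩ := hu'.exists_right_inv
    obtain ⟨z, rfl⟩ := Ideal.Quotient.mk_surjective z
    rw [← map_mul, ← map_one (Ideal.Quotient.mk _), Ideal.Quotient.eq] at hz
    have := hJ hz
    rw [RingHom.mem_ker] at this
    simp at this
  have hpoly : ∀ q : R, Φ (q : MvPowerSeries (Fin N) k) = Ideal.Quotient.mk _ (aeval r q) := by
    intro q
    have : Φ.comp (MvPolynomial.coeToMvPowerSeries.algHom k) = (Ideal.Quotient.mkₐ k _).comp (aeval r) :=
      MvPolynomial.algHom_ext fun i => by simp [hr]
    simpa using AlgHom.congr_fun this q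
  have hcube : ∀ s ∈ varIdeal (Fin N) k ^ 3, Φ s = 0 := by
    have h1' : (varIdeal (Fin N) k).map Φ ≤ (m₀).map (Ideal.Quotient.mk (jetIdeal g 3)) := by
      rw [varIdeal, Ideal.map_span, Ideal.span_le]
      rintro _ ⟨_, ⟨i, rfl⟩, rfl⟩
      rw [← hr]
      refine Ideal.mem_map_of_mem _ ?_
      rw [← pow_one m₀, mem_pow_idealOfVars_iff']
      intro d hd
      obtain rfl : d = 0 := by rw [← Finsupp.degree_eq_zero_iff]; omega
      exact hr0 i
    intro s hs
    have h2 := Ideal.mem_map_of_mem Φ hs
    rw [Ideal.map_pow] at h2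
    have h3 := Ideal.pow_right_mono h1' 3 h2
    rw [← Ideal.map_pow, Ideal.mem_map_iff_of_surjective _ Ideal.Quotient.mk_surjective] at h3
    obtain ⟨w, hw, hw'⟩ := h3
    rw [← hw', Ideal.Quotient.eq_zero_iff_mem]
    exact Ideal.mem_sup_right hw
  have htr : ∀ s : MvPowerSeries (Fin N) k, Φ s = Ideal.Quotient.mk _ (aeval r (MvPowerSeries.truncTotal 3 s)) := by
    intro s
    rw [← hpoly, ← sub_eq_zero, ← map_sub]
    refine hcube _ (mem_varIdeal_pow 3 _ fun d hd => ?_)
    rw [map_sub, MvPolynomial.coeff_coe, MvPowerSeries.coeff_truncTotal _ hd, sub_self]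
  set M : Matrix (Fin N) (Fin N) k := Matrix.of fun a j => lin (r a) j with hM
  -- `M` is invertible
  choose s hs using fun i => hΦ (Ideal.Quotient.mk _ (X i : R))
  have hSM : (Matrix.of fun i a => lin (MvPowerSeries.truncTotal 3 (s i)) a) * M = 1 := by
    refine Matrix.ext fun i j => ?_
    have h2 := hs i
    rw [htr, Ideal.Quotient.eq] at h2
    have h3 := lin_eq_zero_of_mem h0 h1 (by omega : 2 ≤ 3) h2 j
    have h4 := lin_aeval r hr0 (MvPowerSeries.truncTotal 3 (s i)) j
    simp only [lin, map_sub] at h3 h4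
    rw [h4, sub_eq_zero] at h3
    simp only [Matrix.mul_apply, Matrix.of_apply, hM, lin, h3]
    simp [pderiv_X, Pi.single_apply, Matrix.one_apply, eq_comm, apply_ite constantCoeff]
  have hMu : IsUnit M.det := IsUnit.of_mul_eq_one_right _ (by rw [← Matrix.det_mul, hSM, Matrix.det_one])
  -- compare the Hessians
  set q := MvPowerSeries.truncTotal 3 h
  have hqlin : ∀ a, lin q a = 0 := fun a => by
    rw [lin_eq, MvPowerSeries.coeff_truncTotal _ (by simp)]; exact hh.1.2 a
  have hqhess : hess q = VanCyc.polarMatrix (VanCyc.quadPart h) := by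
    have e : VanCyc.quadPart (q : MvPowerSeries (Fin N) k) = VanCyc.quadPart h := by
      funext i j
      simp only [VanCyc.quadPart, MvPolynomial.coeff_coe]
      split_ifs <;> first | rfl | (rw [MvPowerSeries.coeff_truncTotal _ (by simp)])
    rw [hess_eq_polar, e]
  rw [htr, Ideal.Quotient.eq_zero_iff_mem] at hΦh
  obtain ⟨a, w, hw, ha⟩ := jetIdeal_mem g hΦh
  have key := hess_aeval r hr0 q hqlin
  rw [ha, hqhess] at key
  have hadd : hess (a * g + w) = constantCoeff a • hess g := by
    rw [show hess (a * g + w) = hess (a * g) + hess w from Matrix.ext fun i j => by simp [hess],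
      hess_mul a g h0 h1, hess_eq_zero le_rfl hw, add_zero]
  rw [hadd] at key
  have hu : IsUnit ((constantCoeff a • hess g).det) := by
    rw [key, Matrix.det_mul, Matrix.det_mul, Matrix.det_transpose]
    exact (hMu.mul hh.2).mul hMu
  rw [Matrix.det_smul] at hu
  exact isUnit_of_mul_isUnit_right hu

end Groth.SGA7.Hypersurface
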