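import Groth.Agent.SGA7.TangentTransfer
import Groth.Agent.SGA7.RigidAutMain

/-!
Trivialisations of first order deformations on affine pieces and their differences.
-/

set_option linter.style.haveILetI false
set_option linter.style.longLine false
set_option linter.unusedSectionVars false

noncomputable section

universe u

open CategoryTheory AlgebraicGeometry TopologicalSpace Opposite

namespace Groth.SGA7Def

open ArtFun Groth.ArtfunDeform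

local notation "𝔪" => IsLocalRing.maximalIdeal

variable {Λ k : Type u} [CommRing Λ] [Field k] [Algebra Λ k]
variable {X : Scheme.{u}} {x : X ⟶ Art.specPt k} {A A' : Art Λ k}

/-! ### Ring maps of morphisms defined on opens. -/

section SecOf

variable {T : Scheme.{u}} (V : T.Opens) (g : V.toScheme ⟶ X) (W : X.Opens) (h : ⊤ ≤ g ⁻¹ᵁ W)

/-- Sections of a morphism defined on an open. -/
def secOf : Γ(X, W) ⟶ Γ(T, V) := g.appLE W ⊤ h ≫ V.topIso.hom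

lemma secOf_comp_res {V' : T.Opens} (e : V' ≤ V) {W' : X.Opens} (hW : W' ≤ W)
    (h' : ⊤ ≤ (T.homOfLE e ≫ g) ⁻¹ᵁ W') :
    X.presheaf.map (homOfLE hW).op ≫ secOf V' (T.homOfLE e ≫ g) W' h' = secOf V g W h ≫ T.presheaf.map (homOfLE e).op := by
  rw [secOf, secOf, ← Category.assoc, Scheme.Hom.map_appLE, Category.assoc,
    ← Scheme.Hom.appLE_comp_appLE (T.homOfLE e) g W ⊤ ⊤ h le_top, Category.assoc]
  congr 1
  rw [Scheme.homOfLE_appLE]
  simp only [Scheme.Opens.topIso_hom]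
  exact ((T.presheaf.map_comp _ _).symm.trans (congrArg T.presheaf.map (Subsingleton.elim _ _))).trans (T.presheaf.map_comp _ _)

lemma secOf_ι (f : T ⟶ X) (hf : ⊤ ≤ (V.ι ≫ f) ⁻¹ᵁ W) (hV : V ≤ f ⁻¹ᵁ W) :
    secOf V (V.ι ≫ f) W hf = f.appLE W V hV := by
  rw [secOf, ← Scheme.Hom.appLE_comp_appLE V.ι f W V ⊤ hV (by rw [Scheme.Opens.ι_preimage_self]), Category.assoc]
  conv_rhs => rw [← Category.comp_id (f.appLE W V hV)]
  congr 1
  rw [Scheme.Opens.ι_appLE]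
  simp only [Scheme.Opens.topIso_hom]
  exact (T.presheaf.map_comp _ _).symm.trans ((congrArg T.presheaf.map (Subsingleton.elim _ _)).trans (T.presheaf.map_id _))

lemma secOf_congr {g' : V.toScheme ⟶ X} (e : g = g') (h' : ⊤ ≤ g' ⁻¹ᵁ W) : secOf V g W h = secOf V g' W h' := by
  subst e; rfl

lemma strOf_secOf {R : CommRingCat.{u}} (f : X ⟶ Spec R) : strOf f W ≫ secOf V g W h = strOf (g ≫ f) ⊤ ≫ V.topIso.hom := by
  rw [secOf, ← Category.assoc, strOf_comp]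

lemma strOf_ι {R : CommRingCat.{u}} (f : T ⟶ Spec R) : strOf (V.ι ≫ f) ⊤ ≫ V.topIso.hom = strOf f V := by
  rw [← strOf_comp f V.ι V ⊤ (by rw [Scheme.Opens.ι_preimage_self]), Category.assoc]
  conv_rhs => rw [← Category.comp_id (strOf f V)]
  congr 1
  rw [Scheme.Opens.ι_appLE]
  simp only [Scheme.Opens.topIso_hom]
  exact (T.presheaf.map_comp _ _).symm.trans ((congrArg T.presheaf.map (Subsingleton.elim _ _)).trans (T.presheaf.map_id _))

lemma secOf_appLE {P : Scheme.{u}} (i : P ⟶ T) (Wp : P.Opens) (e : Wp ≤ i ⁻¹ᵁ V) :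
    secOf V g W h ≫ i.appLE V Wp e =
      secOf Wp (i.resLE V Wp e ≫ g) W ((Scheme.Hom.preimage_mono _ h).trans_eq' (by simp)) := by
  have e1 : i.appLE V Wp e = secOf Wp (Wp.ι ≫ i) V (fun z _ => e z.2) := (secOf_ι Wp V i _ e).symm
  have e2 : Wp.ι ≫ i = i.resLE V Wp e ≫ V.ι := (Scheme.Hom.resLE_comp_ι i e).symm
  rw [e1, secOf_congr Wp _ V _ e2 (fun z _ => (i.resLE V Wp e z).2), secOf, secOf, secOf,
    ← Scheme.Hom.appLE_comp_appLE (i.resLE V Wp e) g W ⊤ ⊤ h le_top,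
    ← Scheme.Hom.appLE_comp_appLE (i.resLE V Wp e) V.ι V ⊤ ⊤ (by rw [Scheme.Opens.ι_preimage_self]) le_top]
  simp only [Category.assoc]
  congr 1
  have h0 : V.topIso.hom ≫ V.ι.appLE V ⊤ (by rw [Scheme.Opens.ι_preimage_self]) = 𝟙 _ := by
    rw [Scheme.Opens.ι_appLE, Scheme.Opens.topIso_hom]
    exact (T.presheaf.map_comp _ _).symm.trans ((congrArg T.presheaf.map (Subsingleton.elim _ _)).trans (T.presheaf.map_id _))
  exact congrArg (· ≫ _) h0 |>.trans (Category.id_comp _) |> (Category.assoc _ _ _).symm.trans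

end SecOf

/-- A compatible family of sections of `π` over the affine opens inside `U`. -/
structure Triv (ξ : DefSch X x A) (cA : k →+* A) (U : X.Opens) where
  /-- The sections. -/
  σ : ∀ W : X.Opens, IsAffineOpen W → W ≤ U → (Γ(X, W) →+* secL ξ W)
  red : ∀ (W : X.Opens) (hW : IsAffineOpen W) (h : W ≤ U) (a : Γ(X, W)), redL ξ W (σ W hW h a) = a
  const : ∀ (W : X.Opens) (hW : IsAffineOpen W) (h : W ≤ U) (c : k), σ W hW h (strOf x W c) = strL ξ W (cA c)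
  nat : ∀ (W : X.Opens) (hW : IsAffineOpen W) (h : W ≤ U) (W' : X.Opens) (hW' : IsAffineOpen W') (h' : W' ≤ W)
    (a : Γ(X, W)), resL ξ h' (σ W hW h a) = σ W' hW' (h'.trans h) (rs X h' a)

lemma SHom.mapL_resL {g : A ⟶ A'} {ξ : DefSch X x A} {ξ' : DefSch X x A'} (φ : SHom g ξ ξ') {W W' : X.Opens}
    (h : W' ≤ W) (z : secL ξ W) : φ.mapL W' (resL ξ h z) = resL ξ' h (φ.mapL W z) := by
  change (ξ.total.presheaf.map _ ≫ φ.hom.appLE _ _ _) z = (φ.hom.appLE _ _ _ ≫ ξ'.total.presheaf.map _) z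
  rw [Scheme.Hom.map_appLE, Scheme.Hom.appLE_map]

/-- Transport of a trivialisation. -/
def Triv.map {g : A ⟶ A'} {ξ : DefSch X x A} {ξ' : DefSch X x A'} {cA : k →+* A} {cA' : k →+* A'} {U : X.Opens}
    (τ : Triv ξ cA U) (φ : SHom g ξ ξ') (hg : ∀ c, g (cA c) = cA' c) : Triv ξ' cA' U where
  σ W hW h := (φ.mapL W).comp (τ.σ W hW h)
  red W hW h a := by rw [RingHom.comp_apply, φ.redL_mapL, τ.red]
  const W hW h c := by rw [RingHom.comp_apply, τ.const, φ.mapL_strL, hg]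
  nat W hW h W' hW' h' a := by rw [RingHom.comp_apply, ← φ.mapL_resL, τ.nat W hW h W' hW' h']; rfl

/-! ### Trivialisations from vanishing classes. -/

section OfRep

variable {ξ : DefSch X x (Art.dual Λ k)} {U : X.Opens}

/-- A trivialisation from a morphism on the preimage of `U`. -/
def trivOfHom (g : (liftOpen ξ U).toScheme ⟶ X)
    (hi : ξ.i.resLE (liftOpen ξ U) U (preimage_liftOpen ξ U).ge ≫ g = U.ι)
    (hx : g ≫ x = (liftOpen ξ U).ι ≫ ξ.f ≫ Spec.map (CommRingCat.ofHom (dC (Λ := Λ) (k := k)))) : Triv ξ dC U :=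
  have hle : ∀ W (h : W ≤ U), liftOpen ξ W ≤ liftOpen ξ U := fun W h =>
    opens_le_of_preimage_le ξ (by rw [preimage_liftOpen, preimage_liftOpen]; exact h)
  have hpre : ∀ W (h : W ≤ U), (⊤ : (liftOpen ξ W).toScheme.Opens) ≤ (ξ.total.homOfLE (hle W h) ≫ g) ⁻¹ᵁ W := by
    intro W h p _
    obtain ⟨z, hz⟩ := (bijective_i ξ).2 p.1
    have hzW : z ∈ W := by
      have : ξ.i z ∈ liftOpen ξ W := hz ▸ p.2
      exact (preimage_liftOpen ξ W).le this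
    have hp : ξ.total.homOfLE (hle W h) p = ξ.i.resLE (liftOpen ξ U) U (preimage_liftOpen ξ U).ge ⟨z, h hzW⟩ :=
      Subtype.ext (by
        rw [Scheme.homOfLE_apply]
        exact hz.symm.trans congr($(Scheme.Hom.resLE_comp_ι ξ.i (preimage_liftOpen ξ U).ge).base ⟨z, h hzW⟩).symm)
    change g (ξ.total.homOfLE (hle W h) p) ∈ W
    rw [hp, ← Scheme.Hom.comp_apply, hi]
    exact hzW
  { σ := fun W _ h => (secOf (liftOpen ξ W) (ξ.total.homOfLE (hle W h) ≫ g) W (hpre W h)).hom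
    red := fun W _ h a => by
      have e : secOf (liftOpen ξ W) (ξ.total.homOfLE (hle W h) ≫ g) W (hpre W h) ≫
          ξ.i.appLE (liftOpen ξ W) W (preimage_liftOpen ξ W).ge = 𝟙 _ := by
        rw [secOf_appLE]
        have e2 : ξ.i.resLE (liftOpen ξ W) W (preimage_liftOpen ξ W).ge ≫ ξ.total.homOfLE (hle W h) ≫ g = W.ι := by
          rw [← Category.assoc, Scheme.Hom.resLE_map, ← Scheme.Hom.map_resLE ξ.i (preimage_liftOpen ξ U).ge h, Category.assoc, hi,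
            Scheme.homOfLE_ι]
        rw [secOf_congr W _ W _ (e2.trans (Category.comp_id _).symm) (fun z _ => z.2), secOf_ι W W (𝟙 X) _ le_rfl]
        exact (Category.id_comp _).trans (X.presheaf.map_id _)
      exact congr($e a)
    const := fun W _ h c => by
      have e : strOf x W ≫ secOf (liftOpen ξ W) (ξ.total.homOfLE (hle W h) ≫ g) W (hpre W h) =
          CommRingCat.ofHom (dC (Λ := Λ) (k := k)) ≫ strU ξ (liftOpen ξ W) := by
        rw [strOf_secOf, Category.assoc, hx, ← Category.assoc (ξ.total.homOfLE _), Scheme.homOfLE_ι, strOf_ι]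
        exact strOf_specMap _ _ _
      exact congr($e c)
    nat := fun W _ h W' _ h' a => by
      have hle' : liftOpen ξ W' ≤ liftOpen ξ W :=
        opens_le_of_preimage_le ξ (by rw [preimage_liftOpen, preimage_liftOpen]; exact h')
      have e1 : ξ.total.homOfLE (hle W' (h'.trans h)) ≫ g = ξ.total.homOfLE hle' ≫ ξ.total.homOfLE (hle W h) ≫ g := by
        rw [Scheme.homOfLE_homOfLE_assoc]
      have e := secOf_comp_res (liftOpen ξ W) (ξ.total.homOfLE (hle W h) ≫ g) W (hpre W h) hle' h'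
        (by rw [← e1]; exact hpre W' (h'.trans h))
      rw [← secOf_congr (liftOpen ξ W') _ W' (hpre W' (h'.trans h)) e1 _] at e
      exact congr($e a).symm }

variable {n : ℕ} {q : letI := algW x U; MvPolynomial (Fin n) k →ₐ[k] Γ(X, U)}

theorem nonempty_triv_of_rep_zero (hU : IsAffineOpen U) (hq : letI := algW x U; Function.Surjective q)
    (h : letI := algW x U; Rep ξ U q 0) : Nonempty (Triv ξ dC U) := by
  letI := algW x U
  obtain ⟨η, hη, hw⟩ := h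
  have hker : RingHom.ker q.toRingHom ≤ RingHom.ker η := fun f hf => by
    rw [RingHom.mem_ker, hw ⟨f, hf⟩ 0 (map_zero _), mul_zero]
  let σU : Γ(X, U) →+* secL ξ U := RingHom.liftOfSurjective q.toRingHom hq ⟨η, hker⟩
  have hσ : ∀ f, σU (q f) = η f := fun f => RingHom.liftOfRightInverse_comp_apply _ _ _ ⟨η, hker⟩ f
  have hred : ∀ a, redL ξ U (σU a) = a := fun a => by
    obtain ⟨f, rfl⟩ := hq a
    rw [hσ, hη.red]; rfl
  have hconst : strOf x U ≫ CommRingCat.ofHom σU = CommRingCat.ofHom (dC (Λ := Λ) (k := k)) ≫ strU ξ (liftOpen ξ U) := by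
    refine CommRingCat.hom_ext (RingHom.ext fun c => ?_)
    change σU (strOf x U c) = strL ξ U (dC c)
    rw [← map_C' (q := q) c, hσ, hη.map_C]
  have hV := isAffineOpen_liftOpen ξ hU
  refine ⟨trivOfHom ((liftOpen ξ U).toSpecΓ ≫ Spec.map (CommRingCat.ofHom σU) ≫ hU.fromSpec) ?_ ?_⟩
  · rw [← Scheme.Opens.toSpecΓ_SpecMap_appLE_assoc, ← Spec.map_comp_assoc,
      show CommRingCat.ofHom σU ≫ ξ.i.appLE (liftOpen ξ U) U (preimage_liftOpen ξ U).ge = 𝟙 _ from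
        CommRingCat.hom_ext (RingHom.ext hred),
      Spec.map_id]
    exact (congrArg (U.toSpecΓ ≫ ·) (Category.id_comp hU.fromSpec)).trans (IsAffineOpen.toSpecΓ_fromSpec hU)
  · rw [Category.assoc, Category.assoc, fromSpec_comp_eq, ← Spec.map_comp, hconst]
    refine (congrArg ((liftOpen ξ U).toSpecΓ ≫ ·) (Spec.map_comp _ (strU ξ (liftOpen ξ U)))).trans ?_
    rw [← IsAffineOpen.toSpecΓ_fromSpec hV, Category.assoc]
    exact congrArg ((liftOpen ξ U).toSpecΓ ≫ ·) (((Category.assoc _ _ _).symm.trans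
      (congrArg (· ≫ Spec.map (CommRingCat.ofHom (dC (Λ := Λ) (k := k)))) (fromSpec_comp_eq ξ.f hV))).symm)

end OfRep

/-! ### Two trivialisations. -/

section Diff

variable {ξ : DefSch X x (Art.dual Λ k)} {U₁ U₂ : X.Opens} (τ₁ : Triv ξ dC U₁) (τ₂ : Triv ξ dC U₂)
variable {W : X.Opens} (hW : IsAffineOpen W) (h₁ : W ≤ U₁) (h₂ : W ≤ U₂)

include hW h₁ h₂ in
lemma exists_diff (a : Γ(X, W)) : ∃ d, τ₁.σ W hW h₁ a - τ₂.σ W hW h₂ a = strL ξ W dEps * d :=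
  exists_eps_mul hW (by rw [map_sub, τ₁.red, τ₂.red, sub_self])

/-- The difference of two trivialisations. -/
def trivDiff (a : Γ(X, W)) : Γ(X, W) := redL ξ W (exists_diff τ₁ τ₂ hW h₁ h₂ a).choose

lemma trivDiff_eq {a : Γ(X, W)} {d : secL ξ W} (h : τ₁.σ W hW h₁ a - τ₂.σ W hW h₂ a = strL ξ W dEps * d) :
    trivDiff τ₁ τ₂ hW h₁ h₂ a = redL ξ W d :=
  redL_eq_of_eps_mul hW ((exists_diff τ₁ τ₂ hW h₁ h₂ a).choose_spec.symm.trans h)

lemma trivDiff_add (a b : Γ(X, W)) :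
    trivDiff τ₁ τ₂ hW h₁ h₂ (a + b) = trivDiff τ₁ τ₂ hW h₁ h₂ a + trivDiff τ₁ τ₂ hW h₁ h₂ b := by
  obtain ⟨d, hd⟩ := exists_diff τ₁ τ₂ hW h₁ h₂ a
  obtain ⟨d', hd'⟩ := exists_diff τ₁ τ₂ hW h₁ h₂ b
  rw [trivDiff_eq τ₁ τ₂ hW h₁ h₂ hd, trivDiff_eq τ₁ τ₂ hW h₁ h₂ hd', ← map_add]
  refine trivDiff_eq τ₁ τ₂ hW h₁ h₂ ?_
  rw [mul_add, ← hd, ← hd', map_add, map_add]
  ring

lemma trivDiff_mul (a b : Γ(X, W)) :
    trivDiff τ₁ τ₂ hW h₁ h₂ (a * b) = a * trivDiff τ₁ τ₂ hW h₁ h₂ b + b * trivDiff τ₁ τ₂ hW h₁ h₂ a := by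
  obtain ⟨d, hd⟩ := exists_diff τ₁ τ₂ hW h₁ h₂ a
  obtain ⟨d', hd'⟩ := exists_diff τ₁ τ₂ hW h₁ h₂ b
  rw [trivDiff_eq τ₁ τ₂ hW h₁ h₂ hd, trivDiff_eq τ₁ τ₂ hW h₁ h₂ hd',
    trivDiff_eq τ₁ τ₂ hW h₁ h₂ (d := τ₁.σ W hW h₁ a * d' + τ₂.σ W hW h₂ b * d) (by
      rw [map_mul, map_mul, mul_add, mul_left_comm, ← hd', mul_left_comm, ← hd]; ring),
    map_add, map_mul, map_mul, τ₁.red, τ₂.red]

lemma trivDiff_const (c : k) : trivDiff τ₁ τ₂ hW h₁ h₂ (strOf x W c) = 0 := by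
  rw [trivDiff_eq τ₁ τ₂ hW h₁ h₂ (d := 0) (by rw [τ₁.const, τ₂.const, sub_self, mul_zero]), map_zero]

lemma trivDiff_res {W' : X.Opens} (hW' : IsAffineOpen W') (h : W' ≤ W) (a : Γ(X, W)) :
    rs X h (trivDiff τ₁ τ₂ hW h₁ h₂ a) = trivDiff τ₁ τ₂ hW' (h.trans h₁) (h.trans h₂) (rs X h a) := by
  obtain ⟨d, hd⟩ := exists_diff τ₁ τ₂ hW h₁ h₂ a
  rw [trivDiff_eq τ₁ τ₂ hW h₁ h₂ hd, ← redL_resL]
  refine (trivDiff_eq τ₁ τ₂ hW' _ _ ?_).symm
  rw [← τ₁.nat W hW h₁ W' hW' h, ← τ₂.nat W hW h₂ W' hW' h, ← map_sub, hd, map_mul, resL_strL]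

end Diff

lemma trivDiff_trans {ξ : DefSch X x (Art.dual Λ k)} {U₁ U₂ U₃ : X.Opens} (τ₁ : Triv ξ dC U₁) (τ₂ : Triv ξ dC U₂)
    (τ₃ : Triv ξ dC U₃) {W : X.Opens} (hW : IsAffineOpen W) (h₁ : W ≤ U₁) (h₂ : W ≤ U₂) (h₃ : W ≤ U₃) (a : Γ(X, W)) :
    trivDiff τ₁ τ₃ hW h₁ h₃ a = trivDiff τ₁ τ₂ hW h₁ h₂ a + trivDiff τ₂ τ₃ hW h₂ h₃ a := by
  obtain ⟨d, hd⟩ := exists_diff τ₁ τ₂ hW h₁ h₂ a
  obtain ⟨d', hd'⟩ := exists_diff τ₂ τ₃ hW h₂ h₃ a
  rw [trivDiff_eq τ₁ τ₂ hW h₁ h₂ hd, trivDiff_eq τ₂ τ₃ hW h₂ h₃ hd', ← map_add]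
  exact trivDiff_eq τ₁ τ₃ hW h₁ h₃ (by rw [mul_add, ← hd, ← hd']; ring)

lemma trivDiff_map_id {ξ ξ' : DefSch X x (Art.dual Λ k)} (φ : SHom (𝟙 (Art.dual Λ k)) ξ ξ') {U₁ U₂ : X.Opens}
    (τ₁ : Triv ξ dC U₁) (τ₂ : Triv ξ dC U₂) {W : X.Opens} (hW : IsAffineOpen W) (h₁ : W ≤ U₁) (h₂ : W ≤ U₂)
    (a : Γ(X, W)) :
    trivDiff (τ₁.map φ (fun _ => rfl)) (τ₂.map φ (fun _ => rfl)) hW h₁ h₂ a = trivDiff τ₁ τ₂ hW h₁ h₂ a := by
  obtain ⟨d, hd⟩ := exists_diff τ₁ τ₂ hW h₁ h₂ a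
  rw [trivDiff_eq τ₁ τ₂ hW h₁ h₂ hd, ← φ.redL_mapL]
  refine trivDiff_eq _ _ hW h₁ h₂ ?_
  change φ.mapL W (τ₁.σ W hW h₁ a) - φ.mapL W (τ₂.σ W hW h₂ a) = _
  rw [← map_sub, hd, map_mul, φ.mapL_strL]
  rfl

end Groth.SGA7Def
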