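import Groth.Agent.SGA7.LocTrivH1

/-!
The class in `H¹` of a locally trivial first order deformation; finiteness of the tangent space.
-/

set_option linter.style.haveILetI false
set_option linter.style.longLine false
set_option linter.unusedSectionVars false

noncomputable section

universe u

open CategoryTheory AlgebraicGeometry TopologicalSpace Opposite

namespace Groth.SGA7Def

open ArtFun Groth.ArtfunDeform
open Groth.CohBase (inter inter_le inter_comp inter_one Coch dCoch dCoch_apply)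

variable {Λ k : Type u} [CommRing Λ] [Field k] [Algebra Λ k]
variable {X : Scheme.{u}} {x : X ⟶ Art.specPt k}
variable {ι : Type u} {U : ι → X.Opens}
variable (hUi : ∀ {n : ℕ} (i : Fin (n + 1) → ι), IsAffineOpen (inter (X := X.toTopCat) U i))
variable [QuasiSeparated x]

lemma le_inter_const {W : X.Opens} {j : ι} (h : W ≤ U j) :
    W ≤ inter (X := X.toTopCat) U (fun _ : Fin 1 => j) :=
  le_iInf fun _ => h

lemma evT_res_res {W W' W'' : X.Opens} (h : W' ≤ W) (h' : W'' ≤ W') (g : Γ(tanSh x, W)) (a : Γ(X, W'')) :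
    evT (Groth.QCohMod.res (tanSh x) h' (Groth.QCohMod.res (tanSh x) h g)) a =
      evT (Groth.QCohMod.res (tanSh x) (h'.trans h) g) a := by
  rw [Groth.QCohMod.res_res]

section Change

variable {ξ : DefSch X x (Art.dual Λ k)} (τ τ' : ∀ j, Triv ξ dC (U j))

/-- Changing the trivialisations changes the cochain by a coboundary. -/
theorem exists_coboundary : ∃ t : tanCoch x U 0,
    dCoch (X := X.toTopCat) U _ 0 t = diffCoch hUi τ - diffCoch hUi τ' := by
  choose t ht using fun i : Fin 1 → ι => exists_evT_eq (x := x) (hUi i)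
    (fun a => -trivDiff (τ (i 0)) (τ' (i 0)) (hUi i) (inter_le U i 0) (inter_le U i 0) a)
    (fun a b => by rw [trivDiff_add, neg_add]) (fun a b => by rw [trivDiff_mul]; ring)
    (fun c => by rw [trivDiff_const, neg_zero])
  refine ⟨t, funext fun i => evT_ext (hUi i) fun a => ?_⟩
  refine (evT_dCoch (U := U) t i a).trans ?_
  have e : ∀ (b : Fin 2), evT (Groth.QCohMod.res (tanSh x) (inter_comp (X := X.toTopCat) U i b.succAbove) (cv U t (i ∘ b.succAbove))) a =
      -trivDiff (τ (i (b.succAbove 0))) (τ' (i (b.succAbove 0))) (hUi i) (inter_le U i _) (inter_le U i _) a := by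
    intro b
    have h := inter_comp (X := X.toTopCat) U i b.succAbove
    obtain ⟨g, hg⟩ := exists_evT_eq (x := x) (hUi i)
      (fun a => -trivDiff (τ (i (b.succAbove 0))) (τ' (i (b.succAbove 0))) (hUi i) (inter_le U i _) (inter_le U i _) a)
      (fun a b => by rw [trivDiff_add, neg_add]) (fun a b => by rw [trivDiff_mul]; ring)
      (fun c => by rw [trivDiff_const, neg_zero])
    rw [← hg]
    congr 1
    refine evT_ext_of_res (hUi (i ∘ b.succAbove)) h fun c => ?_
    rw [evT_res, hg, ht]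
    change rs X h (-_) = _
    rw [map_neg, trivDiff_res _ _ (hUi (i ∘ b.succAbove)) _ _ (hUi i) h]
    rfl
  simp only [e]
  refine (Fin.sum_univ_two _).trans ?_
  change ((-1 : ℤ) ^ 0) • -trivDiff (τ (i 1)) (τ' (i 1)) (hUi i) (inter_le U i 1) (inter_le U i 1) a +
    ((-1 : ℤ) ^ 1) • -trivDiff (τ (i 0)) (τ' (i 0)) (hUi i) (inter_le U i 0) (inter_le U i 0) a =
      evT (cv U (diffCoch hUi τ) i - cv U (diffCoch hUi τ') i) a
  rw [evT_sub_left, evT_diffCoch, evT_diffCoch]
  have h1 := trivDiff_trans (τ (i 0)) (τ' (i 0)) (τ (i 1)) (hUi i) (inter_le U i 0) (inter_le U i 0) (inter_le U i 1) a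
  have h2 := trivDiff_trans (τ' (i 0)) (τ (i 1)) (τ' (i 1)) (hUi i) (inter_le U i 0) (inter_le U i 1) (inter_le U i 1) a
  simp only [pow_zero, pow_one, one_zsmul, neg_zsmul, neg_neg]
  linear_combination h2 - h1

end Change

/-! ### Twisting. -/

section Twist

variable {ξ : DefSch X x (Art.dual Λ k)} {V : X.Opens}

/-- Twist a trivialisation by a vector field. -/
def Triv.twist (τ : Triv ξ dC V) (g : Γ(tanSh x, V)) :
    Triv ξ dC V :=
  have hmul0 : ∀ (W : X.Opens) (_ : IsAffineOpen W) (d : secL ξ W), strL ξ W dEps * (strL ξ W dEps * d) = 0 :=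
    fun W _ d => by rw [← mul_assoc, ← map_mul, dEps_mul_self, map_zero, zero_mul]
  let L : ∀ W, IsAffineOpen W → Γ(X, W) → secL ξ W := fun _ hW => Function.surjInv (redL_surjective ξ hW)
  have hL : ∀ W (hW : IsAffineOpen W) b, redL ξ W (L W hW b) = b := fun _ hW => Function.surjInv_eq (redL_surjective ξ hW)
  let D : ∀ W, W ≤ V → Γ(X, W) → Γ(X, W) := fun W h => evT (Groth.QCohMod.res (tanSh x) h g)
  { σ := fun W hW h =>
      { toFun := fun a => τ.σ W hW h a + strL ξ W dEps * L W hW (D W h a)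
        map_one' := by
          have h0 : D W h 1 = 0 := by
            have : D W h (1 * 1) = 1 * D W h 1 + 1 * D W h 1 := evT_mul _ 1 1
            rwa [mul_one, one_mul, left_eq_add] at this
          rw [map_one, h0, eps_mul_congr hW (e := 0) (by rw [hL W hW, map_zero]), mul_zero, add_zero]
        map_zero' := by
          have h0 : D W h 0 = 0 := by
            have : D W h (0 + 0) = D W h 0 + D W h 0 := evT_add _ 0 0
            rwa [add_zero, left_eq_add] at this
          rw [map_zero, h0, eps_mul_congr hW (e := 0) (by rw [hL W hW, map_zero]), mul_zero, add_zero]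
        map_add' := fun a b => by
          rw [map_add, eps_mul_congr hW (e := L W hW (D W h a) + L W hW (D W h b))
            (by rw [map_add, hL W hW, hL W hW, hL W hW]; exact evT_add _ a b)]
          ring
        map_mul' := fun a b => by
          rw [map_mul, eps_mul_congr hW (d := L W hW (D W h (a * b)))
            (e := τ.σ W hW h a * L W hW (D W h b) + τ.σ W hW h b * L W hW (D W h a))
            (by rw [map_add, map_mul, map_mul, hL W hW, hL W hW, hL W hW, τ.red, τ.red]; exact evT_mul _ a b)]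
          linear_combination -hmul0 W hW (L W hW (D W h a) * L W hW (D W h b)) }
    red := fun W hW h a => by
      change redL ξ W (_ + _) = a
      rw [map_add, map_mul, redL_strL, res_dEps, map_zero, zero_mul, add_zero, τ.red]
    const := fun W hW h c => by
      change τ.σ W hW h (strOf x W c) + strL ξ W dEps * L W hW (D W h (strOf x W c)) = _
      rw [eps_mul_congr hW (e := 0) (by rw [hL W hW, map_zero]; exact evT_const _ c), mul_zero, add_zero, τ.const]
    nat := fun W hW h W' hW' h' a => by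
      change resL ξ h' (_ + _) = _ + _
      rw [map_add, map_mul, resL_strL, τ.nat W hW h W' hW' h']
      refine congrArg _ (eps_mul_congr hW' ?_)
      rw [redL_resL, hL W hW, hL W' hW']
      change rs X h' (evT (Groth.QCohMod.res (tanSh x) h g) a) = evT (Groth.QCohMod.res (tanSh x) (h'.trans h) g) (rs X h' a)
      rw [← evT_res_res h h' g, evT_res] }

lemma Triv.twist_sub (τ : Triv ξ dC V) (g : Γ(tanSh x, V)) {W : X.Opens} (hW : IsAffineOpen W)
    (h : W ≤ V) (a : Γ(X, W)) : ∃ d, redL ξ W d = evT (Groth.QCohMod.res (tanSh x) h g) a ∧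
      (τ.twist g).σ W hW h a = τ.σ W hW h a + strL ξ W dEps * d :=
  ⟨_, Function.surjInv_eq (redL_surjective ξ hW) _, rfl⟩

lemma trivDiff_twist {V' : X.Opens} (τ : Triv ξ dC V) (τ' : Triv ξ dC V') (g : Γ(tanSh x, V)) (g' : Γ(tanSh x, V'))
    {W : X.Opens} (hW : IsAffineOpen W) (h : W ≤ V) (h' : W ≤ V') (a : Γ(X, W)) :
    trivDiff (τ.twist g) (τ'.twist g') hW h h' a = trivDiff τ τ' hW h h' a +
      (evT (Groth.QCohMod.res (tanSh x) h g) a - evT (Groth.QCohMod.res (tanSh x) h' g') a) := by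
  obtain ⟨d, hd, e⟩ := τ.twist_sub g hW h a
  obtain ⟨d', hd', e'⟩ := τ'.twist_sub g' hW h' a
  obtain ⟨u, hu⟩ := exists_diff τ τ' hW h h' a
  rw [trivDiff_eq τ τ' hW h h' hu, trivDiff_eq _ _ hW h h' (d := u + (d - d'))
    (by rw [e, e', mul_add, mul_sub, ← hu]; ring), map_add, map_sub, hd, hd']

end Twist

section Glue

variable {ξ : DefSch X x (Art.dual Λ k)}

include hUi in
/-- Agreeing trivialisations give a trivialisation over all of `X`. -/
theorem exists_triv_top (hcov : ∀ z : X, ∃ j, z ∈ U j) (τ : ∀ j, Triv ξ dC (U j))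
    (hc : ∀ (j m : ι) (W : X.Opens) (hW : IsAffineOpen W) (hj : W ≤ U j) (hm : W ≤ U m) (a : Γ(X, W)),
      (τ j).σ W hW hj a = (τ m).σ W hW hm a) : Nonempty (Triv ξ dC (⊤ : X.Opens)) := by
  have hsm : ∀ (W : X.Opens) (z : X), z ∈ W → ∃ (j : ι) (W' : X.Opens), IsAffineOpen W' ∧ W' ≤ W ∧ W' ≤ U j ∧ z ∈ W' := by
    intro W z hz
    obtain ⟨j, hj⟩ := hcov z
    obtain ⟨_, ⟨W', hW', rfl⟩, hzW', hle⟩ := X.isBasis_affineOpens.exists_subset_of_mem_open
      (show z ∈ W ⊓ U j from ⟨hz, hj⟩) (W ⊓ U j).2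
    exact ⟨j, W', hW', fun p hp => (hle hp).1, fun p hp => (hle hp).2, hzW'⟩
  have hext : ∀ (W : X.Opens) (z z' : secL ξ W),
      (∀ (j : ι) (W' : X.Opens) (_ : IsAffineOpen W') (h : W' ≤ W) (_ : W' ≤ U j), resL ξ h z = resL ξ h z') → z = z' := by
    intro W z z' h
    let κ := {p : ι × X.Opens // IsAffineOpen p.2 ∧ p.2 ≤ W ∧ p.2 ≤ U p.1}
    refine TopCat.Sheaf.eq_of_locally_eq' ξ.total.sheaf (fun p : κ => liftOpen ξ p.1.2) (liftOpen ξ W)
      (fun p => homOfLE (opens_le_of_preimage_le ξ (by rw [preimage_liftOpen, preimage_liftOpen]; exact p.2.2.1))) ?_ z z'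
      fun p => h p.1.1 p.1.2 p.2.1 p.2.2.1 p.2.2.2
    intro y hy
    obtain ⟨w, rfl⟩ := (bijective_i ξ).2 y
    obtain ⟨j, W', hW', hle, hj, hw⟩ := hsm W w ((preimage_liftOpen ξ W).le hy)
    exact Opens.mem_iSup.2 ⟨⟨(j, W'), hW', hle, hj⟩, (preimage_liftOpen ξ W').ge hw⟩
  have key : ∀ (W : X.Opens) (a : Γ(X, W)), ∃ z : secL ξ W, ∀ (j : ι) (W' : X.Opens) (hW' : IsAffineOpen W')
      (h : W' ≤ W) (hj : W' ≤ U j), resL ξ h z = (τ j).σ W' hW' hj (rs X h a) := by
    intro W a
    let κ := {p : ι × X.Opens // IsAffineOpen p.2 ∧ p.2 ≤ W ∧ p.2 ≤ U p.1}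
    have hle : ∀ p : κ, liftOpen ξ p.1.2 ≤ liftOpen ξ W := fun p =>
      opens_le_of_preimage_le ξ (by rw [preimage_liftOpen, preimage_liftOpen]; exact p.2.2.1)
    obtain ⟨z, hz, -⟩ := TopCat.Sheaf.existsUnique_gluing' ξ.total.sheaf (fun p : κ => liftOpen ξ p.1.2) (liftOpen ξ W)
      (fun p => homOfLE (hle p)) (fun y hy => by
        obtain ⟨w, rfl⟩ := (bijective_i ξ).2 y
        obtain ⟨j, W', hW', hle, hj, hw⟩ := hsm W w ((preimage_liftOpen ξ W).le hy)
        exact Opens.mem_iSup.2 ⟨⟨(j, W'), hW', hle, hj⟩, (preimage_liftOpen ξ W').ge hw⟩)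
      (fun p => (τ p.1.1).σ p.1.2 p.2.1 p.2.2.2 (rs X p.2.2.1 a))
      (fun p q => by
        let κ' := {V : X.Opens // IsAffineOpen V ∧ V ≤ p.1.2 ⊓ q.1.2}
        refine TopCat.Sheaf.eq_of_locally_eq' ξ.total.sheaf (fun V : κ' => liftOpen ξ V.1) _
          (fun V => homOfLE (le_inf
            (opens_le_of_preimage_le ξ (by rw [preimage_liftOpen, preimage_liftOpen]; exact V.2.2.trans inf_le_left))
            (opens_le_of_preimage_le ξ (by rw [preimage_liftOpen, preimage_liftOpen]; exact V.2.2.trans inf_le_right))))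
          ?_ _ _ fun V => ?_
        · intro y hy
          obtain ⟨w, rfl⟩ := (bijective_i ξ).2 y
          obtain ⟨_, ⟨V, hV, rfl⟩, hwV, hVle⟩ := X.isBasis_affineOpens.exists_subset_of_mem_open
            (show w ∈ p.1.2 ⊓ q.1.2 from ⟨(preimage_liftOpen ξ p.1.2).le hy.1, (preimage_liftOpen ξ q.1.2).le hy.2⟩)
            (p.1.2 ⊓ q.1.2).2
          exact Opens.mem_iSup.2 ⟨⟨V, hV, hVle⟩, (preimage_liftOpen ξ V).ge hwV⟩
        · change rs ξ.total _ (rs ξ.total _ _) = rs ξ.total _ (rs ξ.total _ _)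
          rw [rs_rs, rs_rs]
          change resL ξ (V.2.2.trans inf_le_left) _ = resL ξ (V.2.2.trans inf_le_right) _
          rw [(τ p.1.1).nat _ _ _ V.1 V.2.1, (τ q.1.1).nat _ _ _ V.1 V.2.1, rs_rs, rs_rs]
          exact hc _ _ _ V.2.1 _ _ _)
    exact ⟨z, fun j W' hW' h hj => hz ⟨(j, W'), hW', h, hj⟩⟩
  choose σ hσ using key
  refine ⟨{ σ := fun W _ _ =>
              { toFun := σ W
                map_one' := hext W _ _ fun j W' hW' h hj => by rw [hσ W 1 j W' hW' h hj, map_one, map_one, map_one]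
                map_zero' := hext W _ _ fun j W' hW' h hj => by rw [hσ W 0 j W' hW' h hj, map_zero, map_zero, map_zero]
                map_add' := fun a b => hext W _ _ fun j W' hW' h hj => by
                  rw [map_add, hσ W (a + b) j W' hW' h hj, hσ W a j W' hW' h hj, hσ W b j W' hW' h hj, map_add, map_add]
                map_mul' := fun a b => hext W _ _ fun j W' hW' h hj => by
                  rw [map_mul, hσ W (a * b) j W' hW' h hj, hσ W a j W' hW' h hj, hσ W b j W' hW' h hj, map_mul, map_mul] }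
            red := fun W _ _ a => ?_
            const := fun W _ _ c => hext W _ _ fun j W' hW' h hj => by
              refine (hσ W _ j W' hW' h hj).trans ?_
              rw [rs_strOf, (τ j).const, resL_strL]
            nat := fun W _ _ W' _ h' a => hext W' _ _ fun j W'' hW'' h hj => by
              refine Eq.trans ?_ (hσ W' _ j W'' hW'' h hj).symm
              change rs ξ.total _ (rs ξ.total _ (σ W a)) = _
              rw [rs_rs, rs_rs]
              exact hσ W a j W'' hW'' (h.trans h') hj }⟩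
  change redL ξ W (σ W a) = a
  let κ := {p : ι × X.Opens // IsAffineOpen p.2 ∧ p.2 ≤ W ∧ p.2 ≤ U p.1}
  refine TopCat.Sheaf.eq_of_locally_eq' X.sheaf (fun p : κ => p.1.2) W (fun p => homOfLE p.2.2.1) (fun z hz => ?_) _ _
    fun p => ?_
  · obtain ⟨j, W', hW', hle, hj, hz'⟩ := hsm W z hz
    exact Opens.mem_iSup.2 ⟨⟨(j, W'), hW', hle, hj⟩, hz'⟩
  · refine (redL_resL ξ p.2.2.1 (σ W a)).symm.trans ?_
    rw [hσ W a p.1.1 p.1.2 p.2.1 p.2.2.1 p.2.2.2, (τ p.1.1).red]
    rfl

end Glue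

lemma tsze_scale_zero (a : DualNumber k) :
    (Art.tszeMap ((0 : k) • LinearMap.id) : DualNumber k →ₐ[Λ] DualNumber k) a =
      algebraMap k (DualNumber k) (TrivSqZeroExt.fst a) :=
  TrivSqZeroExt.ext rfl (by simp [TrivSqZeroExt.algebraMap_eq_inl'])

/-! ### Injectivity. -/

section Inject

lemma res_cv_congr {n : ℕ} (s : tanCoch x U n) {i i' : Fin (n + 1) → ι} (e : i = i') {W : X.Opens}
    (h : W ≤ inter (X := X.toTopCat) U i) (h' : W ≤ inter (X := X.toTopCat) U i') :
    Groth.QCohMod.res (tanSh x) h (cv U s i) = Groth.QCohMod.res (tanSh x) h' (cv U s i') := by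
  subst e; rfl

lemma evT_res_dCoch {n : ℕ} (s : tanCoch x U n) (i : Fin (n + 2) → ι) {W : X.Opens}
    (h : W ≤ inter (X := X.toTopCat) U i) (a : Γ(X, W)) :
    evT (Groth.QCohMod.res (tanSh x) h (cv U (dCoch (X := X.toTopCat) U _ n s) i)) a =
      ∑ b : Fin (n + 2), ((-1 : ℤ) ^ (b : ℕ)) • evT (Groth.QCohMod.res (tanSh x)
        (h.trans (inter_comp (X := X.toTopCat) U i b.succAbove)) (cv U s (i ∘ b.succAbove))) a := by
  let ev : Γ(tanSh x, inter (X := X.toTopCat) U i) →+ Γ(X, W) :=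
    AddMonoidHom.mk' (fun g => evT (Groth.QCohMod.res (tanSh x) h g) a) fun g g' => by
      rw [map_add, evT_add_left]
  change ev (dCoch (X := X.toTopCat) U _ n s i) = _
  rw [dCoch_apply]
  refine (map_sum ev _ _).trans (Finset.sum_congr rfl fun b _ => ?_)
  exact (map_zsmul ev _ _).trans (congrArg _ (evT_res_res (inter_comp (X := X.toTopCat) U i b.succAbove) h _ a))

variable {ξ : DefSch X x (Art.dual Λ k)}

include hUi in
/-- If the cocycle of differences is a coboundary, the deformation has a global trivialisation. -/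
theorem exists_triv_top_of_dCoch (hcov : ∀ z : X, ∃ j, z ∈ U j) (τ : ∀ j, Triv ξ dC (U j)) (t : tanCoch x U 0)
    (ht : dCoch (X := X.toTopCat) U _ 0 t = diffCoch hUi τ) : Nonempty (Triv ξ dC (⊤ : X.Opens)) := by
  let g : ∀ j, Γ(tanSh x, U j) := fun j =>
    Groth.QCohMod.res (tanSh x) (le_inter_const le_rfl) (cv U t fun _ => j)
  refine exists_triv_top hUi hcov (fun j => (τ j).twist (g j)) fun j m W hW hj hm a => ?_
  obtain ⟨d, hd⟩ := exists_diff ((τ j).twist (g j)) ((τ m).twist (g m)) hW hj hm a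
  have h0 : redL ξ W d = redL ξ W 0 := by
    rw [map_zero, ← trivDiff_eq _ _ hW hj hm hd, trivDiff_twist]
    let i : Fin 2 → ι := ![j, m]
    have hi : W ≤ inter (X := X.toTopCat) U i := le_iInf fun b => by fin_cases b <;> assumption
    have h1 : evT (Groth.QCohMod.res (tanSh x) hi (cv U (dCoch (X := X.toTopCat) U _ 0 t) i)) a =
        evT (Groth.QCohMod.res (tanSh x) hm (g m)) a - evT (Groth.QCohMod.res (tanSh x) hj (g j)) a := by
      rw [evT_res_dCoch]
      refine (Fin.sum_univ_two _).trans ?_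
      change ((-1 : ℤ) ^ 0) • _ + ((-1 : ℤ) ^ 1) • _ = _
      rw [pow_zero, pow_one, one_zsmul, neg_one_zsmul, ← sub_eq_add_neg]
      have e0 : i ∘ Fin.succAbove 0 = fun _ : Fin 1 => m := funext fun b => by fin_cases b; rfl
      have e1 : i ∘ Fin.succAbove 1 = fun _ : Fin 1 => j := funext fun b => by fin_cases b; rfl
      rw [res_cv_congr t e0 _ (le_inter_const hm), res_cv_congr t e1 _ (le_inter_const hj)]
      simp only [g, evT_res_res]
    rw [ht, evT_res_diffCoch hUi τ hW] at h1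
    change trivDiff (τ j) (τ m) hW hj hm a = _ at h1
    rw [h1]
    ring
  rw [← sub_eq_zero, hd, eps_mul_congr hW h0, mul_zero]

/-- A global trivialisation comes from the trivial deformation. -/
theorem exists_hom_of_triv_top (τ : Triv ξ dC (⊤ : X.Opens)) :
    Nonempty (SHom (Art.baseToDual (Λ := Λ) (k := k)) (DefSch.self X x (flat_of_field x)) ξ) := by
  have hle : ∀ V : ξ.total.Opens, V ≤ liftOpen ξ (ξ.i ⁻¹ᵁ V) := fun V =>
    opens_le_of_preimage_le ξ (preimage_liftOpen ξ _).ge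
  let ψ : ∀ (V : ξ.total.Opens), IsAffineOpen V → (Γ(X, ξ.i ⁻¹ᵁ V) ⟶ Γ(ξ.total, V)) := fun V hV =>
    CommRingCat.ofHom (τ.σ (ξ.i ⁻¹ᵁ V) (hV.preimage ξ.i) le_top) ≫ ξ.total.presheaf.map (homOfLE (hle V)).op
  let φ : ∀ V : ξ.total.affineOpens, V.1.toScheme ⟶ X := fun V =>
    V.1.toSpecΓ ≫ Spec.map (ψ V.1 V.2) ≫ (V.2.preimage ξ.i).fromSpec
  have hres : ∀ (V V' : ξ.total.Opens) (hV : IsAffineOpen V) (hV' : IsAffineOpen V') (h : V' ≤ V),
      ψ V hV ≫ ξ.total.presheaf.map (homOfLE h).op =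
        X.presheaf.map (homOfLE (ξ.i.preimage_mono h)).op ≫ ψ V' hV' := fun V V' hV hV' h => by
    ext a
    change rs ξ.total h (rs ξ.total (hle V) (τ.σ _ (hV.preimage ξ.i) le_top a)) =
      rs ξ.total (hle V') (τ.σ _ (hV'.preimage ξ.i) le_top (rs X (ξ.i.preimage_mono h) a))
    rw [← τ.nat _ (hV.preimage ξ.i) le_top _ (hV'.preimage ξ.i) (ξ.i.preimage_mono h)]
    exact (rs_rs h (hle V) _).trans (rs_rs (hle V') _ _).symm
  have hcompat : ∀ {V V' : ξ.total.directedAffineCover.I₀} (hVV : V ⟶ V'),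
      Scheme.Cover.trans ξ.total.directedAffineCover hVV ≫ φ V' = φ V := by
    intro V V' hVV
    obtain ⟨V, hV⟩ := V
    obtain ⟨V', hV'⟩ := V'
    have h : V ≤ V' := leOfHom (X := ξ.total.affineOpens) hVV
    change ξ.total.homOfLE h ≫ φ ⟨V', hV'⟩ = φ ⟨V, hV⟩
    simp only [φ]
    rw [← Scheme.Opens.toSpecΓ_SpecMap_presheaf_map_assoc V V' h, ← Spec.map_comp_assoc, hres V' V hV' hV h,
      Spec.map_comp_assoc, IsAffineOpen.map_fromSpec]
  let p : ξ.total ⟶ X := ξ.total.directedAffineCover.glueMorphismsOfLocallyDirected φ hcompat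
  have hp : ∀ V : ξ.total.affineOpens, V.1.ι ≫ p = φ V := fun V =>
    Scheme.OpenCover.map_glueMorphismsOfLocallyDirected (𝒰 := ξ.total.directedAffineCover) φ hcompat V
  have hstr : ∀ (V : ξ.total.Opens) (hV : IsAffineOpen V), strOf x (ξ.i ⁻¹ᵁ V) ≫ ψ V hV =
      CommRingCat.ofHom (dC (Λ := Λ) (k := k)) ≫ strU ξ V := fun V hV => by
    ext c
    change rs ξ.total (hle V) (τ.σ _ (hV.preimage ξ.i) le_top (strOf x (ξ.i ⁻¹ᵁ V) c)) = strU ξ V (dC (Λ := Λ) c)
    rw [τ.const _ (hV.preimage ξ.i) le_top]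
    change (strOf ξ.f _ ≫ ξ.total.presheaf.map (homOfLE (hle V)).op) (dC (Λ := Λ) c) = _
    rw [strOf, Category.assoc, Scheme.Hom.appLE_map]
    rfl
  have hi : ∀ (V : ξ.total.Opens) (hV : IsAffineOpen V), ψ V hV ≫ ξ.i.app V = 𝟙 _ := fun V hV => by
    ext a
    change (ξ.total.presheaf.map (homOfLE (hle V)).op ≫ ξ.i.app V) (τ.σ _ (hV.preimage ξ.i) le_top a) = a
    rw [Scheme.Hom.app_eq_appLE, Scheme.Hom.map_appLE]
    exact τ.red _ (hV.preimage ξ.i) le_top a
  refine ⟨{ hom := p, hom_f := ?_, i_hom := ?_ }⟩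
  · refine ξ.total.directedAffineCover.hom_ext _ _ fun V => ?_
    obtain ⟨V, hV⟩ := V
    change V.ι ≫ p ≫ x = V.ι ≫ _
    rw [← Category.assoc, hp ⟨V, hV⟩]
    simp only [φ]
    rw [Category.assoc, Category.assoc, fromSpec_comp_eq, ← Spec.map_comp, hstr V hV]
    refine (congrArg (V.toSpecΓ ≫ ·) (Spec.map_comp _ (strU ξ V))).trans ?_
    rw [← IsAffineOpen.toSpecΓ_fromSpec hV, Category.assoc]
    exact congrArg (V.toSpecΓ ≫ ·) ((Category.assoc _ _ _).symm.trans
      (congrArg (· ≫ Spec.map (CommRingCat.ofHom (dC (Λ := Λ) (k := k)))) (fromSpec_comp_eq ξ.f hV))).symm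
  · refine X.directedAffineCover.hom_ext _ _ fun W => ?_
    obtain ⟨W, hW⟩ := W
    obtain ⟨V, hV, rfl⟩ : ∃ V : ξ.total.Opens, IsAffineOpen V ∧ W = ξ.i ⁻¹ᵁ V :=
      ⟨_, isAffineOpen_liftOpen ξ hW, (preimage_liftOpen ξ W).symm⟩
    change (ξ.i ⁻¹ᵁ V).ι ≫ ξ.i ≫ p = (ξ.i ⁻¹ᵁ V).ι ≫ 𝟙 X
    rw [← Category.assoc, ← Scheme.Hom.resLE_comp_ι ξ.i (le_rfl : ξ.i ⁻¹ᵁ V ≤ ξ.i ⁻¹ᵁ V), Category.assoc, hp ⟨V, hV⟩]
    simp only [φ]
    rw [← Scheme.Opens.toSpecΓ_SpecMap_appLE_assoc, ← Spec.map_comp_assoc, ← Scheme.Hom.app_eq_appLE, hi V hV,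
      Spec.map_id, Category.id_comp, IsAffineOpen.toSpecΓ_fromSpec, Category.comp_id]

variable [TangentStr (defFunctor (Λ := Λ) X x)]

include hUi in
/-- A tangent vector whose cocycle is a coboundary vanishes. -/
theorem eq_zero_of_dCoch (hcov : ∀ z : X, ∃ j, z ∈ U j) {v : TangentSpace (defFunctor (Λ := Λ) X x)}
    (hξ : ξ.cl = TangentSpace.val v) (τ : ∀ j, Triv ξ dC (U j)) (t : tanCoch x U 0)
    (ht : dCoch (X := X.toTopCat) U _ 0 t = diffCoch hUi τ) : v = 0 := by
  obtain ⟨τ₀⟩ := exists_triv_top_of_dCoch hUi hcov τ t ht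
  obtain ⟨φ⟩ := exists_hom_of_triv_top τ₀
  have e1 : (defFunctor (Λ := Λ) X x).map Art.baseToDual (DefSch.self X x (flat_of_field x)).cl = ξ.cl :=
    map_cl_eq_iff'.2 ⟨φ⟩
  have e2 : Art.scale (0 : k) = Art.toBase (Art.dual Λ k) ≫ Art.baseToDual :=
    Art.hom_ext (AlgHom.ext fun a => (tsze_scale_zero (Λ := Λ) a : _))
  haveI := (h0_sch (Λ := Λ) X x).2
  have e3 : TangentSpace.val (0 : TangentSpace (defFunctor (Λ := Λ) X x)) = ξ.cl := by
    rw [← zero_smul k v]
    refine (TangentStr.smul_eq (F := defFunctor (Λ := Λ) X x) (0 : k) (TangentSpace.val v)).trans ?_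
    rw [e2, Functor.map_comp, ← e1]
    exact congrArg ((defFunctor (Λ := Λ) X x).map Art.baseToDual) (Subsingleton.elim _ _)
  exact hξ.symm.trans e3.symm

end Inject

end Groth.SGA7Def
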