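import Groth.Agent.SGA7.LocTriv
import Groth.Agent.SGA7.DerSheaf
import Groth.Agent.PnCoh.CechClass

/-!
Locally trivial first order deformations inject into `H¹` of the tangent sheaf; finiteness of the
tangent space of the deformation functor of a proper scheme.
-/

set_option linter.style.haveILetI false
set_option linter.style.longLine false
set_option linter.unusedSectionVars false

noncomputable section

universe u

open CategoryTheory AlgebraicGeometry TopologicalSpace Opposite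

namespace Groth.SGA7Def

open ArtFun Groth.ArtfunDeform
open Groth.CohBase (inter inter_le inter_comp Coch dCoch dCoch_apply)

local notation "𝔪" => IsLocalRing.maximalIdeal

variable {Λ k : Type u} [CommRing Λ] [Field k] [Algebra Λ k]
variable {X : Scheme.{u}} {x : X ⟶ Art.specPt k}

/-! ### Trivialisations over `k[ε₁, ε₂]`. -/

lemma tsze2_mul_inr (m : TrivSqZeroExt k (k × k)) (h : m.fst = 0) (v : k × k) : m * TrivSqZeroExt.inr v = 0 :=
  TrivSqZeroExt.ext (by simp) (by simp [h])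

lemma mul_dEps₁_of_mem {m : Art.dual2 Λ k} (h : m ∈ 𝔪 (Art.dual2 Λ k)) : m * dEps₁ = 0 :=
  tsze2_mul_inr m (((Art.dual2 Λ k).mem_maximalIdeal_iff m).1 h) _

lemma mul_dEps₂_of_mem {m : Art.dual2 Λ k} (h : m ∈ 𝔪 (Art.dual2 Λ k)) : m * dEps₂ = 0 :=
  tsze2_mul_inr m (((Art.dual2 Λ k).mem_maximalIdeal_iff m).1 h) _

lemma pr₁_values : (ArtFun.Art.pr₁ : Art.dual2 Λ k ⟶ _) dEps₁ = dEps ∧ (ArtFun.Art.pr₁ : Art.dual2 Λ k ⟶ _) dEps₂ = 0 :=
  ⟨TrivSqZeroExt.ext rfl rfl, TrivSqZeroExt.ext rfl rfl⟩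

lemma pr₂_values : (ArtFun.Art.pr₂ : Art.dual2 Λ k ⟶ _) dEps₁ = 0 ∧ (ArtFun.Art.pr₂ : Art.dual2 Λ k ⟶ _) dEps₂ = dEps :=
  ⟨TrivSqZeroExt.ext rfl rfl, TrivSqZeroExt.ext rfl rfl⟩

lemma plus_values : (ArtFun.Art.plus : Art.dual2 Λ k ⟶ _) dEps₁ = dEps ∧ (ArtFun.Art.plus : Art.dual2 Λ k ⟶ _) dEps₂ = dEps :=
  ⟨TrivSqZeroExt.ext rfl (add_zero (1 : k)), TrivSqZeroExt.ext rfl (zero_add (1 : k))⟩

lemma map_dC2 (c : k) : (ArtFun.Art.pr₁ : Art.dual2 Λ k ⟶ _) (dC2 c) = dC c ∧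
    (ArtFun.Art.pr₂ : Art.dual2 Λ k ⟶ _) (dC2 c) = dC c ∧ (ArtFun.Art.plus : Art.dual2 Λ k ⟶ _) (dC2 c) = dC c :=
  ⟨TrivSqZeroExt.ext rfl (map_zero (LinearMap.fst k k k)), TrivSqZeroExt.ext rfl (map_zero (LinearMap.snd k k k)),
    TrivSqZeroExt.ext rfl (map_zero (LinearMap.fst k k k + LinearMap.snd k k k))⟩

section Pair

variable {ξ : DefSch X x (Art.dual2 Λ k)} {ξ₁ ξ₂ : DefSch X x (Art.dual Λ k)}
variable (φ₁ : SHom Art.pr₁ ξ ξ₁) (φ₂ : SHom Art.pr₂ ξ ξ₂) {W : X.Opens} (hW : IsAffineOpen W)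

include hW in
lemma pair_injective {z z' : secL ξ W} (h₁ : φ₁.mapL W z = φ₁.mapL W z') (h₂ : φ₂.mapL W z = φ₂.mapL W z') :
    z = z' := by
  have hr : redL ξ W (z - z') = 0 := by
    rw [map_sub, ← φ₁.redL_mapL, h₁, φ₁.redL_mapL, sub_self]
  obtain ⟨d₁, d₂, e⟩ := exists_eps_mul₂ hW hr
  have a1 : φ₁.mapL W (z - z') = 0 := by rw [map_sub, h₁, sub_self]
  have a2 : φ₂.mapL W (z - z') = 0 := by rw [map_sub, h₂, sub_self]
  rw [e, map_add, map_mul, map_mul, φ₁.mapL_strL, φ₁.mapL_strL, pr₁_values.1, pr₁_values.2, map_zero, zero_mul, add_zero] at a1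
  rw [e, map_add, map_mul, map_mul, φ₂.mapL_strL, φ₂.mapL_strL, pr₂_values.1, pr₂_values.2, map_zero, zero_mul, zero_add] at a2
  have b1 := redL_eq_of_eps_mul hW (a1.trans (mul_zero _).symm)
  have b2 := redL_eq_of_eps_mul hW (a2.trans (mul_zero _).symm)
  rw [φ₁.redL_mapL, map_zero] at b1
  rw [φ₂.redL_mapL, map_zero] at b2
  rw [strL_mul_eq_zero hW (fun m hm => mul_dEps₁_of_mem hm) b1, strL_mul_eq_zero hW (fun m hm => mul_dEps₂_of_mem hm) b2,
    add_zero, sub_eq_zero] at e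
  exact e

include hW in
lemma pair_surjective {z₁ : secL ξ₁ W} {z₂ : secL ξ₂ W} (h : redL ξ₁ W z₁ = redL ξ₂ W z₂) :
    ∃ z, φ₁.mapL W z = z₁ ∧ φ₂.mapL W z = z₂ := by
  obtain ⟨z, hz⟩ := redL_surjective ξ hW (redL ξ₁ W z₁)
  obtain ⟨e₁, he₁⟩ := exists_eps_mul hW (z := z₁ - φ₁.mapL W z) (by rw [map_sub, φ₁.redL_mapL, hz, sub_self])
  obtain ⟨e₂, he₂⟩ := exists_eps_mul hW (z := z₂ - φ₂.mapL W z) (by rw [map_sub, φ₂.redL_mapL, hz, h, sub_self])
  obtain ⟨u₁, hu₁⟩ := redL_surjective ξ hW (redL ξ₁ W e₁)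
  obtain ⟨u₂, hu₂⟩ := redL_surjective ξ hW (redL ξ₂ W e₂)
  refine ⟨z + (strL ξ W dEps₁ * u₁ + strL ξ W dEps₂ * u₂), ?_, ?_⟩
  · rw [map_add, map_add, map_mul, map_mul, φ₁.mapL_strL, φ₁.mapL_strL, pr₁_values.1, pr₁_values.2, map_zero, zero_mul,
      add_zero, eps_mul_congr hW (e := e₁) (by rw [φ₁.redL_mapL, hu₁]), ← he₁, add_sub_cancel]
  · rw [map_add, map_add, map_mul, map_mul, φ₂.mapL_strL, φ₂.mapL_strL, pr₂_values.1, pr₂_values.2, map_zero, zero_mul,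
      zero_add, eps_mul_congr hW (e := e₂) (by rw [φ₂.redL_mapL, hu₂]), ← he₂, add_sub_cancel]

/-- Trivialisations of both projections give one over `k[ε₁, ε₂]`. -/
theorem exists_triv_pair {U : X.Opens} (τ₁ : Triv ξ₁ dC U) (τ₂ : Triv ξ₂ dC U) :
    ∃ τ : Triv ξ dC2 U, ∀ (W : X.Opens) (hW : IsAffineOpen W) (h : W ≤ U) (a : Γ(X, W)),
      φ₁.mapL W (τ.σ W hW h a) = τ₁.σ W hW h a ∧ φ₂.mapL W (τ.σ W hW h a) = τ₂.σ W hW h a := by
  choose z hz₁ hz₂ using fun (W : X.Opens) (hW : IsAffineOpen W) (h : W ≤ U) (a : Γ(X, W)) =>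
    pair_surjective φ₁ φ₂ hW (z₁ := τ₁.σ W hW h a) (z₂ := τ₂.σ W hW h a) (by rw [τ₁.red, τ₂.red])
  refine ⟨
    { σ := fun W hW h =>
        { toFun := z W hW h
          map_one' := pair_injective φ₁ φ₂ hW (by rw [hz₁, map_one, map_one]) (by rw [hz₂, map_one, map_one])
          map_zero' := pair_injective φ₁ φ₂ hW (by rw [hz₁, map_zero, map_zero]) (by rw [hz₂, map_zero, map_zero])
          map_add' := fun a b => pair_injective φ₁ φ₂ hW (by rw [map_add, hz₁, hz₁, hz₁, map_add])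
            (by rw [map_add, hz₂, hz₂, hz₂, map_add])
          map_mul' := fun a b => pair_injective φ₁ φ₂ hW (by rw [map_mul, hz₁, hz₁, hz₁, map_mul])
            (by rw [map_mul, hz₂, hz₂, hz₂, map_mul]) }
      red := fun W hW h a => by
        change redL ξ W (z W hW h a) = a
        rw [← φ₁.redL_mapL, hz₁, τ₁.red]
      const := fun W hW h c => pair_injective φ₁ φ₂ hW
        (by rw [φ₁.mapL_strL, (map_dC2 c).1]; exact (hz₁ W hW h _).trans (τ₁.const W hW h c))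
        (by rw [φ₂.mapL_strL, (map_dC2 c).2.1]; exact (hz₂ W hW h _).trans (τ₂.const W hW h c))
      nat := fun W hW h W' hW' h' a => pair_injective φ₁ φ₂ hW'
        (by rw [φ₁.mapL_resL]; exact (congrArg (resL ξ₁ h') (hz₁ W hW h a)).trans ((τ₁.nat W hW h W' hW' h' a).trans (hz₁ W' hW' _ _).symm))
        (by rw [φ₂.mapL_resL]; exact (congrArg (resL ξ₂ h') (hz₂ W hW h a)).trans ((τ₂.nat W hW h W' hW' h' a).trans (hz₂ W' hW' _ _).symm)) },
    fun W hW h a => ⟨hz₁ W hW h a, hz₂ W hW h a⟩⟩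

end Pair

lemma trivDiff_plus {ξ : DefSch X x (Art.dual2 Λ k)} {ξ₁ ξ₂ ξ₃ : DefSch X x (Art.dual Λ k)}
    (φ₁ : SHom Art.pr₁ ξ ξ₁) (φ₂ : SHom Art.pr₂ ξ ξ₂) (φ₃ : SHom Art.plus ξ ξ₃) {U U' : X.Opens}
    (τ : Triv ξ dC2 U) (τ' : Triv ξ dC2 U') {W : X.Opens} (hW : IsAffineOpen W) (h : W ≤ U) (h' : W ≤ U') (a : Γ(X, W)) :
    trivDiff (τ.map φ₃ fun c => (map_dC2 c).2.2) (τ'.map φ₃ fun c => (map_dC2 c).2.2) hW h h' a =
      trivDiff (τ.map φ₁ fun c => (map_dC2 c).1) (τ'.map φ₁ fun c => (map_dC2 c).1) hW h h' a +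
        trivDiff (τ.map φ₂ fun c => (map_dC2 c).2.1) (τ'.map φ₂ fun c => (map_dC2 c).2.1) hW h h' a := by
  obtain ⟨d₁, d₂, e⟩ := exists_eps_mul₂ hW (z := τ.σ W hW h a - τ'.σ W hW h' a) (by rw [map_sub, τ.red, τ'.red, sub_self])
  rw [trivDiff_eq _ _ hW h h' (d := φ₁.mapL W d₁) (by
      change φ₁.mapL W _ - φ₁.mapL W _ = _
      rw [← map_sub, e, map_add, map_mul, map_mul, φ₁.mapL_strL, φ₁.mapL_strL, pr₁_values.1, pr₁_values.2, map_zero,
        zero_mul, add_zero]),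
    trivDiff_eq _ _ hW h h' (d := φ₂.mapL W d₂) (by
      change φ₂.mapL W _ - φ₂.mapL W _ = _
      rw [← map_sub, e, map_add, map_mul, map_mul, φ₂.mapL_strL, φ₂.mapL_strL, pr₂_values.1, pr₂_values.2, map_zero,
        zero_mul, zero_add]),
    trivDiff_eq _ _ hW h h' (d := φ₃.mapL W d₁ + φ₃.mapL W d₂) (by
      change φ₃.mapL W _ - φ₃.mapL W _ = _
      rw [← map_sub, e, map_add, map_mul, map_mul, φ₃.mapL_strL, φ₃.mapL_strL, plus_values.1, plus_values.2, mul_add]),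
    map_add, φ₁.redL_mapL, φ₂.redL_mapL, φ₃.redL_mapL, φ₃.redL_mapL]

lemma scale_values (c : k) : (ArtFun.Art.scale c : Art.dual Λ k ⟶ _) dEps = dC c * dEps ∧
    ∀ c', (ArtFun.Art.scale c : Art.dual Λ k ⟶ _) (dC c') = dC c' :=
  ⟨(TrivSqZeroExt.ext rfl rfl : (Art.tszeMap (c • LinearMap.id) : DualNumber k →ₐ[Λ] DualNumber k)
        (TrivSqZeroExt.inr 1) = TrivSqZeroExt.inr (c • (1 : k))).trans (TrivSqZeroExt.inl_mul_inr c 1).symm,
    fun _ => TrivSqZeroExt.ext rfl (map_zero (c • LinearMap.id : k →ₗ[k] k))⟩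

lemma trivDiff_scale {ξ ξ' : DefSch X x (Art.dual Λ k)} (c : k) (φ : SHom (Art.scale c) ξ ξ') {U U' : X.Opens}
    (τ : Triv ξ dC U) (τ' : Triv ξ dC U') {W : X.Opens} (hW : IsAffineOpen W) (h : W ≤ U) (h' : W ≤ U') (a : Γ(X, W)) :
    trivDiff (τ.map φ (scale_values c).2) (τ'.map φ (scale_values c).2) hW h h' a =
      strOf x W c * trivDiff τ τ' hW h h' a := by
  obtain ⟨d, hd⟩ := exists_diff τ τ' hW h h' a
  rw [trivDiff_eq τ τ' hW h h' hd, trivDiff_eq _ _ hW h h' (d := strL ξ' W (dC c) * φ.mapL W d) (by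
      change φ.mapL W _ - φ.mapL W _ = _
      rw [← map_sub, hd, map_mul, φ.mapL_strL, (scale_values c).1, map_mul]
      ring),
    map_mul, redL_strL, res_dC, φ.redL_mapL]

/-! ### Čech cocycles. -/

section Cocycle

variable {ι : Type u} (U : ι → X.Opens) (hUi : ∀ {n : ℕ} (i : Fin (n + 1) → ι), IsAffineOpen (inter (X := X.toTopCat) U i))
variable [QuasiSeparated x]

variable (x) in
/-- Čech cochains of the tangent sheaf. -/
abbrev tanCoch (n : ℕ) : Type u := Coch (X := X.toTopCat) U (Coh.toAb (tanSh x)).obj n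

/-- A cochain value as a section of the tangent sheaf. -/
abbrev cv {n : ℕ} (s : tanCoch x U n) (i : Fin (n + 1) → ι) : Γ(tanSh x, inter (X := X.toTopCat) U i) := s i

variable {U}

lemma evT_dCoch {n : ℕ} (s : tanCoch x U n) (i : Fin (n + 2) → ι) (a : Γ(X, inter (X := X.toTopCat) U i)) :
    evT (cv U (dCoch (X := X.toTopCat) U _ n s) i) a =
      ∑ b : Fin (n + 2), ((-1 : ℤ) ^ (b : ℕ)) •
        evT (Groth.QCohMod.res (tanSh x) (inter_comp (X := X.toTopCat) U i b.succAbove) (cv U s (i ∘ b.succAbove))) a := by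
  let ev : Γ(tanSh x, inter (X := X.toTopCat) U i) →+ Γ(X, inter (X := X.toTopCat) U i) :=
    AddMonoidHom.mk' (fun g => evT g a) fun g g' => evT_add_left g g' a
  change ev (dCoch (X := X.toTopCat) U _ n s i) = _
  rw [dCoch_apply]
  refine (map_sum ev _ _).trans (Finset.sum_congr rfl fun b _ => ?_)
  exact map_zsmul ev _ _

variable {ξ : DefSch X x (Art.dual Λ k)} (τ : ∀ j, Triv ξ dC (U j))

include hUi in
lemma exists_diffCoch : ∃ s : tanCoch x U 1, ∀ i a, evT (cv U s i) a =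
    trivDiff (τ (i 0)) (τ (i 1)) (hUi i) (inter_le U i 0) (inter_le U i 1) a := by
  choose s hs using fun i : Fin 2 → ι => exists_evT_eq (x := x) (hUi i)
    (trivDiff (τ (i 0)) (τ (i 1)) (hUi i) (inter_le U i 0) (inter_le U i 1))
    (trivDiff_add _ _ _ _ _) (trivDiff_mul _ _ _ _ _) (trivDiff_const _ _ _ _ _)
  exact ⟨s, hs⟩

/-- The cochain of differences. -/
def diffCoch : tanCoch x U 1 := (exists_diffCoch hUi τ).choose

lemma evT_diffCoch (i : Fin 2 → ι) (a : Γ(X, inter (X := X.toTopCat) U i)) :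
    evT (cv U (diffCoch hUi τ) i) a = trivDiff (τ (i 0)) (τ (i 1)) (hUi i) (inter_le U i 0) (inter_le U i 1) a :=
  (exists_diffCoch hUi τ).choose_spec i a

lemma evT_res_diffCoch {W : X.Opens} (hW : IsAffineOpen W) (i : Fin 2 → ι) (h : W ≤ inter (X := X.toTopCat) U i)
    (a : Γ(X, W)) :
    evT (Groth.QCohMod.res (tanSh x) h (cv U (diffCoch hUi τ) i)) a =
      trivDiff (τ (i 0)) (τ (i 1)) hW (h.trans (inter_le U i 0)) (h.trans (inter_le U i 1)) a := by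
  obtain ⟨g, hg⟩ := exists_evT_eq (x := x) hW (trivDiff (τ (i 0)) (τ (i 1)) hW (h.trans (inter_le U i 0)) (h.trans (inter_le U i 1)))
    (trivDiff_add _ _ _ _ _) (trivDiff_mul _ _ _ _ _) (trivDiff_const _ _ _ _ _)
  rw [← hg]
  congr 1
  refine evT_ext_of_res (hUi i) h fun b => ?_
  rw [evT_res, evT_diffCoch hUi τ, hg, trivDiff_res _ _ (hUi i) _ _ hW h]

lemma dCoch_diffCoch : dCoch (X := X.toTopCat) U _ 1 (diffCoch hUi τ) = 0 := by
  funext i
  refine evT_ext (hUi i) fun a => ?_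
  refine (evT_dCoch (diffCoch hUi τ) i a).trans ?_
  refine Eq.trans ?_ (evT_zero_left (x := x) a).symm
  simp only [evT_res_diffCoch hUi τ (hUi i)]
  refine (Fin.sum_univ_three _).trans ?_
  change ((-1 : ℤ) ^ 0) • trivDiff (τ (i 1)) (τ (i 2)) (hUi i) (inter_le U i 1) (inter_le U i 2) a +
    ((-1 : ℤ) ^ 1) • trivDiff (τ (i 0)) (τ (i 2)) (hUi i) (inter_le U i 0) (inter_le U i 2) a +
    ((-1 : ℤ) ^ 2) • trivDiff (τ (i 0)) (τ (i 1)) (hUi i) (inter_le U i 0) (inter_le U i 1) a = 0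
  rw [trivDiff_trans (τ (i 0)) (τ (i 1)) (τ (i 2)) (hUi i) (inter_le U i 0) (inter_le U i 1) (inter_le U i 2) a]
  simp only [pow_zero, pow_one, one_zsmul, neg_zsmul, neg_one_sq]
  ring

/-- The cocycle of differences. -/
def diffCocycle : Groth.PnCoh.Cocycle (X := X.toTopCat) U (Coh.toAb (tanSh x)).obj 1 :=
  ⟨diffCoch hUi τ, dCoch_diffCoch hUi τ⟩

end Cocycle

end Groth.SGA7Def
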