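import Groth.Agent.SGA7.DefSchGlue
import Groth.Agent.SGA7.DerOfAffine
import Groth.Agent.ArtfunDeform.ArtBasic

/-!
Automorphisms of deformations and global derivations.
-/

set_option linter.style.haveILetI false
set_option linter.style.longLine false
set_option linter.unusedSectionVars false

noncomputable section

universe u

open CategoryTheory AlgebraicGeometry Limits TopologicalSpace Opposite

namespace Groth.SGA7Def

open ArtFun Groth.ArtfunDeform

local notation "𝔪" => IsLocalRing.maximalIdeal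

variable {Λ k : Type u} [CommRing Λ] [Field k] [Algebra Λ k] {X : Scheme.{u}} {x : X ⟶ Art.specPt k} {A B : Art Λ k}

lemma bijective_i (ξ : DefSch X x A) : Function.Bijective ξ.i :=
  ⟨ξ.i.isClosedEmbedding.injective, (surjective_i ξ).surj⟩

/-- The open of the total space attached to an open of `X`. -/
def liftOpen (ξ : DefSch X x A) (W : X.Opens) : ξ.total.Opens :=
  ⟨(ξ.i '' (W : Set X)ᶜ)ᶜ, (ξ.i.isClosedEmbedding.isClosedMap _ W.2.isClosed_compl).isOpen_compl⟩

lemma preimage_liftOpen (ξ : DefSch X x A) (W : X.Opens) : ξ.i ⁻¹ᵁ liftOpen ξ W = W := by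
  ext z
  change ξ.i z ∉ ξ.i '' (W : Set X)ᶜ ↔ z ∈ W
  rw [(bijective_i ξ).1.mem_set_image]
  exact not_not

lemma isAffineOpen_liftOpen (ξ : DefSch X x A) {W : X.Opens} (hW : IsAffineOpen W) : IsAffineOpen (liftOpen ξ W) :=
  isAffineOpen_of_preimage ξ _ (by rwa [preimage_liftOpen])

lemma opens_le_of_preimage_le (ξ : DefSch X x A) {U U' : ξ.total.Opens} (h : ξ.i ⁻¹ᵁ U ≤ ξ.i ⁻¹ᵁ U') : U ≤ U' :=
  fun y hy => by
    obtain ⟨z, rfl⟩ := (bijective_i ξ).2 y
    exact h hy

lemma preimage_hom_self {ξ : DefSch X x A} (e : ξ.Iso ξ) (U : ξ.total.Opens) : e.iso.hom ⁻¹ᵁ U = U := by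
  ext y
  obtain ⟨z, rfl⟩ := (bijective_i ξ).2 y
  change e.iso.hom (ξ.i z) ∈ U ↔ ξ.i z ∈ U
  rw [← Scheme.Hom.comp_apply, e.i_hom]

section Small

variable {p : B ⟶ A} {ξ : DefSch X x B} (e : ξ.Iso ξ)

/-- The action of an automorphism on sections. -/
abbrev act (U : ξ.total.Opens) : Γ(ξ.total, U) ⟶ Γ(ξ.total, U) :=
  e.iso.hom.appLE U U (preimage_hom_self e U).ge

lemma act_res {U U' : ξ.total.Opens} (h : U' ≤ U) (z : Γ(ξ.total, U)) :
    act e U' (rs ξ.total h z) = rs ξ.total h (act e U z) := by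
  change ((ξ.total.presheaf.map (homOfLE h).op) ≫ e.iso.hom.appLE U' U' (preimage_hom_self e U').ge) z =
    (e.iso.hom.appLE U U (preimage_hom_self e U).ge ≫ ξ.total.presheaf.map (homOfLE h).op) z
  rw [Scheme.Hom.map_appLE, Scheme.Hom.appLE_map]

lemma act_strU (U : ξ.total.Opens) (b : B) : act e U (strU ξ U b) = strU ξ U b := by
  have h := strOf_comp ξ.f e.iso.hom U U (preimage_hom_self e U).ge
  rw [e.hom_f] at h
  exact congr($h b)

lemma i_act {U : ξ.total.Opens} {W : X.Opens} (hW : ξ.i ⁻¹ᵁ U = W) (z : Γ(ξ.total, U)) :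
    ξ.i.appLE U W hW.ge (act e U z) = ξ.i.appLE U W hW.ge z := by
  have h : act e U ≫ ξ.i.appLE U W hW.ge = ξ.i.appLE U W hW.ge := by
    rw [Scheme.Hom.appLE_comp_appLE, appLE_congr_hom e.i_hom]
  exact congr($h z)

variable (hfix : (SHom.fst p ξ).hom ≫ e.iso.hom = (SHom.fst p ξ).hom) {t : B}
  (ht : RingHom.ker p.toAlgHom = Ideal.span {t}) (htm : ∀ m ∈ 𝔪 B, m * t = 0) (hp : Function.Surjective p)

include hfix ht hp in
lemma exists_act_sub {U : ξ.total.Opens} (hU : IsAffineOpen U) (z : Γ(ξ.total, U)) :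
    ∃ d, act e U z - z = strU ξ U t * d := by
  let φ := SHom.fst p ξ
  let W := ξ.i ⁻¹ᵁ U
  letI := algW x W
  let m := φ.secMap hU (φ.isAffineOpen_preimage hU) le_rfl (rfl : ξ.i ⁻¹ᵁ U = W) (φ.preimage_i U)
  have h0 : m.hom (act e U z - z) = 0 := by
    change (φ.hom.appLE U (φ.hom ⁻¹ᵁ U) le_rfl).hom (act e U z - z) = 0
    rw [map_sub, sub_eq_zero]
    have h : act e U ≫ φ.hom.appLE U (φ.hom ⁻¹ᵁ U) le_rfl = φ.hom.appLE U (φ.hom ⁻¹ᵁ U) le_rfl := by
      rw [Scheme.Hom.appLE_comp_appLE, appLE_congr_hom hfix]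
    exact congr($h z)
  letI := (strU ξ U).hom.toAlgebra
  have h := m.mem_ker hp h0
  rw [ht, Submodule.ideal_span_singleton_smul, Submodule.mem_smul_pointwise_iff_exists] at h
  obtain ⟨d, -, hd⟩ := h
  exact ⟨d, hd.symm⟩

include htm in
lemma str_mul_eq_zero {U : ξ.total.Opens} (hU : IsAffineOpen U) {W : X.Opens} (hW : ξ.i ⁻¹ᵁ U = W)
    {z : Γ(ξ.total, U)} (hz : ξ.i.appLE U W hW.ge z = 0) : strU ξ U t * z = 0 := by
  letI := algW x W
  letI := (strU ξ U).hom.toAlgebra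
  exact ((secAlg ξ hU hW).smul_eq_of_π_eq htm (d := z) (e := 0) (hz.trans (map_zero _).symm)).trans (smul_zero _)

include htm in
lemma π_eq_zero {U : ξ.total.Opens} (hU : IsAffineOpen U) {W : X.Opens} (hW : ξ.i ⁻¹ᵁ U = W) (ht0 : t ≠ 0)
    {z : Γ(ξ.total, U)} (hz : strU ξ U t * z = 0) : ξ.i.appLE U W hW.ge z = 0 := by
  letI := algW x W
  exact (secAlg ξ hU hW).π_eq_zero_of_smul_eq_zero ht0 htm hz

include hfix ht hp htm in
lemma act_eq_self_of_π_eq_zero {U : ξ.total.Opens} (hU : IsAffineOpen U) {W : X.Opens} (hW : ξ.i ⁻¹ᵁ U = W)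
    {z : Γ(ξ.total, U)} (hz : ξ.i.appLE U W hW.ge z = 0) : act e U z = z := by
  letI := algW x W
  have h := ((secAlg ξ hU hW).π_eq_zero_iff z).1 hz
  clear hz
  induction h using Submodule.smul_induction_on' with
  | smul r hr w _ =>
    change act e U (strU ξ U r * w) = strU ξ U r * w
    rw [map_mul, act_strU]
    obtain ⟨d, hd⟩ := exists_act_sub e hfix ht hp hU w
    rw [sub_eq_iff_eq_add.1 hd, mul_add, ← mul_assoc, ← map_mul, htm r hr, map_zero, zero_mul, zero_add]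
  | add a _ b _ ha hb => exact (map_add _ a b).trans (congrArg₂ (· + ·) ha hb)

include hfix ht hp htm in
lemma existsUnique_delta (ht0 : t ≠ 0) {U : ξ.total.Opens} (hU : IsAffineOpen U) {W : X.Opens}
    (hW : ξ.i ⁻¹ᵁ U = W) (a : Γ(X, W)) :
    ∃! c : Γ(X, W), ∀ z d, ξ.i.appLE U W hW.ge z = a → act e U z - z = strU ξ U t * d →
      ξ.i.appLE U W hW.ge d = c := by
  letI := algW x W
  obtain ⟨z₀, hz₀⟩ := (secAlg ξ hU hW).π_surjective a
  replace hz₀ : ξ.i.appLE U W hW.ge z₀ = a := hz₀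
  obtain ⟨d₀, hd₀⟩ := exists_act_sub e hfix ht hp hU z₀
  refine ⟨ξ.i.appLE U W hW.ge d₀, fun z d hz hd => ?_, fun c hc => (hc z₀ d₀ hz₀ hd₀).symm⟩
  have h1 : act e U (z - z₀) = z - z₀ :=
    act_eq_self_of_π_eq_zero e hfix ht htm hp hU hW (by rw [map_sub, hz, hz₀, sub_self])
  rw [map_sub] at h1
  have h2 : strU ξ U t * (d - d₀) = 0 := by
    rw [mul_sub, ← hd, ← hd₀, sub_sub_sub_comm, h1, sub_self]
  have h3 := π_eq_zero htm hU hW ht0 h2
  rwa [map_sub, sub_eq_zero] at h3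

/-- The derivation attached to an automorphism trivial modulo `t`. -/
def delta (ht0 : t ≠ 0) (W : X.Opens) (hW : IsAffineOpen W) (a : Γ(X, W)) : Γ(X, W) :=
  (existsUnique_delta e hfix ht htm hp ht0 (isAffineOpen_liftOpen ξ hW) (preimage_liftOpen ξ W) a).choose

lemma delta_eq (ht0 : t ≠ 0) {W : X.Opens} (hW : IsAffineOpen W) {z d : Γ(ξ.total, liftOpen ξ W)}
    (hd : act e (liftOpen ξ W) z - z = strU ξ (liftOpen ξ W) t * d) :
    delta e hfix ht htm hp ht0 W hW (ξ.i.appLE (liftOpen ξ W) W (preimage_liftOpen ξ W).ge z) =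
      ξ.i.appLE (liftOpen ξ W) W (preimage_liftOpen ξ W).ge d :=
  ((existsUnique_delta e hfix ht htm hp ht0 (isAffineOpen_liftOpen ξ hW) (preimage_liftOpen ξ W) _).choose_spec.1 z d rfl hd).symm

end Small

section SmallDer

variable {A B : Art k k} {p : B ⟶ A} {ξ : DefSch X x B} (e : ξ.Iso ξ)
variable (hfix : (SHom.fst p ξ).hom ≫ e.iso.hom = (SHom.fst p ξ).hom) {t : B}
  (ht : RingHom.ker p.toAlgHom = Ideal.span {t}) (htm : ∀ m ∈ 𝔪 B, m * t = 0) (hp : Function.Surjective p)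

include hfix ht hp htm in
theorem exists_der_of_aut (ht0 : t ≠ 0) : ∃ D : OmegaSh.Der x (Coh.structureModule X),
    ∀ (W : X.Opens) (hW : IsAffineOpen W) (z d : Γ(ξ.total, liftOpen ξ W)),
      act e (liftOpen ξ W) z - z = strU ξ (liftOpen ξ W) t * d →
      OmegaSh.fnSect X W (D.app W (ξ.i.appLE (liftOpen ξ W) W (preimage_liftOpen ξ W).ge z)) =
        ξ.i.appLE (liftOpen ξ W) W (preimage_liftOpen ξ W).ge d := by
  have key : ∀ (W : X.Opens) (hW : IsAffineOpen W) (a : Γ(X, W)), ∃ z d,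
      ξ.i.appLE (liftOpen ξ W) W (preimage_liftOpen ξ W).ge z = a ∧
        act e (liftOpen ξ W) z - z = strU ξ (liftOpen ξ W) t * d := fun W hW a => by
    letI := algW x W
    obtain ⟨z, hz⟩ := (secAlg ξ (isAffineOpen_liftOpen ξ hW) (preimage_liftOpen ξ W)).π_surjective a
    obtain ⟨d, hd⟩ := exists_act_sub e hfix ht hp (isAffineOpen_liftOpen ξ hW) z
    exact ⟨z, d, hz, hd⟩
  have hde := @fun W hW z d => delta_eq e hfix ht htm hp ht0 (W := W) hW (z := z) (d := d)
  obtain ⟨D, hD⟩ := exists_der x (fun W hW => AddMonoidHom.mk' (delta e hfix ht htm hp ht0 W hW) fun a b => by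
      obtain ⟨z, d, rfl, hd⟩ := key W hW a
      obtain ⟨z', d', rfl, hd'⟩ := key W hW b
      rw [← map_add, hde W hW (z + z') (d + d') (by rw [map_add, mul_add, ← hd, ← hd']; abel),
        hde W hW z d hd, hde W hW z' d' hd', map_add])
    (fun W W' hW hW' h a => by
      obtain ⟨z, d, rfl, hd⟩ := key W hW a
      have hle : liftOpen ξ W' ≤ liftOpen ξ W :=
        opens_le_of_preimage_le ξ (by rw [preimage_liftOpen, preimage_liftOpen]; exact h)
      have hc : ∀ w, rs X h (ξ.i.appLE (liftOpen ξ W) W (preimage_liftOpen ξ W).ge w) =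
          ξ.i.appLE (liftOpen ξ W') W' (preimage_liftOpen ξ W').ge (rs ξ.total hle w) := fun w => by
        change (ξ.i.appLE _ _ _ ≫ X.presheaf.map (homOfLE h).op) w = (ξ.total.presheaf.map (homOfLE hle).op ≫ ξ.i.appLE _ _ _) w
        rw [Scheme.Hom.appLE_map, Scheme.Hom.map_appLE]
      change rs X h (delta e hfix ht htm hp ht0 W hW _) = delta e hfix ht htm hp ht0 W' hW' _
      rw [hde W hW z d hd, hc, hc, hde W' hW' _ (rs ξ.total hle d)]
      rw [act_res, ← map_sub, hd, map_mul]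
      congr 1
      change (strOf ξ.f _ ≫ ξ.total.presheaf.map (homOfLE hle).op) t = _
      rw [strOf, Category.assoc, Scheme.Hom.appLE_map]
      rfl)
    (fun W hW a b => by
      obtain ⟨z, d, rfl, hd⟩ := key W hW a
      obtain ⟨z', d', rfl, hd'⟩ := key W hW b
      change delta e hfix ht htm hp ht0 W hW _ = _ * delta e hfix ht htm hp ht0 W hW _ + _ * delta e hfix ht htm hp ht0 W hW _
      rw [← map_mul, hde W hW (z * z') (act e (liftOpen ξ W) z * d' + z' * d)
          (by rw [map_mul, mul_add, mul_left_comm, ← hd', mul_left_comm, ← hd]; ring),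
        hde W hW z d hd, hde W hW z' d' hd', map_add, map_mul, map_mul, i_act e (preimage_liftOpen ξ W)])
    (fun W hW c => by
      have hz : ξ.i.appLE (liftOpen ξ W) W (preimage_liftOpen ξ W).ge (strU ξ (liftOpen ξ W) (algebraMap k B c)) =
          strOf x W c := by
        have h := strOf_comp ξ.f ξ.i (liftOpen ξ W) W (preimage_liftOpen ξ W).ge
        rw [ξ.i_f, strOf_specMap] at h
        exact (congr($h (algebraMap k B c))).trans (congrArg (strOf x W) (B.res.commutes c))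
      change delta e hfix ht htm hp ht0 W hW _ = 0
      rw [← hz, hde W hW _ 0 (by rw [act_strU, sub_self, mul_zero]), map_zero])
  refine ⟨D, fun W hW z d hd => ?_⟩
  rw [hD W hW]
  exact hde W hW z d hd

end SmallDer

end Groth.SGA7Def
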