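import Groth.Agent.SGA7.Inertia

/-! Valuation subrings stable under the Galois group: valuations and residues of `σ y / y`. -/

set_option autoImplicit false

namespace Groth.SGA7.StableVal

open IsLocalRing Groth.SGA7.Inertia
open _root_.SGA7 (IsInertia)

universe u

variable {K Ω : Type u} [Field K] [Field Ω] [Algebra K Ω] [Algebra.IsSeparable K Ω] {W : ValuationSubring Ω}
  (hst : ∀ (σ : Ω ≃ₐ[K] Ω) (x : Ω), x ∈ W → σ x ∈ W)

include hst

theorem val_lt_one (g : Ω ≃ₐ[K] Ω) {x : Ω} (hx : W.valuation x < 1) : W.valuation (g x) < 1 := by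
  rcases eq_or_ne x 0 with rfl | h0
  · simp
  have h0' : g x ≠ 0 := by simpa using h0
  by_contra h
  rw [not_lt, ← inv_le_one₀ (zero_lt_iff.mpr ((Valuation.ne_zero_iff _).mpr h0')), ← map_inv₀,
    ValuationSubring.valuation_le_one_iff] at h
  have := hst g.symm _ h
  rw [map_inv₀, AlgEquiv.symm_apply_apply, ← ValuationSubring.valuation_le_one_iff, map_inv₀,
    inv_le_one₀ (zero_lt_iff.mpr ((Valuation.ne_zero_iff _).mpr h0))] at this
  exact absurd hx (not_lt.mpr this)

theorem val_lt (g : Ω ≃ₐ[K] Ω) {a b : Ω} (h : W.valuation a < W.valuation b) :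
    W.valuation (g a) < W.valuation (g b) := by
  have hb : b ≠ 0 := by rintro rfl; simp at h
  have hb' : g b ≠ 0 := by simpa using hb
  have h1 : W.valuation (a / b) < 1 := by
    rw [map_div₀, div_lt_one₀ (zero_lt_iff.mpr ((Valuation.ne_zero_iff _).mpr hb))]; exact h
  have h2 := val_lt_one hst g h1
  rwa [map_div₀, map_div₀, div_lt_one₀ (zero_lt_iff.mpr ((Valuation.ne_zero_iff _).mpr hb'))] at h2

theorem val_eq (g : Ω ≃ₐ[K] Ω) (y : Ω) : W.valuation (g y) = W.valuation y := by
  classical
  rcases eq_or_ne y 0 with rfl | h0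
  · simp
  have hfin : (Set.range fun t : ℕ => g^[t] y).Finite := by
    refine ((minpoly K y).rootSet_finite Ω).subset ?_
    rintro _ ⟨t, rfl⟩
    rw [Polynomial.mem_rootSet_of_ne (minpoly.ne_zero (Algebra.IsIntegral.isIntegral y))]
    induction t with
    | zero => exact minpoly.aeval K y
    | succ t ih =>
      simp only [Function.iterate_succ_apply'] at ih ⊢
      rw [← AlgEquiv.coe_toAlgHom g, Polynomial.aeval_algHom_apply]
      exact (congrArg g ih).trans (map_zero _)
  obtain ⟨d, hd0, hd⟩ : ∃ d : ℕ, 0 < d ∧ g^[d] y = y := by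
    obtain ⟨a, -, b, -, hab, he⟩ := Set.infinite_univ.exists_ne_map_eq_of_mapsTo
      (f := fun t : ℕ => g^[t] y) (fun t _ => Set.mem_range_self t) hfin
    rcases hab.lt_or_gt with h | h
    · refine ⟨b - a, by omega, (g.injective.iterate a) ?_⟩
      rw [← Function.iterate_add_apply, show a + (b - a) = b by omega, ← he]
    · refine ⟨a - b, by omega, (g.injective.iterate b) ?_⟩
      rw [← Function.iterate_add_apply, show b + (a - b) = a by omega, he]
  rcases lt_trichotomy (W.valuation (g y)) (W.valuation y) with h | h | h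
  · have key : ∀ t, 0 < t → W.valuation (g^[t] y) < W.valuation y := by
      intro t ht
      induction t with
      | zero => omega
      | succ t ih =>
        rcases Nat.eq_zero_or_pos t with rfl | ht'
        · simpa using h
        · rw [Function.iterate_succ_apply']; exact (val_lt hst g (ih ht')).trans h
    exact absurd (key d hd0) (by rw [hd]; exact lt_irrefl _)
  · exact h
  · have key : ∀ t, 0 < t → W.valuation y < W.valuation (g^[t] y) := by
      intro t ht
      induction t with
      | zero => omega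
      | succ t ih =>
        rcases Nat.eq_zero_or_pos t with rfl | ht'
        · simpa using h
        · rw [Function.iterate_succ_apply']; exact h.trans (val_lt hst g (ih ht'))
    exact absurd (key d hd0) (by rw [hd]; exact lt_irrefl _)

theorem val_div {σ : Ω ≃ₐ[K] Ω} {y : Ω} (hy : y ≠ 0) : W.valuation (σ y / y) = 1 := by
  rw [map_div₀, val_eq hst σ y, div_self ((Valuation.ne_zero_iff _).mpr hy)]

theorem res_div_mul {σ τ : Ω ≃ₐ[K] Ω} (hσ : IsInertia W σ) {y : Ω} (hy : y ≠ 0) :
    res W ((σ * τ) y / y) = res W (τ y / y) * res W (σ y / y) := by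
  have hm : τ y / y ∈ W := mem_of_val_eq_one (val_div hst hy)
  have hσy : σ y ≠ 0 := by simpa using hy
  have e : (σ * τ) y / y = σ (τ y / y) * (σ y / y) := by
    rw [map_div₀, AlgEquiv.mul_apply]; field_simp
  rw [e, res_mul (hσ _ hm).1 (mem_of_val_eq_one (val_div hst hy)), res_inertia hσ hm]

theorem res_div_pow {σ : Ω ≃ₐ[K] Ω} (hσ : IsInertia W σ) {y : Ω} (hy : y ≠ 0) (k : ℕ) :
    res W ((σ ^ k) y / y) = res W (σ y / y) ^ k := by
  induction k with
  | zero => simp [hy, res_one]
  | succ k ih => rw [pow_succ' σ k, res_div_mul hst hσ hy, ih, pow_succ]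

/-- A wild element of order prime to the residue characteristic is trivial. -/
theorem fix_of_wild {τ : Ω ≃ₐ[K] Ω} {N : ℕ} (hN : res W (N : Ω) ≠ 0) (L : IntermediateField K Ω)
    (hL : ∀ x ∈ L, τ x ∈ L) (hpow : ∀ x ∈ L, (τ ^ N) x = x)
    (hw : ∀ x ∈ L, x ≠ 0 → res W (τ x / x) = 1) {x : Ω} (hx : x ∈ L) : τ x = x := by
  have hNW : ∀ k : ℕ, (k : Ω) ∈ W := fun k => natCast_mem W k
  have hN0 : (N : Ω) ≠ 0 := fun h => hN (by rw [h, res_of_mem W.zero_mem]; exact map_zero _)
  have hLt : ∀ (k : ℕ) y, y ∈ L → (τ ^ k) y ∈ L := by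
    intro k
    induction k with
    | zero => intro y hy; simpa
    | succ k ih => intro y hy; rw [pow_succ', AlgEquiv.mul_apply]; exact hL _ (ih y hy)
  set S := ∑ i ∈ Finset.range N, (τ ^ i) x with hS
  have hτS : τ S = S := by
    rw [hS, map_sum]
    simp only [← AlgEquiv.mul_apply, ← pow_succ']
    have h1 := Finset.sum_range_succ' (fun i => (τ ^ i) x) N
    rw [Finset.sum_range_succ, hpow x hx] at h1
    simpa using h1.symm
  set z := (N : Ω) * x - S with hz
  have hzL : z ∈ L := L.sub_mem (L.mul_mem (natCast_mem L N) hx) (L.sum_mem fun i _ => hLt i x hx)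
  rcases eq_or_ne z 0 with h0 | h0
  · rw [hz, sub_eq_zero] at h0
    have := congrArg τ h0
    rw [map_mul, map_natCast, hτS, ← h0] at this
    exact mul_left_cancel₀ hN0 this
  exfalso
  have hτi : ∀ i, (τ ^ i) S = S := by
    intro i
    induction i with
    | zero => simp
    | succ i ih => rw [pow_succ', AlgEquiv.mul_apply, ih, hτS]
  have hsum : ∑ i ∈ Finset.range N, (τ ^ i) z = 0 := by
    simp only [hz, map_sub, map_mul, map_natCast, Finset.sum_sub_distrib, hτi, ← Finset.mul_sum, ← hS,
      Finset.sum_const, Finset.card_range, nsmul_eq_mul, sub_self]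
  have hmem : ∀ i, (τ ^ i) z / z ∈ W := fun i => mem_of_val_eq_one (val_div hst h0)
  have hres : ∀ i, res W ((τ ^ i) z / z) = 1 := by
    intro i
    induction i with
    | zero => simp [h0, res_one]
    | succ i ih =>
      set y := (τ ^ i) z
      have hy0 : y ≠ 0 := fun h => h0 ((τ ^ i).injective (h.trans (map_zero _).symm))
      have e : (τ ^ (i + 1)) z / z = τ y / y * (y / z) := by
        rw [pow_succ', AlgEquiv.mul_apply, div_mul_div_cancel₀ hy0]
      rw [e, res_mul (mem_of_val_eq_one (val_div hst hy0)) (hmem i), ih, hw y (hLt i z hzL) hy0, mul_one]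
  have h1 : ∀ k, res W (∑ i ∈ Finset.range k, (τ ^ i) z / z) = res W (k : Ω) := by
    intro k
    have hm : ∀ k, ∑ i ∈ Finset.range k, (τ ^ i) z / z ∈ W := fun k => sum_mem fun i _ => hmem i
    rw [res_eq_iff (hm k) (hNW k), show (k : Ω) = ∑ _i ∈ Finset.range k, (1 : Ω) by simp, ← Finset.sum_sub_distrib]
    refine Valuation.map_sum_lt _ one_ne_zero fun i _ => ?_
    exact (res_eq_iff (hmem i) W.one_mem).mp ((hres i).trans res_one.symm)
  apply hN
  rw [← h1 N, ← Finset.sum_div, hsum, zero_div, res_of_mem W.zero_mem]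
  exact map_zero _

end Groth.SGA7.StableVal
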