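import Groth.Agent.SGA7.DefSchCond
import Groth.Agent.SGA7.DefTangentFin
import Groth.Agent.SGA7.RigidAut

/-!
The tangent space of the deformation functor of a scheme mapped to the normal modules modulo
coboundaries of affine pieces.
-/

set_option linter.style.haveILetI false
set_option linter.style.longLine false
set_option linter.unusedSectionVars false

noncomputable section

universe u

open CategoryTheory AlgebraicGeometry TopologicalSpace Opposite

namespace Groth.SGA7Def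

open ArtFun Groth.ArtfunDeform

local notation "𝔪" => IsLocalRing.maximalIdeal

variable {Λ k : Type u} [CommRing Λ] [Field k] [Algebra Λ k]
variable {X : Scheme.{u}} {x : X ⟶ Art.specPt k}

/-- `ε`. -/
def dEps : Art.dual Λ k := (DualNumber.eps : DualNumber k)

/-- `k → k[ε]`. -/
def dC : k →+* Art.dual Λ k := TrivSqZeroExt.inlHom k k

/-- `ε₁`. -/
def dEps₁ : Art.dual2 Λ k := (TrivSqZeroExt.inr (1, 0) : TrivSqZeroExt k (k × k))

/-- `ε₂`. -/
def dEps₂ : Art.dual2 Λ k := (TrivSqZeroExt.inr (0, 1) : TrivSqZeroExt k (k × k))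

/-- `k → k[ε₁, ε₂]`. -/
def dC2 : k →+* Art.dual2 Λ k := TrivSqZeroExt.inlHom k (k × k)

lemma res_dEps : (Art.dual Λ k).res (dEps (Λ := Λ) (k := k)) = 0 := rfl

lemma res_dC (c : k) : (Art.dual Λ k).res (dC (Λ := Λ) c) = c := rfl

lemma res_dC2 (c : k) : (Art.dual2 Λ k).res (dC2 (Λ := Λ) c) = c := rfl

lemma dEps_ne_zero : (dEps : Art.dual Λ k) ≠ 0 :=
  fun h => one_ne_zero (α := k) (congrArg (fun m : DualNumber k => TrivSqZeroExt.snd m) h)

lemma dEps_mul_self : (dEps : Art.dual Λ k) * dEps = 0 := DualNumber.eps_mul_eps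

lemma mul_dEps_of_mem {m : Art.dual Λ k} (h : m ∈ 𝔪 (Art.dual Λ k)) : m * dEps = 0 :=
  mul_eps_of_fst (((Art.dual Λ k).mem_maximalIdeal_iff m).1 h)

lemma maximalIdeal_le_span_dEps : 𝔪 (Art.dual Λ k) ≤ Ideal.span {dEps} := fun m h => by
  have h0 : TrivSqZeroExt.fst (show DualNumber k from m) = 0 := ((Art.dual Λ k).mem_maximalIdeal_iff m).1 h
  refine Ideal.mem_span_singleton'.2 ⟨TrivSqZeroExt.inl (show DualNumber k from m).snd, ?_⟩
  exact inl_snd_mul_eps h0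

lemma tsze2_decomp (m : TrivSqZeroExt k (k × k)) (h : m.fst = 0) :
    TrivSqZeroExt.inl m.snd.1 * TrivSqZeroExt.inr ((1, 0) : k × k) +
      TrivSqZeroExt.inl m.snd.2 * TrivSqZeroExt.inr ((0, 1) : k × k) = m :=
  TrivSqZeroExt.ext (by simp [h]) (by simp)

lemma maximalIdeal_le_span_dEps₂ : 𝔪 (Art.dual2 Λ k) ≤ Ideal.span {dEps₁, dEps₂} := fun m h =>
  Ideal.mem_span_pair.2 ⟨TrivSqZeroExt.inl (show TrivSqZeroExt k (k × k) from m).snd.1,
    TrivSqZeroExt.inl (show TrivSqZeroExt k (k × k) from m).snd.2,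
    tsze2_decomp m (((Art.dual2 Λ k).mem_maximalIdeal_iff m).1 h)⟩

/-! ### Lifts of presentations. -/

section Eta

variable {n : ℕ} {A A' : Art Λ k}

/-- Sections of a deformation over the lifted open. -/
abbrev secL (ξ : DefSch X x A) (W : X.Opens) : CommRingCat.{u} := Γ(ξ.total, liftOpen ξ W)

/-- Reduction. -/
def redL (ξ : DefSch X x A) (W : X.Opens) : secL ξ W →+* Γ(X, W) :=
  (ξ.i.appLE (liftOpen ξ W) W (preimage_liftOpen ξ W).ge).hom

/-- The structure map. -/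
def strL (ξ : DefSch X x A) (W : X.Opens) : A →+* secL ξ W := (strU ξ (liftOpen ξ W)).hom

lemma redL_strL (ξ : DefSch X x A) (W : X.Opens) (a : A) : redL ξ W (strL ξ W a) = strOf x W (A.res a) := by
  have h := strOf_comp ξ.f ξ.i (liftOpen ξ W) W (preimage_liftOpen ξ W).ge
  rw [ξ.i_f, strOf_specMap] at h
  exact congr($h a)

lemma redL_surjective (ξ : DefSch X x A) {W : X.Opens} (hW : IsAffineOpen W) : Function.Surjective (redL ξ W) :=
  letI := algW x W
  (secAlg ξ (isAffineOpen_liftOpen ξ hW) (preimage_liftOpen ξ W)).π_surjective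

lemma exists_sum_of_redL_eq_zero {ξ : DefSch X x A} {W : X.Opens} (hW : IsAffineOpen W) {z : secL ξ W}
    (hz : redL ξ W z = 0) {s : Set A} (hs : 𝔪 A ≤ Ideal.span s) : z ∈ Ideal.span (strL ξ W '' s) := by
  letI := algW x W
  have h := RingHom.mem_ker.2 hz
  rw [show RingHom.ker (redL ξ W) = _ from (secAlg ξ (isAffineOpen_liftOpen ξ hW) (preimage_liftOpen ξ W)).ker_π] at h
  rw [← Ideal.map_span]
  exact Ideal.map_mono hs h

lemma strL_mul_eq_zero {ξ : DefSch X x A} {W : X.Opens} (hW : IsAffineOpen W) {t : A}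
    (htm : ∀ m ∈ 𝔪 A, m * t = 0) {z : secL ξ W} (hz : redL ξ W z = 0) : strL ξ W t * z = 0 :=
  str_mul_eq_zero htm (isAffineOpen_liftOpen ξ hW) (preimage_liftOpen ξ W) hz

lemma exists_eps_mul {ξ : DefSch X x (Art.dual Λ k)} {W : X.Opens} (hW : IsAffineOpen W) {z : secL ξ W}
    (hz : redL ξ W z = 0) : ∃ d, z = strL ξ W dEps * d := by
  have h := exists_sum_of_redL_eq_zero hW hz maximalIdeal_le_span_dEps
  rw [Set.image_singleton] at h
  obtain ⟨d, hd⟩ := Ideal.mem_span_singleton'.1 h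
  exact ⟨d, hd.symm.trans (mul_comm _ _)⟩

lemma exists_eps_mul₂ {ξ : DefSch X x (Art.dual2 Λ k)} {W : X.Opens} (hW : IsAffineOpen W) {z : secL ξ W}
    (hz : redL ξ W z = 0) : ∃ d₁ d₂, z = strL ξ W dEps₁ * d₁ + strL ξ W dEps₂ * d₂ := by
  have h := exists_sum_of_redL_eq_zero hW hz maximalIdeal_le_span_dEps₂
  rw [Set.image_pair] at h
  obtain ⟨a, b, hab⟩ := Ideal.mem_span_pair.1 h
  exact ⟨a, b, by rw [← hab]; ring⟩

lemma eps_mul_congr {ξ : DefSch X x (Art.dual Λ k)} {W : X.Opens} (hW : IsAffineOpen W) {d e : secL ξ W}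
    (h : redL ξ W d = redL ξ W e) : strL ξ W dEps * d = strL ξ W dEps * e := by
  rw [← sub_eq_zero, ← mul_sub]
  exact strL_mul_eq_zero hW (fun m hm => mul_dEps_of_mem hm) (by rw [map_sub, h, sub_self])

lemma redL_eq_of_eps_mul {ξ : DefSch X x (Art.dual Λ k)} {W : X.Opens} (hW : IsAffineOpen W) {d e : secL ξ W}
    (h : strL ξ W dEps * d = strL ξ W dEps * e) : redL ξ W d = redL ξ W e := by
  rw [← sub_eq_zero, ← map_sub]
  exact π_eq_zero (fun m hm => mul_dEps_of_mem hm) (isAffineOpen_liftOpen ξ hW) (preimage_liftOpen ξ W) dEps_ne_zero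
    (by rw [mul_sub]; exact sub_eq_zero.2 h)

/-- `η` lifts the presentation `q`. -/
structure IsEta (ξ : DefSch X x A) (cA : k →+* A) (W : X.Opens)
    (q : MvPolynomial (Fin n) k →+* Γ(X, W)) (η : MvPolynomial (Fin n) k →+* secL ξ W) : Prop where
  map_C : ∀ c, η (MvPolynomial.C c) = strL ξ W (cA c)
  red : ∀ f, redL ξ W (η f) = q f

variable {cA : k →+* A} {cA' : k →+* A'} {W : X.Opens} {q : MvPolynomial (Fin n) k →+* Γ(X, W)}

lemma isEta_eval₂ (ξ : DefSch X x A) (hc : ∀ c, A.res (cA c) = c) (hq : ∀ c, q (MvPolynomial.C c) = strOf x W c)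
    (y : Fin n → secL ξ W) (hy : ∀ i, redL ξ W (y i) = q (MvPolynomial.X i)) :
    IsEta ξ cA W q (MvPolynomial.eval₂Hom ((strL ξ W).comp cA) y) where
  map_C c := MvPolynomial.eval₂Hom_C _ _ c
  red f := by
    refine RingHom.congr_fun (MvPolynomial.ringHom_ext (f := (redL ξ W).comp _) (g := q) (fun c => ?_) fun i => ?_) f
    · rw [RingHom.comp_apply, MvPolynomial.eval₂Hom_C, RingHom.comp_apply, redL_strL, hc, hq]
    · rw [RingHom.comp_apply, MvPolynomial.eval₂Hom_X', hy]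

lemma exists_isEta (ξ : DefSch X x A) (hW : IsAffineOpen W) (hc : ∀ c, A.res (cA c) = c)
    (hq : ∀ c, q (MvPolynomial.C c) = strOf x W c) : ∃ η, IsEta ξ cA W q η :=
  ⟨_, isEta_eval₂ ξ hc hq (fun i => Function.surjInv (redL_surjective ξ hW) (q (MvPolynomial.X i)))
    fun i => Function.surjInv_eq _ _⟩

lemma liftOpen_le_preimage {g : A ⟶ A'} {ξ : DefSch X x A} {ξ' : DefSch X x A'} (φ : SHom g ξ ξ') {W W' : X.Opens}
    (h : W' ≤ W) : liftOpen ξ' W' ≤ φ.hom ⁻¹ᵁ liftOpen ξ W :=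
  opens_le_of_preimage_le ξ' (by rw [φ.preimage_i, preimage_liftOpen, preimage_liftOpen]; exact h)

/-- Morphisms of deformations on lifted opens. -/
def SHom.mapL {g : A ⟶ A'} {ξ : DefSch X x A} {ξ' : DefSch X x A'} (φ : SHom g ξ ξ') (W : X.Opens) :
    secL ξ W →+* secL ξ' W :=
  (φ.hom.appLE (liftOpen ξ W) (liftOpen ξ' W) (liftOpen_le_preimage φ le_rfl)).hom

lemma SHom.mapL_strL {g : A ⟶ A'} {ξ : DefSch X x A} {ξ' : DefSch X x A'} (φ : SHom g ξ ξ') (W : X.Opens) (a : A) :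
    φ.mapL W (strL ξ W a) = strL ξ' W (g a) := by
  have e1 : strU ξ (liftOpen ξ W) ≫ φ.hom.appLE _ _ (liftOpen_le_preimage φ le_rfl) =
      CommRingCat.ofHom g.toAlgHom.toRingHom ≫ strU ξ' (liftOpen ξ' W) := by
    rw [strU, strOf_comp, φ.hom_f]
    exact strOf_specMap _ _ _
  exact congr($e1 a)

lemma SHom.redL_mapL {g : A ⟶ A'} {ξ : DefSch X x A} {ξ' : DefSch X x A'} (φ : SHom g ξ ξ') (W : X.Opens)
    (z : secL ξ W) : redL ξ' W (φ.mapL W z) = redL ξ W z := by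
  have e2 : φ.hom.appLE (liftOpen ξ W) (liftOpen ξ' W) (liftOpen_le_preimage φ le_rfl) ≫
      ξ'.i.appLE (liftOpen ξ' W) W (preimage_liftOpen ξ' W).ge =
        ξ.i.appLE (liftOpen ξ W) W (preimage_liftOpen ξ W).ge := by
    rw [Scheme.Hom.appLE_comp_appLE, appLE_congr_hom φ.i_hom]
  exact congr($e2 z)

lemma IsEta.map {g : A ⟶ A'} {ξ : DefSch X x A} {ξ' : DefSch X x A'} (φ : SHom g ξ ξ') (hg : ∀ c, g (cA c) = cA' c)
    {η : MvPolynomial (Fin n) k →+* secL ξ W} (hη : IsEta ξ cA W q η) : IsEta ξ' cA' W q ((φ.mapL W).comp η) where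
  map_C c := by rw [RingHom.comp_apply, hη.map_C, φ.mapL_strL, hg]
  red f := by rw [RingHom.comp_apply, φ.redL_mapL, hη.red]

end Eta

/-! ### Normal vectors of first order deformations. -/

section Rep

variable {n : ℕ} {W : X.Opens}

/-- The normal vector `w` represents `ξ` on `W`. -/
def Rep (ξ : DefSch X x (Art.dual Λ k)) (W : X.Opens)
    (q : letI := algW x W; MvPolynomial (Fin n) k →ₐ[k] Γ(X, W)) (w : letI := algW x W; Nor q) : Prop :=
  letI := algW x W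
  ∃ η, IsEta ξ dC W q.toRingHom η ∧ ∀ (a : RingHom.ker q) (d : secL ξ W),
    redL ξ W d = w.1 a → η a.1 = strL ξ W dEps * d

variable {q : letI := algW x W; MvPolynomial (Fin n) k →ₐ[k] Γ(X, W)}

lemma map_C' (c : k) : (letI := algW x W; q (MvPolynomial.C c)) = strOf x W c :=
  letI := algW x W
  q.commutes c

lemma eta_mul_eq_zero {ξ : DefSch X x (Art.dual Λ k)} (hW : IsAffineOpen W) {z z' : secL ξ W}
    (hz : redL ξ W z = 0) (hz' : redL ξ W z' = 0) : z * z' = 0 := by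
  obtain ⟨d, rfl⟩ := exists_eps_mul hW hz
  obtain ⟨d', rfl⟩ := exists_eps_mul hW hz'
  rw [mul_mul_mul_comm, ← map_mul, dEps_mul_self, map_zero, zero_mul]

lemma exists_nor_of_isEta {ξ : DefSch X x (Art.dual Λ k)} (hW : IsAffineOpen W)
    {η : MvPolynomial (Fin n) k →+* secL ξ W}
    (hη : letI := algW x W; IsEta ξ dC W q.toRingHom η) :
    letI := algW x W
    ∃ w : Nor q, ∀ (a : RingHom.ker q) (d : secL ξ W), redL ξ W d = w.1 a → η a.1 = strL ξ W dEps * d := by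
  letI := algW x W
  choose dv hdv using fun a : RingHom.ker q => exists_eps_mul hW ((hη.red a.1).trans a.2)
  refine ⟨⟨fun a => redL ξ W (dv a), fun a b => ?_, fun g a => ?_⟩, fun a d h => (hdv a).trans (eps_mul_congr hW h.symm)⟩
  · rw [← map_add]
    refine redL_eq_of_eps_mul hW ?_
    rw [mul_add, ← hdv, ← hdv, ← hdv, Submodule.coe_add, map_add]
  · rw [← show redL ξ W (η g) = q g from hη.red g, ← map_mul]
    refine redL_eq_of_eps_mul hW ?_
    rw [← hdv, mul_left_comm, ← hdv, SetLike.val_smul, smul_eq_mul, map_mul]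

lemma exists_rep (ξ : DefSch X x (Art.dual Λ k)) (hW : IsAffineOpen W) : letI := algW x W; ∃ w : Nor q, Rep ξ W q w := by
  letI := algW x W
  obtain ⟨η, hη⟩ := exists_isEta (q := q.toRingHom) ξ hW res_dC map_C'
  obtain ⟨w, hw⟩ := exists_nor_of_isEta hW hη
  exact ⟨w, η, hη, hw⟩

lemma rep_sub_mem {ξ : DefSch X x (Art.dual Λ k)} (hW : IsAffineOpen W) {w w' : letI := algW x W; Nor q}
    (h : Rep ξ W q w) (h' : Rep ξ W q w') : letI := algW x W; w - w' ∈ LinearMap.range (cob q) := by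
  letI := algW x W
  obtain ⟨η, hη, hw⟩ := h
  obtain ⟨η', hη', hw'⟩ := h'
  letI : Algebra k (secL ξ W) := ((strL ξ W).comp (dC (Λ := Λ))).toAlgebra
  let ηa : MvPolynomial (Fin n) k →ₐ[k] secL ξ W := { η with commutes' := hη.map_C }
  let ηa' : MvPolynomial (Fin n) k →ₐ[k] secL ξ W := { η' with commutes' := hη'.map_C }
  have hd : ∀ f, redL ξ W (η f - η' f) = 0 := fun f => by rw [map_sub, hη.red, hη'.red, sub_self]
  have key := sub_eq_sum_pderiv ηa ηa' fun f g => eta_mul_eq_zero hW (hd f) (hd g)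
  choose δ hδ using fun i => exists_eps_mul hW (hd (MvPolynomial.X i))
  refine ⟨fun i => redL ξ W (δ i), Subtype.ext (funext fun a => ?_)⟩
  obtain ⟨d, hd1⟩ := redL_surjective ξ hW (w.1 a)
  obtain ⟨d', hd1'⟩ := redL_surjective ξ hW (w'.1 a)
  change ∑ i, q (MvPolynomial.pderiv i a.1) * redL ξ W (δ i) = w.1 a - w'.1 a
  rw [← hd1, ← hd1', ← map_sub, Finset.sum_congr rfl fun i _ =>
    show q (MvPolynomial.pderiv i a.1) * redL ξ W (δ i) = redL ξ W (η (MvPolynomial.pderiv i a.1) * δ i) by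
      rw [map_mul, hη.red]; rfl, ← map_sum]
  refine redL_eq_of_eps_mul hW ?_
  rw [mul_sub, ← hw a d hd1, ← hw' a d' hd1', Finset.mul_sum]
  refine Eq.trans ?_ (key a.1).symm
  refine Finset.sum_congr rfl fun i _ => ?_
  rw [show ηa (MvPolynomial.X i) - ηa' (MvPolynomial.X i) = _ from hδ i]
  change _ = η _ * _
  ring

lemma rep_add_cob {ξ : DefSch X x (Art.dual Λ k)} (hW : IsAffineOpen W) {w : letI := algW x W; Nor q}
    (v : Fin n → Γ(X, W)) (h : Rep ξ W q w) : letI := algW x W; Rep ξ W q (w + cob q v) := by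
  letI := algW x W
  obtain ⟨η, hη, hw⟩ := h
  choose δ hδ using fun i => redL_surjective ξ hW (v i)
  letI : Algebra k (secL ξ W) := ((strL ξ W).comp (dC (Λ := Λ))).toAlgebra
  let y : Fin n → secL ξ W := fun i => η (MvPolynomial.X i) + strL ξ W dEps * δ i
  have hη' := isEta_eval₂ (q := q.toRingHom) ξ (res_dC (Λ := Λ)) map_C' y fun i => by
    rw [map_add, map_mul, redL_strL, res_dEps, map_zero, zero_mul, add_zero, hη.red]
  refine ⟨_, hη', fun a d hd => ?_⟩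
  set η' := MvPolynomial.eval₂Hom ((strL ξ W).comp (dC (Λ := Λ))) y with hη'_def
  let ηa : MvPolynomial (Fin n) k →ₐ[k] secL ξ W := { η with commutes' := hη.map_C }
  let ηa' : MvPolynomial (Fin n) k →ₐ[k] secL ξ W := { η' with commutes' := hη'.map_C }
  have hd0 : ∀ f, redL ξ W (η' f - η f) = 0 := fun f => by rw [map_sub, hη.red, hη'.red, sub_self]
  have key := sub_eq_sum_pderiv ηa' ηa fun f g => eta_mul_eq_zero hW (hd0 f) (hd0 g)
  obtain ⟨d₀, hd₀⟩ := redL_surjective ξ hW (w.1 a)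
  have e : η' a.1 = strL ξ W dEps * (d₀ + ∑ i, η' (MvPolynomial.pderiv i a.1) * δ i) := by
    have k1 : η' a.1 - η a.1 = ∑ i, η' (MvPolynomial.pderiv i a.1) * (η' (MvPolynomial.X i) - η (MvPolynomial.X i)) :=
      key a.1
    rw [mul_add, ← hw a d₀ hd₀, Finset.mul_sum, ← sub_eq_iff_eq_add', k1]
    refine Finset.sum_congr rfl fun i _ => ?_
    rw [hη'_def, MvPolynomial.eval₂Hom_X', add_sub_cancel_left]
    ring
  refine e.trans (eps_mul_congr hW ?_)
  rw [map_add, map_sum, hd₀, hd]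
  change w.1 a + _ = w.1 a + ∑ i, q (MvPolynomial.pderiv i a.1) * v i
  refine congrArg _ (Finset.sum_congr rfl fun i _ => ?_)
  rw [map_mul, hη'.red, hδ]
  rfl

lemma Rep.map {ξ ξ' : DefSch X x (Art.dual Λ k)} (hW : IsAffineOpen W) (φ : SHom (𝟙 (Art.dual Λ k)) ξ ξ')
    {w : letI := algW x W; Nor q} (h : Rep ξ W q w) : Rep ξ' W q w := by
  letI := algW x W
  obtain ⟨η, hη, hw⟩ := h
  refine ⟨_, hη.map φ fun c => rfl, fun a d hd => ?_⟩
  obtain ⟨d₀, hd₀⟩ := redL_surjective ξ hW (w.1 a)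
  rw [RingHom.comp_apply, hw a d₀ hd₀, map_mul, φ.mapL_strL]
  exact eps_mul_congr hW ((φ.redL_mapL W d₀).trans (hd₀.trans hd.symm))

lemma Rep.scale {ξ ξ' : DefSch X x (Art.dual Λ k)} (hW : IsAffineOpen W) (c : k) (φ : SHom (Art.scale c) ξ ξ')
    {w : letI := algW x W; Nor q} (h : Rep ξ W q w) : letI := algW x W; Rep ξ' W q (strOf x W c • w) := by
  letI := algW x W
  obtain ⟨η, hη, hw⟩ := h
  refine ⟨_, hη.map (cA' := dC (Λ := Λ)) φ fun c' => ?_, fun a d hd => ?_⟩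
  · exact TrivSqZeroExt.ext rfl (map_zero (c • LinearMap.id : k →ₗ[k] k))
  · obtain ⟨d₀, hd₀⟩ := redL_surjective ξ hW (w.1 a)
    rw [RingHom.comp_apply, hw a d₀ hd₀, map_mul, φ.mapL_strL,
      show (ArtFun.Art.scale c : Art.dual Λ k ⟶ Art.dual Λ k) dEps = dC c * dEps from ?_, map_mul, mul_comm (strL ξ' W (dC c)), mul_assoc]
    · refine eps_mul_congr hW ?_
      rw [map_mul, redL_strL, res_dC, φ.redL_mapL, hd₀, hd]
      rfl
    · change (Art.tszeMap (c • LinearMap.id) : DualNumber k →ₐ[Λ] DualNumber k) (TrivSqZeroExt.inr 1) =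
        (TrivSqZeroExt.inl c : DualNumber k) * TrivSqZeroExt.inr 1
      exact (TrivSqZeroExt.ext rfl rfl : (Art.tszeMap (c • LinearMap.id) : DualNumber k →ₐ[Λ] DualNumber k)
        (TrivSqZeroExt.inr 1) = TrivSqZeroExt.inr (c • (1 : k))).trans (TrivSqZeroExt.inl_mul_inr c 1).symm

lemma exists_rep_dual2 {ξ : DefSch X x (Art.dual2 Λ k)} {ξ₁ ξ₂ ξ₃ : DefSch X x (Art.dual Λ k)} (hW : IsAffineOpen W)
    (φ₁ : SHom Art.pr₁ ξ ξ₁) (φ₂ : SHom Art.pr₂ ξ ξ₂) (φ₃ : SHom Art.plus ξ ξ₃) :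
    letI := algW x W
    ∃ w₁ w₂ : Nor q, Rep ξ₁ W q w₁ ∧ Rep ξ₂ W q w₂ ∧ Rep ξ₃ W q (w₁ + w₂) := by
  letI := algW x W
  obtain ⟨η, hη⟩ := exists_isEta (q := q.toRingHom) ξ hW res_dC2 map_C'
  have hC : ∀ l : k × k →ₗ[k] k, ∀ c : k, (Art.tszeMap l : TrivSqZeroExt k (k × k) →ₐ[Λ] DualNumber k)
      (TrivSqZeroExt.inl c) = TrivSqZeroExt.inl c := fun l c => TrivSqZeroExt.ext rfl (map_zero l)
  have hE : ∀ l : k × k →ₗ[k] k, ∀ v : k × k, (Art.tszeMap l : TrivSqZeroExt k (k × k) →ₐ[Λ] DualNumber k)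
      (TrivSqZeroExt.inr v) = TrivSqZeroExt.inr (l v) := fun l v => TrivSqZeroExt.ext rfl rfl
  have h1 := hη.map (cA' := dC (Λ := Λ)) φ₁ (fun c => hC _ c)
  have h2 := hη.map (cA' := dC (Λ := Λ)) φ₂ (fun c => hC _ c)
  have h3 := hη.map (cA' := dC (Λ := Λ)) φ₃ (fun c => hC _ c)
  have p1 : (ArtFun.Art.pr₁ : Art.dual2 Λ k ⟶ _) dEps₁ = dEps ∧ (ArtFun.Art.pr₁ : Art.dual2 Λ k ⟶ _) dEps₂ = 0 :=
    ⟨hE _ _, (hE _ _).trans (TrivSqZeroExt.inr_zero k)⟩
  have p2 : (ArtFun.Art.pr₂ : Art.dual2 Λ k ⟶ _) dEps₁ = 0 ∧ (ArtFun.Art.pr₂ : Art.dual2 Λ k ⟶ _) dEps₂ = dEps :=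
    ⟨(hE _ _).trans (TrivSqZeroExt.inr_zero k), hE _ _⟩
  have p3 : (ArtFun.Art.plus : Art.dual2 Λ k ⟶ _) dEps₁ = dEps ∧ (ArtFun.Art.plus : Art.dual2 Λ k ⟶ _) dEps₂ = dEps :=
    ⟨(hE _ _).trans (congrArg TrivSqZeroExt.inr (add_zero (1 : k))), (hE _ _).trans (congrArg TrivSqZeroExt.inr (zero_add (1 : k)))⟩
  obtain ⟨w₁, hw₁⟩ := exists_nor_of_isEta hW h1
  obtain ⟨w₂, hw₂⟩ := exists_nor_of_isEta hW h2
  refine ⟨w₁, w₂, ⟨_, h1, hw₁⟩, ⟨_, h2, hw₂⟩, _, h3, fun a d hd => ?_⟩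
  obtain ⟨d₁, d₂, e⟩ := exists_eps_mul₂ hW ((hη.red a.1).trans a.2)
  obtain ⟨u₁, hu₁⟩ := redL_surjective ξ₁ hW (w₁.1 a)
  obtain ⟨u₂, hu₂⟩ := redL_surjective ξ₂ hW (w₂.1 a)
  have e1 := hw₁ a u₁ hu₁
  have e2 := hw₂ a u₂ hu₂
  rw [RingHom.comp_apply, e, map_add, map_mul, map_mul, φ₁.mapL_strL, φ₁.mapL_strL, p1.1, p1.2, map_zero, zero_mul, add_zero] at e1
  rw [RingHom.comp_apply, e, map_add, map_mul, map_mul, φ₂.mapL_strL, φ₂.mapL_strL, p2.1, p2.2, map_zero, zero_mul, zero_add] at e2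
  have f1 := redL_eq_of_eps_mul hW e1
  have f2 := redL_eq_of_eps_mul hW e2
  rw [φ₁.redL_mapL, hu₁] at f1
  rw [φ₂.redL_mapL, hu₂] at f2
  rw [RingHom.comp_apply, e, map_add, map_mul, map_mul, φ₃.mapL_strL, φ₃.mapL_strL, p3.1, p3.2, ← mul_add]
  refine eps_mul_congr hW ?_
  rw [map_add, φ₃.redL_mapL, φ₃.redL_mapL, f1, f2, hd]
  rfl

end Rep

/-! ### The linear map. -/

section Theta

variable {ι : Type*} {n : ι → ℕ} {U : ι → X.Opens}
variable (q : ∀ j, letI := algW x (U j); MvPolynomial (Fin (n j)) k →ₐ[k] Γ(X, U j))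
variable (hU : ∀ j, IsAffineOpen (U j))

/-- The local group of first order deformations. -/
abbrev locT (j : ι) : Type u :=
  letI := algW x (U j)
  Nor (q j) ⧸ LinearMap.range (cob (q j))

instance (j : ι) : Module Γ(X, U j) (locT q j) :=
  letI := algW x (U j)
  inferInstanceAs (Module Γ(X, U j) (Nor (q j) ⧸ LinearMap.range (cob (q j))))

/-- Class of a normal vector. -/
def locCls (j : ι) : (letI := algW x (U j); Nor (q j)) →+ locT q j :=
  letI := algW x (U j)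
  (LinearMap.range (cob (q j))).mkQ.toAddMonoidHom

include hU in
lemma locCls_eq {j : ι} {ξ ξ' : DefSch X x (Art.dual Λ k)} (φ : SHom (𝟙 (Art.dual Λ k)) ξ ξ')
    {w w' : letI := algW x (U j); Nor (q j)} (h : Rep ξ (U j) (q j) w) (h' : Rep ξ' (U j) (q j) w') :
    locCls q j w = locCls q j w' := by
  letI := algW x (U j)
  exact (Submodule.Quotient.eq _).2 (rep_sub_mem (hU j) (h.map (hU j) φ) h')

variable [TangentStr (defFunctor (Λ := Λ) X x)]

/-- The map on tangent vectors, as a function. -/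
def thetaFun (t : TangentSpace (defFunctor (Λ := Λ) X x)) (j : ι) : locT q j :=
  locCls q j (exists_rep (q := q j) (exists_cl' (TangentSpace.val t)).choose (hU j)).choose

lemma thetaFun_eq {t : TangentSpace (defFunctor (Λ := Λ) X x)} {ξ : DefSch X x (Art.dual Λ k)}
    (ht : ξ.cl = TangentSpace.val t) {j : ι} {w : letI := algW x (U j); Nor (q j)} (h : Rep ξ (U j) (q j) w) :
    thetaFun q hU t j = locCls q j w := by
  letI := algW x (U j)
  obtain ⟨φ⟩ := cl_eq_iff'.1 (((exists_cl' (TangentSpace.val t)).choose_spec).trans ht.symm)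
  exact locCls_eq q hU φ (exists_rep (q := q j) _ (hU j)).choose_spec h

/-- The map `t_F → ∏ⱼ T¹(Uⱼ)`. -/
def theta : TangentSpace (defFunctor (Λ := Λ) X x) →+ ∀ j, locT q j :=
  AddMonoidHom.mk' (thetaFun q hU) fun t₁ t₂ => funext fun j => by
    letI := algW x (U j)
    haveI := (h0_sch (Λ := Λ) X x).2
    obtain ⟨z, hz⟩ := s1_sch (Λ := Λ) X x _ _ _ _ Art.isFibreProd_dual2 (Art.dual Λ k).res_surjective
      ⟨(TangentSpace.val t₁, TangentSpace.val t₂), Subsingleton.elim _ _⟩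
    obtain ⟨ξ, rfl⟩ := exists_cl' z
    have e1 : (ξ.baseChange Art.pr₁).cl = TangentSpace.val t₁ := congrArg (fun p => p.1.1) hz
    have e2 : (ξ.baseChange Art.pr₂).cl = TangentSpace.val t₂ := congrArg (fun p => p.1.2) hz
    have e3 : (ξ.baseChange Art.plus).cl = TangentSpace.val (t₁ + t₂) := by
      have h := TangentStr.add_eq (F := defFunctor (Λ := Λ) X x) ξ.cl
      rw [defFunctor_map_cl, defFunctor_map_cl, defFunctor_map_cl, e1, e2] at h
      exact h.symm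
    obtain ⟨w₁, w₂, h1, h2, h3⟩ :=
      exists_rep_dual2 (q := q j) (hU j) (SHom.fst Art.pr₁ ξ) (SHom.fst Art.pr₂ ξ) (SHom.fst Art.plus ξ)
    rw [Pi.add_apply, thetaFun_eq q hU e1 h1, thetaFun_eq q hU e2 h2, thetaFun_eq q hU e3 h3, map_add]

lemma theta_eq {t : TangentSpace (defFunctor (Λ := Λ) X x)} {ξ : DefSch X x (Art.dual Λ k)}
    (ht : ξ.cl = TangentSpace.val t) {j : ι} {w : letI := algW x (U j); Nor (q j)} (h : Rep ξ (U j) (q j) w) :
    theta q hU t j = locCls q j w :=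
  thetaFun_eq q hU ht h

lemma theta_smul (c : k) (t : TangentSpace (defFunctor (Λ := Λ) X x)) (j : ι) :
    theta q hU (c • t) j = strOf x (U j) c • theta q hU t j := by
  letI := algW x (U j)
  obtain ⟨ξ, hξ⟩ := exists_cl' (TangentSpace.val t)
  obtain ⟨w, hw⟩ := exists_rep (q := q j) ξ (hU j)
  have e : (ξ.baseChange (Art.scale c)).cl = TangentSpace.val (c • t) := by
    refine Eq.trans ?_ (TangentStr.smul_eq (F := defFunctor (Λ := Λ) X x) c (TangentSpace.val t)).symm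
    rw [← hξ]
    rfl
  rw [theta_eq q hU hξ hw, theta_eq q hU e (hw.scale (hU j) c (SHom.fst _ ξ))]
  rfl

lemma rep_zero_of_theta_eq_zero {t : TangentSpace (defFunctor (Λ := Λ) X x)} {ξ : DefSch X x (Art.dual Λ k)}
    (ht : ξ.cl = TangentSpace.val t) {j : ι} (h : theta q hU t j = 0) :
    letI := algW x (U j); Rep ξ (U j) (q j) 0 := by
  letI := algW x (U j)
  obtain ⟨w, hw⟩ := exists_rep (q := q j) ξ (hU j)
  rw [theta_eq q hU ht hw] at h
  obtain ⟨v, hv⟩ := (Submodule.Quotient.mk_eq_zero _).1 h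
  have := rep_add_cob (hU j) (-v) hw
  rwa [map_neg, hv, add_neg_cancel] at this

end Theta

end Groth.SGA7Def
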