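import Groth.Agent.VarietyBC.TensorAlgClosed
import Mathlib

/-! Units of a tensor product of domains over an algebraically closed field are products of units, pointwise. -/

open scoped TensorProduct

namespace Groth.SGA7.UnitProduct

universe u

variable {K : Type u} [Field K] [IsAlgClosed K]

/-- Evaluation of the second factor. -/
noncomputable def evalRight {R A : Type u} [CommRing R] [Algebra K R] [CommRing A] [Algebra K A] (ψ : A →ₐ[K] K) :
    R ⊗[K] A →ₐ[K] R :=
  (Algebra.TensorProduct.rid K K R).toAlgHom.comp (Algebra.TensorProduct.map (AlgHom.id K R) ψ)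

theorem evalRight_tmul {R A : Type u} [CommRing R] [Algebra K R] [CommRing A] [Algebra K A] (ψ : A →ₐ[K] K)
    (r : R) (a : A) : evalRight ψ (r ⊗ₜ[K] a) = ψ a • r := by
  simp [evalRight]

theorem evalRight_map {R R' A : Type u} [CommRing R] [Algebra K R] [CommRing R'] [Algebra K R'] [CommRing A]
    [Algebra K A] (g : R →ₐ[K] R') (ψ : A →ₐ[K] K) (x : R ⊗[K] A) :
    evalRight ψ (Algebra.TensorProduct.map g (AlgHom.id K A) x) = g (evalRight ψ x) := by
  induction x using TensorProduct.induction_on with
  | zero => simp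
  | tmul r a => simp [evalRight_tmul]
  | add x y hx hy => simp only [map_add, hx, hy]

theorem eval_pair {R A : Type u} [CommRing R] [Algebra K R] [CommRing A] [Algebra K A] (φ : R →ₐ[K] K)
    (ψ : A →ₐ[K] K) (x : R ⊗[K] A) :
    Algebra.TensorProduct.productMap φ ψ x = φ (evalRight ψ x) := by
  induction x using TensorProduct.induction_on with
  | zero => simp
  | tmul r a => simp [evalRight_tmul, mul_comm]
  | add x y hx hy => simp only [map_add, hx, hy]

/-- Every non-zero tensor is a scalar times a tensor with non-zero residue. -/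
theorem exists_normalize {F : Type u} [Field F] [Algebra K F] (V : ValuationSubring F) [Algebra K V]
    [IsScalarTower K V F] {A : Type u} [CommRing A] [Algebra K A] (x : F ⊗[K] A) (hx : x ≠ 0) :
    ∃ (c : F) (x' : V ⊗[K] A), c ≠ 0 ∧
      x = (c ⊗ₜ[K] (1 : A)) * Algebra.TensorProduct.map (IsScalarTower.toAlgHom K V F) (AlgHom.id K A) x' ∧
      Algebra.TensorProduct.map (IsScalarTower.toAlgHom K V (IsLocalRing.ResidueField V)) (AlgHom.id K A) x' ≠ 0 := by
  classical
  let b := Module.Free.chooseBasis K A
  obtain ⟨w, hw⟩ := TensorProduct.eq_repr_basis_right b x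
  have hne : w.support.Nonempty := by
    rw [Finsupp.support_nonempty_iff]
    rintro rfl
    exact hx (by rw [← hw]; simp)
  obtain ⟨i₀, hi₀, hmax⟩ := Finset.exists_max_image w.support (fun i => V.valuation (w i)) hne
  have hc : w i₀ ≠ 0 := Finsupp.mem_support_iff.mp hi₀
  have hmem : ∀ i, w i / w i₀ ∈ V := fun i => by
    rw [← V.valuation_le_one_iff, map_div₀, div_le_one₀ (zero_lt_iff.mpr ((Valuation.ne_zero_iff _).mpr hc))]
    by_cases hi : i ∈ w.support
    · exact hmax i hi
    · rw [Finsupp.notMem_support_iff.mp hi, map_zero]; exact zero_le'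
  let w' : _ → V := fun i => ⟨w i / w i₀, hmem i⟩
  refine ⟨w i₀, ∑ i ∈ w.support, w' i ⊗ₜ[K] b i, hc, ?_, ?_⟩
  · rw [map_sum, Finset.mul_sum, ← hw]
    refine Finset.sum_congr rfl fun i _ => ?_
    rw [Algebra.TensorProduct.map_tmul, Algebra.TensorProduct.tmul_mul_tmul, one_mul, AlgHom.id_apply]
    congr 1
    show w i = w i₀ * (w i / w i₀)
    field_simp
  · intro h0
    have h1 := congrArg (fun z => (Algebra.TensorProduct.basis (IsLocalRing.ResidueField V) b).repr
      (z : IsLocalRing.ResidueField V ⊗[K] A) i₀) h0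
    simp only [map_sum, Algebra.TensorProduct.map_tmul, AlgHom.id_apply, map_zero, Finsupp.zero_apply,
      Finsupp.finsetSum_apply, Algebra.TensorProduct.basis_repr_tmul, Finsupp.smul_apply,
      Finsupp.mapRange_apply, Module.Basis.repr_self, smul_eq_mul] at h1
    rw [Finset.sum_eq_single i₀ (fun i _ hne' => by simp [Finsupp.single_apply, hne'])
      (fun h => absurd hi₀ h)] at h1
    simp only [Finsupp.single_eq_same, map_one, mul_one] at h1
    rw [show w' i₀ = 1 from Subtype.ext (div_self hc)] at h1
    simp at h1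

theorem valuation_specialize {F : Type u} [Field F] [Algebra K F] (V : ValuationSubring F) [Algebra K V]
    [IsScalarTower K V F] {A : Type u} [CommRing A] [IsDomain A] [Algebra K A]
    (x y : F ⊗[K] A) (hxy : x * y = 1) :
    ∃ c : F, ∀ ψ : A →ₐ[K] K, V.valuation (evalRight ψ x) = V.valuation c := by
  classical
  have hAne : Nontrivial (F ⊗[K] A) := by
    refine ⟨1, 0, fun h => ?_⟩
    let b := Module.Free.chooseBasis K A
    have := Groth.VarietyBC.isDomain_tensor (k := K) (A := F) (B := A)
    exact one_ne_zero h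
  have hx : x ≠ 0 := fun h => zero_ne_one (by rw [← hxy, h, zero_mul])
  have hy : y ≠ 0 := fun h => zero_ne_one (by rw [← hxy, h, mul_zero])
  obtain ⟨c, x', hc, ex, hx'⟩ := exists_normalize V x hx
  obtain ⟨d, y', hd, ey, hy'⟩ := exists_normalize V y hy
  set ι := Algebra.TensorProduct.map (IsScalarTower.toAlgHom K V F) (AlgHom.id K A)
  set ρ := Algebra.TensorProduct.map (IsScalarTower.toAlgHom K V (IsLocalRing.ResidueField V)) (AlgHom.id K A)
  have hι : Function.Injective ι :=
    Module.Flat.rTensor_preserves_injective_linearMap (M := A) (IsScalarTower.toAlgHom K V F).toLinearMap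
      (fun a b h => Subtype.ext h)
  have hρ : ρ (x' * y') ≠ 0 := by
    have := Groth.VarietyBC.isDomain_tensor (k := K) (A := IsLocalRing.ResidueField V) (B := A)
    rw [map_mul]
    exact mul_ne_zero hx' hy'
  have e : ι (x' * y') = (c * d)⁻¹ ⊗ₜ[K] (1 : A) := by
    have h1 : ((c * d) ⊗ₜ[K] (1 : A)) * ι (x' * y') = 1 := by
      rw [map_mul, ← hxy, ex, ey]
      rw [show (c * d) ⊗ₜ[K] (1 : A) = (c ⊗ₜ[K] (1 : A)) * (d ⊗ₜ[K] (1 : A)) by
        rw [Algebra.TensorProduct.tmul_mul_tmul, one_mul]]
      ring
    calc ι (x' * y') = ((c * d)⁻¹ ⊗ₜ[K] (1 : A)) * (((c * d) ⊗ₜ[K] (1 : A)) * ι (x' * y')) := by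
          rw [← mul_assoc, Algebra.TensorProduct.tmul_mul_tmul, inv_mul_cancel₀ (mul_ne_zero hc hd), one_mul,
            ← Algebra.TensorProduct.one_def, one_mul]
      _ = _ := by rw [h1, mul_one]
  refine ⟨c, fun ψ => ?_⟩
  set p := evalRight ψ (x' * y')
  have hp : (p : F) = (c * d)⁻¹ := by
    have := evalRight_map (IsScalarTower.toAlgHom K V F) ψ (x' * y')
    rw [show Algebra.TensorProduct.map (IsScalarTower.toAlgHom K V F) (AlgHom.id K A) (x' * y') = ι (x' * y') from rfl,
      e, evalRight_tmul, map_one, one_smul] at this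
    exact this.symm
  have hpu : IsUnit p := by
    have hy0 : x' * y' = p ⊗ₜ[K] (1 : A) := hι (by
      rw [e]
      show _ = ι (p ⊗ₜ[K] (1 : A))
      rw [Algebra.TensorProduct.map_tmul, AlgHom.id_apply]
      show _ = (p : F) ⊗ₜ[K] (1 : A)
      rw [hp])
    by_contra hnu
    refine hρ ?_
    rw [hy0, Algebra.TensorProduct.map_tmul]
    rw [show (IsScalarTower.toAlgHom K V (IsLocalRing.ResidueField V)) p = 0 from
      (IsLocalRing.residue_eq_zero_iff p).mpr ((IsLocalRing.mem_maximalIdeal p).mpr hnu), TensorProduct.zero_tmul]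
  have hu : IsUnit (evalRight ψ x') := by
    have : IsUnit (evalRight ψ x' * evalRight ψ y') := by rw [← map_mul]; exact hpu
    exact isUnit_of_mul_isUnit_left this
  have hv : V.valuation ((evalRight ψ x' : V) : F) = 1 := (ValuationSubring.valuation_eq_one_iff V _).mp hu
  rw [ex, map_mul, map_mul, evalRight_map, evalRight_tmul, map_one, one_smul]
  show V.valuation c * V.valuation ((evalRight ψ x' : V) : F) = _
  rw [hv, mul_one]

/-- Units of `R ⊗ A` satisfy the cross relation on rational points. -/
theorem cross_relation {R A : Type u} [CommRing R] [IsDomain R] [Algebra K R] [CommRing A] [IsDomain A] [Algebra K A]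
    (w : (R ⊗[K] A)ˣ) (φ φ' : R →ₐ[K] K) (ψ ψ' : A →ₐ[K] K) :
    Algebra.TensorProduct.productMap φ ψ (w : R ⊗[K] A) * Algebra.TensorProduct.productMap φ' ψ' (w : R ⊗[K] A) =
      Algebra.TensorProduct.productMap φ ψ' (w : R ⊗[K] A) * Algebra.TensorProduct.productMap φ' ψ (w : R ⊗[K] A) := by
  classical
  let F := FractionRing R
  let g : R →ₐ[K] F := IsScalarTower.toAlgHom K R F
  let x : F ⊗[K] A := Algebra.TensorProduct.map g (AlgHom.id K A) w
  let y : F ⊗[K] A := Algebra.TensorProduct.map g (AlgHom.id K A) ↑w⁻¹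
  have hxy : x * y = 1 := by rw [← map_mul, Units.mul_inv, map_one]
  set f := evalRight ψ (w : R ⊗[K] A)
  set f' := evalRight ψ' (w : R ⊗[K] A)
  have hfu : IsUnit f := w.isUnit.map (evalRight ψ)
  have hf'u : IsUnit f' := w.isUnit.map (evalRight ψ')
  have hgf' : g f' ≠ 0 := (hf'u.map g).ne_zero
  have hint : IsIntegral K (g f / g f') := by
    have hmem : g f / g f' ∈ (integralClosure (Subring.closure (Set.range (algebraMap K F))) F).toSubring := by
      rw [← iInf_valuationSubring_superset]
      simp only [Subring.mem_iInf, Subtype.forall]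
      intro V hV
      let : Algebra K V := ((algebraMap K F).codRestrict V.toSubring fun a => hV ⟨a, rfl⟩).toAlgebra
      have : IsScalarTower K V F := IsScalarTower.of_algebraMap_eq fun _ => rfl
      obtain ⟨c, hcv⟩ := valuation_specialize V x y hxy
      have h1 := hcv ψ
      have h2 := hcv ψ'
      rw [evalRight_map] at h1 h2
      show g f / g f' ∈ V
      rw [← V.valuation_le_one_iff, map_div₀, h1, h2]
      exact div_self_le_one _
    have hcl : Subring.closure (Set.range (algebraMap K F)) = (algebraMap K F).range := by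
      rw [← RingHom.coe_range, Subring.closure_eq]
    rw [hcl] at hmem
    obtain ⟨P, hP, hP0⟩ := hmem
    obtain ⟨Q, hQ⟩ := Polynomial.map_surjective (algebraMap K F).rangeRestrict
      (algebraMap K F).rangeRestrict_surjective P
    have hQm : Q.Monic := Polynomial.monic_of_injective (f := (algebraMap K F).rangeRestrict)
      (fun a b h => (algebraMap K F).injective (congrArg Subtype.val h)) (hQ ▸ hP)
    refine ⟨Q, hQm, ?_⟩
    rw [← hQ, Polynomial.eval₂_map] at hP0
    exact hP0
  obtain ⟨c, hc⟩ : ∃ c : K, algebraMap K F c = g f / g f' := by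
    have hd := IsAlgClosed.degree_eq_one_of_irreducible K (minpoly.irreducible hint)
    exact minpoly.mem_range_of_degree_eq_one K _ hd
  have hfc : f = algebraMap K R c * f' := by
    apply IsFractionRing.injective R F
    rw [map_mul, ← IsScalarTower.algebraMap_apply]
    show g f = _ * g f'
    rw [hc, div_mul_cancel₀ _ hgf']
  rw [eval_pair, eval_pair, eval_pair, eval_pair, show evalRight ψ (w : R ⊗[K] A) = f from rfl,
    show evalRight ψ' (w : R ⊗[K] A) = f' from rfl, hfc, map_mul, map_mul, AlgHom.commutes, AlgHom.commutes]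
  ring

end Groth.SGA7.UnitProduct
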